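import Mathlib
import Cfsg.Prelude.Def_GeometricClasses

/-!
# BHR helper: decompositions into lines

For `D : Fin t → Submodule F (Fin n → F)` with `IsMDecomposition 1 D` we get a basis `B` adapted to the
lines, and for `g` in the stabiliser a permutation `τ` and nonzero scalars `l i` with
`B.repr (g *ᵥ u) (τ i) = l i * B.repr u i`.
-/

set_option autoImplicit false
set_option linter.unusedSectionVars false
set_option linter.unusedVariables false

namespace Cfsg.Agent.Lib.Helper98.Bhr

open Cfsg Cfsg.Geo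
open scoped MatrixGroups Matrix

variable {n : ℕ} {F : Type*} [Field F]

/-- a basis adapted to a decomposition into lines. -/
theorem exists_basis_of_lines {t : ℕ} (D : Fin t → Submodule F (Fin n → F))
    (hD : IsMDecomposition 1 D) :
    ∃ B : Module.Basis (Fin t) F (Fin n → F), ∀ i, D i = Submodule.span F {B i} := by
  classical
  have h1 : ∀ i, ∃ v : Fin n → F, v ∈ D i ∧ v ≠ 0 ∧ D i = Submodule.span F {v} := by
    intro i
    obtain ⟨v, hv0, hv⟩ := (finrank_eq_one_iff' (K := F) (V := D i)).mp (hD.finrank_eq i)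
    refine ⟨(v : Fin n → F), v.2, fun h => hv0 (Subtype.ext h), ?_⟩
    apply le_antisymm
    · intro w hw
      obtain ⟨c, hc⟩ := hv ⟨w, hw⟩
      rw [Submodule.mem_span_singleton]
      exact ⟨c, by simpa using congrArg Subtype.val hc⟩
    · rw [Submodule.span_singleton_le_iff_mem]; exact v.2
  choose v hvD hv0 hvs using h1
  have hli : LinearIndependent F v := hD.indep.linearIndependent D hvD hv0
  have hsp : ⊤ ≤ Submodule.span F (Set.range v) := by
    rw [Submodule.span_range_eq_iSup, ← hD.iSup_eq_top]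
    exact iSup_mono fun i => (hvs i).le
  refine ⟨Module.Basis.mk hli hsp, fun i => ?_⟩
  rw [Module.Basis.mk_apply]; exact hvs i

/-- the action of a stabilising matrix in the adapted basis is monomial. -/
theorem stabilizer_coords {t : ℕ} (D : Fin t → Submodule F (Fin n → F))
    (B : Module.Basis (Fin t) F (Fin n → F)) (hB : ∀ i, D i = Submodule.span F {B i})
    (g : GL (Fin n) F) (hg : g ∈ decompositionStabilizer D) :
    ∃ (τ : Equiv.Perm (Fin t)) (l : Fin t → F), (∀ i, l i ≠ 0) ∧
      ∀ (u : Fin n → F) (i : Fin t),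
        B.repr ((g : Matrix (Fin n) (Fin n) F) *ᵥ u) (τ i) = l i * B.repr u i := by
  classical
  obtain ⟨τ, hτ⟩ := hg
  have h1 : ∀ i, ∃ c : F, (g : Matrix (Fin n) (Fin n) F) *ᵥ B i = c • B (τ i) := by
    intro i
    have hmem : (g : Matrix (Fin n) (Fin n) F) *ᵥ B i ∈ D (τ i) := by
      rw [← hτ i]
      refine ⟨B i, ?_, by simp [Matrix.toLin'_apply]⟩
      rw [hB i]; exact Submodule.mem_span_singleton_self _
    rw [hB (τ i), Submodule.mem_span_singleton] at hmem
    obtain ⟨c, hc⟩ := hmem
    exact ⟨c, hc.symm⟩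
  choose l hl using h1
  have hinj : Function.Injective (fun u : Fin n → F => (g : Matrix (Fin n) (Fin n) F) *ᵥ u) := by
    intro u w huw
    have := congrArg (fun x => ((g⁻¹ : GL (Fin n) F) : Matrix (Fin n) (Fin n) F) *ᵥ x) huw
    simpa [Matrix.mulVec_mulVec] using this
  refine ⟨τ, l, fun i hli => ?_, fun u i => ?_⟩
  · have h0 : (g : Matrix (Fin n) (Fin n) F) *ᵥ B i = 0 := by rw [hl i, hli, zero_smul]
    have : B i = 0 := hinj (by simpa using h0)
    exact B.ne_zero i this
  · have hu : u = ∑ j, B.repr u j • B j := (B.sum_repr u).symm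
    have h2 : (g : Matrix (Fin n) (Fin n) F) *ᵥ u = ∑ j, (B.repr u j * l j) • B (τ j) := by
      conv_lhs => rw [hu]
      rw [Matrix.mulVec_sum]
      refine Finset.sum_congr rfl fun j _ => ?_
      rw [Matrix.mulVec_smul, hl j, smul_smul]
    have h3 : ∑ j, (B.repr u j * l j) • B (τ j)
        = ∑ k, (B.repr u (τ.symm k) * l (τ.symm k)) • B k := by
      rw [← Equiv.sum_comp τ (fun k => (B.repr u (τ.symm k) * l (τ.symm k)) • B k)]
      simp
    rw [h2, h3, B.repr_sum_self]
    simp [mul_comm]

end Cfsg.Agent.Lib.Helper98.Bhr
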