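import Mathlib
import Cfsg.Agent.Lib.Helper24.PFCycCtx
import Cfsg.Agent.S1525
import Cfsg.Agent.Lib.Helper66.PF127Mass2
import Cfsg.Agent.Lib.Helper73.PF127Mass
import Cfsg.Agent.Lib.Helper51.PF127Orth
import Cfsg.Agent.Lib.Helper1.PF127Const

/-!
# Peterfalvi section 10, M-side, module [A2-MASS] (helper98 for helper24 #4017)

The mass of `χ = τ₁ ζ` off the Dade support of `A(M)` is at most `q² |G : M|`.
-/

set_option autoImplicit false

namespace Cfsg.Agent.Lib.Helper98.PFCyc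

open Cfsg Cfsg.Agent.Lib.Helper4.PF Cfsg.Agent.Lib.Helper74.PF127 Cfsg.Agent.Lib.Helper24.PFCyc

universe u

variable {G : Type u} [Group G] [Fintype G] {M W₁ U W₂ : Subgroup G} [Fintype M]
  {mu : WChar W₁ W₂ → (↥M → ℂ)} {dl : WChar W₁ W₂ → ℂ} {η : WChar W₁ W₂ → (G → ℂ)}
  {τ₁ : (↥M → ℂ) → (G → ℂ)} {ζ : ↥M → ℂ}

omit [Fintype G] [Fintype M] in
/-- `M'` is normal in `M` -/
theorem KM_normal' (M : Subgroup G) : (KM M).Normal := by
  have h : (⁅M, M⁆ : Subgroup G).subgroupOf M = _root_.commutator M := by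
    rw [← Subgroup.map_subtype_commutator]
    exact Subgroup.comap_map_eq_self_of_injective M.subtype_injective _
  show ((⁅M, M⁆ : Subgroup G).subgroupOf M).Normal
  rw [h]
  infer_instance

omit [Fintype M] in
theorem finsum_mem_eq_sum_indicator {X : Type*} [Fintype X] (s : Set X) (f : X → ℝ) :
    ∑ᶠ x ∈ s, f x = ∑ x, s.indicator f x := by
  rw [finsum_mem_def, finsum_eq_sum_of_fintype]

/-- MODULE [A2-MASS] -/
theorem chi_mass (h : MCtx M W₁ U W₂ mu dl η τ₁ ζ)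
    (hρ : ∀ a : ↥M, (a : G) ∈ litA M → dadeAvg (supportR M) (τ₁ ζ) (a : G) = ζ a) :
    ∑ᶠ g ∈ (suppM M)ᶜ, ‖τ₁ ζ g‖ ^ 2 ≤
      (Nat.card W₁ : ℝ) ^ 2 * (Nat.card G : ℝ) / Nat.card M := by
  classical
  have hζspan : ζ ∈ zspan (calS M) := Submodule.subset_span h.hζ
  have hχgen : IsGeneralizedCharacter G (τ₁ ζ) := h.hτ₁.2.2.2 ζ hζspan
  have hχcf : IsClassFunction G (τ₁ ζ) := Cfsg.Agent.Lib.Helper51.PF127.gen_isClassFunction hχgen
  have hχn : classInner (τ₁ ζ) (τ₁ ζ) = 1 := by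
    rw [h.hτ₁.2.2.1 ζ hζspan ζ hζspan]
    exact Cfsg.Agent.Lib.Helper78.classInner_irr_self h.hζirr
  have hMM : (⁅M, M⁆ : Subgroup G) ≤ M :=
    Subgroup.commutator_le.2 (fun a ha b hb =>
      M.mul_mem (M.mul_mem (M.mul_mem ha hb) (M.inv_mem ha)) (M.inv_mem hb))
  -- Dade hypothesis for `litA M`
  have hD : DadeHypothesis (litA M) M (supportR M) := by
    apply Cfsg.Agent.Lib.Helper66.PF127.dadeHypothesis_mono h.hD
    · exact Set.subset_union_left
    · intro x hx a ha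
      rw [h.hA] at ha ⊢
      refine ⟨?_, ?_⟩
      · have h1 : x * a * x⁻¹ = (x * a * x⁻¹ * a⁻¹) * a := by
          group
        rw [h1]
        exact (⁅M, M⁆ : Subgroup G).mul_mem (by rw [← commutatorElement_def]; exact Subgroup.commutator_mem_commutator hx (hMM ha.1)) ha.1
      · intro h1
        apply ha.2
        have h2 : x * a * x⁻¹ = 1 := h1
        have h3 : a = x⁻¹ * (x * a * x⁻¹) * x := by group
        rw [h3, h2]
        simp
  have key := Cfsg.Agent.S1525.result (litA M) M (supportR M) hD (τ₁ ζ) hχcf ζ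
    (fun a ha => (hρ a ha).symm)
  have hsupp : {g : G | ∃ a ∈ litA M, ∃ u ∈ supportR M a, ∃ x : G, x * g * x⁻¹ = a * u} = suppM M := rfl
  rw [hsupp] at key
  -- total mass of `χ`
  have hG : (0 : ℝ) < (Nat.card G : ℝ) := by exact_mod_cast Nat.card_pos
  have hM : (0 : ℝ) < (Nat.card M : ℝ) := by exact_mod_cast Nat.card_pos
  have hT : ∑ g : G, ‖τ₁ ζ g‖ ^ 2 = (Nat.card G : ℝ) := by
    have h1 := Cfsg.Agent.Lib.Helper73.PF127Mass.classInner_self_re (τ₁ ζ)
    rw [hχn, Complex.one_re] at h1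
    field_simp at h1
    linarith
  have hTM : ∑ a : ↥M, ‖ζ a‖ ^ 2 = (Nat.card M : ℝ) := by
    have h1 := Cfsg.Agent.Lib.Helper73.PF127Mass.classInner_self_re ζ
    rw [Cfsg.Agent.Lib.Helper78.classInner_irr_self h.hζirr, Complex.one_re] at h1
    field_simp at h1
    linarith
  -- split of the mass of `χ`
  have hAB : ∑ᶠ g ∈ suppM M, ‖τ₁ ζ g‖ ^ 2 + ∑ᶠ g ∈ (suppM M)ᶜ, ‖τ₁ ζ g‖ ^ 2 = (Nat.card G : ℝ) := by
    rw [finsum_mem_eq_sum_indicator, finsum_mem_eq_sum_indicator, ← Finset.sum_add_distrib, ← hT]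
    apply Finset.sum_congr rfl
    intro g _
    exact Set.indicator_self_add_compl_apply _ _ g
  -- `ζ` vanishes off `M'`
  have hζ0 : ∀ a : ↥M, (a : G) ∉ (⁅M, M⁆ : Subgroup G) → ζ a = 0 := by
    intro a ha
    obtain ⟨θ, _, _, _, hθ⟩ := h.hζ
    rw [hθ]
    have := KM_normal' M
    apply Cfsg.Agent.Lib.Helper1.PF127H.indFun_eq_zero_of_not_mem
    intro hmem
    exact ha (Subgroup.mem_subgroupOf.1 hmem)
  -- the mass of `ζ` on `A(M)`
  have hC : ∑ᶠ a ∈ {a : ↥M | (a : G) ∈ litA M}, ‖ζ a‖ ^ 2 = (Nat.card M : ℝ) - (Nat.card W₁ : ℝ) ^ 2 := by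
    rw [finsum_mem_eq_sum_indicator, ← hTM]
    have h1 : ∀ a : ↥M, ‖ζ a‖ ^ 2 = Set.indicator {a : ↥M | (a : G) ∈ litA M} (fun a => ‖ζ a‖ ^ 2) a +
        (if a = 1 then (Nat.card W₁ : ℝ) ^ 2 else 0) := by
      intro a
      by_cases ha1 : a = 1
      · subst ha1
        have hn : ((1 : ↥M) : G) ∉ litA M := by
          rw [h.hA]
          intro hh
          exact hh.2 rfl
        rw [Set.indicator_of_notMem (by simpa using hn), if_pos rfl, zero_add, h.hζ1, Complex.norm_natCast]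
      · rw [if_neg ha1, add_zero]
        by_cases haK : (a : G) ∈ (⁅M, M⁆ : Subgroup G)
        · have hm : (a : G) ∈ litA M := by
            rw [h.hA]
            refine ⟨haK, ?_⟩
            intro hh
            apply ha1
            exact Subtype.ext hh
          rw [Set.indicator_of_mem (by simpa using hm)]
        · have hn : (a : G) ∉ litA M := by
            rw [h.hA]
            intro hh
            exact haK hh.1
          rw [Set.indicator_of_notMem (by simpa using hn), hζ0 a haK]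
          simp
    rw [Finset.sum_congr rfl (fun a _ => h1 a), Finset.sum_add_distrib, Finset.sum_ite_eq' Finset.univ (1 : ↥M)]
    simp
  rw [hC] at key
  -- conclusion
  have hA : (Nat.card G : ℝ) * ((Nat.card M : ℝ)⁻¹ * ((Nat.card M : ℝ) - (Nat.card W₁ : ℝ) ^ 2)) ≤
      ∑ᶠ g ∈ suppM M, ‖τ₁ ζ g‖ ^ 2 := by
    have := mul_le_mul_of_nonneg_left key hG.le
    rwa [← mul_assoc (Nat.card G : ℝ) (Nat.card G : ℝ)⁻¹, mul_inv_cancel₀ hG.ne', one_mul] at this
  have hfin : (Nat.card G : ℝ) * ((Nat.card M : ℝ)⁻¹ * ((Nat.card M : ℝ) - (Nat.card W₁ : ℝ) ^ 2)) =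
      (Nat.card G : ℝ) - (Nat.card W₁ : ℝ) ^ 2 * (Nat.card G : ℝ) / Nat.card M := by
    field_simp
  rw [hfin] at hA
  linarith

end Cfsg.Agent.Lib.Helper98.PFCyc
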