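import Mathlib
import Cfsg.Agent.Lib.Helper76.GOut.QFDefs

/-! # GOUT-[QF-INV] (project GOUT = S3066, coordinator helper76): involutions

For an involution `g`, `[V,g] = range (1 + ρ g)` is totally isotropic for every invariant form, every
invariant form is additive on it, and `|k| ≤ |[V,g]| ≤ |L|`.
-/

set_option autoImplicit false
set_option linter.unusedSectionVars false
set_option linter.unusedVariables false

namespace Cfsg.Agent.Lib.Helper76.GOut

variable {V : Type*} [AddCommGroup V] [Module (ZMod 2) V] [Finite V]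
variable {R : Type*} [Group R]

/-- `[V, g]` as a submodule: the range of `1 + ρ g`. -/
def commRange (ρ : R →* (V ≃ₗ[ZMod 2] V)) (g : R) : Submodule (ZMod 2) V :=
  LinearMap.range ((1 : Module.End (ZMod 2) V) + ((ρ g : V ≃ₗ[ZMod 2] V) : V →ₗ[ZMod 2] V))

omit [Finite V] in
theorem mem_commRange_iff_h98 {ρ : R →* (V ≃ₗ[ZMod 2] V)} {g : R} {w : V} :
    w ∈ commRange ρ g ↔ ∃ u : V, u + ρ g u = w := by
  unfold commRange
  rw [LinearMap.mem_range]
  rfl

omit [Finite V] in
theorem add_apply_mem_commRange_h98 (ρ : R →* (V ≃ₗ[ZMod 2] V)) (g : R) (u : V) :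
    u + ρ g u ∈ commRange ρ g := mem_commRange_iff_h98.2 ⟨u, rfl⟩

omit [Finite V] in
/-- For an involution `g`, the elements of `[V,g]` are fixed by `g`. -/
theorem apply_eq_of_mem_commRange_h98 {ρ : R →* (V ≃ₗ[ZMod 2] V)} (g : R) (hg : g * g = 1)
    (w : V) (hw : w ∈ commRange ρ g) : ρ g w = w := by
  obtain ⟨u, rfl⟩ := mem_commRange_iff_h98.1 hw
  have h2 : ρ g (ρ g u) = u := by
    have : ρ g (ρ g u) = (ρ g * ρ g) u := rfl
    rw [this, ← map_mul, hg, map_one]; rfl
  rw [map_add, h2, add_comm]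

omit [Finite V] in
/-- For an involution `g`, fixed vectors are orthogonal to `[V, g]` for every invariant form. -/
theorem polar_fixed_commRange {ρ : R →* (V ≃ₗ[ZMod 2] V)} {q : V → ZMod 2} (hq : IsInv ρ q)
    (g : R) (hg : g * g = 1) (c : V) (hc : ρ g c = c) (w : V) (hw : w ∈ commRange ρ g) :
    polar q c w = 0 := by
  obtain ⟨u, rfl⟩ := mem_commRange_iff_h98.1 hw
  rw [hq.1.polar_add_right]
  have h1 : polar q c (ρ g u) = polar q c u := by
    conv_lhs => rw [← hc]
    exact hq.polar_map g c u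
  rw [h1]
  exact zmod2_add_self _

omit [Finite V] in
/-- For an involution `g`, every invariant form is additive on `[V, g]`. -/
theorem map_add_of_mem_commRange {ρ : R →* (V ≃ₗ[ZMod 2] V)} {q : V → ZMod 2} (hq : IsInv ρ q)
    (g : R) (hg : g * g = 1) (w w' : V) (hw : w ∈ commRange ρ g) (hw' : w' ∈ commRange ρ g) :
    q (w + w') = q w + q w' := by
  rw [hq.1.map_add,
    polar_fixed_commRange hq g hg w (apply_eq_of_mem_commRange_h98 g hg w hw) w' hw', add_zero]

omit [Finite V] in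
/-- Schur (injectivity half), private copy so that this module is self-contained. -/
theorem comm_injective_h98 {ρ : R →* (V ≃ₗ[ZMod 2] V)} (hirr : Irr ρ) {a : Module.End (ZMod 2) V}
    (ha : a ∈ Comm ρ) (ha0 : a ≠ 0) : Function.Injective a := by
  have hker : LinearMap.ker a = ⊥ ∨ LinearMap.ker a = ⊤ := by
    apply hirr
    intro g w hw
    rw [LinearMap.mem_ker] at hw ⊢
    rw [ha g w, hw, map_zero]
  rcases hker with hk | hk
  · exact LinearMap.ker_eq_bot.1 hk
  · exfalso
    apply ha0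
    exact LinearMap.ker_eq_top.1 hk

omit [Finite V] in
theorem sub_mem_comm_h98 {ρ : R →* (V ≃ₗ[ZMod 2] V)} {a b : Module.End (ZMod 2) V} (ha : a ∈ Comm ρ)
    (hb : b ∈ Comm ρ) : a - b ∈ Comm ρ := fun g v => by
  simp only [LinearMap.sub_apply, map_sub]
  rw [ha g v, hb g v]

omit [Finite V] in
theorem comm_apply_mem_commRange_h98 {ρ : R →* (V ≃ₗ[ZMod 2] V)} {a : Module.End (ZMod 2) V}
    (ha : a ∈ Comm ρ) (g : R) (v : V) (hv : v ∈ commRange ρ g) : a v ∈ commRange ρ g := by
  obtain ⟨u, rfl⟩ := mem_commRange_iff_h98.1 hv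
  rw [map_add, ha g u]
  exact add_apply_mem_commRange_h98 ρ g (a u)

omit [Finite V] in
/-- `a ↦ a v` is injective on `k` for `v ≠ 0`. -/
theorem comm_apply_injective_h98 {ρ : R →* (V ≃ₗ[ZMod 2] V)} (hirr : Irr ρ) {v : V} (hv0 : v ≠ 0)
    {a b : Module.End (ZMod 2) V} (ha : a ∈ Comm ρ) (hb : b ∈ Comm ρ) (hab : a v = b v) : a = b := by
  by_contra hne
  have h0 : a - b ≠ 0 := sub_ne_zero.2 hne
  have hinj := comm_injective_h98 hirr (sub_mem_comm_h98 ha hb) h0
  apply hv0
  apply hinj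
  rw [map_zero, LinearMap.sub_apply, hab, sub_self]

omit [Finite V] in
theorem exists_ne_zero_mem_commRange_h98 {ρ : R →* (V ≃ₗ[ZMod 2] V)} (g : R) (hg1 : ρ g ≠ 1) :
    ∃ v ∈ commRange ρ g, v ≠ 0 := by
  have : ∃ u : V, ρ g u ≠ u := by
    by_contra hcon
    simp only [not_exists, not_not] at hcon
    apply hg1
    ext u
    exact hcon u
  obtain ⟨u, hu⟩ := this
  refine ⟨u + ρ g u, add_apply_mem_commRange_h98 ρ g u, ?_⟩
  intro h0
  apply hu
  have : ρ g u = -u := by
    rw [eq_neg_iff_add_eq_zero, add_comm]; exact h0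
  rw [this, neg_eq_iff_add_eq_zero]
  exact add_self' u

/-- `|k| ≤ |[V,g]|` for `g` acting nontrivially. -/
theorem card_comm_le_card_commRange {ρ : R →* (V ≃ₗ[ZMod 2] V)} (h : Hyp ρ)
    (g : R) (hg1 : ρ g ≠ 1) : Nat.card (Comm ρ) ≤ Nat.card (commRange ρ g) := by
  obtain ⟨v, hv, hv0⟩ := exists_ne_zero_mem_commRange_h98 g hg1
  apply Nat.card_le_card_of_injective
    (fun a : Comm ρ => (⟨a.1 v, comm_apply_mem_commRange_h98 a.2 g v hv⟩ : commRange ρ g))
  intro a b hab
  apply Subtype.ext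
  apply comm_apply_injective_h98 h.irr hv0 a.2 b.2
  exact congrArg Subtype.val hab

/-- The invariant quadratic forms, as a submodule of `V → 𝔽₂`. -/
def invForms_h98 (ρ : R →* (V ≃ₗ[ZMod 2] V)) : Submodule (ZMod 2) (V → ZMod 2) where
  carrier := {q | IsInv ρ q}
  add_mem' := fun {q q'} hq hq' => IsInv.add hq hq'
  zero_mem' := isInv_zero ρ
  smul_mem' := by
    intro c q hq
    have hc : c = 0 ∨ c = 1 := by revert c; decide
    rcases hc with rfl | rfl
    · rw [zero_smul]; exact isInv_zero ρ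
    · rw [one_smul]; exact hq

omit [Finite V] in
theorem mem_invForms_h98 {ρ : R →* (V ≃ₗ[ZMod 2] V)} {q : V → ZMod 2} :
    q ∈ invForms_h98 ρ ↔ IsInv ρ q := Iff.rfl

theorem card_dual_h98 (W : Type*) [AddCommGroup W] [Module (ZMod 2) W] [Finite W] :
    Nat.card (Module.Dual (ZMod 2) W) = Nat.card W := by
  have e : Module.Dual (ZMod 2) W ≃ₗ[ZMod 2] W :=
    (LinearEquiv.ofFinrankEq _ _ (Subspace.dual_finrank_eq (K := ZMod 2) (V := W)))
  exact Nat.card_congr e.toEquiv

/-- `|[V,g]| ≤ |L|` for an involution `g`. -/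
theorem card_commRange_le_card_inv {ρ : R →* (V ≃ₗ[ZMod 2] V)} (h : Hyp ρ)
    (g : R) (hg : g * g = 1) :
    Nat.card (commRange ρ g) ≤ Nat.card {q : V → ZMod 2 // IsInv ρ q} := by
  have hL : Nat.card {q : V → ZMod 2 // IsInv ρ q} = Nat.card (invForms_h98 ρ) := rfl
  rw [hL, ← card_dual_h98 (invForms_h98 ρ)]
  let ev : commRange ρ g → Module.Dual (ZMod 2) (invForms_h98 ρ) := fun v =>
    { toFun := fun q => q.1 v.1
      map_add' := fun q q' => rfl
      map_smul' := fun c q => rfl }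
  have : Finite (Module.Dual (ZMod 2) (invForms_h98 ρ)) :=
    Finite.of_injective (fun f => (f : invForms_h98 ρ → ZMod 2)) DFunLike.coe_injective
  apply Nat.card_le_card_of_injective ev
  intro v v' hvv
  have hq : ∀ q : V → ZMod 2, IsInv ρ q → q v.1 = q v'.1 := by
    intro q hq
    have := LinearMap.congr_fun hvv (⟨q, hq⟩ : invForms_h98 ρ)
    exact this
  apply Subtype.ext
  by_contra hne
  have hne0 : v.1 + v'.1 ≠ 0 := by
    intro h0
    apply hne
    have : v.1 = -v'.1 := eq_neg_iff_add_eq_zero.2 h0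
    rw [this, neg_eq_iff_add_eq_zero]
    exact add_self' _
  obtain ⟨q, hqi, hqv⟩ := h.aniso _ hne0
  apply hqv
  rw [map_add_of_mem_commRange hqi g hg _ _ v.2 v'.2, hq q hqi]
  exact zmod2_add_self _

end Cfsg.Agent.Lib.Helper76.GOut
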