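import Mathlib
import Cfsg.Agent.Lib.Helper20.QuasiDihedral
import Cfsg.Agent.Lib.Helper38.WreathedNF
import Cfsg.Agent.Lib.Helper38.WreathedInv
import Cfsg.Agent.S1196

/-!
# Automorphisms of odd order of quasi-dihedral and wreathed 2-groups are trivial

Consequence: if a Sylow 2-subgroup `S` of a finite group `G` is quasi-dihedral or wreathed, then
`N_G(S) = S C_G(S)`: every element of `N_G(S)` induces on `S` an inner automorphism of `S`.
-/

set_option autoImplicit false

namespace Cfsg.Agent.Lib.Helper98.OddAut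

/-! ### General lemmas -/

theorem eq_one_of_pow_odd_of_pow_two {M : Type*} [Group M] (u : M) (m N : ℕ) (hm : Odd m)
    (h1 : u ^ m = 1) (h2 : u ^ 2 ^ N = 1) : u = 1 := by
  have d1 := orderOf_dvd_of_pow_eq_one h1
  have d2 := orderOf_dvd_of_pow_eq_one h2
  have hc : Nat.Coprime m (2 ^ N) := Nat.Coprime.pow_right N (Nat.coprime_two_right.2 hm)
  have := Nat.dvd_gcd d1 d2
  rw [hc.gcd_eq_one, Nat.dvd_one] at this
  exact orderOf_eq_one_iff.1 this

theorem pow_succ_apply {S : Type*} [Group S] (α : MulAut S) (k : ℕ) (s : S) :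
    (α ^ (k + 1)) s = α ((α ^ k) s) := by
  rw [pow_succ', MulAut.mul_apply]

theorem pow_apply_of_fixed {S : Type*} [Group S] (α : MulAut S) (s : S) (h : α s = s) (k : ℕ) :
    (α ^ k) s = s := by
  induction k with
  | zero => simp
  | succ k ih => rw [pow_succ_apply, ih, h]

/-- If `α a = w * a` with `α w = w`, then `α ^ k a = w ^ k * a`. -/
theorem pow_apply_of_shift {S : Type*} [Group S] (α : MulAut S) (a w : S) (hw : α w = w)
    (ha : α a = w * a) (k : ℕ) : (α ^ k) a = w ^ k * a := by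
  induction k with
  | zero => simp
  | succ k ih =>
    rw [pow_succ_apply, ih, map_mul, map_pow, hw, ha, pow_succ, mul_assoc]

/-- An automorphism of odd order stabilising a commutative subgroup `A` and fixing its elements of order
at most 2 fixes every element of 2-power order of `A`. -/
theorem fixes_of_fixes_involutions {S : Type*} [Group S] (α : MulAut S) (m : ℕ) (hm : Odd m)
    (hαm : α ^ m = 1) (A : Subgroup S) (hAc : ∀ a ∈ A, ∀ b ∈ A, a * b = b * a)
    (hαA : ∀ a ∈ A, α a ∈ A) (hinv : ∀ a ∈ A, a * a = 1 → α a = a) :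
    ∀ k : ℕ, ∀ a ∈ A, a ^ 2 ^ k = 1 → α a = a := by
  intro k
  induction k with
  | zero =>
    intro a _ h1
    rw [pow_zero, pow_one] at h1
    rw [h1, map_one]
  | succ k ih =>
    intro a ha h1
    have h2 : (a * a) ^ 2 ^ k = 1 := by
      rw [← pow_two, ← pow_mul, ← pow_succ']; exact h1
    have hfix : α (a * a) = a * a := ih (a * a) (A.mul_mem ha ha) h2
    set w := α a * a⁻¹ with hw
    have hwA : w ∈ A := A.mul_mem (hαA a ha) (A.inv_mem ha)
    have hcomm : α a * a⁻¹ = a⁻¹ * α a := hAc _ (hαA a ha) _ (A.inv_mem ha)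
    have hww : w * w = 1 := by
      have e : w * w = α a * α a * (a⁻¹ * a⁻¹) := by
        rw [hw]
        calc α a * a⁻¹ * (α a * a⁻¹) = α a * (a⁻¹ * α a) * a⁻¹ := by group
          _ = α a * (α a * a⁻¹) * a⁻¹ := by rw [hcomm]
          _ = α a * α a * (a⁻¹ * a⁻¹) := by group
      rw [e, ← map_mul, hfix]; group
    have hαw : α w = w := hinv w hwA hww
    have hαa : α a = w * a := by rw [hw]; group
    have := pow_apply_of_shift α a w hαw hαa m
    rw [hαm, MulAut.one_apply] at this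
    have hwm : w ^ m = 1 := by
      have := congrArg (· * a⁻¹) this
      simpa using this.symm
    have hw1 : w = 1 := eq_one_of_pow_odd_of_pow_two w m 1 hm hwm (by rw [pow_one, pow_two]; exact hww)
    rw [hαa, hw1, one_mul]

/-! ### Quasi-dihedral groups -/

section QD

open Cfsg.Agent.Lib.Helper20.QD

variable {S : Type*} [Group S] [Finite S] {n : ℕ} {x y : S}

theorem qd_aut_x (d : Data S n x y) (α : MulAut S) : ∃ i, α x = f x n i := by
  have hn := d.hn
  rcases normal_form d (α x) with h | ⟨i, hi⟩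
  · exact h
  · exfalso
    have ho : orderOf (α x) = 2 ^ n := by rw [MulEquiv.orderOf_eq, d.ox]
    have h8 : 8 ≤ 2 ^ n := by
      calc 8 = 2 ^ 3 := by norm_num
        _ ≤ 2 ^ n := Nat.pow_le_pow_right (by norm_num) hn
    rcases even_or_odd i with ⟨j, rfl⟩ | ⟨j, rfl⟩
    · rw [hi, orderOf_fy_even d] at ho; omega
    · rw [hi, orderOf_fy_odd d] at ho; omega

omit [Finite S] in
theorem qd_pow_x (d : Data S n x y) (α : MulAut S) (i : ZMod (2 ^ n)) (hi : α x = f x n i) (k : ℕ) :
    (α ^ k) x = f x n (i ^ k) := by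
  induction k with
  | zero => simp [f_one d]
  | succ k ih =>
    rw [pow_succ_apply, ih]
    show α (x ^ (i ^ k).val) = _
    rw [map_pow, hi, f_pow d, ZMod.natCast_zmod_val, pow_succ]

theorem zmod_eq_one_of_pow_odd {n : ℕ} (hn : 1 ≤ n) (i : ZMod (2 ^ n)) (m : ℕ) (hm : Odd m)
    (h : i ^ m = 1) : i = 1 := by
  have : NeZero (2 ^ n) := ⟨by positivity⟩
  have : Fact (1 < 2 ^ n) := ⟨Nat.one_lt_two_pow (by omega)⟩
  have hm0 : m ≠ 0 := by rintro rfl; simp at hm
  have hu : IsUnit i := IsUnit.of_pow_eq_one h hm0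
  obtain ⟨u, rfl⟩ := hu
  have hum : u ^ m = 1 := by
    apply Units.ext
    rw [Units.val_pow_eq_pow_val, h, Units.val_one]
  have hcard : Fintype.card (ZMod (2 ^ n))ˣ = 2 ^ (n - 1) := by
    rw [ZMod.card_units_eq_totient, Nat.totient_prime_pow Nat.prime_two (by omega)]
    simp
  have hu2 : u ^ 2 ^ (n - 1) = 1 := by
    rw [← hcard]; exact pow_card_eq_one
  rw [eq_one_of_pow_odd_of_pow_two u m (n - 1) hm hum hu2, Units.val_one]

theorem qd_aut_fixes_x (d : Data S n x y) (α : MulAut S) (m : ℕ) (hm : Odd m) (hαm : α ^ m = 1) :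
    α x = x := by
  have hn := d.hn
  obtain ⟨i, hi⟩ := qd_aut_x d α
  have h1 := qd_pow_x d α i hi m
  rw [hαm, MulAut.one_apply] at h1
  have h2 : f x n 1 = f x n (i ^ m) := by rw [f_one d]; exact h1
  have h3 := f_injective d h2
  have hi1 := zmod_eq_one_of_pow_odd (by omega) i m hm h3.symm
  rw [hi, hi1, f_one d]

theorem qd_aut_trivial (d : Data S n x y) (α : MulAut S) (hodd : Odd (orderOf α)) : α = 1 := by
  have hn := d.hn
  set m := orderOf α with hmdef
  have hαm : α ^ m = 1 := pow_orderOf_eq_one α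
  have hx : α x = x := qd_aut_fixes_x d α m hodd hαm
  have hf : ∀ i, α (f x n i) = f x n i := by
    intro i
    show α (x ^ i.val) = x ^ i.val
    rw [map_pow, hx]
  -- `α y = f j * y`
  obtain ⟨j, hj⟩ : ∃ j, α y = f x n j * y := by
    rcases normal_form d (α y) with ⟨i, hi⟩ | h
    · exfalso
      have : α y = α (f x n i) := by rw [hf, hi]
      exact y_ne_f d i (α.injective this)
    · exact h
  have hy : α y = y := by
    have := pow_apply_of_shift α y (f x n j) (hf j) hj m
    rw [hαm, MulAut.one_apply] at this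
    have hfm : (f x n j) ^ m = 1 := by
      have := congrArg (· * y⁻¹) this
      simpa using this.symm
    have h2 : (f x n j) ^ 2 ^ n = 1 := by
      show (x ^ j.val) ^ 2 ^ n = 1
      rw [← pow_mul, mul_comm, pow_mul, pow_eq_one d, one_pow]
    rw [hj, eq_one_of_pow_odd_of_pow_two _ m n hodd hfm h2, one_mul]
  ext s
  rw [MulAut.one_apply]
  rcases normal_form d s with ⟨i, rfl⟩ | ⟨i, rfl⟩
  · exact hf i
  · rw [map_mul, hf, hy]

end QD

theorem quasiDihedral_aut_trivial {S : Type*} [Group S] [Finite S] (hS : Cfsg.IsQuasiDihedral S)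
    (α : MulAut S) (hodd : Odd (orderOf α)) : α = 1 := by
  obtain ⟨n, x, y, d⟩ := Cfsg.Agent.Lib.Helper20.QD.exists_data hS
  exact qd_aut_trivial d α hodd

/-! ### Wreathed groups -/

section Wr

open Cfsg.Agent.Lib.Helper38 Cfsg.Agent.Lib.Helper38.IsWr

variable {S : Type*} [Group S] {x y z : S} {n : ℕ}

theorem wr_isWreathed (h : IsWr x y z n) : Cfsg.IsWreathed S :=
  ⟨n, h.hn, h.card, x, y, z, h.hx, h.hxy, h.hinf, h.hz, h.hzx⟩

/-- An automorphism stabilises the abelian subgroup of index 2. -/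
theorem wr_aut_A (h : IsWr x y z n) (α : MulAut S) (s : S) : s ∈ h.A ↔ α s ∈ h.A := by
  have := h.finite
  have huniq := (Cfsg.Agent.S1196.result (wr_isWreathed h) n h.card).1
  have hA1 : IsMulCommutative h.A := ⟨⟨fun a b => Subtype.ext (h.A_comm a.2 b.2)⟩⟩
  have hB1 : IsMulCommutative (h.A.map α.toMonoidHom) := by
    refine ⟨⟨?_⟩⟩
    rintro ⟨_, a, ha, rfl⟩ ⟨_, b, hb, rfl⟩
    apply Subtype.ext
    show α a * α b = α b * α a
    rw [← map_mul, ← map_mul, h.A_comm ha hb]
  have hB2 : Nat.card (h.A.map α.toMonoidHom) = 2 ^ (2 * n) := by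
    rw [Subgroup.card_map_of_injective α.injective, h.card_A]
  have heq : h.A.map α.toMonoidHom = h.A := huniq.unique ⟨hB1, hB2⟩ ⟨hA1, h.card_A⟩
  constructor
  · intro hs
    rw [← heq]
    exact ⟨s, hs, rfl⟩
  · intro hs
    rw [← heq] at hs
    obtain ⟨a, ha, hae⟩ := hs
    have : a = s := α.injective hae
    rw [← this]; exact ha

theorem wr_aut_trivial (h : IsWr x y z n) (α : MulAut S) (hodd : Odd (orderOf α)) : α = 1 := by
  have := h.finite
  have hn := h.hn
  set m := orderOf α with hmdef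
  have hαm : α ^ m = 1 := pow_orderOf_eq_one α
  have hA := wr_aut_A h α
  -- the three involutions of `A`
  have oa := h.orderOf_a
  have ob := h.orderOf_b
  have oc := h.orderOf_ab
  set a₀ := al x y ((2 ^ (n - 1) : ℕ) : ℤ) 0 with ha₀
  set b₀ := al x y 0 ((2 ^ (n - 1) : ℕ) : ℤ) with hb₀
  set c₀ := al x y ((2 ^ (n - 1) : ℕ) : ℤ) ((2 ^ (n - 1) : ℕ) : ℤ) with hc₀
  have hinvA : ∀ t : S, t ∈ h.A → orderOf t = 2 → t = a₀ ∨ t = b₀ ∨ t = c₀ := by
    intro t htA ht
    rcases h.involution_cases ht with h1 | h1 | h1 | ⟨i, h1⟩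
    · exact Or.inl h1
    · exact Or.inr (Or.inl h1)
    · exact Or.inr (Or.inr h1)
    · exfalso
      rw [h1] at htA
      exact h.alz_notMem_A _ _ htA
  have hcc : c₀ ∈ Subgroup.center S := by
    rw [hc₀, h.al_mem_center_iff]; simp
  have hac : a₀ ∉ Subgroup.center S := by
    rw [ha₀, h.al_mem_center_iff]
    simp only [sub_zero]
    exact h.not_N_dvd_M
  have hbc : b₀ ∉ Subgroup.center S := by
    rw [hb₀, h.al_mem_center_iff]
    simp only [zero_sub, dvd_neg]
    exact h.not_N_dvd_M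
  have hcenter : ∀ s : S, s ∈ Subgroup.center S ↔ α s ∈ Subgroup.center S := by
    intro s
    rw [Subgroup.mem_center_iff, Subgroup.mem_center_iff]
    constructor
    · intro hs g
      obtain ⟨g', rfl⟩ := α.surjective g
      rw [← map_mul, ← map_mul, hs g']
    · intro hs g
      apply α.injective
      rw [map_mul, map_mul, hs (α g)]
  have hab : a₀ * c₀ = b₀ := by
    rw [ha₀, hb₀, hc₀, h.al_mul_al, h.al_eq_al_iff]
    constructor
    · rw [h.N_eq]; exact ⟨1, by ring⟩
    · simp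
  have hbc' : b₀ * c₀ = a₀ := by
    rw [ha₀, hb₀, hc₀, h.al_mul_al, h.al_eq_al_iff]
    constructor
    · simp
    · rw [h.N_eq]; exact ⟨1, by ring⟩
  -- α fixes c₀
  have hαc : α c₀ = c₀ := by
    have h1 : orderOf (α c₀) = 2 := by rw [MulEquiv.orderOf_eq, oc]
    have h2 : α c₀ ∈ h.A := (hA c₀).1 (h.al_mem_A _ _)
    have h3 : α c₀ ∈ Subgroup.center S := (hcenter c₀).1 hcc
    rcases hinvA _ h2 h1 with h4 | h4 | h4
    · rw [h4] at h3; exact absurd h3 hac
    · rw [h4] at h3; exact absurd h3 hbc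
    · exact h4
  -- α fixes a₀
  have hαa : α a₀ = a₀ := by
    have h1 : orderOf (α a₀) = 2 := by rw [MulEquiv.orderOf_eq, oa]
    have h2 : α a₀ ∈ h.A := (hA a₀).1 (h.al_mem_A _ _)
    have h3 : α a₀ ∉ Subgroup.center S := fun hh => hac ((hcenter a₀).2 hh)
    rcases hinvA _ h2 h1 with h4 | h4 | h4
    · exact h4
    · exfalso
      -- α swaps a₀ and b₀, impossible for odd order
      have h5 : α b₀ = a₀ := by
        rw [← hab, map_mul, h4, hαc, hbc']
      have hsq : ∀ k : ℕ, (α ^ (2 * k)) a₀ = a₀ := by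
        intro k
        induction k with
        | zero => simp
        | succ k ih =>
          have : 2 * (k + 1) = (2 * k + 1) + 1 := by ring
          rw [this, pow_succ_apply, pow_succ_apply, ih, h4, h5]
      obtain ⟨k, hk⟩ := hodd
      have h6 : (α ^ m) a₀ = b₀ := by
        rw [hk, pow_succ_apply, hsq k, h4]
      rw [hαm, MulAut.one_apply] at h6
      have h7 : a₀ ∈ Subgroup.center S → False := hac
      have : al x y ((2 ^ (n - 1) : ℕ) : ℤ) 0 = al x y 0 ((2 ^ (n - 1) : ℕ) : ℤ) := h6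
      rw [h.al_eq_al_iff] at this
      simp only [sub_zero] at this
      exact h.not_N_dvd_M this.1
    · rw [h4] at h3; exact absurd hcc h3
  have hαb : α b₀ = b₀ := by
    rw [← hab, map_mul, hαa, hαc]
  -- α fixes `A` pointwise
  have hfixA : ∀ a ∈ h.A, α a = a := by
    intro a ha
    have hp : IsPGroup 2 S := IsPGroup.of_card h.card
    obtain ⟨k, hk⟩ := hp a
    refine fixes_of_fixes_involutions α m hodd hαm h.A (fun a ha b hb => h.A_comm ha hb)
      (fun a ha => (hA a).1 ha) ?_ k a ha hk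
    intro t htA htt
    by_cases ht1 : t = 1
    · rw [ht1, map_one]
    · have : orderOf t = 2 := orderOf_eq_prime (by rw [pow_two]; exact htt) ht1
      rcases hinvA t htA this with h4 | h4 | h4 <;> rw [h4]
      · exact hαa
      · exact hαb
      · exact hαc
  -- α fixes z
  have hαz : α z = z := by
    have hz1 : α z ∉ h.A := fun hh => h.z_notMem_A ((hA z).2 hh)
    obtain ⟨i, j, hij⟩ := h.notMem_A hz1
    have hu : α (al x y i j) = al x y i j := hfixA _ (h.al_mem_A i j)
    have := pow_apply_of_shift α z (al x y i j) hu hij m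
    rw [hαm, MulAut.one_apply] at this
    have hum : (al x y i j) ^ m = 1 := by
      have := congrArg (· * z⁻¹) this
      simpa using this.symm
    have hp : IsPGroup 2 S := IsPGroup.of_card h.card
    obtain ⟨k, hk⟩ := hp (al x y i j)
    rw [hij, eq_one_of_pow_odd_of_pow_two _ m k hodd hum hk, one_mul]
  ext s
  rw [MulAut.one_apply]
  rcases h.exists_rep s with ⟨i, j, rfl⟩ | ⟨i, j, rfl⟩
  · exact hfixA _ (h.al_mem_A i j)
  · rw [map_mul, hfixA _ (h.al_mem_A i j), hαz]

end Wr

theorem wreathed_aut_trivial {S : Type*} [Group S] (hS : Cfsg.IsWreathed S)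
    (α : MulAut S) (hodd : Odd (orderOf α)) : α = 1 := by
  obtain ⟨n, x, y, z, h⟩ := Cfsg.Agent.Lib.Helper38.exists_isWr hS
  exact wr_aut_trivial h α hodd

/-! ### Consequence for normalizers of Sylow 2-subgroups -/

/-- If the Sylow 2-subgroup `S` of `G` has no nontrivial automorphism of odd order, every element of `N_G(S)` induces an
inner automorphism of `S`. -/
theorem exists_inner_of_odd_aut_trivial {G : Type*} [Group G] [Finite G] (S : Sylow 2 G)
    (hodd : ∀ α : MulAut (S : Subgroup G), Odd (orderOf α) → α = 1) :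
    ∀ g ∈ Subgroup.normalizer ((S : Subgroup G) : Set G), ∃ s ∈ (S : Subgroup G),
      ∀ y ∈ (S : Subgroup G), g * y * g⁻¹ = s * y * s⁻¹ := by
  intro g hg
  have : Fact (Nat.Prime 2) := ⟨Nat.prime_two⟩
  let ν := Subgroup.normalizerMonoidHom (S : Subgroup G)
  let gN : Subgroup.normalizer ((S : Subgroup G) : Set G) := ⟨g, hg⟩
  have ho : orderOf gN ≠ 0 := (orderOf_pos gN).ne'
  obtain ⟨a, m, hm, hom⟩ := Nat.exists_eq_two_pow_mul_odd ho
  have h1 : (ν (gN ^ 2 ^ a)) ^ m = 1 := by
    rw [← map_pow, ← pow_mul, ← hom, pow_orderOf_eq_one, map_one]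
  have h2 : ν (gN ^ 2 ^ a) = 1 := by
    apply hodd
    exact Odd.of_dvd_nat hm (orderOf_dvd_of_pow_eq_one h1)
  have hcop : Nat.Coprime (2 ^ a) m := Nat.Coprime.pow_left a (Nat.coprime_two_left.2 hm)
  have hb : (1 : ℤ) = ((2 ^ a : ℕ) : ℤ) * Nat.gcdA (2 ^ a) m + (m : ℤ) * Nat.gcdB (2 ^ a) m := by
    have := Nat.gcd_eq_gcd_ab (2 ^ a) m
    rw [hcop.gcd_eq_one] at this
    exact_mod_cast this
  set u := Nat.gcdA (2 ^ a) m
  set v := Nat.gcdB (2 ^ a) m
  let g₂ : Subgroup.normalizer ((S : Subgroup G) : Set G) := (gN ^ m) ^ v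
  have hg2pow : g₂ ^ 2 ^ a = 1 := by
    show ((gN ^ m) ^ v) ^ 2 ^ a = 1
    rw [← zpow_natCast, ← zpow_mul, mul_comm, zpow_mul, zpow_natCast, ← pow_mul, mul_comm, ← hom,
      pow_orderOf_eq_one, one_zpow]
  have hg2S : (g₂ : G) ∈ (S : Subgroup G) := by
    have hpow : (g₂ : G) ^ 2 ^ a = 1 := by
      have := congrArg Subtype.val hg2pow
      simpa using this
    obtain ⟨j, -, hj⟩ := (Nat.dvd_prime_pow Nat.prime_two).1 (orderOf_dvd_of_pow_eq_one hpow)
    have hP : IsPGroup 2 (Subgroup.zpowers (g₂ : G)) :=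
      IsPGroup.of_card (n := j) (by rw [Nat.card_zpowers, hj])
    have hmem : (g₂ : G) ∈ Subgroup.zpowers (g₂ : G) ⊓ Subgroup.normalizer ((S : Subgroup G) : Set G) :=
      ⟨Subgroup.mem_zpowers _, g₂.2⟩
    have heq := hP.inf_normalizer_sylow S
    have hmem' : (g₂ : G) ∈ Subgroup.zpowers (g₂ : G) ⊓ (S : Subgroup G) := by
      rw [← heq]; exact hmem
    exact hmem'.2
  have hν : ν gN = ν g₂ := by
    have hdec : gN = (gN ^ 2 ^ a) ^ u * g₂ := by
      show gN = (gN ^ 2 ^ a) ^ u * (gN ^ m) ^ v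
      rw [← zpow_natCast gN (2 ^ a), ← zpow_natCast gN m, ← zpow_mul, ← zpow_mul, ← zpow_add, ← hb,
        zpow_one]
    have := congrArg ν hdec
    rw [map_mul, map_zpow, h2, one_zpow, one_mul] at this
    exact this
  refine ⟨(g₂ : G), hg2S, fun y hy => ?_⟩
  have := congrArg (fun β : MulAut (S : Subgroup G) => ((β ⟨y, hy⟩ : (S : Subgroup G)) : G)) hν
  exact this

/-- `N_G(S) = S C_G(S)` (in elementwise form) for a quasi-dihedral or wreathed Sylow 2-subgroup. -/
theorem exists_inner_of_qd_or_wreathed {G : Type*} [Group G] [Finite G] (S : Sylow 2 G)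
    (hS : Cfsg.IsQuasiDihedral (S : Subgroup G) ∨ Cfsg.IsWreathed (S : Subgroup G)) :
    ∀ g ∈ Subgroup.normalizer ((S : Subgroup G) : Set G), ∃ s ∈ (S : Subgroup G),
      ∀ y ∈ (S : Subgroup G), g * y * g⁻¹ = s * y * s⁻¹ := by
  apply exists_inner_of_odd_aut_trivial
  intro α hα
  rcases hS with hS | hS
  · exact quasiDihedral_aut_trivial hS α hα
  · exact wreathed_aut_trivial hS α hα

end Cfsg.Agent.Lib.Helper98.OddAut
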