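import Mathlib
import Cfsg.Agent.Lib.Helper31.PFCubeDefs
import Cfsg.Agent.Lib.Helper79.Integrality
import Cfsg.Agent.Lib.Helper3.ColOrth
import Cfsg.Agent.Lib.Helper25.Dual2
import Cfsg.Agent.Lib.Helper26.IrrFactsInst
import Cfsg.Agent.Lib.Helper78.CharMore

/-!
# Peterfalvi (10.10), residual case (c*): the count of `Irr M` (helper98, MODULE PF10C-[CNT])
-/

set_option autoImplicit false
set_option linter.unusedVariables false
set_option linter.unusedSectionVars false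
set_option linter.unusedSimpArgs false

namespace Cfsg.Agent.Lib.Helper98.PFCubeCnt

open Cfsg

universe u

section general

variable {L : Type u} [Group L] [Fintype L]

/-- the degree of an irreducible character, as a natural number -/
theorem h98_deg_cast {χ : L → ℂ} (hχ : IsIrrCharacter L χ) :
    ((charDegree χ : ℕ) : ℂ) = χ 1 ∧ 0 < charDegree χ := by
  obtain ⟨n, hn, hn'⟩ := (Cfsg.Agent.Lib.Helper26.irrFacts L).deg_pos χ hχ
  have h1 : charDegree χ = n := by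
    unfold charDegree
    rw [hn']
    simp
  rw [h1, hn']
  exact ⟨rfl, hn⟩

theorem h98_deg_of_eq {χ : L → ℂ} {n : ℕ} (h : χ 1 = (n : ℂ)) : charDegree χ = n := by
  unfold charDegree
  rw [h]
  simp

/-- the finset of all irreducible characters, as functions -/
noncomputable def h98_irrSet (L : Type u) [Group L] [Fintype L] : Finset (L → ℂ) :=
  haveI : Fintype (IrrCharacter L) := Fintype.ofFinite _
  Finset.univ.image (Subtype.val : IrrCharacter L → (L → ℂ))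

theorem h98_mem_irrSet {χ : L → ℂ} : χ ∈ h98_irrSet L ↔ IsIrrCharacter L χ := by
  unfold h98_irrSet
  constructor
  · intro h
    obtain ⟨x, -, rfl⟩ := Finset.mem_image.mp h
    exact x.2
  · intro h
    exact Finset.mem_image.mpr ⟨⟨χ, h⟩, Finset.mem_univ _, rfl⟩

theorem h98_sum_irrSet : ∑ χ ∈ h98_irrSet L, (charDegree χ) ^ 2 = Nat.card L := by
  let _ : Fintype (IrrCharacter L) := Fintype.ofFinite _
  have h1 := Cfsg.Agent.Lib.Helper3.sum_sq_degrees (G := L)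
  have h2 : ((∑ χ ∈ h98_irrSet L, (charDegree χ) ^ 2 : ℕ) : ℂ) = (Nat.card L : ℂ) := by
    rw [← h1]
    unfold h98_irrSet
    rw [Finset.sum_image (fun a _ b _ h => Subtype.ext h)]
    push_cast
    apply Finset.sum_congr rfl
    intro χ _
    rw [(h98_deg_cast χ.2).1]
  exact_mod_cast h2

theorem h98_sum_sq_le (S : Finset (L → ℂ)) (hS : ∀ χ ∈ S, IsIrrCharacter L χ) :
    ∑ χ ∈ S, (charDegree χ) ^ 2 ≤ Nat.card L := by
  rw [← h98_sum_irrSet]
  apply Finset.sum_le_sum_of_subset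
  intro χ hχ
  exact h98_mem_irrSet.mpr (hS χ hχ)

theorem h98_le_sum_sq (S : Finset (L → ℂ)) (hS : ∀ χ, IsIrrCharacter L χ → χ ∈ S) :
    Nat.card L ≤ ∑ χ ∈ S, (charDegree χ) ^ 2 := by
  rw [← h98_sum_irrSet]
  apply Finset.sum_le_sum_of_subset
  intro χ hχ
  exact hS χ (h98_mem_irrSet.mp hχ)

theorem h98_deg_dvd {χ : L → ℂ} (hχ : IsIrrCharacter L χ) : charDegree χ ∣ Nat.card L :=
  Cfsg.Agent.Lib.Helper79.irr_charDegree_dvd_card ⟨χ, hχ⟩

/-- in a group of order `p³`, a nonprincipal irreducible character has degree `1` or `p` -/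
theorem h98_deg_cube {p : ℕ} (hp : p.Prime) (hL : Nat.card L = p ^ 3) {χ : L → ℂ}
    (hχ : IsIrrCharacter L χ) (hne : χ ≠ fun _ => 1) :
    charDegree χ = 1 ∨ charDegree χ = p := by
  classical
  have h1 := h98_deg_dvd hχ
  rw [hL] at h1
  obtain ⟨a, ha, hd⟩ := (Nat.dvd_prime_pow hp).1 h1
  have h2 := h98_sum_sq_le ({χ, fun _ => 1} : Finset (L → ℂ)) (by
    intro ψ hψ
    rw [Finset.mem_insert, Finset.mem_singleton] at hψ
    rcases hψ with rfl | rfl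
    · exact hχ
    · exact Cfsg.Agent.Lib.Helper78.isIrrCharacter_one)
  rw [Finset.sum_pair hne, hL, hd] at h2
  have h3 : charDegree (fun _ : L => (1 : ℂ)) = 1 := h98_deg_of_eq (by simp)
  rw [h3] at h2
  have hp2 := hp.two_le
  rcases Nat.lt_or_ge a 2 with h | h
  · interval_cases a
    · left; rw [hd]; simp
    · right; rw [hd]; simp
  · exfalso
    have h4 : p ^ 2 ≤ p ^ a := Nat.pow_le_pow_right hp.pos h
    have h5 : (p ^ 2) ^ 2 ≤ (p ^ a) ^ 2 := Nat.pow_le_pow_left h4 2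
    have h6 : p ^ 3 < (p ^ 2) ^ 2 := by
      rw [← pow_mul]
      exact Nat.pow_lt_pow_right hp.one_lt (by norm_num)
    omega

end general

section cube

open Cfsg.Agent.Lib.Helper4.PF Cfsg.Agent.Lib.Helper74.PF127 Cfsg.Agent.Lib.Helper24.PFCyc
  Cfsg.Agent.Lib.Helper31.PFCube Cfsg.Agent.Lib.Helper51.PFCyc

variable {G : Type u} [Group G] [Fintype G] {M W₁ U W₂ : Subgroup G} [Fintype M]
  {mu : WChar W₁ W₂ → (↥M → ℂ)} {dl : WChar W₁ W₂ → ℂ} {η : WChar W₁ W₂ → (G → ℂ)}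
  {ζ : ↥M → ℂ}

theorem h98_card_K (c : CubeCtx M W₁ U W₂ mu dl η ζ) :
    Nat.card ↥(KM M) = Nat.card W₂ ^ 3 := by
  rw [← c.hcard]
  exact Nat.card_congr (Subgroup.subgroupOfEquivOfLe c.h0.hP.W₁_compl.1).toEquiv

theorem h98_card_M (c : CubeCtx M W₁ U W₂ mu dl η ζ) :
    Nat.card ↥M = Nat.card W₂ ^ 3 * Nat.card W₁ := by
  rw [Cfsg.Agent.Lib.Helper23.card_of_isComplIn c.h0.hP.W₁_compl, c.hcard]

theorem h98_q_ge (c : CubeCtx M W₁ U W₂ mu dl η ζ) : 3 ≤ Nat.card W₁ := by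
  have h1 : 1 < Nat.card W₁ := (Subgroup.one_lt_card_iff_ne_bot W₁).mpr c.h0.hP.W₁_ne
  have h2 := c.h0.hodd
  rw [h98_card_M c] at h2
  have h3 : Odd (Nat.card W₁) := (Nat.odd_mul.mp h2).2
  rcases h3 with ⟨k, hk⟩
  omega

/-- (1) `μ_ψ(1) = p` and `δ_ψ = -1` -/
theorem h98_part1 (c : CubeCtx M W₁ U W₂ mu dl η ζ) (ψ : WChar W₁ W₂) (hψ : TrivOn W₁ ψ)
    (hψ1 : ψ ≠ 1) : mu ψ 1 = (Nat.card W₂ : ℂ) ∧ dl ψ = -1 := by
  obtain ⟨d, hd, hdge, n, hn⟩ := c.hf.mu_deg ψ hψ hψ1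
  have hirr := (c.hf.mu_ind ψ).1
  have hq := h98_q_ge c
  have hp := c.h0.hp
  have h2q := c.h2q
  have : Fintype ↥(KM M) := Fintype.ofFinite _
  have hθ1 : (fun k : ↥(KM M) => mu ψ (k : ↥M)) 1 = (d : ℂ) := hd
  have hdeg : charDegree (fun k : ↥(KM M) => mu ψ (k : ↥M)) = d := h98_deg_of_eq hθ1
  have hne : (fun k : ↥(KM M) => mu ψ (k : ↥M)) ≠ fun _ => 1 := by
    intro h
    have h1 : (d : ℂ) = 1 := by
      rw [← hθ1]
      exact congrFun h 1
    have h2 : d = 1 := by exact_mod_cast h1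
    omega
  have hdp : d = Nat.card W₂ := by
    rcases h98_deg_cube hp (h98_card_K c) hirr hne with h | h
    · rw [hdeg] at h
      omega
    · rw [hdeg] at h
      exact h
  refine ⟨by rw [hd, hdp], ?_⟩
  rcases c.h0.md.sign ψ with h1 | h1
  · exfalso
    rw [h1] at hn
    have h3 : ((d : ℤ) - 1 : ℤ) = n * (Nat.card W₁ : ℤ) := by exact_mod_cast hn
    have h4 : ((Nat.card W₁ : ℕ) : ℤ) ∣ 2 := by
      refine ⟨2 - n, ?_⟩
      have h5 : (2 : ℤ) * (Nat.card W₁ : ℤ) = (d : ℤ) + 1 := by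
        rw [hdp]
        exact_mod_cast h2q
      linarith
    have h6 := Int.le_of_dvd (by norm_num) h4
    omega
  · exact h1

/-- the number of linear characters of `W` is `p q` -/
theorem h98_card_WChar (c : CubeCtx M W₁ U W₂ mu dl η ζ) :
    Nat.card (WChar W₁ W₂) = Nat.card W₁ * Nat.card W₂ := by
  classical
  have hW := c.h0.hW
  have : Fintype ↥(W₁ ⊔ W₂) := Fintype.ofFinite _
  have hcyc : IsCyclic ↥(W₁ ⊔ W₂) := hW.2.2.2.2.1
  have hc : ∀ a b : ↥(W₁ ⊔ W₂), a * b = b * a := by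
    intro a b
    obtain ⟨g, hg⟩ := hcyc.exists_generator
    obtain ⟨i, rfl⟩ := Subgroup.mem_zpowers_iff.mp (hg a)
    obtain ⟨j, rfl⟩ := Subgroup.mem_zpowers_iff.mp (hg b)
    rw [← zpow_add, ← zpow_add, add_comm]
  have h2 := Cfsg.Agent.Lib.Helper25.card_dualOf_mul hc (⊥ : Subgroup ↥(W₁ ⊔ W₂))
  rw [Subgroup.card_bot, mul_one, card_W hW] at h2
  rw [← h2]
  let _ : Fintype (WChar W₁ W₂) := Fintype.ofFinite _
  rw [Nat.card_eq_fintype_card, ← Finset.card_univ]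
  congr 1
  ext φ
  rw [Cfsg.Agent.Lib.Helper25.mem_dualOf]
  simp only [Finset.mem_univ, true_iff]
  intro n hn
  rw [Subgroup.mem_bot.mp hn, map_one]

/-- degrees of the `μ_ω` -/
theorem h98_mu_deg (c : CubeCtx M W₁ U W₂ mu dl η ζ) (ω : WChar W₁ W₂) :
    (TrivOn W₂ ω → charDegree (mu ω) = 1) ∧ (¬ TrivOn W₂ ω → charDegree (mu ω) = Nat.card W₂) := by
  constructor
  · intro h
    obtain ⟨-, f, hf, -, -⟩ := c.hf.mu_phi ω h
    apply h98_deg_of_eq
    rw [hf]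
    simp
  · intro h
    obtain ⟨ψ, hψ, hψω⟩ := exists_W₂_part c.h0.hP ω
    have hψ1 : ψ ≠ 1 := by
      rintro rfl
      apply h
      intro w hw
      rw [← hψω w hw]
      rfl
    have h1 := c.hf.mu_res ω ψ (fun w hw => (hψω w hw).symm) 1 (Subgroup.one_mem _)
    apply h98_deg_of_eq
    rw [h1, (h98_part1 c ψ hψ hψ1).1]

theorem h98_sum_mu (c : CubeCtx M W₁ U W₂ mu dl η ζ) [Fintype (WChar W₁ W₂)] :
    ∃ C : ℕ, C + Nat.card W₁ = Nat.card W₁ * Nat.card W₂ ∧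
      ∑ ω : WChar W₁ W₂, (charDegree (mu ω)) ^ 2 = Nat.card W₁ + C * (Nat.card W₂) ^ 2 := by
  classical
  refine ⟨(Finset.univ.filter (fun ω : WChar W₁ W₂ => ¬ TrivOn W₂ ω)).card, ?_, ?_⟩
  · have h1 : Finset.univ.filter (fun ω : WChar W₁ W₂ => TrivOn W₂ ω) = trivSet W₁ W₂ W₂ := by
      ext ω
      simp [mem_trivSet]
    have h2 := Finset.card_filter_add_card_filter_not
      (s := (Finset.univ : Finset (WChar W₁ W₂))) (fun ω : WChar W₁ W₂ => TrivOn W₂ ω)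
    rw [h1, card_trivSet_W₂ c.h0.hP.selfNormalizing, Finset.card_univ,
      ← Nat.card_eq_fintype_card, h98_card_WChar c] at h2
    omega
  · rw [← Finset.sum_filter_add_sum_filter_not Finset.univ (fun ω : WChar W₁ W₂ => TrivOn W₂ ω)]
    have h1 : Finset.univ.filter (fun ω : WChar W₁ W₂ => TrivOn W₂ ω) = trivSet W₁ W₂ W₂ := by
      ext ω
      simp [mem_trivSet]
    have h3 : ∑ ω ∈ Finset.univ.filter (fun ω : WChar W₁ W₂ => TrivOn W₂ ω),
        (charDegree (mu ω)) ^ 2 = Nat.card W₁ := by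
      rw [Finset.sum_congr rfl (g := fun _ => 1) (fun ω hω => by
        rw [(h98_mu_deg c ω).1 (Finset.mem_filter.mp hω).2, one_pow])]
      rw [Finset.sum_const, h1, card_trivSet_W₂ c.h0.hP.selfNormalizing, smul_eq_mul, mul_one]
    have h4 : ∑ ω ∈ Finset.univ.filter (fun ω : WChar W₁ W₂ => ¬ TrivOn W₂ ω),
        (charDegree (mu ω)) ^ 2 =
        (Finset.univ.filter (fun ω : WChar W₁ W₂ => ¬ TrivOn W₂ ω)).card * (Nat.card W₂) ^ 2 := by
      rw [Finset.sum_congr rfl (g := fun _ => (Nat.card W₂) ^ 2) (fun ω hω => by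
        rw [(h98_mu_deg c ω).2 (Finset.mem_filter.mp hω).2])]
      rw [Finset.sum_const, smul_eq_mul]
    rw [h3, h4]

/-- (2) the irreducible members of `calS M` have degree `q` -/
theorem h98_part2 (c : CubeCtx M W₁ U W₂ mu dl η ζ) (ζ' : ↥M → ℂ) (hζ' : ζ' ∈ calS M)
    (hirr : IsIrrCharacter ↥M ζ') : ζ' 1 = (Nat.card W₁ : ℂ) := by
  classical
  have hKn := KM_normal M
  have : Fintype ↥(KM M) := Fintype.ofFinite _
  have hq := h98_q_ge c
  have hp := c.h0.hp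
  have h2q := c.h2q
  have hnot : ∀ ω, ζ' ≠ mu ω := by
    rcases c.hf.calS_cases ζ' hζ' with h | ⟨ψ, hψ, hψ1, rfl⟩
    · exact h.2
    · exfalso
      have h1 := (Zero.muSum_facts c.h0 c.hf ψ hψ hψ1).2.1
      rw [Cfsg.Agent.Lib.Helper78.classInner_irr_self hirr] at h1
      have h2 : ((1 : ℕ) : ℂ) = (Nat.card W₁ : ℂ) := by rw [← h1]; simp
      have h3 : 1 = Nat.card W₁ := by exact_mod_cast h2
      omega
  obtain ⟨ϑ, hϑ, hϑ1, rfl⟩ := (Cfsg.Agent.Lib.Helper74.mem_inducedIrrAbove_bot_iff _).mp hζ'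
  have hone : indFun (KM M) ϑ 1 = (Nat.card W₁ : ℂ) * (charDegree ϑ : ℂ) := by
    rw [Cfsg.Agent.Lib.Helper75.indFun_one, KM_index c.h0.hP, (h98_deg_cast hϑ).1]
  rcases h98_deg_cube hp (h98_card_K c) hϑ hϑ1 with h | h
  · rw [hone, h]
    simp
  · exfalso
    rw [h] at hone
    have hdeg : charDegree (indFun (KM M) ϑ) = Nat.card W₁ * Nat.card W₂ :=
      h98_deg_of_eq (by rw [hone]; push_cast; ring)
    let _ : Fintype (WChar W₁ W₂) := Fintype.ofFinite _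
    obtain ⟨C, hC, hsum⟩ := h98_sum_mu c
    have hnm : indFun (KM M) ϑ ∉ Finset.univ.image mu := by
      intro hm
      obtain ⟨ω, -, hω⟩ := Finset.mem_image.mp hm
      exact hnot ω hω.symm
    have h1 := h98_sum_sq_le (insert (indFun (KM M) ϑ) (Finset.univ.image mu)) (by
      intro χ hχ
      rcases Finset.mem_insert.mp hχ with rfl | hχ
      · exact hirr
      · obtain ⟨ω, -, rfl⟩ := Finset.mem_image.mp hχ
        exact c.h0.md.irr ω)
    rw [Finset.sum_insert hnm, Finset.sum_image (fun a _ b _ h => c.h0.md.inj h), hsum, hdeg,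
      h98_card_M c] at h1
    -- arithmetic
    have h2 : C * Nat.card W₂ ^ 2 + Nat.card W₁ * Nat.card W₂ ^ 2 =
        Nat.card W₂ ^ 3 * Nat.card W₁ := by
      have := congrArg (fun x => x * Nat.card W₂ ^ 2) hC
      rw [add_mul] at this
      rw [this]
      ring
    have h3 : (Nat.card W₁ * Nat.card W₂) ^ 2 = Nat.card W₁ * (Nat.card W₁ * Nat.card W₂ ^ 2) := by
      ring
    have h4 : Nat.card W₁ * Nat.card W₂ ^ 2 ≤ Nat.card W₁ * (Nat.card W₁ * Nat.card W₂ ^ 2) :=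
      Nat.le_mul_of_pos_left _ (by omega)
    omega

theorem h98_arith (p q t : ℕ) (hq : 3 ≤ q) (h2q : 2 * q = p + 1)
    (h : q * p ^ 2 ≤ q + t * q ^ 2) : 2 * (p - 1) ≤ t := by
  have h1 : q * p ^ 2 ≤ q * (1 + t * q) := by
    calc q * p ^ 2 ≤ q + t * q ^ 2 := h
      _ = q * (1 + t * q) := by ring
  have h2 : p ^ 2 ≤ 1 + t * q := Nat.le_of_mul_le_mul_left h1 (by omega)
  by_contra hc
  have hc' : t + 3 ≤ 2 * p := by omega
  zify at h2 hc' h2q hq
  nlinarith [mul_nonneg (sub_nonneg.mpr hc') (by linarith : (0 : ℤ) ≤ (q : ℤ))]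

/-- MODULE PF10C-[CNT] -/
theorem cube_count (c : CubeCtx M W₁ U W₂ mu dl η ζ) :
    (∀ ψ : WChar W₁ W₂, TrivOn W₁ ψ → ψ ≠ 1 → mu ψ 1 = (Nat.card W₂ : ℂ) ∧ dl ψ = -1) ∧
    (∀ ζ' ∈ calS M, IsIrrCharacter ↥M ζ' → ζ' 1 = (Nat.card W₁ : ℂ)) ∧
    ∃ T : Finset (↥M → ℂ), (∀ ζ', ζ' ∈ T ↔ ζ' ∈ S1 M W₁) ∧ 2 * (Nat.card W₂ - 1) ≤ T.card := by
  classical
  refine ⟨h98_part1 c, h98_part2 c, ?_⟩
  have hKn := KM_normal M
  have : Fintype ↥(KM M) := Fintype.ofFinite _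
  have hcalfin : (calS M).Finite := by
    have hfin : Finite (IrrCharacter ↥(KM M)) := Cfsg.Agent.Lib.Helper3.finite_irrCharacter
    have h1 : ({θ : ↥(KM M) → ℂ | IsIrrCharacter ↥(KM M) θ}).Finite := Set.finite_coe_iff.mp hfin
    refine (h1.image (indFun (KM M))).subset ?_
    rintro φ ⟨θ, hθ, -, -, rfl⟩
    exact ⟨θ, hθ, rfl⟩
  have hS1fin : (S1 M W₁).Finite := hcalfin.subset (fun ξ hξ => hξ.1)
  refine ⟨hS1fin.toFinset, fun ζ' => hS1fin.mem_toFinset, ?_⟩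
  let _ : Fintype (WChar W₁ W₂) := Fintype.ofFinite _
  obtain ⟨C, hC, hsum⟩ := h98_sum_mu c
  have h1 := h98_le_sum_sq (Finset.univ.image mu ∪ hS1fin.toFinset) (by
    intro χ hχ
    rcases c.hf.irr_cases χ hχ with ⟨ω, rfl⟩ | ⟨ϑ, hϑ, hϑ1, rfl, -⟩
    · exact Finset.mem_union_left _ (Finset.mem_image.mpr ⟨ω, Finset.mem_univ _, rfl⟩)
    · apply Finset.mem_union_right
      rw [hS1fin.mem_toFinset]
      have hmem : indFun (KM M) ϑ ∈ calS M :=
        (Cfsg.Agent.Lib.Helper74.mem_inducedIrrAbove_bot_iff _).mpr ⟨ϑ, hϑ, hϑ1, rfl⟩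
      exact ⟨hmem, h98_part2 c _ hmem hχ⟩)
  have h2 := Finset.sum_union_inter (s₁ := Finset.univ.image mu) (s₂ := hS1fin.toFinset)
    (f := fun χ : ↥M → ℂ => (charDegree χ) ^ 2)
  rw [Finset.sum_image (fun a _ b _ h => c.h0.md.inj h), hsum] at h2
  have h3 : ∑ χ ∈ hS1fin.toFinset, (charDegree χ) ^ 2 =
      hS1fin.toFinset.card * (Nat.card W₁) ^ 2 := by
    rw [Finset.sum_congr rfl (g := fun _ => (Nat.card W₁) ^ 2) (fun χ hχ => by
      rw [h98_deg_of_eq ((hS1fin.mem_toFinset.mp hχ).2)])]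
    rw [Finset.sum_const, smul_eq_mul]
  rw [h3] at h2
  rw [h98_card_M c] at h1
  have h4 : C * Nat.card W₂ ^ 2 + Nat.card W₁ * Nat.card W₂ ^ 2 =
      Nat.card W₂ ^ 3 * Nat.card W₁ := by
    have := congrArg (fun x => x * Nat.card W₂ ^ 2) hC
    rw [add_mul] at this
    rw [this]
    ring
  apply h98_arith _ _ _ (h98_q_ge c) c.h2q
  omega

end cube

end Cfsg.Agent.Lib.Helper98.PFCubeCnt
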