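import Cfsg.Agent.S5160

/-!
# A simplicity criterion for the `p`-fusion system of a group with self-normalizing Sylow `p`-subgroup

If `S` is a nontrivial self-normalizing Sylow `p`-subgroup of the finite group `G`, all elements of order `p` of `G` are
conjugate, and `S` is generated by its elements of order `p`, then the fusion system of `G` on `S` is simple.
(Corollary of the criterion S5160.)
-/

set_option autoImplicit false

namespace Cfsg.Agent.Lib.Helper98.FusionSelfNorm

open Cfsg Cfsg.FusionSystem
open Cfsg.Agent.Lib.Helper85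

variable {G : Type*} [Group G]

/-- Monotonicity of `autInducedBy` in the inducing subgroup. -/
theorem autInducedBy_mono' {K L : Subgroup G} (h : K ≤ L) (P : Subgroup G) :
    autInducedBy K P ≤ autInducedBy L P := by
  unfold autInducedBy
  apply Subgroup.closure_mono
  rintro α ⟨g, hg, hα⟩
  exact ⟨g, h hg, hα⟩

/-- An element inducing an automorphism of `P` by conjugation normalizes `P`. -/
theorem mem_normalizer_of_induces {P : Subgroup G} {g : G} (α : MulAut P)
    (hα : ∀ x : P, ((α x : P) : G) = g * (x : G) * g⁻¹) : g ∈ Subgroup.normalizer (P : Set G) := by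
  rw [Subgroup.mem_normalizer_iff]
  intro h
  constructor
  · intro hh
    rw [← hα ⟨h, hh⟩]
    exact (α ⟨h, hh⟩).2
  · intro hh
    have h1 := hα (α⁻¹ ⟨g * h * g⁻¹, hh⟩)
    rw [MulAut.apply_inv_self] at h1
    have h2 : h = ((α⁻¹ ⟨g * h * g⁻¹, hh⟩ : P) : G) := by
      have := mul_left_cancel (mul_right_cancel h1)
      exact this
    rw [h2]
    exact (α⁻¹ ⟨g * h * g⁻¹, hh⟩).2

/-- If `N_G(S) = S` then `Aut_G(S) = Aut_S(S)`. -/
theorem autInducedBy_top_eq_of_selfNormalizing {S : Subgroup G}
    (hN : Subgroup.normalizer (S : Set G) = S) : autInducedBy ⊤ S = autInducedBy S S := by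
  apply le_antisymm
  · intro α hα
    rw [mem_autInducedBy_iff] at hα ⊢
    obtain ⟨g, -, hg⟩ := hα
    refine ⟨g, ?_, hg⟩
    rw [← hN]
    exact mem_normalizer_of_induces α hg
  · exact autInducedBy_mono' le_top S

/-- `Aut_S(S) = Inn(S)`. -/
theorem autInducedBy_self_eq_Inn (S : Subgroup G) : autInducedBy S S = Inn S := by
  ext α
  rw [mem_autInducedBy_iff]
  constructor
  · rintro ⟨g, hg, hα⟩
    refine ⟨⟨g, hg⟩, ?_⟩
    ext x
    rw [hα x]
    rfl
  · rintro ⟨s, rfl⟩
    exact ⟨s, s.2, fun x => rfl⟩

/-- The automorphism group of `S` in `F_S(G)` is `Aut_G(S)`. -/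
theorem autGroup_groupFusionSystem_self (S : Subgroup G) :
    (groupFusionSystem S).autGroup S = autInducedBy ⊤ S := by
  ext α
  rw [mem_autGroup_iff _ le_rfl, mem_autInducedBy_iff]
  constructor
  · rintro ⟨-, -, g, hg⟩
    exact ⟨g, Subgroup.mem_top g, fun x => hg x⟩
  · rintro ⟨g, -, hg⟩
    exact ⟨le_rfl, fun x => (α x).2, g, fun x => hg x⟩

section finite

variable [Finite G]

/-- A subgroup conjugate to `S` in a fusion system over `S` is `S`. -/
theorem eq_of_isConj_self {S : Subgroup G} (F : FusionSystem S) {Q : Subgroup G} (h : F.IsConj S Q) :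
    Q = S := by
  have hQS : Q ≤ S := isConj_le_right F h
  have hc : Nat.card S = Nat.card Q := isConj_card_eq F h
  exact Subgroup.eq_of_le_of_card_ge hQS hc.le

theorem isFullyNormalized_self {S : Subgroup G} (F : FusionSystem S) : F.IsFullyNormalized S := by
  refine ⟨le_rfl, fun Q hQ => ?_⟩
  rw [eq_of_isConj_self F hQ]

theorem isCentric_self {S : Subgroup G} (F : FusionSystem S) : F.IsCentric S := by
  refine ⟨le_rfl, fun Q hQ => ?_⟩
  rw [eq_of_isConj_self F hQ]
  exact inf_le_left

omit [Finite G] in
theorem isRadical_self_of_selfNormalizing {p : ℕ} [Fact p.Prime] {S : Subgroup G} (hS : IsPGroup p S)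
    (hN : Subgroup.normalizer (S : Set G) = S) : (groupFusionSystem S).IsRadical p S := by
  refine ⟨le_rfl, ?_⟩
  have hA : (groupFusionSystem S).autGroup S = Inn S := by
    rw [autGroup_groupFusionSystem_self, autInducedBy_top_eq_of_selfNormalizing hN,
      autInducedBy_self_eq_Inn]
  have hp : IsPGroup p ((groupFusionSystem S).autGroup S) := by
    rw [hA]
    rintro ⟨_, s, rfl⟩
    obtain ⟨k, hk⟩ := hS s
    refine ⟨k, Subtype.ext ?_⟩
    show (MulAut.conj s) ^ p ^ k = 1
    rw [← map_pow, hk, map_one]
  have htop : pCore p ((groupFusionSystem S).autGroup S) = ⊤ := by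
    apply le_antisymm le_top
    apply le_sSup
    refine ⟨inferInstance, ?_⟩
    intro x
    obtain ⟨k, hk⟩ := hp x.1
    exact ⟨k, Subtype.ext hk⟩
  rw [htop, ← MonoidHom.range_eq_map, Subgroup.range_subtype, hA]

end finite

/-- **Criterion.** `S` a nontrivial self-normalizing Sylow `p`-subgroup of the finite group `G`, generated by its
elements of order `p`, all elements of order `p` of `G` being conjugate: then `F_S(G)` is simple. -/
theorem isSimple_of_selfNormalizing [Finite G] (p : ℕ) [Fact p.Prime] (S : Sylow p G)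
    (hS1 : (S : Subgroup G) ≠ ⊥)
    (hN : Subgroup.normalizer ((S : Subgroup G) : Set G) = (S : Subgroup G))
    (hconj : ∀ x y : G, orderOf x = p → orderOf y = p → IsConj x y)
    (hgen : (S : Subgroup G) ≤ Subgroup.closure {x : G | x ∈ (S : Subgroup G) ∧ orderOf x = p}) :
    (groupFusionSystem (S : Subgroup G)).IsSimple p := by
  have hSp : IsPGroup p (S : Subgroup G) := S.isPGroup'
  apply Cfsg.Agent.S5160.result p S hS1
  · -- strongly closed subgroups
    rintro T ⟨hTS, hT⟩
    by_cases hTbot : T = ⊥
    · exact Or.inl hTbot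
    right
    apply le_antisymm hTS
    -- T contains an element of order p
    have hTp : IsPGroup p T := hSp.to_le hTS
    have : Nontrivial T := (Subgroup.nontrivial_iff_ne_bot T).2 hTbot
    have hdvd : p ∣ Nat.card T := by
      obtain ⟨n, hn⟩ := IsPGroup.iff_card.1 hTp
      rw [hn]
      rcases n with _ | n
      · rw [pow_zero] at hn
        have := Finite.one_lt_card (α := T)
        omega
      · exact dvd_pow_self p (Nat.succ_ne_zero n)
    obtain ⟨t, ht⟩ := exists_prime_orderOf_dvd_card' p hdvd
    have ht' : orderOf (t : G) = p := by rw [Subgroup.orderOf_coe]; exact ht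
    refine hgen.trans ?_
    rw [Subgroup.closure_le]
    rintro s ⟨hsS, hs⟩
    obtain ⟨g, hg⟩ := isConj_iff.1 (hconj (t : G) s ht' hs)
    -- the conjugation map on ⟨t⟩
    have hRS : Subgroup.zpowers (t : G) ≤ T := by
      rw [Subgroup.zpowers_le]; exact t.2
    have hval : ∀ x : Subgroup.zpowers (t : G), g * (x : G) * g⁻¹ ∈ (S : Subgroup G) := by
      rintro ⟨x, hx⟩
      obtain ⟨n, rfl⟩ := Subgroup.mem_zpowers_iff.1 hx
      have : g * (t : G) ^ n * g⁻¹ = s ^ n := by
        rw [← hg]; simp
      show g * (t : G) ^ n * g⁻¹ ∈ (S : Subgroup G)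
      rw [this]
      exact Subgroup.zpow_mem _ hsS n
    have hmem : conjHom (Subgroup.zpowers (t : G)) g ∈
        (groupFusionSystem (S : Subgroup G)).Hom (Subgroup.zpowers (t : G)) :=
      ⟨hRS.trans hTS, hval, g, fun _ => rfl⟩
    have := hT _ hRS _ hmem ⟨(t : G), Subgroup.mem_zpowers _⟩
    have h2 : conjHom (Subgroup.zpowers (t : G)) g ⟨(t : G), Subgroup.mem_zpowers _⟩ = s := hg
    rw [h2] at this
    exact this
  · -- the generation condition
    apply le_antisymm
    · rw [autInducedBy_top_eq_of_selfNormalizing hN]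
      refine le_trans ?_ (le_iSup₂ (f := fun (R : Subgroup G)
        (_ : (groupFusionSystem (S : Subgroup G)).IsFullyNormalized R ∧
          (groupFusionSystem (S : Subgroup G)).IsRadical p R ∧
          (groupFusionSystem (S : Subgroup G)).IsCentric R) =>
        autInducedBy (Subgroup.closure {g : G | g ∈ Subgroup.normalizer (R : Set G) ∧
          ∃ k : ℕ, orderOf g = p ^ k}) (S : Subgroup G)) (S : Subgroup G)
        ⟨isFullyNormalized_self _, isRadical_self_of_selfNormalizing hSp hN, isCentric_self _⟩)
      apply autInducedBy_mono'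
      intro g hg
      apply Subgroup.subset_closure
      refine ⟨Subgroup.le_normalizer hg, ?_⟩
      obtain ⟨k, hk⟩ := hSp ⟨g, hg⟩
      have h1 : g ^ p ^ k = 1 := congrArg Subtype.val hk
      obtain ⟨j, -, hj⟩ := (Nat.dvd_prime_pow (Fact.out : p.Prime)).1 (orderOf_dvd_of_pow_eq_one h1)
      exact ⟨j, hj⟩
    · apply iSup₂_le
      intro R _
      exact autInducedBy_mono' le_top _

end Cfsg.Agent.Lib.Helper98.FusionSelfNorm
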