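import Cfsg.Agent.Lib.Helper85.Suz2Defs
import Cfsg.Agent.S3360

/-!
# SUZ2-[HUP-A]: field coordinates on `Z0 P` from Huppert's theorem S3360 (helper98)

`SHyp.exists_zcoord`: for a Suzuki 2-group `P` with solvable `Y ≤ Aut P` transitive on involutions,
`Z0 P` carries the structure of a finite field `F` of characteristic two on which `Y` acts
semilinearly: `aZ (k z) = κ k * σ k (aZ z)`.
-/

set_option autoImplicit false
set_option linter.style.haveILetI false
set_option linter.unusedSectionVars false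
set_option linter.unusedVariables false

namespace Cfsg.Agent.Lib.Helper98.Suz2

open Cfsg.Agent.Lib.Helper19.Suz Cfsg.Agent.Lib.Helper85.Suz2

universe u v

section abstract

variable {A : Type u} [CommGroup A]

/-- the `ZMod 2`-module structure on an elementary abelian 2-group, written additively -/
@[reducible] noncomputable def elemModule (hA2 : ∀ a : A, a * a = 1) : Module (ZMod 2) (Additive A) :=
  AddCommGroup.zmodModule (n := 2) (fun v => by
    rw [two_nsmul]
    exact congrArg Additive.ofMul (hA2 (Additive.toMul v)))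

/-- an automorphism as a `ZMod 2`-linear equivalence -/
noncomputable def elemLin (hA2 : ∀ a : A, a * a = 1) (f : MulAut A) :
    letI := elemModule hA2
    Additive A ≃ₗ[ZMod 2] Additive A :=
  letI := elemModule hA2
  { MulEquiv.toAdditive f with
    map_smul' := fun c w =>
      (AddMonoidHom.toZModLinearMap 2 (MulEquiv.toAdditive f).toAddMonoidHom).map_smul c w }

theorem elemLin_apply (hA2 : ∀ a : A, a * a = 1) (f : MulAut A) (w : Additive A) :
    letI := elemModule hA2
    elemLin hA2 f w = Additive.ofMul (f (Additive.toMul w)) := rfl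

/-- the hom `MulAut A →* GL(A)` -/
noncomputable def elemLinHom (hA2 : ∀ a : A, a * a = 1) :
    letI := elemModule hA2
    MulAut A →* (Additive A ≃ₗ[ZMod 2] Additive A) :=
  letI := elemModule hA2
  { toFun := elemLin hA2
    map_one' := by
      apply LinearEquiv.ext
      intro w
      rfl
    map_mul' := by
      intro f g
      apply LinearEquiv.ext
      intro w
      rfl }

theorem elemLinHom_apply (hA2 : ∀ a : A, a * a = 1) (f : MulAut A) (w : Additive A) :
    letI := elemModule hA2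
    elemLinHom hA2 f w = Additive.ofMul (f (Additive.toMul w)) := rfl

theorem two_pow_not_mem_exceptional (n : ℕ) :
    (2 ^ n : ℕ) ∉ ({9, 25, 49, 121, 529, 81} : Set ℕ) := by
  intro hmem
  have hlt : n < 10 := by
    by_contra hge
    have h10 : 10 ≤ n := by omega
    have : 2 ^ 10 ≤ 2 ^ n := Nat.pow_le_pow_right (by norm_num) h10
    simp only [Set.mem_insert_iff, Set.mem_singleton_iff] at hmem
    omega
  simp only [Set.mem_insert_iff, Set.mem_singleton_iff] at hmem
  interval_cases n <;> omega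

/-- abstract form: an elementary abelian 2-group with a solvable group of automorphisms transitive on
the non-identity elements is the additive group of a finite field, with semilinear action. -/
theorem elem_coords [Finite A] [Nontrivial A] (hA2 : ∀ a : A, a * a = 1)
    {G : Type v} [Group G] [Finite G] (hsol : Group.IsSolvable G) (φ : G →* MulAut A)
    (htr : ∀ a b : A, a ≠ 1 → b ≠ 1 → ∃ g : G, φ g a = b) :
    ∃ (F : Type) (_ : Field F) (_ : Fintype F) (e : A → F),
      Function.Bijective e ∧ (∀ a b, e (a * b) = e a + e b) ∧ CharP F 2 ∧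
      ∀ g : G, ∃ (c : F) (σ : F ≃+* F), ∀ a, e (φ g a) = c * σ (e a) := by
  letI := elemModule hA2
  haveI : Fact (Nat.Prime 2) := ⟨Nat.prime_two⟩
  -- the linear group
  let ρ0 : G →* (Additive A ≃ₗ[ZMod 2] Additive A) := (elemLinHom hA2).comp φ
  have hρ0 : ∀ g w, ρ0 g w = Additive.ofMul (φ g (Additive.toMul w)) := fun g w => rfl
  haveI : Finite ↥ρ0.range := Finite.of_surjective _ ρ0.rangeRestrict_surjective
  have hsolR : Group.IsSolvable ↥ρ0.range :=
    Group.isSolvable_of_surjective ρ0.rangeRestrict_surjective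
  haveI : Finite (Additive A) := inferInstanceAs (Finite A)
  haveI : Nontrivial (Additive A) := inferInstanceAs (Nontrivial A)
  have htrans : ∀ v w : Additive A, v ≠ 0 → w ≠ 0 →
      ∃ g : ↥ρ0.range, (ρ0.range.subtype g) v = w := by
    intro v w hv hw
    obtain ⟨g, hg⟩ := htr (Additive.toMul v) (Additive.toMul w)
      (fun h1 => hv (congrArg Additive.ofMul h1)) (fun h1 => hw (congrArg Additive.ofMul h1))
    refine ⟨⟨ρ0 g, g, rfl⟩, ?_⟩
    show ρ0 g v = w
    rw [hρ0, hg]
    rfl
  rcases Cfsg.Agent.S3360.result 2 hsolR ρ0.range.subtype (Subgroup.subtype_injective _) htrans with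
    ⟨F, iF, iFt, e, he⟩ | hcard
  · refine ⟨F, iF, iFt, fun a => e (Additive.ofMul a), ?_, ?_, ?_, ?_⟩
    · exact e.bijective.comp Additive.ofMul.bijective
    · intro a b
      show e (Additive.ofMul (a * b)) = _
      rw [ofMul_mul, map_add]
    · apply CharTwo.of_one_ne_zero_of_two_eq_zero one_ne_zero
      have h1 : e (e.symm 1 + e.symm 1) = 0 := by
        have : e.symm (1 : F) + e.symm 1 = 0 :=
          congrArg Additive.ofMul (hA2 (Additive.toMul (e.symm 1)))
        rw [this, map_zero]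
      rw [map_add, AddEquiv.apply_symm_apply] at h1
      rw [← one_add_one_eq_two]
      exact h1
    · intro g
      obtain ⟨c, σ, hcσ⟩ := he ⟨ρ0 g, g, rfl⟩
      refine ⟨c, σ, fun a => ?_⟩
      have := hcσ (Additive.ofMul a)
      rw [← this]
      rfl
  · exfalso
    have hp : IsPGroup 2 A := by
      intro a
      refine ⟨1, ?_⟩
      rw [pow_one, pow_two]
      exact hA2 a
    obtain ⟨n, hn⟩ := hp.exists_card_eq
    have hcardA : Nat.card (Additive A) = 2 ^ n := hn
    rw [hcardA] at hcard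
    exact two_pow_not_mem_exceptional n hcard

end abstract

section concrete

variable {P : Type u} [Group P] {Y : Subgroup (MulAut P)}

/-- `Z0 P` is commutative -/
@[reducible] noncomputable def z0CommGroup (P : Type u) [Group P] : CommGroup ↥(Z0 P) :=
  { (inferInstance : Group ↥(Z0 P)) with
    mul_comm := fun a b => Subtype.ext (Subgroup.mem_center_iff.mp b.2.1 a) }

/-- restriction of an automorphism of `P` to `Z0 P` -/
noncomputable def z0Aut (k : MulAut P) : MulAut ↥(Z0 P) where
  toFun z := ⟨k z, aut_mem_Z0 k z.2⟩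
  invFun z := ⟨k⁻¹ z, aut_mem_Z0 k⁻¹ z.2⟩
  left_inv z := Subtype.ext (by simp)
  right_inv z := Subtype.ext (by simp)
  map_mul' z w := Subtype.ext (by simp)

theorem z0Aut_apply (k : MulAut P) (z : ↥(Z0 P)) : ((z0Aut k z : ↥(Z0 P)) : P) = k z := rfl

/-- the restriction hom `Y →* Aut (Z0 P)` -/
noncomputable def z0Hom (Y : Subgroup (MulAut P)) : ↥Y →* MulAut ↥(Z0 P) where
  toFun k := z0Aut (k : MulAut P)
  map_one' := by
    apply MulEquiv.ext
    intro z
    apply Subtype.ext
    rfl
  map_mul' k l := by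
    apply MulEquiv.ext
    intro z
    apply Subtype.ext
    rfl

/-- [HUP-A] -/
theorem SHyp.exists_zcoord (h : SHyp P Y) :
    ∃ (F : Type) (_ : Field F) (_ : Fintype F) (aZ : P → F) (κ : MulAut P → F)
      (σ : MulAut P → (F ≃+* F)), ZCoord P Y F aZ κ σ := by
  classical
  haveI := h.fin
  letI := z0CommGroup P
  have hA2 : ∀ a : ↥(Z0 P), a * a = 1 := fun a => Subtype.ext a.2.2
  obtain ⟨x0, y0, hxy0, hx01, hx02, -⟩ := h.two
  haveI : Nontrivial ↥(Z0 P) :=
    ⟨⟨⟨x0, h.mem_Z0_iff.mpr hx02⟩, 1, fun he => hx01 (congrArg Subtype.val he)⟩⟩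
  haveI : Finite ↥Y := inferInstance
  have htr : ∀ a b : ↥(Z0 P), a ≠ 1 → b ≠ 1 → ∃ g : ↥Y, z0Hom Y g a = b := by
    intro a b ha hb
    obtain ⟨k, hk, hkab⟩ := h.trans a b (fun e => ha (Subtype.ext e)) a.2.2
      (fun e => hb (Subtype.ext e)) b.2.2
    exact ⟨⟨k, hk⟩, Subtype.ext hkab⟩
  obtain ⟨F, iF, iFt, e, hbij, hadd, hchar, hact⟩ := elem_coords hA2 h.sol (z0Hom Y) htr
  have he1 : e 1 = 0 := by
    have := hadd 1 1
    rw [mul_one] at this
    exact left_eq_add.mp this
  -- choose the scalars and automorphisms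
  choose c0 σ0 hcσ using hact
  refine ⟨F, iF, iFt, fun x => if hx : x ∈ Z0 P then e ⟨x, hx⟩ else 0,
    fun k => if hk : k ∈ Y then c0 ⟨k, hk⟩ else 1,
    fun k => if hk : k ∈ Y then σ0 ⟨k, hk⟩ else 1, ?_⟩
  have haZ : ∀ (z : P) (hz : z ∈ Z0 P),
      (if hx : z ∈ Z0 P then e ⟨z, hx⟩ else 0) = e ⟨z, hz⟩ := by
    intro z hz
    exact dif_pos hz
  have hκne : ∀ g : ↥Y, c0 g ≠ 0 := by
    intro g hg0
    have h1 := hcσ g ⟨x0, h.mem_Z0_iff.mpr hx02⟩
    rw [hg0, zero_mul, ← he1] at h1
    have h2 := hbij.1 h1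
    have h3 : (z0Hom Y g) ⟨x0, h.mem_Z0_iff.mpr hx02⟩ = (z0Hom Y g) 1 := by
      rw [h2, map_one]
    have h4 := (z0Hom Y g).injective h3
    exact hx01 (congrArg Subtype.val h4)
  refine ⟨hchar, ?_, ?_, ?_, ?_, ?_, ?_⟩
  · intro z hz w hw
    rw [haZ z hz, haZ w hw, haZ (z * w) ((Z0 P).mul_mem hz hw), ← hadd]
    rfl
  · intro z hz hz0
    rw [haZ z hz, ← he1] at hz0
    exact congrArg Subtype.val (hbij.1 hz0)
  · intro u
    obtain ⟨z, hz⟩ := hbij.2 u
    exact ⟨z.1, z.2, by rw [haZ z.1 z.2]; exact hz⟩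
  · intro k hk z hz
    rw [haZ z hz, haZ (k z) (aut_mem_Z0 k hz)]
    simp only [hk, dif_pos]
    exact hcσ ⟨k, hk⟩ ⟨z, hz⟩
  · intro k hk
    simp only [hk, dif_pos]
    exact hκne ⟨k, hk⟩
  · intro u hu
    obtain ⟨z1, hz1⟩ := hbij.2 1
    obtain ⟨w, hw⟩ := hbij.2 u
    have hz11 : z1 ≠ 1 := by
      intro e1
      rw [e1, he1] at hz1
      exact zero_ne_one hz1
    have hw1 : w ≠ 1 := by
      intro e1
      rw [e1, he1] at hw
      exact hu hw.symm
    obtain ⟨g, hg⟩ := htr z1 w hz11 hw1
    refine ⟨g.1, g.2, ?_⟩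
    simp only [g.2, dif_pos]
    have := hcσ g z1
    rw [hg, hw, hz1, map_one, mul_one] at this
    exact this.symm

end concrete

end Cfsg.Agent.Lib.Helper98.Suz2
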