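import Cfsg.Agent.Lib.Helper85.Suz2Defs
import Cfsg.Agent.Lib.Helper19.SuzHigCoords

/-!
# SUZ2-[COORD]: field coordinates when `Nsub P` is abelian (helper98)

Port of helper19's `AbHyp.coords` to helper85's semilinear setting `ZCoord`:
the coordinates `c τ : P → F` with `c τ (k x) = κ k * (τ (κ k))⁻¹ * σ k (c τ x)`.
-/

set_option autoImplicit false
set_option linter.style.haveILetI false
set_option linter.unusedSectionVars false
set_option linter.unusedVariables false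

namespace Cfsg.Agent.Lib.Helper98.Suz2

open Cfsg.Agent.Lib.Helper19.Suz Cfsg.Agent.Lib.Helper85.Suz2

universe u

/-- automorphisms of a finite field commute -/
theorem ringAut_comm_apply {F : Type*} [Field F] [Finite F] (σ τ : F ≃+* F) (x : F) :
    σ (τ x) = τ (σ x) := by
  by_cases hx : x = 0
  · rw [hx, map_zero, map_zero, map_zero]
  · obtain ⟨g, hg⟩ := IsCyclic.exists_monoid_generator (α := Fˣ)
    have key : ∀ y : F, y ≠ 0 → ∃ n : ℕ, (g : F) ^ n = y := by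
      intro y hy
      obtain ⟨n, hn⟩ := (Submonoid.mem_powers_iff _ _).mp (hg (Units.mk0 y hy))
      refine ⟨n, ?_⟩
      have := congrArg Units.val hn
      rwa [Units.val_pow_eq_pow_val, Units.val_mk0] at this
    have hg0 : (g : F) ≠ 0 := g.ne_zero
    obtain ⟨n, hn⟩ := key x hx
    obtain ⟨a, ha⟩ := key (σ g) (by rw [Ne, map_eq_zero]; exact hg0)
    obtain ⟨b, hb⟩ := key (τ g) (by rw [Ne, map_eq_zero]; exact hg0)
    have e1 : σ (τ (g : F)) = (g : F) ^ (a * b) := by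
      rw [← hb, map_pow, ← ha, ← pow_mul]
    have e2 : τ (σ (g : F)) = (g : F) ^ (a * b) := by
      rw [← ha, map_pow, ← hb, ← pow_mul, mul_comm]
    rw [← hn, map_pow, map_pow, map_pow, map_pow, e1, e2]

variable {P : Type u} [Group P] {Y : Subgroup (MulAut P)}

section coords
variable {F : Type} [Field F] [Fintype F] {aZ : P → F} {κ : MulAut P → F}
  {σ : MulAut P → (F ≃+* F)}

/-- [COORD] -/
theorem exists_chyp (h : SHyp P Y) (zc : ZCoord P Y F aZ κ σ)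
    (hEab : ∀ a ∈ Nsub P, ∀ b ∈ Nsub P, a * b = b * a) (hne : ∃ a ∈ Nsub P, a ∉ Z0 P) :
    ∃ c : (F ≃+* F) → P → F, CHyp P Y F aZ κ σ c := by
  classical
  haveI := h.fin
  haveI := zc.char2
  have h2 : ∀ x : F, x + x = 0 := CharTwo.add_self_eq_zero
  have Asq : ∀ a ∈ Nsub P, a * a ∈ Z0 P := fun a ha => (mem_Nsub.mp ha).1
  have Acm : ∀ a ∈ Nsub P, ∀ g : P, a⁻¹ * g⁻¹ * a * g ∈ Z0 P := fun a ha => (mem_Nsub.mp ha).2
  have Ainv : ∀ k : MulAut P, ∀ a ∈ Nsub P, k a ∈ Nsub P := fun k a ha => aut_mem_Nsub k ha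
  have P1 := zc.aZ_mul
  have P2 := zc.aZ_inj
  obtain ⟨a₀, ha₀A, ha₀Z⟩ := hne
  have ha₀sq : a₀ * a₀ ≠ 1 := fun e => ha₀Z (h.mem_Z0_iff.mpr e)
  have haZ_one : aZ 1 = 0 := by
    have := P1 1 (Subgroup.one_mem _) 1 (Subgroup.one_mem _)
    rw [mul_one] at this
    exact left_eq_add.mp this
  -- injectivity of `aZ` on `Z`
  have hinjZ : ∀ z ∈ Z0 P, ∀ w ∈ Z0 P, aZ z = aZ w → z = w := by
    intro z hz w hw e
    have h1 : aZ (z * w) = 0 := by rw [P1 z hz w hw, e, h2]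
    have h3 := P2 _ (Subgroup.mul_mem _ hz hw) h1
    have h4 : z = w⁻¹ := eq_inv_of_mul_eq_one_left h3
    rw [h4, Z0_inv hw]
  -- `α` is onto
  have P8 : ∀ u : F, ∃ a ∈ Nsub P, aZ (a * a) = u := by
    intro u
    by_cases hu : u = 0
    · refine ⟨1, (Nsub P).one_mem, ?_⟩
      rw [mul_one, haZ_one, hu]
    · obtain ⟨w, hwZ, hw⟩ := zc.aZ_surj u
      have hw1 : w ≠ 1 := by
        rintro rfl
        rw [haZ_one] at hw
        exact hu hw.symm
      obtain ⟨k, hk, hkz⟩ := h.trans (a₀ * a₀) w ha₀sq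
        (h.mem_Z0_iff.mp (Asq a₀ ha₀A)) hw1 (h.mem_Z0_iff.mp hwZ)
      refine ⟨k a₀, Ainv k a₀ ha₀A, ?_⟩
      rw [← map_mul, hkz]
      exact hw
  choose sec hsecA hsec using P8
  -- commutators of elements of `A` depend only on `α`
  have K1 : ∀ a ∈ Nsub P, ∀ b ∈ Nsub P, aZ (a * a) = aZ (b * b) → ∀ x : P,
      a⁻¹ * x⁻¹ * a * x = b⁻¹ * x⁻¹ * b * x := by
    intro a ha b hb e x
    have hsq : a * a = b * b := hinjZ _ (Asq a ha) _ (Asq b hb) e
    have hab : a * b⁻¹ ∈ Z0 P := by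
      apply h.mem_Z0_iff.mpr
      have hc : b⁻¹ * a = a * b⁻¹ := hEab _ ((Nsub P).inv_mem hb) _ ha
      calc a * b⁻¹ * (a * b⁻¹) = a * (b⁻¹ * a) * b⁻¹ := by group
        _ = a * (a * b⁻¹) * b⁻¹ := by rw [hc]
        _ = (a * a) * (b⁻¹ * b⁻¹) := by group
        _ = (b * b) * (b⁻¹ * b⁻¹) := by rw [hsq]
        _ = 1 := by group
    set z := a * b⁻¹ with hz
    have haz : a = z * b := by rw [hz]; group
    rw [haz]
    have e1 : (z * b)⁻¹ * x⁻¹ * (z * b) * x = b⁻¹ * (z⁻¹ * (x⁻¹ * z)) * b * x := by group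
    rw [e1, Z0_central hab x⁻¹]
    group
  have K2 : ∀ a ∈ Nsub P, ∀ b ∈ Nsub P, ∀ x : P,
      (a * b)⁻¹ * x⁻¹ * (a * b) * x = (a⁻¹ * x⁻¹ * a * x) * (b⁻¹ * x⁻¹ * b * x) := by
    intro a ha b hb x
    have e1 : (a * b)⁻¹ * x⁻¹ * (a * b) * x
        = b⁻¹ * (a⁻¹ * x⁻¹ * a * x) * b * (b⁻¹ * x⁻¹ * b * x) := by
      group
    rw [e1, Z0_conj (Acm a ha x)]
  have K3 : ∀ a ∈ Nsub P, ∀ b ∈ Nsub P, aZ (a * b * (a * b)) = aZ (a * a) + aZ (b * b) := by
    intro a ha b hb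
    have hc : b * a = a * b := hEab b hb a ha
    have e1 : a * b * (a * b) = (a * a) * (b * b) := by
      calc a * b * (a * b) = a * (b * a) * b := by group
        _ = a * (a * b) * b := by rw [hc]
        _ = (a * a) * (b * b) := by group
    rw [e1, P1 _ (Asq a ha) _ (Asq b hb)]
  have K4 : ∀ a ∈ Nsub P, ∀ x y : P,
      a⁻¹ * (x * y)⁻¹ * a * (x * y) = (a⁻¹ * x⁻¹ * a * x) * (a⁻¹ * y⁻¹ * a * y) := by
    intro a ha x y
    have e1 : a⁻¹ * (x * y)⁻¹ * a * (x * y)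
        = (a⁻¹ * y⁻¹ * a * y) * (y⁻¹ * (a⁻¹ * x⁻¹ * a * x) * y) := by
      group
    rw [e1, Z0_conj (Acm a ha x)]
    exact Z0_central (Acm a ha x) _
  -- the additive maps `D_x`
  let Dm : P → (F →+ F) := fun x => AddMonoidHom.mk'
    (fun u => aZ ((sec u)⁻¹ * x⁻¹ * sec u * x)) (by
      intro u v
      have e := K1 (sec (u + v)) (hsecA _) (sec u * sec v) ((Nsub P).mul_mem (hsecA u) (hsecA v))
        (by rw [hsec, K3 _ (hsecA u) _ (hsecA v), hsec, hsec]) x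
      show aZ ((sec (u + v))⁻¹ * x⁻¹ * sec (u + v) * x) = _
      rw [e, K2 _ (hsecA u) _ (hsecA v), P1 _ (Acm _ (hsecA u) x) _ (Acm _ (hsecA v) x)])
  have hDm_apply : ∀ x u, Dm x u = aZ ((sec u)⁻¹ * x⁻¹ * sec u * x) := fun x u => rfl
  have hDm : ∀ x, ∀ a ∈ Nsub P, Dm x (aZ (a * a)) = aZ (a⁻¹ * x⁻¹ * a * x) := by
    intro x a ha
    rw [hDm_apply, K1 (sec (aZ (a * a))) (hsecA _) a ha (hsec _) x]
  obtain ⟨coef, hcoef, hcoef_uniq⟩ := exists_coef (F := F)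
  let c : (F ≃+* F) → P → F := fun τ x => coef (Dm x) τ
  have P5 : ∀ τ x y, c τ (x * y) = c τ x + c τ y := by
    intro τ x y
    have := hcoef_uniq (Dm (x * y)) (fun τ => coef (Dm x) τ + coef (Dm y) τ) (by
      intro u
      simp only [add_mul, Finset.sum_add_distrib]
      rw [← hcoef, ← hcoef, hDm_apply, hDm_apply, hDm_apply, K4 _ (hsecA u),
        P1 _ (Acm _ (hsecA u) x) _ (Acm _ (hsecA u) y)])
    exact (congrFun this τ).symm
  have P6 : ∀ τ, ∀ k ∈ Y, ∀ x, c τ (k x) = κ k * (τ (κ k))⁻¹ * σ k (c τ x) := by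
    intro τ k hk x
    have := hcoef_uniq (Dm (k x)) (fun τ => κ k * (τ (κ k))⁻¹ * σ k (coef (Dm x) τ)) (by
      intro u
      obtain ⟨a, ha, hau⟩ : ∃ a ∈ Nsub P, aZ (a * a) = (σ k).symm ((κ k)⁻¹ * u) :=
        ⟨_, hsecA _, hsec _⟩
      have hka : aZ (k a * k a) = u := by
        rw [← map_mul, zc.act k hk _ (Asq a ha), hau, RingEquiv.apply_symm_apply, ← mul_assoc,
          mul_inv_cancel₀ (zc.κ_ne k hk), one_mul]
      have e1 : (k a)⁻¹ * (k x)⁻¹ * k a * k x = k (a⁻¹ * x⁻¹ * a * x) := by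
        simp only [map_mul, map_inv]
      rw [← hka, hDm (k x) (k a) (Ainv k a ha), e1, zc.act k hk _ (Acm a ha x), ← hDm x a ha,
        hcoef (Dm x), map_sum, Finset.mul_sum, hka]
      apply Finset.sum_congr rfl
      intro τ' _
      rw [map_mul, ringAut_comm_apply (σ k) τ', hau, RingEquiv.apply_symm_apply, map_mul,
        map_inv₀]
      ring)
    exact (congrFun this τ).symm
  have P7 : ∀ x, ∀ a ∈ Nsub P,
      aZ (a⁻¹ * x⁻¹ * a * x) = ∑ τ : F ≃+* F, c τ x * τ (aZ (a * a)) := by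
    intro x a ha
    rw [← hDm x a ha, hcoef (Dm x)]
  exact ⟨c, ⟨h, zc, hEab, fun u => ⟨sec u, hsecA u, hsec u⟩, P5, P6, P7⟩⟩

end coords

end Cfsg.Agent.Lib.Helper98.Suz2
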