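import Mathlib
import Cfsg.Agent.Lib.Helper95.D4Iso.Defs
import Cfsg.Agent.Lib.Helper50.D4IsoGSiegel

/-!
# D4ISO [G-MEM]: root and Siegel elements as elements of `O₈⁺(F)` (helper98)
-/

set_option autoImplicit false

namespace Cfsg.Agent.Lib.Helper98.D4Iso

open Matrix Cfsg.Agent.Lib.Helper95.D4Iso

variable {F : Type*} [Field F]

theorem Qr_eq_quadFormPlus (v : I8 → F) : Qr v = Cfsg.quadFormPlus 4 F v := rfl

theorem mem_OG_iff (g : GL I8 F) :
    g ∈ OG F ↔ ∀ x : I8 → F, Qr ((g : Matrix I8 I8 F) *ᵥ x) = Qr x := by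
  constructor
  · intro h x
    exact h x x
  · intro h x _
    exact h x

theorem OG_ext (g h : ↥(OG F))
    (e : ((g : GL I8 F) : Matrix I8 I8 F) = ((h : GL I8 F) : Matrix I8 I8 F)) : g = h :=
  Subtype.ext (Units.ext e)

theorem h98_Qr_add {R : Type*} [CommRing R] (x y : I8 → R) :
    Qr (x + y) = Qr x + Qr y + Bf x y := by
  unfold Qr Bf
  rw [Fintype.sum_sum_type]
  simp only [Pi.add_apply, opp, Sum.swap_inl, Sum.swap_inr]
  rw [← Finset.sum_add_distrib, ← Finset.sum_add_distrib, ← Finset.sum_add_distrib]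
  apply Finset.sum_congr rfl
  intro i _
  ring

theorem Bf_OG (g : ↥(OG F)) (x y : I8 → F) :
    Bf (((g : GL I8 F) : Matrix I8 I8 F) *ᵥ x) (((g : GL I8 F) : Matrix I8 I8 F) *ᵥ y) = Bf x y := by
  have hg := (mem_OG_iff (g : GL I8 F)).1 g.2
  have h1 := h98_Qr_add (((g : GL I8 F) : Matrix I8 I8 F) *ᵥ x) (((g : GL I8 F) : Matrix I8 I8 F) *ᵥ y)
  have h2 := h98_Qr_add x y
  rw [← Matrix.mulVec_add, hg, hg, hg, h2] at h1
  linear_combination -h1

theorem exists_TO (u w : I8 → F) (hu : Qr u = 0) (huw : Bf u w = 0) :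
    ∃ g : ↥(OG F), ((g : GL I8 F) : Matrix I8 I8 F) = TM u w := by
  have huw' : Bf u (-w) = 0 := by
    have : (-w) = (-1 : F) • w := by simp
    rw [this, Cfsg.Agent.Lib.Helper50.D4Iso.Bf_smul_right, huw, mul_zero]
  have h1 : TM u w * TM u (-w) = 1 := by
    rw [Cfsg.Agent.Lib.Helper50.D4Iso.TM_mul u w (-w) hu huw huw', add_neg_cancel,
      Cfsg.Agent.Lib.Helper50.D4Iso.TM_zero]
  have h2 : TM u (-w) * TM u w = 1 := by
    rw [Cfsg.Agent.Lib.Helper50.D4Iso.TM_mul u (-w) w hu huw' huw, neg_add_cancel,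
      Cfsg.Agent.Lib.Helper50.D4Iso.TM_zero]
  refine ⟨⟨⟨TM u w, TM u (-w), h1, h2⟩, ?_⟩, rfl⟩
  rw [mem_OG_iff]
  intro x
  exact Cfsg.Agent.Lib.Helper50.D4Iso.Qr_TM u w hu huw x

theorem exists_xO (a b : I8) (h : Valid a b) (t : F) :
    ∃ g : ↥(OG F), ((g : GL I8 F) : Matrix I8 I8 F) = xM a b t := by
  rw [Cfsg.Agent.Lib.Helper50.D4Iso.xM_eq_TM a b h t]
  apply exists_TO
  · exact Cfsg.Agent.Lib.Helper50.D4Iso.Qr_eV a
  · rw [Cfsg.Agent.Lib.Helper50.D4Iso.Bf_smul_right, Cfsg.Agent.Lib.Helper50.D4Iso.Bf_eV_right,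
      opp_opp]
    have : (eV a : I8 → F) b = 0 := by
      unfold eV
      exact Pi.single_eq_of_ne (Ne.symm h.1) _
    rw [this, mul_zero]

end Cfsg.Agent.Lib.Helper98.D4Iso
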