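import Mathlib
import Cfsg.Agent.Lib.Helper95.D4Iso.Defs
import Cfsg.Agent.Lib.Helper50.D4IsoGSiegel
import Cfsg.Agent.Lib.Helper98.D4IsoGMem

/-!
# D4ISO [G-NORMAL]: the Siegel group is normal in `O₈⁺(F)`, `E0 ≤ ES` (helper98)
-/

set_option autoImplicit false

namespace Cfsg.Agent.Lib.Helper98.D4Iso

open Matrix Cfsg.Agent.Lib.Helper95.D4Iso

variable {F : Type*} [Field F]

/-- the generating set of `ES` is closed under conjugation -/
theorem h98_siegel_conj (h g : ↥(OG F)) (u w : I8 → F) (hu : Qr u = 0) (huw : Bf u w = 0)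
    (hg : ((g : GL I8 F) : Matrix I8 I8 F) = TM u w) :
    ∃ u' w' : I8 → F, Qr u' = 0 ∧ Bf u' w' = 0 ∧
      (((h * g * h⁻¹ : ↥(OG F)) : GL I8 F) : Matrix I8 I8 F) = TM u' w' := by
  have hh := (mem_OG_iff (h : GL I8 F)).1 h.2
  refine ⟨((h : GL I8 F) : Matrix I8 I8 F) *ᵥ u, ((h : GL I8 F) : Matrix I8 I8 F) *ᵥ w, ?_, ?_, ?_⟩
  · rw [hh, hu]
  · rw [Bf_OG, huw]
  · have h1 : ((h : GL I8 F) : Matrix I8 I8 F) * (((h⁻¹ : ↥(OG F)) : GL I8 F) : Matrix I8 I8 F) = 1 := by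
      have : (h * h⁻¹ : ↥(OG F)) = 1 := mul_inv_cancel h
      exact congrArg (fun z : ↥(OG F) => ((z : GL I8 F) : Matrix I8 I8 F)) this
    have h2 : (((h * g * h⁻¹ : ↥(OG F)) : GL I8 F) : Matrix I8 I8 F) =
        ((h : GL I8 F) : Matrix I8 I8 F) * ((g : GL I8 F) : Matrix I8 I8 F) *
          (((h⁻¹ : ↥(OG F)) : GL I8 F) : Matrix I8 I8 F) := rfl
    rw [h2, hg]
    exact Cfsg.Agent.Lib.Helper50.D4Iso.TM_conj _ _ hh h1 u w

theorem ES_normal : (ES F).Normal := by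
  constructor
  intro n hn h
  unfold ES at hn ⊢
  induction hn using Subgroup.closure_induction with
  | mem x hx =>
    obtain ⟨u, w, hu, huw, hx⟩ := hx
    exact Subgroup.subset_closure (h98_siegel_conj h x u w hu huw hx)
  | one =>
    rw [mul_one, mul_inv_cancel]
    exact Subgroup.one_mem _
  | mul x y _ _ hx hy =>
    have : h * (x * y) * h⁻¹ = (h * x * h⁻¹) * (h * y * h⁻¹) := by group
    rw [this]
    exact Subgroup.mul_mem _ hx hy
  | inv x _ hx =>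
    have : h * x⁻¹ * h⁻¹ = (h * x * h⁻¹)⁻¹ := by group
    rw [this]
    exact Subgroup.inv_mem _ hx

theorem E0_le_ES : E0 F ≤ ES F := by
  unfold E0 ES
  rw [Subgroup.closure_le]
  rintro g ⟨a, b, hab, t, hg⟩
  apply Subgroup.subset_closure
  refine ⟨eV a, (-t) • eV (opp b), Cfsg.Agent.Lib.Helper50.D4Iso.Qr_eV a, ?_, ?_⟩
  · rw [Cfsg.Agent.Lib.Helper50.D4Iso.Bf_smul_right, Cfsg.Agent.Lib.Helper50.D4Iso.Bf_eV_right,
      opp_opp]
    have : (eV a : I8 → F) b = 0 := by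
      unfold eV
      exact Pi.single_eq_of_ne (Ne.symm hab.1) _
    rw [this, mul_zero]
  · rw [hg, Cfsg.Agent.Lib.Helper50.D4Iso.xM_eq_TM a b hab t]

theorem E0S_le_E0 (S : Finset (Fin 4)) : E0S F S ≤ E0 F := by
  unfold E0S E0
  apply Subgroup.closure_mono
  rintro g ⟨a, b, hab, -, -, t, hg⟩
  exact ⟨a, b, hab, t, hg⟩

theorem E0S_mono {S T : Finset (Fin 4)} (h : S ⊆ T) : E0S F S ≤ E0S F T := by
  unfold E0S
  apply Subgroup.closure_mono
  rintro g ⟨a, b, hab, ha, hb, t, hg⟩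
  exact ⟨a, b, hab, h ha, h hb, t, hg⟩

end Cfsg.Agent.Lib.Helper98.D4Iso
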