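import Mathlib
import Cfsg.Agent.Lib.Helper95.D4Iso.Defs

/-!
# D4ISO [G-FIX]: elements of `E0S S` fix the basis vectors of level outside `S` (helper98)
-/

set_option autoImplicit false

namespace Cfsg.Agent.Lib.Helper98.D4Iso

open Matrix Cfsg.Agent.Lib.Helper95.D4Iso

variable {F : Type*} [Field F]

theorem h98_lvl_opp (a : I8) : lvl (opp a) = lvl a := by
  rcases a with a | a <;> rfl

theorem h98_eM_mulVec_eV {R : Type*} [CommRing R] (a b c : I8) (h1 : c ≠ b) (h2 : c ≠ opp a) :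
    (eM a b : Matrix I8 I8 R) *ᵥ eV c = 0 := by
  unfold eM eV
  rw [Matrix.sub_mulVec]
  have e1 : (Matrix.single a b (1 : R)) *ᵥ Pi.single c 1 = 0 := by
    ext i
    simp [Matrix.mulVec_single, h1.symm]
  have e2 : (Matrix.single (opp b) (opp a) (1 : R)) *ᵥ Pi.single c 1 = 0 := by
    ext i
    simp [Matrix.mulVec_single, h2.symm]
  rw [e1, e2, sub_zero]

theorem E0S_fix (S : Finset (Fin 4)) (g : ↥(OG F)) (hg : g ∈ E0S F S) (c : I8) (hc : lvl c ∉ S) :
    ((g : GL I8 F) : Matrix I8 I8 F) *ᵥ eV c = eV c := by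
  unfold E0S at hg
  induction hg using Subgroup.closure_induction with
  | mem x hx =>
    obtain ⟨a, b, hab, ha, hb, t, hx⟩ := hx
    rw [hx]
    unfold xM
    rw [Matrix.add_mulVec, Matrix.one_mulVec, Matrix.smul_mulVec, h98_eM_mulVec_eV, smul_zero,
      add_zero]
    · rintro rfl
      exact hc hb
    · rintro rfl
      rw [h98_lvl_opp] at hc
      exact hc ha
  | one => simp
  | mul x y _ _ hx hy =>
    have : (((x * y : ↥(OG F)) : GL I8 F) : Matrix I8 I8 F) =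
        ((x : GL I8 F) : Matrix I8 I8 F) * ((y : GL I8 F) : Matrix I8 I8 F) := rfl
    rw [this, ← Matrix.mulVec_mulVec, hy, hx]
  | inv x _ hx =>
    have h1 : (((x⁻¹ : ↥(OG F)) : GL I8 F) : Matrix I8 I8 F) * ((x : GL I8 F) : Matrix I8 I8 F) = 1 := by
      have : (x⁻¹ * x : ↥(OG F)) = 1 := inv_mul_cancel x
      have h2 := congrArg (fun z : ↥(OG F) => ((z : GL I8 F) : Matrix I8 I8 F)) this
      exact h2
    calc (((x⁻¹ : ↥(OG F)) : GL I8 F) : Matrix I8 I8 F) *ᵥ eV c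
        = (((x⁻¹ : ↥(OG F)) : GL I8 F) : Matrix I8 I8 F) *ᵥ
            (((x : GL I8 F) : Matrix I8 I8 F) *ᵥ eV c) := by rw [hx]
      _ = eV c := by rw [Matrix.mulVec_mulVec, h1, Matrix.one_mulVec]

end Cfsg.Agent.Lib.Helper98.D4Iso
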