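import Mathlib
import Cfsg.Prelude.Def_Local
import Cfsg.Prelude.Def_Transfer
import Cfsg.Agent.Lib.Helper41.PGV.Defs
import Cfsg.Agent.Lib.Helper22.Components
import Cfsg.Agent.Lib.Helper61.PGV.Podd
import Cfsg.Agent.Lib.Helper95.PgvT5

/-!
# Project PGV (S3086), sub-project RED, leaf PGV-[ODD-ASM] (helper98), `_of` form

`ce_false_odd_of`: `p` odd, no minimal counterexample.  Hypotheses = the sheet statements of
[T4-REP] `timmesfeld_rep`, [RED-Q] `red_Q` and [RED-D-COR] `comm_gen` (for this `G`, `ρ`, `A`, `K1`, `a`).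
Uses helper61's `podd_rep`, `eq_bot_of_perfect_of_pow` and helper95's `components_commute`.
-/

set_option autoImplicit false
set_option linter.unusedSectionVars false
set_option linter.unusedVariables false

universe v

namespace Cfsg.Agent.Lib.Helper98.PGV

open Cfsg Cfsg.Agent.Lib.Helper41.PGV

variable {p : ℕ} [Fact p.Prime] {G V : Type v} [Group G] [Finite G] [AddCommGroup V] [Finite V]
  [Module (ZMod p) V] {ρ : Representation (ZMod p) G V} {A K1 : Subgroup G} {a : G}

/-- **[ODD-ASM]** in `_of` form -/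
theorem ce_false_odd_of (hp : p ≠ 2) (h : CE ρ A K1 a)
    (hT4 : A ≠ ⊥ → ∃ Q : Subgroup G, (∀ q, q ∈ Q ↔ q ∈ A ∧ QuadOn ρ A q) ∧ Q ≠ ⊥ ∧ BestOffender ρ Q)
    (hredQ : ∀ q : G, q ∈ A → QuadOn ρ A q → q ∈ Subgroup.normalizer (K1 : Set G))
    (hcg : ∀ q : G, q ∈ A → q ≠ 1 → q ∈ Subgroup.normalizer (K1 : Set G) →
      K1 ≤ Subgroup.closure {u | ∃ x ∈ K1, u = q⁻¹ * x⁻¹ * q * x}) : False := by
  -- `A ≠ 1`
  have hA : A ≠ ⊥ := by
    intro hbot
    have ha1 : a = 1 := by
      have := h.mem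
      rwa [hbot, Subgroup.mem_bot] at this
    apply h.move
    rw [ha1]
    ext y
    constructor
    · rintro ⟨z, hz, rfl⟩
      simpa using hz
    · intro hy
      exact ⟨y, hy, by simp⟩
  obtain ⟨Q, hQ, hQne, -⟩ := hT4 hA
  obtain ⟨q, hqQ, hq1⟩ : ∃ q ∈ Q, q ≠ 1 := by
    by_contra hcon
    push Not at hcon
    exact hQne ((Subgroup.eq_bot_iff_forall _).2 hcon)
  obtain ⟨hqA, hquad⟩ := (hQ q).1 hqQ
  have hqN := hredQ q hqA hquad
  have hgen := hcg q hqA hq1 hqN
  -- `K1 ^ a` is a component different from `K1`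
  have hKa : IsComponent (K1.map (MulAut.conj a).toMonoidHom) :=
    Cfsg.Agent.Lib.Helper22.component_conj h.comp a
  have hcomm : ∀ x ∈ K1, ∀ y ∈ K1, x * (a * y * a⁻¹) = (a * y * a⁻¹) * x := by
    intro x hx y hy
    exact components_commute h.comp hKa (Ne.symm h.move) x hx _
      ⟨y, hy, by simp [MulAut.conj_apply]⟩
  -- `q` and `a` commute
  have hqa : q * a = a * q := by
    have hc : IsMulCommutative A := h.el.1
    have h1 : (⟨q, hqA⟩ : A) * ⟨a, h.mem⟩ = ⟨a, h.mem⟩ * ⟨q, hqA⟩ := hc.is_comm.comm _ _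
    have h2 := congrArg Subtype.val h1
    simpa using h2
  have hρqa : ρ q * ρ a = ρ a * ρ q := by rw [← map_mul, ← map_mul, hqa]
  have hqq : (ρ q - 1) * (ρ q - 1) = 0 := hquad q hqA
  have hqam : (ρ q - 1) * (ρ a - 1) = 0 := hquad a h.mem
  have haq : (ρ a - 1) * (ρ q - 1) = 0 := by
    have e : (ρ a - 1) * (ρ q - 1) = (ρ q - 1) * (ρ a - 1) := by
      rw [sub_mul, mul_sub, mul_sub, sub_mul, mul_sub, mul_sub, hρqa]
      simp only [mul_one, one_mul]
      abel
    rw [e, hqam]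
  have hquad' : ∀ v, ρ q (ρ q v - v) = ρ q v - v := by
    intro v
    have := congrArg (fun f : Module.End (ZMod p) V => f v) hqq
    simp only [Module.End.mul_apply, LinearMap.sub_apply, Module.End.one_apply,
      LinearMap.zero_apply] at this
    exact sub_eq_zero.1 this
  have hT4' : ∀ v, ρ a (ρ q v - v) = ρ q v - v := by
    intro v
    have := congrArg (fun f : Module.End (ZMod p) V => f v) haq
    simp only [Module.End.mul_apply, LinearMap.sub_apply, Module.End.one_apply,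
      LinearMap.zero_apply] at this
    exact sub_eq_zero.1 this
  have hqN1 : ∀ x ∈ K1, q * x * q⁻¹ ∈ K1 := by
    intro x hx
    exact (Subgroup.mem_normalizer_iff.1 hqN x).1 hx
  have hqN2 : ∀ x ∈ K1, q⁻¹ * x * q ∈ K1 := by
    intro x hx
    have := (Subgroup.mem_normalizer_iff.1 (Subgroup.inv_mem _ hqN) x).1 hx
    simpa using this
  have hpow := Cfsg.Agent.Lib.Helper61.PGV.podd_rep hp ρ h.inj K1 a q hcomm hqa hquad' hqN1 hqN2
    hgen hT4'
  have hbot := Cfsg.Agent.Lib.Helper61.PGV.eq_bot_of_perfect_of_pow p K1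
    (Cfsg.Agent.Lib.Helper22.component_commutator_self h.comp) hpow
  exact Cfsg.Agent.Lib.Helper22.component_ne_bot h.comp hbot

end Cfsg.Agent.Lib.Helper98.PGV
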