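import Mathlib
import Cfsg.Agent.Lib.Helper82.SLDZ.Defs
import Cfsg.Prelude.Def_Solvable

/-!
# S4538: conjugation by permutation matrices, diagonal parts of triangular matrices (helper98)
-/

set_option autoImplicit false

open Cfsg Matrix
open scoped MatrixGroups ComplexConjugate
open Cfsg.Agent.Lib.Helper79.BrauerN (linFun)
open Cfsg.Agent.Lib.Helper5.GLU (permGL)
open Cfsg.Agent.Lib.Helper82.SLDZ

namespace Cfsg.Agent.Lib.Helper98.SLDZ

variable {F : Type*} [Field F] {n : ℕ}

theorem h98_permGL_apply (w : Equiv.Perm (Fin n)) (i j : Fin n) :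
    ((permGL (F := F) w : GL (Fin n) F) : Matrix (Fin n) (Fin n) F) i j =
      if i = w j then 1 else 0 := Cfsg.Agent.Lib.Helper5.GLU.permGL_apply w i j

/-- `(ẇ⁻¹ h ẇ)_{kl} = h_{w k, w l}` -/
theorem h98_conj_perm_apply (w : Equiv.Perm (Fin n)) (h : GL (Fin n) F) (k l : Fin n) :
    (((permGL w)⁻¹ * h * permGL w : GL (Fin n) F) : Matrix (Fin n) (Fin n) F) k l =
      (h : Matrix (Fin n) (Fin n) F) (w k) (w l) := by
  rw [← map_inv, Units.val_mul, Units.val_mul, Matrix.mul_apply]
  have h1 : ∀ b : Fin n, ((permGL (F := F) w : GL (Fin n) F) : Matrix (Fin n) (Fin n) F) b l =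
      if b = w l then 1 else 0 := fun b => h98_permGL_apply w b l
  simp only [h1, mul_ite, mul_one, mul_zero, Finset.sum_ite_eq', Finset.mem_univ, if_true]
  rw [Matrix.mul_apply]
  have h2 : ∀ a : Fin n, ((permGL (F := F) w⁻¹ : GL (Fin n) F) : Matrix (Fin n) (Fin n) F) k a =
      if a = w k then 1 else 0 := by
    intro a
    rw [h98_permGL_apply]
    by_cases ha : a = w k
    · rw [if_pos ha, if_pos]
      rw [ha]
      simp
    · rw [if_neg ha, if_neg]
      intro hk
      apply ha
      rw [hk]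
      simp
  simp only [h2, ite_mul, one_mul, zero_mul, Finset.sum_ite_eq', Finset.mem_univ, if_true]

/-- diagonal entries of an invertible upper triangular matrix are nonzero -/
theorem h98_diag_ne_zero (b : GL (Fin n) F) (hb : b ∈ upperTriangularGL n F) (i : Fin n) :
    (b : Matrix (Fin n) (Fin n) F) i i ≠ 0 := by
  have hdet : (b : Matrix (Fin n) (Fin n) F).det ≠ 0 := by
    have := (Matrix.isUnit_iff_isUnit_det _).1 b.isUnit
    exact this.ne_zero
  have hT : (b : Matrix (Fin n) (Fin n) F).BlockTriangular id := hb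
  rw [Matrix.det_of_isUpperTriangular hT] at hdet
  intro h0
  apply hdet
  exact Finset.prod_eq_zero (Finset.mem_univ i) h0

/-- the diagonal matrix with entries `d` as an element of `GL_n` -/
noncomputable def h98_diagGL (d : Fin n → F) (hd : ∀ i, d i ≠ 0) : GL (Fin n) F :=
  Matrix.GeneralLinearGroup.mkOfDetNeZero (Matrix.diagonal d) (by
    rw [Matrix.det_diagonal]
    exact Finset.prod_ne_zero_iff.2 (fun i _ => hd i))

theorem h98_diagGL_coe (d : Fin n → F) (hd : ∀ i, d i ≠ 0) :
    ((h98_diagGL d hd : GL (Fin n) F) : Matrix (Fin n) (Fin n) F) = Matrix.diagonal d := rfl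

theorem h98_diagGL_mul_inv (d : Fin n → F) (hd : ∀ i, d i ≠ 0) :
    h98_diagGL d hd * h98_diagGL (fun i => (d i)⁻¹) (fun i => inv_ne_zero (hd i)) = 1 := by
  apply Units.ext
  rw [Units.val_mul, h98_diagGL_coe, h98_diagGL_coe, Matrix.diagonal_mul_diagonal, Units.val_one,
    ← Matrix.diagonal_one]
  congr 1
  funext i
  exact mul_inv_cancel₀ (hd i)

theorem h98_diagGL_inv_mul (d : Fin n → F) (hd : ∀ i, d i ≠ 0) :
    h98_diagGL (fun i => (d i)⁻¹) (fun i => inv_ne_zero (hd i)) * h98_diagGL d hd = 1 := by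
  apply Units.ext
  rw [Units.val_mul, h98_diagGL_coe, h98_diagGL_coe, Matrix.diagonal_mul_diagonal, Units.val_one,
    ← Matrix.diagonal_one]
  congr 1
  funext i
  exact inv_mul_cancel₀ (hd i)

/-- a conjugate of a diagonal matrix by a permutation matrix is upper triangular -/
theorem h98_perm_diag_mem (w : Equiv.Perm (Fin n)) (d : Fin n → F) (hd : ∀ i, d i ≠ 0) :
    permGL w * h98_diagGL d hd * (permGL w)⁻¹ ∈ upperTriangularGL n F := by
  have e : permGL (F := F) w * h98_diagGL d hd * (permGL w)⁻¹ =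
      (permGL (F := F) w⁻¹)⁻¹ * h98_diagGL d hd * permGL w⁻¹ := by
    rw [map_inv, inv_inv]
  rw [e]
  intro i j hij
  have hij' : j < i := hij
  show ((((permGL (F := F) w⁻¹)⁻¹ * h98_diagGL d hd * permGL w⁻¹ : GL (Fin n) F)) :
    Matrix (Fin n) (Fin n) F) i j = 0
  rw [h98_conj_perm_apply, h98_diagGL_coe, Matrix.diagonal_apply_ne]
  intro h
  exact (ne_of_gt hij') ((w⁻¹).injective h)

/-- an upper triangular matrix is (diagonal) * (unitriangular) -/
theorem h98_exists_diag_unitri (b : GL (Fin n) F) (hb : b ∈ upperTriangularGL n F) :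
    ∃ (d : Fin n → F) (hd : ∀ i, d i ≠ 0), ∃ u ∈ unitriGL n F, b = h98_diagGL d hd * u := by
  have hd : ∀ i, (b : Matrix (Fin n) (Fin n) F) i i ≠ 0 := h98_diag_ne_zero b hb
  refine ⟨fun i => (b : Matrix (Fin n) (Fin n) F) i i, hd,
    h98_diagGL (fun i => ((b : Matrix (Fin n) (Fin n) F) i i)⁻¹) (fun i => inv_ne_zero (hd i)) * b,
    ?_, ?_⟩
  · rw [mem_unitriGL]
    intro i j hji
    rw [Units.val_mul, h98_diagGL_coe, Matrix.diagonal_mul]
    rcases lt_or_eq_of_le hji with h | h
    · have hT : (b : Matrix (Fin n) (Fin n) F).BlockTriangular id := hb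
      rw [hT (show id j < id i from h), mul_zero, Matrix.one_apply_ne (ne_of_gt h)]
    · subst h
      rw [Matrix.one_apply_eq]
      exact inv_mul_cancel₀ (hd j)
  · rw [← mul_assoc, h98_diagGL_mul_inv, one_mul]

end Cfsg.Agent.Lib.Helper98.SLDZ
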