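import Mathlib
import Cfsg.Agent.Lib.Helper82.SLDZ.Defs
import Cfsg.Prelude.Def_Solvable
import Cfsg.Agent.Lib.Helper5.GLURank
import Cfsg.Agent.Lib.Helper26.IrrFacts
import Cfsg.Agent.Lib.Helper98.SLDZPerm
import Cfsg.Agent.Lib.Helper23.SLDZMack

/-!
# S4538-[M1]: principal series do not depend on the order of the characters (helper98)
-/

set_option autoImplicit false
set_option linter.unusedSectionVars false

open Cfsg Matrix
open scoped MatrixGroups ComplexConjugate
open Cfsg.Agent.Lib.Helper79.BrauerN (linFun)
open Cfsg.Agent.Lib.Helper5.GLU (permGL)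
open Cfsg.Agent.Lib.Helper82.SLDZ

namespace Cfsg.Agent.Lib.Helper98.SLDZ

variable {F : Type*} [Field F] [Fintype F] {n : ℕ}

theorem h98_permGL_injective : Function.Injective (permGL (F := F) (n := n)) := by
  intro w w' h
  ext j
  have h1 : ((permGL (F := F) w : GL (Fin n) F) : Matrix (Fin n) (Fin n) F) (w j) j = 1 := by
    rw [h98_permGL_apply, if_pos rfl]
  rw [h, h98_permGL_apply] at h1
  by_cases hj : w j = w' j
  · rw [hj]
  · rw [if_neg hj] at h1
    exact absurd h1 zero_ne_one

/-- uniqueness in the Bruhat decomposition -/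
theorem h98_bruhat_unique (w w' : Equiv.Perm (Fin n)) (b b' : GL (Fin n) F)
    (hb : b ∈ upperTriangularGL n F) (hb' : b' ∈ upperTriangularGL n F)
    (h : permGL (F := F) w' = b * permGL w * b') : w = w' := by
  have hT : ∀ c : GL (Fin n) F, c ∈ upperTriangularGL n F →
      (c : Matrix (Fin n) (Fin n) F).BlockTriangular (fun i : Fin n => (i : ℕ)) := by
    intro c hc i j hij
    exact hc (show id j < id i from hij)
  have hrho := Cfsg.Agent.Lib.Helper5.GLU.rho_eq_of_mem_doubleCoset
    (fun i : Fin n => (i : ℕ)) (fun i : Fin n => (i : ℕ)) w w' b b' (hT b hb) (hT b' hb') h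
  ext j
  have hcard := Cfsg.Agent.Lib.Helper5.GLU.card_eq_of_rho_eq
    (fun i : Fin n => (i : ℕ)) (fun i : Fin n => (i : ℕ)) w w' hrho (w j).val j.val
  have hpos : 0 < (Finset.univ.filter fun j' : Fin n =>
      (j' : ℕ) = j.val ∧ ((w j' : Fin n) : ℕ) = (w j).val).card := by
    apply Finset.card_pos.2
    exact ⟨j, by simp⟩
  rw [← hcard] at hpos
  obtain ⟨j', hj'⟩ := Finset.card_pos.1 hpos
  simp only [Finset.mem_filter, Finset.mem_univ, true_and] at hj'
  have : j' = j := Fin.ext hj'.1
  rw [this] at hj'
  exact congrArg Fin.val (Fin.ext hj'.2).symm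

/-- the compatibility condition at `ẇ` for two diagonal characters -/
theorem h98_compat_iff (θ θ' : Fin n → MulChar F ℂ) (v : Equiv.Perm (Fin n)) :
    Compat (borelHom θ) (borelHom θ') (permGL (F := F) v) ↔ θ ∘ v = θ' := by
  classical
  constructor
  · intro hc
    funext k
    ext a
    -- the diagonal matrix with `a` at position `v k`
    set d : Fin n → F := fun i => if i = v k then (a : F) else 1 with hd_def
    have hd : ∀ i, d i ≠ 0 := by
      intro i
      rw [hd_def]
      by_cases hi : i = v k
      · simp only [if_pos hi]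
        exact a.ne_zero
      · simp only [if_neg hi]
        exact one_ne_zero
    have hmem : h98_diagGL d hd ∈ upperTriangularGL n F := by
      intro i j hij
      have hij' : j < i := hij
      show ((h98_diagGL d hd : GL (Fin n) F) : Matrix (Fin n) (Fin n) F) i j = 0
      rw [h98_diagGL_coe, Matrix.diagonal_apply_ne _ (ne_of_gt hij')]
    have hentry : ∀ x y : Fin n,
        (((permGL v)⁻¹ * h98_diagGL d hd * permGL v : GL (Fin n) F) :
          Matrix (Fin n) (Fin n) F) x y = if x = y then d (v x) else 0 := by
      intro x y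
      rw [h98_conj_perm_apply, h98_diagGL_coe, Matrix.diagonal_apply]
      by_cases hxy : x = y
      · rw [if_pos hxy, if_pos (by rw [hxy])]
      · rw [if_neg hxy, if_neg (fun h => hxy (v.injective h))]
    have hmem' : (permGL v)⁻¹ * h98_diagGL d hd * permGL v ∈ upperTriangularGL n F := by
      intro i j hij
      have hij' : j < i := hij
      show (((permGL v)⁻¹ * h98_diagGL d hd * permGL v : GL (Fin n) F) :
          Matrix (Fin n) (Fin n) F) i j = 0
      rw [hentry, if_neg (ne_of_gt hij')]
    have h1 := hc _ hmem hmem'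
    have h2 : ((borelHom θ ⟨_, hmem⟩ : ℂˣ) : ℂ) = θ (v k) a := by
      show borelFun θ ⟨_, hmem⟩ = θ (v k) a
      unfold borelFun
      rw [Finset.prod_eq_single (v k)]
      · show θ (v k) (((h98_diagGL d hd : GL (Fin n) F) : Matrix (Fin n) (Fin n) F) (v k) (v k)) = _
        rw [h98_diagGL_coe, Matrix.diagonal_apply_eq, hd_def]
        simp
      · intro i _ hi
        show θ i (((h98_diagGL d hd : GL (Fin n) F) : Matrix (Fin n) (Fin n) F) i i) = 1
        rw [h98_diagGL_coe, Matrix.diagonal_apply_eq, hd_def]
        simp [hi]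
      · intro h
        exact absurd (Finset.mem_univ _) h
    have h3 : ((borelHom θ' ⟨_, hmem'⟩ : ℂˣ) : ℂ) = θ' k a := by
      show borelFun θ' ⟨_, hmem'⟩ = θ' k a
      unfold borelFun
      rw [Finset.prod_eq_single k]
      · show θ' k ((((permGL v)⁻¹ * h98_diagGL d hd * permGL v : GL (Fin n) F) :
          Matrix (Fin n) (Fin n) F) k k) = _
        rw [hentry, if_pos rfl, hd_def]
        simp
      · intro i _ hi
        show θ' i ((((permGL v)⁻¹ * h98_diagGL d hd * permGL v : GL (Fin n) F) :
          Matrix (Fin n) (Fin n) F) i i) = 1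
        rw [hentry, if_pos rfl, hd_def]
        have : v i ≠ v k := fun h => hi (v.injective h)
        simp [this]
      · intro h
        exact absurd (Finset.mem_univ _) h
    show (θ ∘ v) k a = θ' k a
    rw [Function.comp_apply, ← h2, ← h3, h1]
  · intro hθ h hh hk
    apply Units.ext
    show borelFun θ ⟨h, hh⟩ = borelFun θ' ⟨(permGL v)⁻¹ * h * permGL v, hk⟩
    unfold borelFun
    rw [← hθ, ← Equiv.prod_comp v (fun i => (θ i) ((h : Matrix (Fin n) (Fin n) F) i i))]
    apply Finset.prod_congr rfl
    intro k _
    show _ = (θ ∘ v) k ((((permGL v)⁻¹ * h * permGL v : GL (Fin n) F) :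
      Matrix (Fin n) (Fin n) F) k k)
    rw [h98_conj_perm_apply]
    rfl

open Classical in
/-- the intertwining number of two principal series -/
theorem h98_inner_borel [Fintype (GL (Fin n) F)] (θ θ' : Fin n → MulChar F ℂ) :
    classInner (indFun (upperTriangularGL n F) (borelFun θ))
        (indFun (upperTriangularGL n F) (borelFun θ')) =
      ((Finset.univ.filter (fun v : Equiv.Perm (Fin n) => θ ∘ v = θ')).card : ℂ) := by
  have h := Cfsg.Agent.Lib.Helper23.SLDZMack.mackey_count (upperTriangularGL n F)
    (upperTriangularGL n F) (borelHom θ) (borelHom θ')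
    (Finset.univ.image (permGL (F := F) (n := n))) (by
      intro g
      obtain ⟨b, hb, w, b', hb', hg⟩ := Cfsg.Agent.Lib.Helper5.GLU.bruhat g
      exact ⟨permGL w, Finset.mem_image.2 ⟨w, Finset.mem_univ _, rfl⟩, b, hb, b', hb', hg⟩) (by
      intro r hr r' hr' hrr
      obtain ⟨w, -, rfl⟩ := Finset.mem_image.1 hr
      obtain ⟨w', -, rfl⟩ := Finset.mem_image.1 hr'
      obtain ⟨b, hb, b', hb', hbb⟩ := hrr
      rw [h98_bruhat_unique w w' b b' hb hb' hbb])
  rw [linFun_borelHom, linFun_borelHom] at h
  rw [h, Finset.filter_image, Finset.card_image_of_injective _ h98_permGL_injective]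
  congr 2
  ext v
  simp only [Finset.mem_filter, Finset.mem_univ, true_and]
  exact h98_compat_iff θ θ' v

theorem h98_eq_zero_of_classInner_self {G : Type*} [Group G] [Fintype G] (f : G → ℂ)
    (h : classInner f f = 0) : f = 0 := by
  unfold classInner at h
  have hG : (Nat.card G : ℂ)⁻¹ ≠ 0 := by
    apply inv_ne_zero
    exact_mod_cast (Nat.card_pos (α := G)).ne'
  have h1 : ∑ g : G, f g * conj (f g) = 0 := by
    rcases mul_eq_zero.1 h with h | h
    · exact absurd h hG
    · exact h
  have h2 : ∑ g : G, Complex.normSq (f g) = 0 := by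
    have : (∑ g : G, f g * conj (f g)) = ((∑ g : G, Complex.normSq (f g) : ℝ) : ℂ) := by
      push_cast
      apply Finset.sum_congr rfl
      intro g _
      rw [Complex.mul_conj]
    rw [this] at h1
    exact_mod_cast h1
  funext g
  have h3 := (Finset.sum_eq_zero_iff_of_nonneg (fun g _ => Complex.normSq_nonneg (f g))).1 h2 g
    (Finset.mem_univ g)
  exact Complex.normSq_eq_zero.1 h3

open Classical in
/-- MODULE S4538-[M1] -/
theorem indFun_borelFun_comp_perm [Fintype (GL (Fin n) F)] (θ : Fin n → MulChar F ℂ)
    (w : Equiv.Perm (Fin n)) :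
    indFun (upperTriangularGL n F) (borelFun (θ ∘ w)) =
      indFun (upperTriangularGL n F) (borelFun θ) := by
  have h11 := h98_inner_borel θ θ
  have h12 := h98_inner_borel θ (θ ∘ w)
  have h21 := h98_inner_borel (θ ∘ w) θ
  have h22 := h98_inner_borel (θ ∘ w) (θ ∘ w)
  have c12 : (Finset.univ.filter (fun v : Equiv.Perm (Fin n) => θ ∘ v = θ ∘ w)).card =
      (Finset.univ.filter (fun v : Equiv.Perm (Fin n) => θ ∘ v = θ)).card := by
    apply Finset.card_equiv (Equiv.mulRight w⁻¹)
    intro v
    simp only [Finset.mem_filter, Finset.mem_univ, true_and, Equiv.coe_mulRight]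
    constructor
    · intro h
      funext x
      have := congrFun h (w⁻¹ x)
      simpa using this
    · intro h
      funext x
      have := congrFun h (w x)
      simpa using this
  have c21 : (Finset.univ.filter (fun v : Equiv.Perm (Fin n) => (θ ∘ w) ∘ v = θ)).card =
      (Finset.univ.filter (fun v : Equiv.Perm (Fin n) => θ ∘ v = θ)).card := by
    apply Finset.card_equiv (Equiv.mulLeft w)
    intro v
    simp only [Finset.mem_filter, Finset.mem_univ, true_and, Equiv.coe_mulLeft]
    constructor
    · intro h
      funext x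
      have := congrFun h x
      simpa using this
    · intro h
      funext x
      have := congrFun h x
      simpa using this
  have c22 : (Finset.univ.filter (fun v : Equiv.Perm (Fin n) => (θ ∘ w) ∘ v = θ ∘ w)).card =
      (Finset.univ.filter (fun v : Equiv.Perm (Fin n) => θ ∘ v = θ)).card := by
    apply Finset.card_equiv ((Equiv.mulLeft w).trans (Equiv.mulRight w⁻¹))
    intro v
    simp only [Finset.mem_filter, Finset.mem_univ, true_and, Equiv.trans_apply, Equiv.coe_mulLeft,
      Equiv.coe_mulRight]
    constructor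
    · intro h
      funext x
      have := congrFun h (w⁻¹ x)
      simpa using this
    · intro h
      funext x
      have := congrFun h (w x)
      simpa using this
  rw [c12] at h12
  rw [c21] at h21
  rw [c22] at h22
  have hz : classInner
      (indFun (upperTriangularGL n F) (borelFun (θ ∘ w)) -
        indFun (upperTriangularGL n F) (borelFun θ))
      (indFun (upperTriangularGL n F) (borelFun (θ ∘ w)) -
        indFun (upperTriangularGL n F) (borelFun θ)) = 0 := by
    rw [Cfsg.Agent.Lib.Helper26.classInner_sub_left, Cfsg.Agent.Lib.Helper26.classInner_sub_right,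
      Cfsg.Agent.Lib.Helper26.classInner_sub_right, h11, h12, h21, h22]
    ring
  have := h98_eq_zero_of_classInner_self _ hz
  exact sub_eq_zero.1 this

end Cfsg.Agent.Lib.Helper98.SLDZ
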