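import Mathlib
import Cfsg.Agent.Lib.Helper82.SLDZ.Defs
import Cfsg.Prelude.Def_Solvable
import Cfsg.Agent.Lib.Helper98.SLDZPerm
import Cfsg.Agent.Lib.Helper23.SLDZMack

/-!
# S4538-[M2]: principal series and Gelfand–Graev characters have at most one common constituent
(helper98)
-/

set_option autoImplicit false
set_option linter.unusedSectionVars false

open Cfsg Matrix
open scoped MatrixGroups ComplexConjugate
open Cfsg.Agent.Lib.Helper79.BrauerN (linFun)
open Cfsg.Agent.Lib.Helper5.GLU (permGL)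
open Cfsg.Agent.Lib.Helper82.SLDZ

namespace Cfsg.Agent.Lib.Helper98.SLDZ

variable {F : Type*} [Field F] [Fintype F] {n : ℕ}

/-- `GL_n = ⋃_w B ẇ U` -/
theorem h98_cover_BU (g : GL (Fin n) F) :
    ∃ w : Equiv.Perm (Fin n), ∃ h ∈ upperTriangularGL n F, ∃ k ∈ unitriGL n F,
      g = h * permGL w * k := by
  obtain ⟨b, hb, w, b', hb', rfl⟩ := Cfsg.Agent.Lib.Helper5.GLU.bruhat g
  obtain ⟨d, hd, u, hu, rfl⟩ := h98_exists_diag_unitri b' hb'
  refine ⟨w, b * (permGL w * h98_diagGL d hd * (permGL w)⁻¹),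
    Subgroup.mul_mem _ hb (h98_perm_diag_mem w d hd), u, hu, ?_⟩
  group

/-- a strictly decreasing self-map of `Fin n` (on successive indices) is `i ↦ n - 1 - i` -/
theorem h98_anti_val (w : Fin n → Fin n)
    (hw : ∀ (k : Fin n) (h : k.val + 1 < n), w ⟨k.val + 1, h⟩ < w k) (k : Fin n) :
    (w k).val + k.val + 1 = n := by
  have hub : ∀ (m : ℕ) (hm : m < n), (w ⟨m, hm⟩).val + m + 1 ≤ n := by
    intro m
    induction m with
    | zero =>
      intro hm
      have := (w ⟨0, hm⟩).isLt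
      omega
    | succ m ih =>
      intro hm
      have h1 := ih (by omega)
      have h2 := hw ⟨m, by omega⟩ hm
      have h3 : (w ⟨m + 1, hm⟩).val < (w ⟨m, by omega⟩).val := h2
      omega
  have hlb : ∀ (m : ℕ) (hm : m < n), m ≤ (w ⟨n - 1 - m, by omega⟩).val := by
    intro m
    induction m with
    | zero => intro hm; omega
    | succ m ih =>
      intro hm
      have h1 := ih (by omega)
      have hlt : (n - 1 - (m + 1)) + 1 < n := by omega
      have h2 := hw ⟨n - 1 - (m + 1), by omega⟩ hlt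
      have e : (⟨n - 1 - (m + 1) + 1, hlt⟩ : Fin n) = ⟨n - 1 - m, by omega⟩ := by
        apply Fin.ext
        show n - 1 - (m + 1) + 1 = n - 1 - m
        omega
      rw [e] at h2
      have h3 : (w ⟨n - 1 - m, by omega⟩).val < (w ⟨n - 1 - (m + 1), by omega⟩).val := h2
      omega
  have hk := k.isLt
  have h1 : (w k).val + k.val + 1 ≤ n := by
    have := hub k.val k.isLt
    simpa using this
  have h2 : n - 1 - k.val ≤ (w k).val := by
    have := hlb (n - 1 - k.val) (by omega)
    have e : (⟨n - 1 - (n - 1 - k.val), by omega⟩ : Fin n) = k := by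
      apply Fin.ext
      show n - 1 - (n - 1 - k.val) = k.val
      omega
    rw [e] at this
    exact this
  omega

open Classical in
/-- the compatibility condition at `ẇ` forces `w` to be strictly decreasing -/
theorem h98_anti_of_compat (θ : Fin n → MulChar F ℂ) (ψ₀ : AddChar F ℂ) (hψ : ψ₀ ≠ 1)
    (w : Equiv.Perm (Fin n))
    (hc : Compat (borelHom θ) (ggHom (n := n) ψ₀) (permGL w))
    (k : Fin n) (hk : k.val + 1 < n) : w ⟨k.val + 1, hk⟩ < w k := by
  by_contra hnot
  have hne : w k ≠ w ⟨k.val + 1, hk⟩ := by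
    intro h
    have := congrArg Fin.val (w.injective h)
    simp at this
  have hlt : w k < w ⟨k.val + 1, hk⟩ := lt_of_le_of_ne (not_lt.1 hnot) hne
  apply hψ
  ext a
  rw [AddChar.one_apply]
  obtain ⟨u, hu, hum⟩ :=
    Cfsg.Agent.Lib.Helper5.GLU.transvection_mem_borel (F := F) (w k) (w ⟨k.val + 1, hk⟩) hlt a
  -- the conjugate
  have hentry : ∀ x y : Fin n,
      (((permGL w)⁻¹ * u * permGL w : GL (Fin n) F) : Matrix (Fin n) (Fin n) F) x y =
        (1 : Matrix (Fin n) (Fin n) F) x y + if x = k ∧ y = ⟨k.val + 1, hk⟩ then a else 0 := by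
    intro x y
    rw [h98_conj_perm_apply, hum, Matrix.transvection, Matrix.add_apply, Matrix.single_apply]
    congr 1
    · by_cases hxy : x = y
      · rw [hxy, Matrix.one_apply_eq, Matrix.one_apply_eq]
      · rw [Matrix.one_apply_ne hxy, Matrix.one_apply_ne (fun h => hxy (w.injective h))]
    · by_cases hh : x = k ∧ y = ⟨k.val + 1, hk⟩
      · rw [if_pos hh, if_pos ⟨by rw [hh.1], by rw [hh.2]⟩]
      · rw [if_neg hh, if_neg]
        rintro ⟨h1, h2⟩
        exact hh ⟨(w.injective h1).symm, (w.injective h2).symm⟩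
  have hmemU : (permGL w)⁻¹ * u * permGL w ∈ unitriGL n F := by
    rw [mem_unitriGL]
    intro x y hyx
    rw [hentry, if_neg, add_zero]
    rintro ⟨hx, hy⟩
    rw [hx, hy] at hyx
    have : k.val + 1 ≤ k.val := hyx
    omega
  have h1 := hc u hu hmemU
  have h2 : ((borelHom θ ⟨u, hu⟩ : ℂˣ) : ℂ) = 1 := by
    show borelFun θ ⟨u, hu⟩ = 1
    unfold borelFun
    apply Finset.prod_eq_one
    intro i _
    show (θ i) ((u : Matrix (Fin n) (Fin n) F) i i) = 1
    rw [hum, Matrix.transvection, Matrix.add_apply, Matrix.one_apply_eq, Matrix.single_apply,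
      if_neg, add_zero, map_one]
    rintro ⟨h3, h4⟩
    exact hne (h3.trans h4.symm)
  have h3 : ((ggHom (n := n) ψ₀ ⟨(permGL w)⁻¹ * u * permGL w, hmemU⟩ : ℂˣ) : ℂ) = ψ₀ a := by
    show ggFun ψ₀ ⟨(permGL w)⁻¹ * u * permGL w, hmemU⟩ = ψ₀ a
    rw [ggFun_apply]
    congr 1
    unfold superSum
    rw [Finset.sum_eq_single k]
    · rw [dif_pos hk]
      show (((permGL w)⁻¹ * u * permGL w : GL (Fin n) F) : Matrix (Fin n) (Fin n) F) k ⟨k.val + 1, hk⟩ = a
      rw [hentry, if_pos ⟨rfl, rfl⟩, Matrix.one_apply_ne, zero_add]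
      intro h
      have := congrArg Fin.val h
      simp at this
    · intro b _ hb
      by_cases hb1 : b.val + 1 < n
      · rw [dif_pos hb1]
        show (((permGL w)⁻¹ * u * permGL w : GL (Fin n) F) : Matrix (Fin n) (Fin n) F) b ⟨b.val + 1, hb1⟩ = 0
        rw [hentry, if_neg (fun h => hb h.1), add_zero, Matrix.one_apply_ne]
        intro h
        have := congrArg Fin.val h
        simp at this
      · rw [dif_neg hb1]
    · intro h
      exact absurd (Finset.mem_univ k) h
  rw [← h3, ← h1, h2]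

open Classical in
/-- MODULE S4538-[M2] -/
theorem inner_borel_gg_le_one [Fintype (GL (Fin n) F)] (θ : Fin n → MulChar F ℂ) (ψ₀ : AddChar F ℂ)
    (hψ : ψ₀ ≠ 1) :
    ∃ m : ℕ, m ≤ 1 ∧
      classInner (indFun (upperTriangularGL n F) (borelFun θ))
        (indFun (unitriGL n F) (ggFun ψ₀)) = (m : ℂ) := by
  obtain ⟨m, hm, hinner⟩ := Cfsg.Agent.Lib.Helper23.SLDZMack.mackey_le (upperTriangularGL n F)
    (unitriGL n F) (borelHom θ) (ggHom (n := n) ψ₀)
    (Finset.univ.image (permGL (F := F) (n := n))) (by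
      intro g
      obtain ⟨w, h, hh, k, hk, hg⟩ := h98_cover_BU g
      exact ⟨permGL w, Finset.mem_image.2 ⟨w, Finset.mem_univ _, rfl⟩, h, hh, k, hk, hg⟩)
  rw [linFun_borelHom, linFun_ggHom] at hinner
  refine ⟨m, le_trans hm ?_, hinner⟩
  rw [Finset.card_le_one]
  intro r hr r' hr'
  rw [Finset.mem_filter, Finset.mem_image] at hr hr'
  obtain ⟨⟨w, -, rfl⟩, hc⟩ := hr
  obtain ⟨⟨w', -, rfl⟩, hc'⟩ := hr'
  congr 1
  ext x
  have h1 := h98_anti_val w (h98_anti_of_compat θ ψ₀ hψ w hc) x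
  have h2 := h98_anti_val w' (h98_anti_of_compat θ ψ₀ hψ w' hc') x
  omega

end Cfsg.Agent.Lib.Helper98.SLDZ
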