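import Cfsg.Agent.Lib.Helper98.FusionCyclicQuot
import Cfsg.Agent.Lib.Helper98.OddAutTwoGroups
import Cfsg.Agent.S1219
import Cfsg.Agent.S1217
import Cfsg.Agent.S0249
import Cfsg.Agent.Lib.Helper40.SylowSL

/-!
# The 2-fusion system of `PSL₃(q)`, `q` odd, is simple
-/

set_option autoImplicit false

namespace Cfsg.Agent.Lib.Helper98.PSL3Fusion

open Cfsg

/-! ### Transport of the shapes along isomorphisms -/

theorem isQuasiDihedral_of_equiv {A B : Type*} [Group A] [Group B] (e : A ≃* B)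
    (h : IsQuasiDihedral A) : IsQuasiDihedral B := by
  obtain ⟨n, hn, hc, x, y, hx, hy, hr⟩ := h
  refine ⟨n, hn, ?_, e x, e y, ?_, ?_, ?_⟩
  · rw [← Nat.card_congr e.toEquiv]; exact hc
  · rw [MulEquiv.orderOf_eq]; exact hx
  · rw [MulEquiv.orderOf_eq]; exact hy
  · rw [← map_inv, ← map_mul, ← map_mul, hr, map_pow]

theorem isWreathed_of_equiv {A B : Type*} [Group A] [Group B] (e : A ≃* B)
    (h : IsWreathed A) : IsWreathed B := by
  obtain ⟨n, hn, hc, x, y, z, hx, hxy, hinf, hz, hzx⟩ := h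
  refine ⟨n, hn, ?_, e x, e y, e z, ?_, ?_, ?_, ?_, ?_⟩
  · rw [← Nat.card_congr e.toEquiv]; exact hc
  · rw [MulEquiv.orderOf_eq]; exact hx
  · rw [← map_mul, ← map_mul, hxy]
  · rw [eq_bot_iff]
    rintro g ⟨⟨i, hi⟩, ⟨j, hj⟩⟩
    have hi' : e (x ^ i) = g := by rw [map_zpow]; exact hi
    have hj' : e (y ^ j) = g := by rw [map_zpow]; exact hj
    have hxy' : x ^ i = y ^ j := e.injective (hi'.trans hj'.symm)
    have hmem : x ^ i ∈ Subgroup.zpowers x ⊓ Subgroup.zpowers y :=
      ⟨⟨i, rfl⟩, ⟨j, hxy'.symm⟩⟩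
    rw [hinf, Subgroup.mem_bot] at hmem
    rw [Subgroup.mem_bot, ← hi', hmem, map_one]
  · rw [MulEquiv.orderOf_eq]; exact hz
  · rw [← map_inv, ← map_mul, ← map_mul, hzx]

/-! ### Orders -/

section orders

variable {F : Type*} [Field F] [Fintype F]

local notation "PSL3" => Matrix.ProjectiveSpecialLinearGroup (Fin 3) F

theorem card_GL2 : Nat.card (GL (Fin 2) F) =
    (Fintype.card F ^ 2 - 1) * (Fintype.card F ^ 2 - Fintype.card F) := by
  rw [Matrix.card_GL_field, Fin.prod_univ_two]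
  simp

theorem card_GL3 : Nat.card (GL (Fin 3) F) =
    (Fintype.card F ^ 3 - 1) * (Fintype.card F ^ 3 - Fintype.card F) *
      (Fintype.card F ^ 3 - Fintype.card F ^ 2) := by
  rw [Matrix.card_GL_field, Fin.prod_univ_three]
  simp

theorem odd_card_center :
    Odd (Nat.card (Subgroup.center (Matrix.SpecialLinearGroup (Fin 3) F))) := by
  have : Fact (Nat.Prime 3) := ⟨Nat.prime_three⟩
  have hp : IsPGroup 3 (Subgroup.center (Matrix.SpecialLinearGroup (Fin 3) F)) := by
    rintro ⟨z, hz⟩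
    refine ⟨1, Subtype.ext ?_⟩
    rw [pow_one]
    exact Cfsg.Agent.S1219.center_pow_three hz
  obtain ⟨k, hk⟩ := IsPGroup.iff_card.1 hp
  rw [hk]
  exact Odd.pow (by decide)

/-- `|PSL₃(q)| · |Z| = |GL₂(q)| · q²(q²+q+1)`. -/
theorem card_PSL3_mul :
    Nat.card PSL3 * Nat.card (Subgroup.center (Matrix.SpecialLinearGroup (Fin 3) F)) =
      Nat.card (GL (Fin 2) F) * (Fintype.card F ^ 2 * (Fintype.card F ^ 2 + Fintype.card F + 1)) := by
  have h1 := Cfsg.Agent.Lib.Helper40.card_GL_eq_card_SL_mul (F := F) 2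
  have h2 := Subgroup.card_mul_index (Subgroup.center (Matrix.SpecialLinearGroup (Fin 3) F))
  have h3 : (Subgroup.center (Matrix.SpecialLinearGroup (Fin 3) F)).index = Nat.card PSL3 := rfl
  rw [h3] at h2
  rw [card_GL3] at h1
  rw [card_GL2, mul_comm (Nat.card PSL3), h2]
  have hq : 2 ≤ Fintype.card F := Fintype.one_lt_card
  set q := Fintype.card F with hqdef
  have hq1 : 1 ≤ q := by omega
  have e1 : 1 ≤ q ^ 3 := Nat.one_le_pow _ _ hq1
  have e2 : q ≤ q ^ 3 := by calc q = q ^ 1 := (pow_one q).symm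
    _ ≤ q ^ 3 := Nat.pow_le_pow_right hq1 (by norm_num)
  have e3 : q ^ 2 ≤ q ^ 3 := Nat.pow_le_pow_right hq1 (by norm_num)
  have e4 : 1 ≤ q ^ 2 := Nat.one_le_pow _ _ hq1
  have e5 : q ≤ q ^ 2 := by calc q = q ^ 1 := (pow_one q).symm
    _ ≤ q ^ 2 := Nat.pow_le_pow_right hq1 (by norm_num)
  have hpos : 0 < q - 1 := by omega
  apply Nat.eq_of_mul_eq_mul_right hpos
  have h1' : Nat.card (Matrix.SpecialLinearGroup (Fin 3) F) * (q - 1) =
      (q ^ 3 - 1) * (q ^ 3 - q) * (q ^ 3 - q ^ 2) := h1.symm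
  rw [h1']
  zify [e1, e2, e3, e4, e5, hq1]
  ring

theorem factorization_two_eq (hodd : Fintype.card F % 2 = 1) :
    (Nat.card PSL3).factorization 2 = (Nat.card (GL (Fin 2) F)).factorization 2 := by
  have h := card_PSL3_mul (F := F)
  have hz := odd_card_center (F := F)
  have hq : Odd (Fintype.card F) := Nat.odd_iff.2 hodd
  have hc : Odd (Fintype.card F ^ 2 * (Fintype.card F ^ 2 + Fintype.card F + 1)) := by
    apply Odd.mul (hq.pow)
    have : Even (Fintype.card F ^ 2 + Fintype.card F) := by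
      rw [pow_two]
      exact Odd.add_odd (hq.mul hq) hq
    exact this.add_one
  have hP : Nat.card PSL3 ≠ 0 := Nat.card_pos.ne'
  have hG : Nat.card (GL (Fin 2) F) ≠ 0 := Nat.card_pos.ne'
  have hz0 : Nat.card (Subgroup.center (Matrix.SpecialLinearGroup (Fin 3) F)) ≠ 0 := Nat.card_pos.ne'
  have hc0 : Fintype.card F ^ 2 * (Fintype.card F ^ 2 + Fintype.card F + 1) ≠ 0 := by
    intro h0; rw [h0] at hc; exact (Nat.not_odd_iff_even.2 (by decide)) hc
  have hz2 : (Nat.card (Subgroup.center (Matrix.SpecialLinearGroup (Fin 3) F))).factorization 2 = 0 :=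
    Nat.factorization_eq_zero_of_not_dvd (fun hd => by
      rw [← even_iff_two_dvd] at hd; exact (Nat.not_odd_iff_even.2 hd) hz)
  have hc2 : (Fintype.card F ^ 2 * (Fintype.card F ^ 2 + Fintype.card F + 1)).factorization 2 = 0 :=
    Nat.factorization_eq_zero_of_not_dvd (fun hd => by
      rw [← even_iff_two_dvd] at hd; exact (Nat.not_odd_iff_even.2 hd) hc)
  have h' := congrArg (fun n => n.factorization 2) h
  simp only [Nat.factorization_mul hP hz0, Nat.factorization_mul hG hc0, Finsupp.add_apply] at h'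
  rw [hz2, hc2] at h'
  simpa using h'

end orders

/-! ### The Sylow 2-subgroups of `PSL₃(q)` -/

section sylow

variable {F : Type*} [Field F] [Fintype F]

local notation "PSL3" => Matrix.ProjectiveSpecialLinearGroup (Fin 3) F

open Cfsg.Agent.S1219 in
/-- A Sylow 2-subgroup of `PSL₃(q)`, `q` odd, is isomorphic to a Sylow 2-subgroup of `GL₂(q)`. -/
theorem exists_sylow_equiv (hodd : Fintype.card F % 2 = 1) (S : Sylow 2 PSL3)
    (P : Sylow 2 (GL (Fin 2) F)) : Nonempty ((P : Subgroup (GL (Fin 2) F)) ≃* (S : Subgroup PSL3)) := by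
  have : Fact (Nat.Prime 2) := ⟨Nat.prime_two⟩
  let ψ : (P : Subgroup (GL (Fin 2) F)) →* PSL3 := (phi (F := F)).comp (P : Subgroup (GL (Fin 2) F)).subtype
  have hkodd : Odd (Nat.card (phi (F := F)).ker) := by
    rw [card_phi_ker]
    have h3 : Nat.gcd (Fintype.card F - 1) 3 ∣ 3 := Nat.gcd_dvd_right _ _
    rcases (Nat.dvd_prime Nat.prime_three).1 h3 with h | h <;> rw [h] <;> decide
  have hinj : Function.Injective ψ := by
    rw [injective_iff_map_eq_one]
    intro x hx
    have hxk : (x : GL (Fin 2) F) ∈ (phi (F := F)).ker := hx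
    have h1 : (x : GL (Fin 2) F) ^ Nat.card (phi (F := F)).ker = 1 := by
      have := pow_card_eq_one' (G := (phi (F := F)).ker) (x := ⟨x, hxk⟩)
      exact congrArg Subtype.val this
    obtain ⟨k, hk⟩ := P.isPGroup' x
    have h2 : (x : GL (Fin 2) F) ^ 2 ^ k = 1 := congrArg Subtype.val hk
    have := Cfsg.Agent.Lib.Helper98.OddAut.eq_one_of_pow_odd_of_pow_two _ _ k hkodd h1 h2
    exact Subtype.ext this
  have hcard : Nat.card ψ.range = 2 ^ (Nat.card PSL3).factorization 2 := by
    rw [← Nat.card_congr (MonoidHom.ofInjective hinj).toEquiv, P.card_eq_multiplicity,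
      factorization_two_eq hodd]
  let S₀ : Sylow 2 PSL3 := Sylow.ofCard ψ.range hcard
  have e1 : (P : Subgroup (GL (Fin 2) F)) ≃* (S₀ : Subgroup PSL3) := MonoidHom.ofInjective hinj
  exact ⟨e1.trans (Sylow.equiv S₀ S)⟩

theorem sylow_shape (hodd : Fintype.card F % 2 = 1) (S : Sylow 2 PSL3) :
    IsQuasiDihedral (S : Subgroup PSL3) ∨ IsWreathed (S : Subgroup PSL3) := by
  have : Fact (Nat.Prime 2) := ⟨Nat.prime_two⟩
  let P : Sylow 2 (GL (Fin 2) F) := default
  obtain ⟨e⟩ := exists_sylow_equiv hodd S P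
  have h := Cfsg.Agent.S1217.result P
  have h4 : Fintype.card F % 4 = 3 ∨ Fintype.card F % 4 = 1 := by omega
  rcases h4 with h4 | h4
  · exact Or.inl (isQuasiDihedral_of_equiv e (h.1 h4))
  · exact Or.inr (isWreathed_of_equiv e (h.2 h4))

/-- A quasi-dihedral or wreathed subgroup is generated by two elements, one of them an involution. -/
theorem exists_gen {G : Type*} [Group G] [Finite G] (S : Subgroup G)
    (hS : IsQuasiDihedral S ∨ IsWreathed S) :
    16 ≤ Nat.card S ∧ ∃ x ∈ S, S ≤ Subgroup.closure {t : G | t ∈ S ∧ orderOf t = 2} ⊔ Subgroup.zpowers x := by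
  rcases hS with hS | hS
  · obtain ⟨n, x, y, d⟩ := Cfsg.Agent.Lib.Helper20.QD.exists_data hS
    have hn := d.hn
    constructor
    · rw [d.card]
      calc 16 = 2 ^ (3 + 1) := by norm_num
        _ ≤ 2 ^ (n + 1) := Nat.pow_le_pow_right (by norm_num) (by omega)
    refine ⟨(x : G), x.2, ?_⟩
    have hy : (y : G) ∈ Subgroup.closure {t : G | t ∈ S ∧ orderOf t = 2} :=
      Subgroup.subset_closure ⟨y.2, by rw [Subgroup.orderOf_coe]; exact d.oy⟩
    intro s hs
    rcases Cfsg.Agent.Lib.Helper20.QD.normal_form d ⟨s, hs⟩ with ⟨i, hi⟩ | ⟨i, hi⟩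
    · have : s = (x : G) ^ i.val := congrArg Subtype.val hi
      rw [this]
      exact Subgroup.mem_sup_right (Subgroup.pow_mem _ (Subgroup.mem_zpowers _) _)
    · have : s = (x : G) ^ i.val * (y : G) := congrArg Subtype.val hi
      rw [this]
      exact Subgroup.mul_mem _ (Subgroup.mem_sup_right (Subgroup.pow_mem _ (Subgroup.mem_zpowers _) _))
        (Subgroup.mem_sup_left hy)
  · obtain ⟨n, x, y, z, h⟩ := Cfsg.Agent.Lib.Helper38.exists_isWr hS
    have hn := h.hn
    constructor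
    · rw [h.card]
      calc 16 ≤ 2 ^ (2 * 2 + 1) := by norm_num
        _ ≤ 2 ^ (2 * n + 1) := Nat.pow_le_pow_right (by norm_num) (by omega)
    refine ⟨(x : G), x.2, ?_⟩
    set K := Subgroup.closure {t : G | t ∈ S ∧ orderOf t = 2} ⊔ Subgroup.zpowers (x : G) with hK
    have hz : (z : G) ∈ K :=
      Subgroup.mem_sup_left (Subgroup.subset_closure ⟨z.2, by rw [Subgroup.orderOf_coe]; exact h.hz⟩)
    have hx : (x : G) ∈ K := Subgroup.mem_sup_right (Subgroup.mem_zpowers _)
    have hy : (y : G) ∈ K := by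
      have : (y : G) = (z : G) * (x : G) * (z : G)⁻¹ := by
        have := congrArg Subtype.val h.hzx
        simpa using this.symm
      rw [this]
      exact K.mul_mem (K.mul_mem hz hx) (K.inv_mem hz)
    have hal : ∀ i j : ℤ, ((Cfsg.Agent.Lib.Helper38.al x y i j : S) : G) ∈ K := by
      intro i j
      have : ((Cfsg.Agent.Lib.Helper38.al x y i j : S) : G) = (x : G) ^ i * (y : G) ^ j := by
        simp [Cfsg.Agent.Lib.Helper38.al]
      rw [this]
      exact K.mul_mem (K.zpow_mem hx i) (K.zpow_mem hy j)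
    intro s hs
    rcases h.exists_rep ⟨s, hs⟩ with ⟨i, j, hij⟩ | ⟨i, j, hij⟩
    · have : s = ((Cfsg.Agent.Lib.Helper38.al x y i j : S) : G) := congrArg Subtype.val hij
      rw [this]; exact hal i j
    · have : s = ((Cfsg.Agent.Lib.Helper38.al x y i j : S) : G) * (z : G) := congrArg Subtype.val hij
      rw [this]; exact K.mul_mem (hal i j) hz

open Cfsg.Agent.S1219 in
/-- All involutions of `PSL₃(q)`, `q` odd, are conjugate. -/
theorem isConj_of_orderOf_eq_two (hodd : Fintype.card F % 2 = 1) (s t : PSL3)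
    (hs : orderOf s = 2) (ht : orderOf t = 2) : IsConj s t := by
  have h2 : (2 : F) ≠ 0 := by
    apply Ring.two_ne_zero
    intro h
    have := FiniteField.even_card_iff_char_two.1 h
    omega
  have key : ∀ u : PSL3, orderOf u = 2 → IsConj (t0 (F := F)) u := by
    intro u hu
    obtain ⟨g, hgu, hgg, hg1⟩ := exists_involution_lift u hu
    obtain ⟨P, hP⟩ := exists_conj_dEl h2 g hgg hg1
    rw [isConj_iff]
    refine ⟨QuotientGroup.mk P, ?_⟩
    rw [← hgu]
    show (QuotientGroup.mk P : PSL3) * QuotientGroup.mk dEl * (QuotientGroup.mk P)⁻¹ = QuotientGroup.mk g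
    rw [← QuotientGroup.mk_mul, ← QuotientGroup.mk_inv, ← QuotientGroup.mk_mul, ← hP]
    congr 1
    group
  exact (key s hs).symm.trans (key t ht)

/-- The 2-fusion system of `PSL₃(q)`, `q` odd, is simple. -/
theorem psl3_fusion_isSimple (hodd : Fintype.card F % 2 = 1) (S : Sylow 2 PSL3) :
    (Cfsg.groupFusionSystem (S : Subgroup PSL3)).IsSimple 2 := by
  have : Fact (Nat.Prime 2) := ⟨Nat.prime_two⟩
  have hshape := sylow_shape hodd S
  obtain ⟨h16, x, hx, hgen⟩ := exists_gen (S : Subgroup PSL3) hshape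
  have hS1 : (S : Subgroup PSL3) ≠ ⊥ := by
    intro h
    rw [h, Subgroup.card_bot] at h16
    omega
  have hG : ∀ H : Subgroup PSL3, H.index ≠ 2 := by
    intro H hH
    have hsimple : IsSimpleGroup PSL3 := Cfsg.Agent.S0249.result 3 le_rfl
    have hn : H.Normal := Subgroup.normal_of_index_eq_two hH
    rcases hn.eq_bot_or_eq_top with h | h
    · rw [h, Subgroup.index_bot] at hH
      have := Subgroup.card_le_card_group (S : Subgroup PSL3)
      omega
    · rw [h, Subgroup.index_top] at hH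
      omega
  exact FusionCyclicQuot.isSimple_of_cyclic_quot S hS1 hG (isConj_of_orderOf_eq_two hodd) x hx hgen
    (FusionCyclicQuot.aut_eq_of_forall (OddAut.exists_inner_of_qd_or_wreathed S hshape))

end sylow

end Cfsg.Agent.Lib.Helper98.PSL3Fusion
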