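import Mathlib
import Cfsg.Agent.Lib.Helper98.PSL3Fusion
import Cfsg.Agent.Lib.Helper84.SylowTwoCard

/-!
# `PSL₃(p)` as a realizing group for quasi-dihedral / wreathed fusion patterns
(helper98, MODULES DSQW-[WRA], DSQW-[QDA] of helper84's S5248 project)
-/

set_option autoImplicit false
set_option linter.unusedVariables false
set_option linter.unusedSectionVars false
set_option linter.unusedSimpArgs false

namespace Cfsg.Agent.Lib.Helper98.DSQW

open Cfsg

/-! ### Elements of order `4` of `GL₂(q)`, `q ≡ 3 mod 4` -/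

section gl2

variable {F : Type*} [Field F] [Fintype F]

theorem no_sq_neg_one (h4 : Fintype.card F % 4 = 3) (a : F) : a * a ≠ -1 := by
  intro h
  have h1 : IsSquare (-1 : F) := ⟨a, h.symm⟩
  exact (FiniteField.isSquare_neg_one_iff.1 h1) h4

/-- a `2 × 2` matrix with `A⁴ = 1`, `A² ≠ 1` over a field in which `-1` is not a square has trace `0`
and determinant `1` -/
theorem entries_of_pow_four (hns : ∀ x : F, x * x ≠ -1) (a b c d : F)
    (h4 : !![a, b; c, d] * !![a, b; c, d] * (!![a, b; c, d] * !![a, b; c, d]) = 1)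
    (h2 : !![a, b; c, d] * !![a, b; c, d] ≠ 1) : d = -a ∧ a * a + b * c = -1 := by
  have e00 := congrFun (congrFun h4 0) 0
  have e01 := congrFun (congrFun h4 0) 1
  have e10 := congrFun (congrFun h4 1) 0
  have e11 := congrFun (congrFun h4 1) 1
  simp [Matrix.mul_apply, Fin.sum_univ_two] at e00 e01 e10 e11
  set t := a + d with ht
  set δ := a * d - b * c with hδ
  set u := t * (t * t - 2 * δ) with hu
  have f01 : u * b = 0 := by rw [← e01, hu, ht, hδ]; ring
  have f10 : u * c = 0 := by rw [← e10, hu, ht, hδ]; ring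
  have f00 : u * a + (δ * δ - t * t * δ) = 1 := by rw [← e00, hu, ht, hδ]; ring
  have f11 : u * d + (δ * δ - t * t * δ) = 1 := by rw [← e11, hu, ht, hδ]; ring
  have sq : !![a, b; c, d] * !![a, b; c, d] = !![t * a - δ, t * b; t * c, t * d - δ] := by
    rw [Matrix.mul_fin_two]
    ext i j
    fin_cases i <;> fin_cases j <;> simp [ht, hδ] <;> ring
  by_cases hu0 : u = 0
  · rw [hu0, zero_mul, zero_add] at f00
    by_cases ht0 : t = 0
    · rw [ht0] at f00
      have hδ2 : (δ - 1) * (δ + 1) = 0 := by linear_combination f00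
      rcases mul_eq_zero.1 hδ2 with h | h
      · have hδ1 : δ = 1 := by linear_combination h
        constructor
        · linear_combination ht0
        · have : a * d - b * c = 1 := hδ1
          have hd : d = -a := by linear_combination ht0
          rw [hd] at this
          linear_combination -this
      · exfalso
        have hδ1 : δ = -1 := by linear_combination h
        apply h2
        rw [sq, ht0, hδ1, Matrix.one_fin_two]
        simp
    · exfalso
      have h1 : t * t - 2 * δ = 0 := by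
        rcases mul_eq_zero.1 hu0 with h | h
        · exact absurd h ht0
        · exact h
      apply hns δ
      linear_combination -f00 - δ * h1
  · exfalso
    have hb : b = 0 := by
      rcases mul_eq_zero.1 f01 with h | h
      · exact absurd h hu0
      · exact h
    have hc : c = 0 := by
      rcases mul_eq_zero.1 f10 with h | h
      · exact absurd h hu0
      · exact h
    have had : a = d := by
      have : u * (a - d) = 0 := by linear_combination f00 - f11
      rcases mul_eq_zero.1 this with h | h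
      · exact absurd h hu0
      · linear_combination h
    -- `A = a I`, `a⁴ = 1`
    have ha4 : (a * a - 1) * (a * a + 1) = 0 := by
      have := e00
      rw [hb, hc, ← had] at this
      linear_combination this
    rcases mul_eq_zero.1 ha4 with h | h
    · apply h2
      rw [Matrix.mul_fin_two, Matrix.one_fin_two, hb, hc, ← had]
      have : a * a = 1 := by linear_combination h
      simp [this]
    · apply hns a
      linear_combination h

/-- the standard element of order `4` -/
def jMat : Matrix (Fin 2) (Fin 2) F := !![0, -1; 1, 0]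

theorem jMat_det : (jMat : Matrix (Fin 2) (Fin 2) F).det ≠ 0 := by
  rw [jMat, Matrix.det_fin_two_of]
  simp

/-- In `GL₂(q)`, `q ≡ 3 mod 4`, all elements of order `4` are conjugate. -/
theorem gl2_isConj_of_orderOf_eq_four (h4 : Fintype.card F % 4 = 3)
    (g h : GL (Fin 2) F) (hg : orderOf g = 4) (hh : orderOf h = 4) : IsConj g h := by
  have hns := no_sq_neg_one h4
  have key : ∀ g : GL (Fin 2) F, orderOf g = 4 →
      IsConj (Matrix.GeneralLinearGroup.mkOfDetNeZero (jMat : Matrix (Fin 2) (Fin 2) F) jMat_det) g := by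
    intro g hg
    have hg4 : g ^ 4 = 1 := by rw [← hg]; exact pow_orderOf_eq_one g
    have hg2 : g ^ 2 ≠ 1 := by
      intro h
      have := orderOf_dvd_of_pow_eq_one h
      rw [hg] at this
      omega
    set A : Matrix (Fin 2) (Fin 2) F := (g : Matrix (Fin 2) (Fin 2) F) with hA
    have hAeta : A = !![A 0 0, A 0 1; A 1 0, A 1 1] := Matrix.eta_fin_two A
    have hA4 : A * A * (A * A) = 1 := by
      have := congrArg (fun x : GL (Fin 2) F => (x : Matrix (Fin 2) (Fin 2) F)) hg4
      simp only [Matrix.GeneralLinearGroup.coe_one] at this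
      rw [← this]
      show A * A * (A * A) = ((g ^ 4 : GL (Fin 2) F) : Matrix (Fin 2) (Fin 2) F)
      rw [show (4 : ℕ) = 2 + 2 from rfl, pow_add, pow_two]
      rfl
    have hA2 : A * A ≠ 1 := by
      intro h
      apply hg2
      apply Units.ext
      rw [pow_two]
      exact h
    rw [hAeta] at hA4 hA2
    obtain ⟨hd, hdet⟩ := entries_of_pow_four hns _ _ _ _ hA4 hA2
    have hc : A 1 0 ≠ 0 := by
      intro hc
      rw [hc, mul_zero, add_zero] at hdet
      exact hns _ hdet
    have hPdet : (!![1, A 0 0; 0, A 1 0] : Matrix (Fin 2) (Fin 2) F).det ≠ 0 := by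
      rw [Matrix.det_fin_two_of]
      simpa using hc
    rw [isConj_iff]
    refine ⟨Matrix.GeneralLinearGroup.mkOfDetNeZero _ hPdet, ?_⟩
    rw [mul_inv_eq_iff_eq_mul]
    apply Units.ext
    show (!![1, A 0 0; 0, A 1 0] : Matrix (Fin 2) (Fin 2) F) * jMat = A * !![1, A 0 0; 0, A 1 0]
    rw [hAeta, jMat, Matrix.mul_fin_two, Matrix.mul_fin_two]
    simp only [Matrix.of_apply, Matrix.cons_val', Matrix.cons_val_zero, Matrix.cons_val_one,
      Matrix.empty_val', Matrix.cons_val_fin_one, Matrix.head_cons]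
    rw [hd]
    ext i j
    fin_cases i <;> fin_cases j
    · simp
    · simp
      linear_combination -hdet
    · simp
    · simp
      ring
  exact (key g hg).symm.trans (key h hh)

end gl2

/-! ### The primes -/

/-- A prime `q ≡ 1 + 2^n mod 2^(n+1)`, `n ≥ 2`: then `q ≡ 1 mod 4` and `|GL₂(q)| = (q² - 1)(q² - q)` has
`2`-part `2^(2n+1)`. -/
theorem exists_prime_card_gl2_wr (n : ℕ) (hn : 2 ≤ n) :
    ∃ q : ℕ, q.Prime ∧ q % 4 = 1 ∧ ∃ m : ℕ, Odd m ∧
      (q ^ 2 - 1) * (q ^ 2 - q) = 2 ^ (2 * n + 1) * m := by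
  set B := 2 ^ (n - 2) with hB
  have hBpos : 1 ≤ B := Nat.one_le_two_pow
  have h1 : 2 ^ n = 4 * B := by
    rw [hB]
    have : n = n - 2 + 2 := by omega
    conv_lhs => rw [this, pow_add]
    ring
  have h2 : 2 ^ (n + 1) = 8 * B := by rw [pow_succ, h1]; ring
  have h3 : 2 ^ (2 * n + 1) = 32 * B * B := by
    have : 2 * n + 1 = n + n + 1 := by ring
    rw [this, pow_succ, pow_add, h1]
    ring
  have hcop : Nat.Coprime (1 + 4 * B) (2 ^ (n + 1)) := by
    apply Nat.Coprime.pow_right
    rw [Nat.coprime_two_right]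
    exact ⟨2 * B, by ring⟩
  obtain ⟨q, hgt, hq, hmod⟩ :=
    Nat.forall_exists_prime_gt_and_modEq (1 + 4 * B) (by positivity) hcop
  have hdvd : 2 ^ (n + 1) ∣ q - (1 + 4 * B) := (Nat.modEq_iff_dvd' hgt.le).1 hmod.symm
  obtain ⟨t, ht⟩ := hdvd
  rw [h2] at ht
  set s := 1 + 2 * t with hs
  have hs_odd : Odd s := ⟨t, by rw [hs]; ring⟩
  have hq' : q = 1 + 4 * B * s := by
    have : q = (1 + 4 * B) + 8 * B * t := by omega
    rw [this, hs]; ring
  have hq_odd : Odd q := ⟨2 * B * s, by rw [hq']; ring⟩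
  have hr_odd : Odd (1 + 2 * B * s) := ⟨B * s, by ring⟩
  refine ⟨q, hq, ?_, q * s ^ 2 * (1 + 2 * B * s), (hq_odd.mul hs_odd.pow).mul hr_odd, ?_⟩
  · rw [hq']
    have : 4 * B * s = 4 * (B * s) := by ring
    rw [this]
    omega
  · have h4 : q ^ 2 - 1 = 8 * B * s * (1 + 2 * B * s) := by
      apply Nat.sub_eq_of_eq_add
      rw [hq']
      ring
    have h5 : q ^ 2 - q = 4 * B * s * q := by
      apply Nat.sub_eq_of_eq_add
      conv_lhs => rw [sq]
      nth_rewrite 1 [hq']
      ring
    rw [h4, h5, h3]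
    ring

/-! ### The groups -/

section groups

open Cfsg.Agent.Lib.Helper98.PSL3Fusion Cfsg.Agent.S1219

/-- MODULE DSQW-[WRA] -/
theorem exists_group_wr_all (n : ℕ) (hn : 2 ≤ n) :
    ∃ (G : Type) (_ : Group G) (_ : Finite G) (T : Sylow 2 G),
      Cfsg.IsWreathed (T : Subgroup G) ∧ Nat.card (T : Subgroup G) = 2 ^ (2 * n + 1) ∧
      (∀ a b : G, orderOf a = 2 → orderOf b = 2 → IsConj a b) := by
  have : Fact (Nat.Prime 2) := ⟨Nat.prime_two⟩
  obtain ⟨q, hq, hq4, m, hm, hcard⟩ := exists_prime_card_gl2_wr n hn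
  have : Fact q.Prime := ⟨hq⟩
  have hodd : Fintype.card (ZMod q) % 2 = 1 := by rw [ZMod.card]; omega
  have h4 : Fintype.card (ZMod q) % 4 = 1 := by rw [ZMod.card]; exact hq4
  let T : Sylow 2 (Matrix.ProjectiveSpecialLinearGroup (Fin 3) (ZMod q)) := default
  let P : Sylow 2 (GL (Fin 2) (ZMod q)) := default
  obtain ⟨e⟩ := exists_sylow_equiv hodd T P
  refine ⟨Matrix.ProjectiveSpecialLinearGroup (Fin 3) (ZMod q), inferInstance, inferInstance, T,
    ?_, ?_, ?_⟩
  · exact isWreathed_of_equiv e ((Cfsg.Agent.S1217.result P).2 h4)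
  · rw [← Nat.card_congr e.toEquiv]
    apply Cfsg.Agent.Lib.Helper84.card_sylow_two_of_card_eq P (2 * n + 1) m hm
    rw [card_GL2, ZMod.card]
    exact hcard
  · exact isConj_of_orderOf_eq_two hodd

/-- MODULE DSQW-[QDA] -/
theorem exists_group_qd_all (n : ℕ) (hn : 3 ≤ n) :
    ∃ (G : Type) (_ : Group G) (_ : Finite G) (T : Sylow 2 G),
      Cfsg.IsQuasiDihedral (T : Subgroup G) ∧ Nat.card (T : Subgroup G) = 2 ^ (n + 1) ∧
      (∀ a b : G, orderOf a = 2 → orderOf b = 2 → IsConj a b) ∧
      (∀ a b : G, a ∈ (T : Subgroup G) → b ∈ (T : Subgroup G) → orderOf a = 4 → orderOf b = 4 →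
        IsConj a b) := by
  have : Fact (Nat.Prime 2) := ⟨Nat.prime_two⟩
  obtain ⟨q, hq, hq4, m, hm, hcard⟩ := Cfsg.Agent.Lib.Helper84.exists_prime_card_gl2 n hn
  have : Fact q.Prime := ⟨hq⟩
  have hodd : Fintype.card (ZMod q) % 2 = 1 := by rw [ZMod.card]; omega
  have h4 : Fintype.card (ZMod q) % 4 = 3 := by rw [ZMod.card]; exact hq4
  let P : Sylow 2 (GL (Fin 2) (ZMod q)) := default
  have hPcard : Nat.card (P : Subgroup (GL (Fin 2) (ZMod q))) = 2 ^ (n + 1) := by
    apply Cfsg.Agent.Lib.Helper84.card_sylow_two_of_card_eq P (n + 1) m hm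
    rw [card_GL2, ZMod.card]
    exact hcard
  let ψ : (P : Subgroup (GL (Fin 2) (ZMod q))) →*
      Matrix.ProjectiveSpecialLinearGroup (Fin 3) (ZMod q) :=
    (phi (F := ZMod q)).comp (P : Subgroup (GL (Fin 2) (ZMod q))).subtype
  have hkodd : Odd (Nat.card (phi (F := ZMod q)).ker) := by
    rw [card_phi_ker]
    have h3 : Nat.gcd (Fintype.card (ZMod q) - 1) 3 ∣ 3 := Nat.gcd_dvd_right _ _
    rcases (Nat.dvd_prime Nat.prime_three).1 h3 with h | h <;> rw [h] <;> decide
  have hinj : Function.Injective ψ := by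
    rw [injective_iff_map_eq_one]
    intro x hx
    have hxk : (x : GL (Fin 2) (ZMod q)) ∈ (phi (F := ZMod q)).ker := hx
    have h1 : (x : GL (Fin 2) (ZMod q)) ^ Nat.card (phi (F := ZMod q)).ker = 1 := by
      have := pow_card_eq_one' (G := (phi (F := ZMod q)).ker) (x := ⟨x, hxk⟩)
      exact congrArg Subtype.val this
    obtain ⟨k, hk⟩ := P.isPGroup' x
    have h2 : (x : GL (Fin 2) (ZMod q)) ^ 2 ^ k = 1 := congrArg Subtype.val hk
    have := Cfsg.Agent.Lib.Helper98.OddAut.eq_one_of_pow_odd_of_pow_two _ _ k hkodd h1 h2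
    exact Subtype.ext this
  have hcard' : Nat.card ψ.range =
      2 ^ (Nat.card (Matrix.ProjectiveSpecialLinearGroup (Fin 3) (ZMod q))).factorization 2 := by
    rw [← Nat.card_congr (MonoidHom.ofInjective hinj).toEquiv, P.card_eq_multiplicity,
      factorization_two_eq hodd]
  let T : Sylow 2 (Matrix.ProjectiveSpecialLinearGroup (Fin 3) (ZMod q)) :=
    Sylow.ofCard ψ.range hcard'
  have e1 : (P : Subgroup (GL (Fin 2) (ZMod q))) ≃* ψ.range := MonoidHom.ofInjective hinj
  refine ⟨Matrix.ProjectiveSpecialLinearGroup (Fin 3) (ZMod q), inferInstance, inferInstance, T,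
    ?_, ?_, ?_, ?_⟩
  · exact isQuasiDihedral_of_equiv e1 ((Cfsg.Agent.S1217.result P).1 h4)
  · show Nat.card ψ.range = 2 ^ (n + 1)
    rw [← Nat.card_congr e1.toEquiv, hPcard]
  · exact isConj_of_orderOf_eq_two hodd
  · intro a b ha hb hoa hob
    obtain ⟨x, rfl⟩ : ∃ x, ψ x = a := ha
    obtain ⟨y, rfl⟩ : ∃ y, ψ y = b := hb
    have hox : orderOf (x : GL (Fin 2) (ZMod q)) = 4 := by
      rw [Subgroup.orderOf_coe, ← orderOf_injective ψ hinj x, hoa]
    have hoy : orderOf (y : GL (Fin 2) (ZMod q)) = 4 := by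
      rw [Subgroup.orderOf_coe, ← orderOf_injective ψ hinj y, hob]
    obtain ⟨c, hc⟩ := isConj_iff.1 (gl2_isConj_of_orderOf_eq_four h4 _ _ hox hoy)
    rw [isConj_iff]
    refine ⟨phi c, ?_⟩
    show phi c * phi (x : GL (Fin 2) (ZMod q)) * (phi c)⁻¹ = phi (y : GL (Fin 2) (ZMod q))
    rw [← map_inv, ← map_mul, ← map_mul, hc]

end groups

end Cfsg.Agent.Lib.Helper98.DSQW
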