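import Mathlib

/-!
# Elementary facts about the generalized quaternion groups `QuaternionGroup n`
-/

set_option autoImplicit false

namespace Cfsg.Agent.Lib.Helper98.QuatFacts

open QuaternionGroup

variable {n : ℕ}

theorem two_n_cast : ((n : ℕ) : ZMod (2 * n)) + (n : ℕ) = 0 := by
  have : ((n : ℕ) : ZMod (2 * n)) + (n : ℕ) = ((2 * n : ℕ) : ZMod (2 * n)) := by push_cast; ring
  rw [this, ZMod.natCast_self]

theorem an_mul_an : (a (n : ZMod (2 * n)) : QuaternionGroup n) * a (n : ZMod (2 * n)) = 1 := by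
  rw [a_mul_a, two_n_cast, a_zero]

theorem an_ne_one [NeZero n] : (a (n : ZMod (2 * n)) : QuaternionGroup n) ≠ 1 := by
  rw [one_def]
  intro h
  have h1 : ((n : ℕ) : ZMod (2 * n)) = 0 := by injection h
  rw [ZMod.natCast_eq_zero_iff] at h1
  have hn0 : 0 < n := Nat.pos_of_ne_zero (NeZero.ne n)
  have := Nat.le_of_dvd hn0 h1
  omega

theorem xa_mul_self (i : ZMod (2 * n)) : (xa i : QuaternionGroup n) * xa i = a (n : ZMod (2 * n)) := by
  rw [xa_mul_xa]; congr 1; ring

theorem xa_inv (i : ZMod (2 * n)) : (xa i : QuaternionGroup n)⁻¹ = xa ((n : ZMod (2 * n)) + i) := rfl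

theorem a_inv (i : ZMod (2 * n)) : (a i : QuaternionGroup n)⁻¹ = a (-i) := rfl

theorem an_central (g : QuaternionGroup n) :
    g * a (n : ZMod (2 * n)) = a (n : ZMod (2 * n)) * g := by
  rcases g with i | i
  · rw [a_mul_a, a_mul_a, add_comm]
  · rw [xa_mul_a, a_mul_xa]
    congr 1
    have : (n : ZMod (2 * n)) = -(n : ZMod (2 * n)) := eq_neg_of_add_eq_zero_left two_n_cast
    rw [sub_eq_add_neg, ← this]

theorem two_mul_eq_zero [NeZero n] (i : ZMod (2 * n)) (h : i + i = 0) : i = 0 ∨ i = (n : ZMod (2 * n)) := by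
  have hn0 : 0 < n := Nat.pos_of_ne_zero (NeZero.ne n)
  haveI : NeZero (2 * n) := ⟨by omega⟩
  have h1 : ((i.val + i.val : ℕ) : ZMod (2 * n)) = 0 := by
    push_cast
    rw [ZMod.natCast_zmod_val]
    exact h
  rw [ZMod.natCast_eq_zero_iff] at h1
  have hlt : i.val < 2 * n := ZMod.val_lt i
  obtain ⟨c, hc⟩ := h1
  have hc2 : i.val = n * c := by
    have : 2 * i.val = 2 * (n * c) := by rw [← mul_assoc, ← hc]; ring
    omega
  have hc3 : c < 2 := by
    by_contra hcon
    have : 2 ≤ c := by omega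
    have : n * 2 ≤ n * c := Nat.mul_le_mul_left n this
    omega
  interval_cases c
  · left
    rw [← ZMod.natCast_zmod_val i, hc2]
    simp
  · right
    rw [← ZMod.natCast_zmod_val i, hc2]
    simp

theorem two_ne_zero_zmod (hn : 2 ≤ n) : (1 : ZMod (2 * n)) + 1 ≠ 0 := by
  intro h
  have h3 : ((2 : ℕ) : ZMod (2 * n)) = 0 := by push_cast; rw [← h]; ring
  rw [ZMod.natCast_eq_zero_iff] at h3
  have := Nat.le_of_dvd (by norm_num) h3
  omega

/-- The center of `QuaternionGroup n`, `n ≥ 2`. -/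
theorem center_eq [NeZero n] (hn : 2 ≤ n) (y : QuaternionGroup n) (h : ∀ x, y * x = x * y) :
    y = 1 ∨ y = a (n : ZMod (2 * n)) := by
  rcases y with i | i
  · have h1 := h (xa 0)
    rw [a_mul_xa, xa_mul_a] at h1
    have h2 : (0 : ZMod (2 * n)) - i = 0 + i := by injection h1
    have h3 : i + i = 0 := by linear_combination -h2
    rcases two_mul_eq_zero i h3 with rfl | rfl
    · left; exact a_zero
    · right; rfl
  · exfalso
    have h1 := h (a 1)
    rw [xa_mul_a, a_mul_xa] at h1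
    have h2 : i + 1 = i - 1 := by injection h1
    apply two_ne_zero_zmod hn
    linear_combination h2

theorem a_one_ne [NeZero n] (hn : 2 ≤ n) :
    (a 1 : QuaternionGroup n) ≠ 1 ∧ (a 1 : QuaternionGroup n) ≠ a (n : ZMod (2 * n)) := by
  have hn0 : 0 < n := Nat.pos_of_ne_zero (NeZero.ne n)
  haveI : NeZero (2 * n) := ⟨by omega⟩
  constructor
  · rw [one_def]
    intro h
    have h1 : (1 : ZMod (2 * n)) = 0 := by injection h
    have h2 : ((1 : ℕ) : ZMod (2 * n)) = 0 := by push_cast; exact h1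
    rw [ZMod.natCast_eq_zero_iff] at h2
    have := Nat.le_of_dvd (by norm_num) h2
    omega
  · intro h
    have h1 : (1 : ZMod (2 * n)) = (n : ZMod (2 * n)) := by injection h
    have h2 : ((1 : ℕ) : ZMod (2 * n)) = ((n : ℕ) : ZMod (2 * n)) := by push_cast; exact h1
    rw [ZMod.natCast_eq_natCast_iff'] at h2
    rw [Nat.mod_eq_of_lt (by omega), Nat.mod_eq_of_lt (by omega)] at h2
    omega

/-- A subgroup containing all `y * y'⁻¹` with `y² = y'² = a n` is everything (`n` even). -/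
theorem gen_top (m : ℕ) (hm : n = 2 * m) (H : Subgroup (QuaternionGroup n))
    (h : ∀ y y' : QuaternionGroup n, y * y = a (n : ZMod (2 * n)) → y' * y' = a (n : ZMod (2 * n)) →
      y * y'⁻¹ ∈ H) : ∀ y : QuaternionGroup n, y ∈ H := by
  have ha : ∀ j : ZMod (2 * n), (a j : QuaternionGroup n) ∈ H := by
    intro j
    have := h (xa 0) (xa j) (xa_mul_self 0) (xa_mul_self j)
    rw [xa_inv, xa_mul_xa] at this
    have e : (n : ZMod (2 * n)) + ((n : ZMod (2 * n)) + j) - 0 = j := by
      linear_combination (two_n_cast (n := n))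
    rwa [e] at this
  have hmm : ((m : ℕ) : ZMod (2 * n)) + (m : ℕ) = (n : ZMod (2 * n)) := by
    rw [hm]; push_cast; ring
  have hxa : ∀ j : ZMod (2 * n), (xa j : QuaternionGroup n) ∈ H := by
    intro j
    have hsq : (a ((m : ℕ) : ZMod (2 * n)) : QuaternionGroup n) * a ((m : ℕ) : ZMod (2 * n)) =
        a (n : ZMod (2 * n)) := by
      rw [a_mul_a, hmm]
    have := h (xa (j + (m : ℕ))) (a ((m : ℕ) : ZMod (2 * n))) (xa_mul_self _) hsq
    rw [a_inv, xa_mul_a] at this
    have e : j + ((m : ℕ) : ZMod (2 * n)) + -((m : ℕ) : ZMod (2 * n)) = j := by ring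
    rwa [e] at this
  rintro (j | j)
  · exact ha j
  · exact hxa j

end Cfsg.Agent.Lib.Helper98.QuatFacts
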