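import Cfsg.Agent.Lib.Helper98.FusionSelfNorm
import Cfsg.Agent.S0261
import Cfsg.Agent.S2431

/-!
# The 2-fusion system of `PSL₂(q)`, `q ≡ ±1 mod 8`, is simple
-/

set_option autoImplicit false

namespace Cfsg.Agent.Lib.Helper98.PSL2Fusion

open Cfsg Cfsg.Agent.Lib.Helper41

variable {F : Type*} [Field F]

local notation "SL2" => Matrix.SpecialLinearGroup (Fin 2) F
local notation "PSL2" => Matrix.ProjectiveSpecialLinearGroup (Fin 2) F
local notation "M2" => Matrix (Fin 2) (Fin 2) F

/-- The quotient map `SL₂ → PSL₂`. -/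
def proj : SL2 →* PSL2 := QuotientGroup.mk' (Subgroup.center SL2)

theorem proj_surjective : Function.Surjective (proj (F := F)) := QuotientGroup.mk'_surjective _

theorem proj_ker : (proj (F := F)).ker = Subgroup.center SL2 := QuotientGroup.ker_mk' _

theorem proj_apply (A : SL2) : proj A = (QuotientGroup.mk A : PSL2) := rfl

/-- An element of `SL₂(F)`, `char F ≠ 2`, whose square is `1` is `±1`. -/
theorem eq_pm_one_of_sq_eq_one (h2 : (2 : F) ≠ 0) (A : SL2) (hA : A * A = 1) :
    (A : M2) = 1 ∨ (A : M2) = -1 := by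
  rw [← mem_center_iff_pm]
  have hch := cayley_hamilton A
  have hAA : (A : M2) * (A : M2) = 1 := by
    rw [← Matrix.SpecialLinearGroup.coe_mul, hA, Matrix.SpecialLinearGroup.coe_one]
  rw [hAA] at hch
  have h3 : tr2 A • (A : M2) = (2 : F) • (1 : M2) := by
    have : tr2 A • (A : M2) = 1 + 1 := by
      have h := hch
      rw [eq_sub_iff_add_eq] at h
      exact h.symm
    rw [this, two_smul]
  have ht : tr2 A ≠ 0 := by
    intro h0
    rw [h0, zero_smul] at h3
    have := congrFun (congrFun h3 0) 0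
    simp at this
    exact h2 this.symm
  apply mem_center_of_scalar A ((tr2 A)⁻¹ * 2)
  rw [mul_smul, ← h3, smul_smul, inv_mul_cancel₀ ht, one_smul]

/-- An element of `SL₂(F)` whose square is `-1` has trace `0`. -/
theorem tr2_eq_zero_of_sq_eq_neg_one (A : SL2) (hA : (A : M2) * (A : M2) = -1) : tr2 A = 0 := by
  have hch := cayley_hamilton A
  rw [hA] at hch
  have h3 : tr2 A • (A : M2) = 0 := by
    have : tr2 A • (A : M2) = -1 + 1 := by
      have h := hch
      rw [eq_sub_iff_add_eq] at h
      exact h.symm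
    rw [this]; simp
  by_contra ht
  have hA0 : (A : M2) = 0 := by
    have := congrArg (fun M => (tr2 A)⁻¹ • M) h3
    simpa [smul_smul, inv_mul_cancel₀ ht] using this
  have hd := A.det_coe
  rw [hA0, Matrix.det_fin_two] at hd
  simp at hd

/-- A lift to `SL₂` of an involution of `PSL₂` has trace `0`. -/
theorem tr2_eq_zero_of_orderOf_proj_eq_two (h2 : (2 : F) ≠ 0) (A : SL2)
    (hA : orderOf (QuotientGroup.mk A : PSL2) = 2) : tr2 A = 0 := by
  have h1 : (QuotientGroup.mk A : PSL2) ^ 2 = 1 := by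
    have := pow_orderOf_eq_one (QuotientGroup.mk A : PSL2)
    rw [hA] at this
    exact this
  have hne : (QuotientGroup.mk A : PSL2) ≠ 1 := by
    intro h
    rw [h, orderOf_one] at hA
    omega
  rw [mk_pow_eq_one_iff] at h1
  rw [Ne, mk_eq_one_iff] at hne
  rcases h1 with h1 | h1
  · exfalso
    apply hne
    apply eq_pm_one_of_sq_eq_one h2
    apply Subtype.ext
    rw [Matrix.SpecialLinearGroup.coe_mul, Matrix.SpecialLinearGroup.coe_one, ← sq]
    exact h1
  · apply tr2_eq_zero_of_sq_eq_neg_one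
    rw [← sq]
    exact h1

/-- If `u ∈ SL₂(F)` has order `4` then its image in `PSL₂(F)` has order `2`. -/
theorem orderOf_proj_of_orderOf_eq_four (h2 : (2 : F) ≠ 0) (u : SL2) (hu : orderOf u = 4) :
    orderOf (QuotientGroup.mk u : PSL2) = 2 := by
  have h4 : u ^ 4 = 1 := by
    have := pow_orderOf_eq_one u
    rw [hu] at this
    exact this
  have hsq : (u * u) * (u * u) = 1 := by
    rw [← h4]; simp only [pow_succ, pow_zero, one_mul, mul_assoc]
  have hne : u * u ≠ 1 := by
    intro h
    have : orderOf u ∣ 2 := orderOf_dvd_of_pow_eq_one (by rw [sq]; exact h)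
    rw [hu] at this
    omega
  have hpm := eq_pm_one_of_sq_eq_one h2 (u * u) hsq
  have huu : ((u * u : SL2) : M2) = -1 := by
    rcases hpm with h | h
    · exfalso
      apply hne
      apply Subtype.ext
      rw [h, Matrix.SpecialLinearGroup.coe_one]
    · exact h
  apply orderOf_eq_prime
  · rw [mk_pow_eq_one_iff]
    right
    rw [sq, ← Matrix.SpecialLinearGroup.coe_mul]
    exact huu
  · rw [Ne, mk_eq_one_iff]
    rintro (h | h)
    · apply hne
      apply Subtype.ext
      rw [Matrix.SpecialLinearGroup.coe_mul, h, mul_one, Matrix.SpecialLinearGroup.coe_one]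
    · apply hne
      apply Subtype.ext
      rw [Matrix.SpecialLinearGroup.coe_mul, h, Matrix.SpecialLinearGroup.coe_one]
      simp

variable [Fintype F]

theorem two_ne_zero_of_odd_card (hodd : Fintype.card F % 2 = 1) : (2 : F) ≠ 0 := by
  apply Ring.two_ne_zero
  intro h
  have := FiniteField.even_card_iff_char_two.1 h
  omega

/-- All involutions of `PSL₂(F)` are conjugate (`|F|` odd). -/
theorem isConj_of_orderOf_eq_two (hodd : Fintype.card F % 2 = 1) (x y : PSL2)
    (hx : orderOf x = 2) (hy : orderOf y = 2) : IsConj x y := by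
  have h2 := two_ne_zero_of_odd_card hodd
  obtain ⟨A, rfl⟩ := QuotientGroup.mk_surjective x
  obtain ⟨B, rfl⟩ := QuotientGroup.mk_surjective y
  have hA := tr2_eq_zero_of_orderOf_proj_eq_two h2 A hx
  have hB := tr2_eq_zero_of_orderOf_proj_eq_two h2 B hy
  have hc : IsConj A B := by
    apply isConj_of_tr2_eq
    · rw [hA]
      intro h
      have h4 : (4 : F) = 2 * 2 := by norm_num
      rw [h4] at h
      have : (2 : F) * 2 = 0 := by rw [← h]; ring
      rcases mul_eq_zero.1 this with h | h <;> exact h2 h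
    · rw [hA, hB]
  exact (QuotientGroup.mk' (Subgroup.center SL2)).map_isConj hc

omit [Fintype F] in
theorem isPGroup_two_center : IsPGroup 2 (Subgroup.center SL2) := by
  rintro ⟨A, hA⟩
  refine ⟨1, Subtype.ext ?_⟩
  rw [mem_center_iff_pm] at hA
  show A ^ 2 ^ 1 = 1
  apply Subtype.ext
  rw [pow_one, sq, Matrix.SpecialLinearGroup.coe_mul, Matrix.SpecialLinearGroup.coe_one]
  rcases hA with h | h <;> rw [h] <;> simp

/-- The Sylow 2-subgroup of `SL₂` above a Sylow 2-subgroup of `PSL₂`. -/
noncomputable def liftSylow (S : Sylow 2 PSL2) : Sylow 2 SL2 :=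
  S.comapOfKerIsPGroup proj (by rw [proj_ker]; exact isPGroup_two_center)
    (by rw [MonoidHom.range_eq_top.2 proj_surjective]; exact le_top)

omit [Fintype F] in
theorem coe_liftSylow (S : Sylow 2 PSL2) :
    ((liftSylow S : Sylow 2 SL2) : Subgroup SL2) = (S : Subgroup PSL2).comap proj := rfl

theorem card_mod_eight (hodd : Fintype.card F % 2 = 1) (h16 : 16 ∣ Fintype.card F ^ 2 - 1) :
    Fintype.card F % 8 = 1 ∨ Fintype.card F % 8 = 7 := by
  have hpos : 1 ≤ Fintype.card F ^ 2 := Nat.one_le_pow _ _ Fintype.card_pos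
  have h1 : Fintype.card F ^ 2 % 16 = 1 := by
    obtain ⟨c, hc⟩ := h16
    have : Fintype.card F ^ 2 = 16 * c + 1 := by omega
    rw [this]; omega
  rw [Nat.pow_mod] at h1
  have hlt : Fintype.card F % 16 < 16 := Nat.mod_lt _ (by norm_num)
  have h8 : Fintype.card F % 8 = (Fintype.card F % 16) % 8 := by omega
  have hodd' : (Fintype.card F % 16) % 2 = 1 := by omega
  rw [h8]
  generalize Fintype.card F % 16 = r at *
  interval_cases r <;> simp_all

/-- Self-normalizing Sylow 2-subgroups in `PSL₂(q)`, `q ≡ ±1 mod 8`. -/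
theorem normalizer_sylow_eq (hodd : Fintype.card F % 2 = 1) (h16 : 16 ∣ Fintype.card F ^ 2 - 1)
    (S : Sylow 2 PSL2) :
    Subgroup.normalizer ((S : Subgroup PSL2) : Set PSL2) = (S : Subgroup PSL2) := by
  have h2 := two_ne_zero_of_odd_card hodd
  have hodd' : Odd (Fintype.card F) := Nat.odd_iff.2 hodd
  have h := (Cfsg.Agent.S2431.result hodd' (liftSylow S)).2.1 (card_mod_eight hodd h16)
  rw [coe_liftSylow] at h
  rw [← Subgroup.comap_normalizer_eq_of_surjective _ proj_surjective] at h
  exact Subgroup.comap_injective proj_surjective h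

/-- Generation of a Sylow 2-subgroup of `PSL₂(q)` by involutions, and nontriviality. -/
theorem sylow_gen_involutions (hodd : Fintype.card F % 2 = 1) (S : Sylow 2 PSL2) :
    (S : Subgroup PSL2) ≠ ⊥ ∧
    (S : Subgroup PSL2) ≤ Subgroup.closure {x : PSL2 | x ∈ (S : Subgroup PSL2) ∧ orderOf x = 2} := by
  have h2 := two_ne_zero_of_odd_card hodd
  have hodd' : Odd (Fintype.card F) := Nat.odd_iff.2 hodd
  obtain ⟨k, hk, ⟨e⟩⟩ := Cfsg.Agent.S0261.result hodd' (liftSylow S)
  have : NeZero (2 ^ k) := ⟨by positivity⟩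
  -- the images of the `xa i`
  have key : ∀ i : ZMod (2 * 2 ^ k),
      (QuotientGroup.mk ((e.symm (QuaternionGroup.xa i) : (liftSylow S : Subgroup SL2)) : SL2) : PSL2) ∈
        {x : PSL2 | x ∈ (S : Subgroup PSL2) ∧ orderOf x = 2} := by
    intro i
    refine ⟨?_, ?_⟩
    · exact (e.symm (QuaternionGroup.xa i)).2
    · apply orderOf_proj_of_orderOf_eq_four h2
      rw [Subgroup.orderOf_coe, MulEquiv.orderOf_eq, QuaternionGroup.orderOf_xa]
  constructor
  · intro hbot
    have h1 := (key 0).1
    rw [hbot, Subgroup.mem_bot] at h1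
    have h3 := (key 0).2
    rw [h1, orderOf_one] at h3
    omega
  · intro y hy
    obtain ⟨A, rfl⟩ := QuotientGroup.mk_surjective y
    have hA : A ∈ (liftSylow S : Subgroup SL2) := by
      rw [coe_liftSylow]; exact hy
    have hAe : A = ((e.symm (e ⟨A, hA⟩) : (liftSylow S : Subgroup SL2)) : SL2) := by
      rw [MulEquiv.symm_apply_apply]
    rcases hq : e ⟨A, hA⟩ with i | i
    · -- `a i = xa 0 * xa (i - n)`
      have hdecomp : (QuaternionGroup.a i : QuaternionGroup (2 ^ k)) =
          QuaternionGroup.xa 0 * QuaternionGroup.xa (i - ((2 ^ k : ℕ) : ZMod (2 * 2 ^ k))) := by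
        rw [QuaternionGroup.xa_mul_xa]
        congr 1
        ring
      rw [hAe, hq, hdecomp, map_mul, Subgroup.coe_mul, QuotientGroup.mk_mul]
      exact Subgroup.mul_mem _ (Subgroup.subset_closure (key _)) (Subgroup.subset_closure (key _))
    · rw [hAe, hq]
      exact Subgroup.subset_closure (key i)

/-- The 2-fusion system of `PSL₂(q)`, `q² ≡ 1 mod 16`, is simple. -/
theorem psl2_fusion_isSimple (hodd : Fintype.card F % 2 = 1) (h16 : 16 ∣ Fintype.card F ^ 2 - 1)
    (S : Sylow 2 PSL2) : (Cfsg.groupFusionSystem (S : Subgroup PSL2)).IsSimple 2 := by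
  obtain ⟨hS1, hgen⟩ := sylow_gen_involutions hodd S
  exact FusionSelfNorm.isSimple_of_selfNormalizing 2 S hS1 (normalizer_sylow_eq hodd h16 S)
    (isConj_of_orderOf_eq_two hodd) hgen

end Cfsg.Agent.Lib.Helper98.PSL2Fusion
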