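import Cfsg.Agent.Lib.Helper98.WreathFusion

/-!
# Lifting the wreath data from a double cover

`π : E →* G` surjective with kernel `{1, ι (ζ, ζ)}`; the hypotheses of `WreathFusion` are derived from statements in
`E` (for `PSp₄(q)`: `E = Sp₄(q)`).
-/

set_option autoImplicit false
set_option linter.unusedSectionVars false

namespace Cfsg.Agent.Lib.Helper98.WreathLift

open Cfsg Cfsg.Agent.Lib.Helper98.WreathFusion

variable {G L E : Type*} [Group G] [Group L] [Group E]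

/-- Facts in the covering group. -/
structure CoverData (ι : L × L →* E) (τ : E) (ζ : L) : Prop where
  inj : Function.Injective ι
  sq : τ * τ = 1
  swap : ∀ a b, τ * ι (a, b) * τ⁻¹ = ι (b, a)
  not_range : ∀ a b, ι (a, b) ≠ τ
  cent : ∀ g, g * ι (ζ, 1) = ι (ζ, 1) * g → ∃ a b, g = ι (a, b)
  zeta_ne : ζ ≠ 1
  zeta_sq : ζ * ζ = 1
  zeta_central : ∀ a, a * ζ = ζ * a
  tau_conj : ∃ g, g * ι (ζ, 1) * g⁻¹ = ι (ζ, ζ) * τ

/-- Facts about the Sylow `2`-subgroup `Q` of `L`. -/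
structure QData (ζ : L) (Q : Subgroup L) : Prop where
  zeta_mem : ζ ∈ Q
  center_Q : ∀ a ∈ Q, (∀ b ∈ Q, a * b = b * a) → a = 1 ∨ a = ζ
  exists_nc : ∃ c ∈ Q, c ≠ 1 ∧ c ≠ ζ
  gen : ∀ Q₁ : Subgroup L, (∀ a ∈ Q, ∀ a' ∈ Q, a * a = ζ → a' * a' = ζ → a * a'⁻¹ ∈ Q₁) → Q ≤ Q₁
  conj : ∀ a ∈ Q, ∀ b ∈ Q, a * a = ζ → b * b = ζ → ∃ c : L, c * a⁻¹ * c⁻¹ = b

variable {ι : L × L →* E} {τ : E} {ζ : L} {Q : Subgroup L}

theorem iota_mul (ι : L × L →* E) (a b a' b' : L) : ι (a, b) * ι (a', b') = ι (a * a', b * b') := by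
  rw [← map_mul]; rfl

theorem iota_inv (ι : L × L →* E) (a b : L) : (ι (a, b))⁻¹ = ι (a⁻¹, b⁻¹) := by
  rw [← map_inv]; rfl

theorem wreathData (π : E →* G) (hsurj : Function.Surjective π)
    (hker : ∀ x, π x = 1 ↔ x = 1 ∨ x = ι (ζ, ζ)) (C : CoverData ι τ ζ) (HQ : QData ζ Q) :
    WreathData (π.comp ι) (π τ) ζ Q := by
  have hτinv : τ⁻¹ = τ := inv_eq_of_mul_eq_one_left C.sq
  have hζinv : ζ⁻¹ = ζ := inv_eq_of_mul_eq_one_left C.zeta_sq
  refine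
    { ker := ?_
      ker_zeta := ?_
      sq := ?_
      swap := ?_
      not_range := ?_
      cent := ?_
      zeta_ne := C.zeta_ne
      zeta_sq := C.zeta_sq
      zeta_central := C.zeta_central
      zeta_mem := HQ.zeta_mem
      center_Q := HQ.center_Q
      exists_nc := HQ.exists_nc
      gen := HQ.gen
      conj := HQ.conj
      sigma_conj := ?_ }
  · intro a b h
    rcases (hker _).1 h with h1 | h1
    · left
      have : ι (a, b) = ι (1, 1) := by rw [h1]; exact (map_one ι).symm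
      have := C.inj this
      exact ⟨congrArg Prod.fst this, congrArg Prod.snd this⟩
    · right
      have := C.inj h1
      exact ⟨congrArg Prod.fst this, congrArg Prod.snd this⟩
  · exact (hker _).2 (Or.inr rfl)
  · rw [← map_mul, C.sq, map_one]
  · intro a b
    show π τ * π (ι (a, b)) * (π τ)⁻¹ = π (ι (b, a))
    rw [← map_inv, ← map_mul, ← map_mul, C.swap]
  · intro a b h
    have h1 : π ((ι (a, b))⁻¹ * τ) = 1 := by
      rw [map_mul, map_inv]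
      have : π (ι (a, b)) = π τ := h
      rw [this, inv_mul_cancel]
    rcases (hker _).1 h1 with h2 | h2
    · apply C.not_range a b
      have := inv_mul_eq_one.1 h2
      exact this
    · apply C.not_range (a * ζ) (b * ζ)
      rw [← iota_mul, ← h2, mul_inv_cancel_left]
  · intro g hg
    obtain ⟨g', rfl⟩ := hsurj g
    have hg' : π g' * π (ι (ζ, 1)) = π (ι (ζ, 1)) * π g' := hg
    have h1 : π (g' * ι (ζ, 1) * g'⁻¹ * (ι (ζ, 1))⁻¹) = 1 := by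
      rw [map_mul, map_mul, map_mul, hg', map_inv, map_inv]
      group
    rcases (hker _).1 h1 with h2 | h2
    · have h3 : g' * ι (ζ, 1) = ι (ζ, 1) * g' := by
        have := mul_inv_eq_one.1 h2
        calc g' * ι (ζ, 1) = (g' * ι (ζ, 1) * g'⁻¹) * g' := by group
          _ = ι (ζ, 1) * g' := by rw [this]
      obtain ⟨a, b, hab⟩ := C.cent g' h3
      exact ⟨a, b, Or.inl (by rw [hab]; rfl)⟩
    · have h3 : g' * ι (ζ, 1) * g'⁻¹ = ι (1, ζ) := by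
        have := mul_inv_eq_iff_eq_mul.1 h2
        rw [this, iota_mul, C.zeta_sq, mul_one]
      have h4 : (τ * g') * ι (ζ, 1) = ι (ζ, 1) * (τ * g') := by
        calc (τ * g') * ι (ζ, 1) = τ * (g' * ι (ζ, 1) * g'⁻¹) * τ⁻¹ * (τ * g') := by group
          _ = ι (ζ, 1) * (τ * g') := by rw [h3, C.swap]
      obtain ⟨a, b, hab⟩ := C.cent _ h4
      refine ⟨b, a, Or.inr ?_⟩
      have h5 : g' = ι (b, a) * τ := by
        calc g' = τ⁻¹ * (τ * g') := by group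
          _ = τ * ι (a, b) * τ⁻¹ * τ := by rw [hab, inv_mul_cancel_right, hτinv]
          _ = ι (b, a) * τ := by rw [C.swap]
      rw [h5, map_mul]; rfl
  · obtain ⟨g, hg⟩ := C.tau_conj
    refine ⟨π g, ?_⟩
    show π g * π (ι (ζ, 1)) * (π g)⁻¹ = π τ
    rw [← map_inv, ← map_mul, ← map_mul, hg, map_mul, (hker _).2 (Or.inr rfl), one_mul]

theorem mem_map_iff (π : E →* G) (K : Subgroup E)
    (hK : ∀ k, k ∈ K ↔ ∃ a ∈ Q, ∃ b ∈ Q, k = ι (a, b) ∨ k = ι (a, b) * τ) (s : G) :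
    s ∈ K.map π ↔ ∃ a ∈ Q, ∃ b ∈ Q, s = (π.comp ι) (a, b) ∨ s = (π.comp ι) (a, b) * π τ := by
  constructor
  · rintro ⟨k, hk, rfl⟩
    obtain ⟨a, ha, b, hb, rfl | rfl⟩ := (hK k).1 hk
    · exact ⟨a, ha, b, hb, Or.inl rfl⟩
    · exact ⟨a, ha, b, hb, Or.inr (by rw [map_mul]; rfl)⟩
  · rintro ⟨a, ha, b, hb, rfl | rfl⟩
    · exact ⟨ι (a, b), (hK _).2 ⟨a, ha, b, hb, Or.inl rfl⟩, rfl⟩
    · exact ⟨ι (a, b) * τ, (hK _).2 ⟨a, ha, b, hb, Or.inr rfl⟩, by rw [map_mul]; rfl⟩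

/-- **Case A.** -/
theorem isSimple_caseA [Finite G] (π : E →* G) (hsurj : Function.Surjective π)
    (hker : ∀ x, π x = 1 ↔ x = 1 ∨ x = ι (ζ, ζ)) (C : CoverData ι τ ζ) (HQ : QData ζ Q)
    (S : Sylow 2 G) (K : Subgroup E)
    (hK : ∀ k, k ∈ K ↔ ∃ a ∈ Q, ∃ b ∈ Q, k = ι (a, b) ∨ k = ι (a, b) * τ)
    (hSK : (S : Subgroup G) = K.map π)
    (hN : ∀ a : L, (∀ x ∈ Q, a * x * a⁻¹ ∈ Q) → a ∈ Q) :
    (Cfsg.groupFusionSystem (S : Subgroup G)).IsSimple 2 := by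
  have D := wreathData π hsurj hker C HQ
  have hS : ∀ s, s ∈ (S : Subgroup G) ↔
      ∃ a ∈ Q, ∃ b ∈ Q, s = (π.comp ι) (a, b) ∨ s = (π.comp ι) (a, b) * π τ := by
    intro s
    rw [hSK]
    exact mem_map_iff π K hK s
  exact D.isSimple_of_selfNormalizing S hS hN

/-- **Case B.** -/
theorem isSimple_caseB [Finite G] (π : E →* G) (hsurj : Function.Surjective π)
    (hker : ∀ x, π x = 1 ↔ x = 1 ∨ x = ι (ζ, ζ)) (C : CoverData ι τ ζ) (HQ : QData ζ Q)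
    (S : Sylow 2 G) (K : Subgroup E)
    (hK : ∀ k, k ∈ K ↔ ∃ a ∈ Q, ∃ b ∈ Q, k = ι (a, b) ∨ k = ι (a, b) * τ)
    (hSK : (S : Subgroup G) = K.map π)
    (c : L)
    (hN : ∀ a : L, (∀ x ∈ Q, a * x * a⁻¹ ∈ Q) → ∃ n : ℕ, ∃ q ∈ Q, a = c ^ n * q)
    (hcQ : ∀ x ∈ Q, c * x * c⁻¹ ∈ Q) (hc3 : c ^ 3 = 1)
    (hE1 : ∀ a ∈ Q, ∀ x ∈ Q, a * x * a⁻¹ = x ∨ a * x * a⁻¹ = ζ * x)
    (hE2 : ∀ y ∈ Q, y⁻¹ = y ∨ y⁻¹ = ζ * y)
    (hE3 : ∀ b : L, (∀ x ∈ Q, b * x * b⁻¹ = x ∨ b * x * b⁻¹ = ζ * x) → b ∈ Q)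
    (w : E) (hW1 : ∀ x ∈ Q, ∃ x' ∈ Q, w * ι (x, x) = ι (x', x') * w)
    (hW2 : w * ι (ζ, 1) = ι (ζ, ζ) * τ * w) (hW2' : w * τ = ι (1, ζ) * w)
    (hW3 : ∃ u ∈ Q, u * u = ζ ∧ w * w = ι (u, u))
    (hW4 : ∃ v ∈ Q, w * ι (c, c) = ι (v, v) * (ι (c, c))⁻¹ * w) :
    (Cfsg.groupFusionSystem (S : Subgroup G)).IsSimple 2 := by
  have D := wreathData π hsurj hker C HQ
  have hS : ∀ s, s ∈ (S : Subgroup G) ↔
      ∃ a ∈ Q, ∃ b ∈ Q, s = (π.comp ι) (a, b) ∨ s = (π.comp ι) (a, b) * π τ := by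
    intro s
    rw [hSK]
    exact mem_map_iff π K hK s
  have hz : π (ι (ζ, ζ)) = 1 := (hker _).2 (Or.inr rfl)
  refine D.isSimple_of_Q8 S hS c hN hcQ hc3 hE1 hE2 hE3 (π w) ?_ ?_ ?_ ?_ ?_
  · intro x hx
    obtain ⟨x', hx', h⟩ := hW1 x hx
    have : π w * (π.comp ι) (x, x) * (π w)⁻¹ = (π.comp ι) (x', x') := by
      show π w * π (ι (x, x)) * (π w)⁻¹ = π (ι (x', x'))
      rw [← map_mul, h, map_mul, mul_inv_cancel_right]
    rw [this]
    exact WreathData.diag_mem_auxR hx'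
  · have : π w * (π.comp ι) (ζ, 1) * (π w)⁻¹ = π τ := by
      show π w * π (ι (ζ, 1)) * (π w)⁻¹ = π τ
      rw [← map_mul, hW2, map_mul, map_mul, hz, one_mul, mul_inv_cancel_right]
    rw [this]
    exact WreathData.sigma_mem_auxR
  · have : π w * π τ * (π w)⁻¹ = (π.comp ι) (ζ, 1) := by
      show π w * π τ * (π w)⁻¹ = π (ι (ζ, 1))
      rw [← map_mul, hW2', map_mul, mul_inv_cancel_right]
      exact D.z0_eq.symm
    rw [this]
    exact WreathData.z0_mem_auxR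
  · obtain ⟨u, -, huu, hw⟩ := hW3
    have : π w ^ 4 = π ((w * w) * (w * w)) := by
      rw [← map_pow]
      congr 1
      simp only [pow_succ, pow_zero, one_mul, mul_assoc]
    rw [this, hw, iota_mul, huu, hz]
  · obtain ⟨v, hv, h⟩ := hW4
    have : π w * (π.comp ι) (c, c) * (π w)⁻¹ * (π.comp ι) (c, c) = (π.comp ι) (v, v) := by
      show π w * π (ι (c, c)) * (π w)⁻¹ * π (ι (c, c)) = π (ι (v, v))
      rw [← map_mul, h, map_mul, map_mul, mul_inv_cancel_right, map_inv, inv_mul_cancel_right]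
    rw [this]
    exact WreathData.diag_mem_auxR hv

end Cfsg.Agent.Lib.Helper98.WreathLift
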