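import Cfsg.Agent.Lib.Helper98.QuatFacts
import Cfsg.Agent.Lib.Helper98.WreathLift
import Cfsg.Agent.Lib.Helper98.PSL2Fusion
import Cfsg.Agent.Lib.Helper41.SL2TorusCount
import Cfsg.Agent.Lib.Helper41.SL2Trace

/-!
# The Sylow `2`-subgroups of `SL₂(q)`, `q` odd, as data for `WreathLift`
-/

set_option autoImplicit false

namespace Cfsg.Agent.Lib.Helper98.SL2Quat

open Cfsg Cfsg.Agent.Lib.Helper41 Cfsg.Agent.Lib.Helper98.WreathLift

variable {F : Type*} [Field F]

local notation "SL2" => Matrix.SpecialLinearGroup (Fin 2) F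
local notation "M2" => Matrix (Fin 2) (Fin 2) F

theorem negOne_central (x : SL2) : x * negOne = negOne * x := by
  apply Subtype.ext
  rw [Matrix.SpecialLinearGroup.coe_mul, Matrix.SpecialLinearGroup.coe_mul, coe_negOne]
  simp

theorem negOne_inv : (negOne : SL2)⁻¹ = negOne := inv_eq_of_mul_eq_one_left negOne_mul_self

theorem eq_negOne_of_coe {x : SL2} (h : (x : M2) = -1) : x = negOne := by
  apply Subtype.ext
  rw [h, coe_negOne]

theorem eq_negOne_of_sq (h2 : (2 : F) ≠ 0) (x : SL2) (hx : x * x = 1) (hx1 : x ≠ 1) : x = negOne := by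
  rcases PSL2Fusion.eq_pm_one_of_sq_eq_one h2 x hx with h | h
  · exfalso
    apply hx1
    apply Subtype.ext
    rw [h, Matrix.SpecialLinearGroup.coe_one]
  · exact eq_negOne_of_coe h

variable [Fintype F]

/-- Elements of `SL₂` with square `-1` are conjugate. -/
theorem exists_conj_of_sq (h2 : (2 : F) ≠ 0) (x y : SL2) (hx : x * x = negOne) (hy : y * y = negOne) :
    ∃ c : SL2, c * x * c⁻¹ = y := by
  have hx' : (x : M2) * (x : M2) = -1 := by
    rw [← Matrix.SpecialLinearGroup.coe_mul, hx, coe_negOne]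
  have hy' : (y : M2) * (y : M2) = -1 := by
    rw [← Matrix.SpecialLinearGroup.coe_mul, hy, coe_negOne]
  have htx := PSL2Fusion.tr2_eq_zero_of_sq_eq_neg_one x hx'
  have hty := PSL2Fusion.tr2_eq_zero_of_sq_eq_neg_one y hy'
  have hc : IsConj x y := by
    apply isConj_of_tr2_eq
    · rw [htx]
      intro h
      have h4 : (4 : F) = 2 * 2 := by norm_num
      rw [h4] at h
      have : (2 : F) * 2 = 0 := by rw [← h]; ring
      rcases mul_eq_zero.1 this with h | h <;> exact h2 h
    · rw [htx, hty]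
  exact isConj_iff.1 hc

/-- The data `QData` for a Sylow `2`-subgroup of `SL₂(q)`. -/
theorem qdata (hodd : Fintype.card F % 2 = 1) (Q : Sylow 2 SL2) :
    QData (negOne : SL2) (Q : Subgroup SL2) := by
  have h2 := PSL2Fusion.two_ne_zero_of_odd_card hodd
  have hodd' : Odd (Fintype.card F) := Nat.odd_iff.2 hodd
  obtain ⟨k, hk, ⟨e⟩⟩ := Cfsg.Agent.S0261.result hodd' Q
  haveI : NeZero (2 ^ k) := ⟨by positivity⟩
  have hn2 : 2 ≤ 2 ^ k := by
    calc 2 = 2 ^ 1 := rfl
      _ ≤ 2 ^ k := Nat.pow_le_pow_right (by norm_num) hk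
  set n := 2 ^ k with hn
  -- the central involution
  have hz : ((e.symm (QuaternionGroup.a (n : ZMod (2 * n))) : (Q : Subgroup SL2)) : SL2) = negOne := by
    apply eq_negOne_of_sq h2
    · rw [← Subgroup.coe_mul, ← map_mul, QuatFacts.an_mul_an, map_one, Subgroup.coe_one]
    · intro h
      have h1 : e.symm (QuaternionGroup.a (n : ZMod (2 * n))) = 1 := Subtype.ext h
      rw [MulEquiv.map_eq_one_iff] at h1
      exact QuatFacts.an_ne_one h1
  have hzmem : (negOne : SL2) ∈ (Q : Subgroup SL2) := by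
    rw [← hz]; exact (e.symm _).2
  have hez : e ⟨negOne, hzmem⟩ = QuaternionGroup.a (n : ZMod (2 * n)) := by
    have : (⟨negOne, hzmem⟩ : (Q : Subgroup SL2)) = e.symm (QuaternionGroup.a (n : ZMod (2 * n))) :=
      Subtype.ext hz.symm
    rw [this, MulEquiv.apply_symm_apply]
  refine ⟨hzmem, ?_, ?_, ?_, ?_⟩
  · intro a ha hcomm
    have h1 : ∀ x : QuaternionGroup n, e ⟨a, ha⟩ * x = x * e ⟨a, ha⟩ := by
      intro x
      have h3 := hcomm (e.symm x : (Q : Subgroup SL2)) (e.symm x).2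
      have h4 : (⟨a, ha⟩ : (Q : Subgroup SL2)) * e.symm x = e.symm x * ⟨a, ha⟩ := Subtype.ext h3
      have h5 := congrArg e h4
      rwa [map_mul, map_mul, MulEquiv.apply_symm_apply] at h5
    rcases QuatFacts.center_eq hn2 _ h1 with h3 | h3
    · left
      rw [MulEquiv.map_eq_one_iff] at h3
      exact congrArg Subtype.val h3
    · right
      rw [← hez] at h3
      exact congrArg Subtype.val (e.injective h3)
  · refine ⟨(e.symm (QuaternionGroup.a 1) : (Q : Subgroup SL2)), (e.symm _).2, ?_, ?_⟩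
    · intro h
      have h1 : e.symm (QuaternionGroup.a 1) = 1 := Subtype.ext h
      rw [MulEquiv.map_eq_one_iff] at h1
      exact (QuatFacts.a_one_ne hn2).1 h1
    · intro h
      have h1 : e.symm (QuaternionGroup.a 1) = e.symm (QuaternionGroup.a (n : ZMod (2 * n))) :=
        Subtype.ext (h.trans hz.symm)
      exact (QuatFacts.a_one_ne hn2).2 (e.symm.injective h1)
  · intro Q₁ hQ₁
    obtain ⟨m, hm⟩ : ∃ m, n = 2 * m := by
      obtain ⟨j, rfl⟩ : ∃ j, k = j + 1 := ⟨k - 1, by omega⟩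
      exact ⟨2 ^ j, by rw [hn, pow_succ]; ring⟩
    have key := QuatFacts.gen_top m hm ((Q₁.subgroupOf (Q : Subgroup SL2)).comap e.symm.toMonoidHom) ?_
    · intro x hx
      have := key (e ⟨x, hx⟩)
      rw [Subgroup.mem_comap, Subgroup.mem_subgroupOf] at this
      simpa using this
    · intro y y' hy hy'
      rw [Subgroup.mem_comap, Subgroup.mem_subgroupOf]
      have h1 : ((e.symm y : (Q : Subgroup SL2)) : SL2) * ((e.symm y : (Q : Subgroup SL2)) : SL2) = negOne := by
        rw [← Subgroup.coe_mul, ← map_mul, hy, hz]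
      have h1' : ((e.symm y' : (Q : Subgroup SL2)) : SL2) * ((e.symm y' : (Q : Subgroup SL2)) : SL2) = negOne := by
        rw [← Subgroup.coe_mul, ← map_mul, hy', hz]
      have := hQ₁ _ (e.symm y).2 _ (e.symm y').2 h1 h1'
      simpa using this
  · intro a _ b _ haa hbb
    have h1 : a⁻¹ * a⁻¹ = negOne := by
      rw [← mul_inv_rev, haa, negOne_inv]
    exact exists_conj_of_sq h2 a⁻¹ b h1 hbb

/-- Case A: `Q` is self-normalizing. -/
theorem normalizer_eq (hodd : Fintype.card F % 2 = 1)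
    (h8 : Fintype.card F % 8 = 1 ∨ Fintype.card F % 8 = 7) (Q : Sylow 2 SL2) :
    ∀ a : SL2, (∀ x ∈ (Q : Subgroup SL2), a * x * a⁻¹ ∈ (Q : Subgroup SL2)) → a ∈ (Q : Subgroup SL2) := by
  intro a ha
  have hodd' : Odd (Fintype.card F) := Nat.odd_iff.2 hodd
  have h := (Cfsg.Agent.S2431.result hodd' Q).2.1 h8
  rw [← h]
  exact Subgroup.mem_normalizer_fintype ha

end Cfsg.Agent.Lib.Helper98.SL2Quat
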