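import Cfsg.Prelude.Def_Classical
import Cfsg.Agent.Lib.Helper5.UnitaryCenter

set_option autoImplicit false
set_option linter.unusedSectionVars false
open Cfsg
open scoped Matrix

namespace Cfsg.Agent.Lib.Helper98.U34

section field
variable {F : Type*} [Field F] [Fintype F]

theorem hF' (hF : Fintype.card F = 16) : Fintype.card F = 4 ^ 2 := by rw [hF]; norm_num

theorem two_eq_zero (hF : Fintype.card F = 16) : (2 : F) = 0 := by
  have h16 : ((16 : ℕ) : F) = 0 := by rw [← hF]; exact Nat.cast_card_eq_zero F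
  have h : (2 : F) ^ 4 = 0 := by
    have : ((16 : ℕ) : F) = 2 ^ 4 := by norm_num
    rw [← this]; exact h16
  exact pow_eq_zero_iff (by norm_num) |>.mp h

theorem charP_two (hF : Fintype.card F = 16) : CharP F 2 :=
  CharTwo.of_one_ne_zero_of_two_eq_zero one_ne_zero (two_eq_zero hF)

theorem pow16 (hF : Fintype.card F = 16) (x : F) : x ^ 16 = x := by
  have := FiniteField.pow_card x
  rwa [hF] at this

theorem exists_omega (hF : Fintype.card F = 16) : ∃ w : F, w ≠ 0 ∧ w ^ 2 = w + 1 := by
  have := charP_two hF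
  have : Fact (Nat.Prime 3) := ⟨Nat.prime_three⟩
  have hcard : Nat.card Fˣ = 15 := by
    rw [Cfsg.Agent.Lib.Helper5.card_units_eq_sq_sub_one (hF' hF)]; norm_num
  obtain ⟨u, hu⟩ := exists_prime_orderOf_dvd_card' (G := Fˣ) 3 (by rw [hcard]; norm_num)
  have hu3 : u ^ 3 = 1 := by rw [← hu]; exact pow_orderOf_eq_one u
  have hu1 : u ≠ 1 := by
    intro h; rw [h, orderOf_one] at hu; omega
  refine ⟨(u : F), u.ne_zero, ?_⟩
  have h3 : (u : F) ^ 3 = 1 := by
    rw [← Units.val_pow_eq_pow_val, hu3, Units.val_one]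
  have h1 : (u : F) ≠ 1 := by
    intro h; apply hu1; exact Units.ext h
  have h4 : ((u : F) - 1) * ((u : F) ^ 2 + (u : F) + 1) = 0 := by linear_combination h3
  rcases mul_eq_zero.mp h4 with h5 | h5
  · exact absurd (sub_eq_zero.mp h5) h1
  · grind

/-- An element of relative trace one. -/
theorem exists_theta (hF : Fintype.card F = 16) : ∃ θ : F, θ + θ ^ 4 = 1 := by
  have := charP_two hF
  obtain ⟨g, hg⟩ := Cfsg.Agent.Lib.Helper5.exists_pow_q_ne (hF' hF)
  have h16 := pow16 hF g
  have ht0 : g + g ^ 4 ≠ 0 := by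
    intro h
    apply hg
    have : g ^ 4 = g := by grind
    exact this
  have ht4 : (g + g ^ 4) ^ 4 = g + g ^ 4 := by grind
  have ht3 : (g + g ^ 4) ^ 3 = 1 := by
    have : (g + g ^ 4) * ((g + g ^ 4) ^ 3 - 1) = 0 := by grind
    rcases mul_eq_zero.mp this with h | h
    · exact absurd h ht0
    · exact sub_eq_zero.mp h
  refine ⟨(g + g ^ 4) ^ 2 * g, ?_⟩
  grind

/-- The fixed field of the involution has four elements. -/
theorem fixed_cases (hF : Fintype.card F = 16) (w : F) (hw : w ^ 2 = w + 1) (k : F)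
    (hk : k ^ 4 = k) : k = 0 ∨ k = 1 ∨ k = w ∨ k = w ^ 2 := by
  have := charP_two hF
  have h : k * ((k - 1) * ((k - w) * (k - w ^ 2))) = 0 := by grind
  rcases mul_eq_zero.mp h with h | h
  · exact Or.inl h
  rcases mul_eq_zero.mp h with h | h
  · exact Or.inr (Or.inl (sub_eq_zero.mp h))
  rcases mul_eq_zero.mp h with h | h
  · exact Or.inr (Or.inr (Or.inl (sub_eq_zero.mp h)))
  · exact Or.inr (Or.inr (Or.inr (sub_eq_zero.mp h)))

theorem card_fixed (hF : Fintype.card F = 16) : Nat.card {k : F // k ^ 4 = k} = 4 := by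
  classical
  have := charP_two hF
  obtain ⟨w, hw0, hw⟩ := exists_omega hF
  have hw1 : w ≠ 1 := by
    intro h; rw [h] at hw; grind
  rw [Nat.card_eq_fintype_card, Fintype.card_subtype]
  have : (Finset.univ.filter fun k : F => k ^ 4 = k) = {0, 1, w, w ^ 2} := by
    ext k
    simp only [Finset.mem_filter, Finset.mem_univ, true_and, Finset.mem_insert,
      Finset.mem_singleton]
    constructor
    · exact fixed_cases hF w hw k
    · rintro (rfl | rfl | rfl | rfl)
      · simp
      · simp
      · grind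
      · grind
  rw [this]
  have h01 : (0 : F) ≠ 1 := zero_ne_one
  have hw2 : w ^ 2 ≠ 0 := pow_ne_zero 2 hw0
  have hw21 : w ^ 2 ≠ 1 := by
    intro h; apply hw0; grind
  have hw2w : w ^ 2 ≠ w := by
    intro h; rw [hw] at h; grind
  rw [Finset.card_insert_of_notMem, Finset.card_insert_of_notMem, Finset.card_insert_of_notMem,
    Finset.card_singleton]
  · simp only [Finset.mem_singleton]; exact fun h => hw2w h.symm
  · simp only [Finset.mem_insert, Finset.mem_singleton, not_or]
    exact ⟨fun h => hw1 h.symm, fun h => hw21 h.symm⟩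
  · simp only [Finset.mem_insert, Finset.mem_singleton, not_or]
    exact ⟨h01, fun h => hw0 h.symm, fun h => hw2 h.symm⟩

end field

section transfer

theorem structure_transfer {T₀ T : Type*} [Group T₀] [Group T] (e : T₀ ≃* T)
    (hT : Nat.card T₀ = 64) (hZ : Nat.card (Subgroup.center T₀) = 4)
    (hsq : ∀ t : T₀, t * t ∈ Subgroup.center T₀)
    (hZ2 : ∀ z ∈ Subgroup.center T₀, z * z = 1)
    (hinv : ∀ t : T₀, t * t = 1 → t ∈ Subgroup.center T₀)
    (hcomm : ∀ z ∈ Subgroup.center T₀, ∃ s t : T₀, z = s * t * s⁻¹ * t⁻¹) :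
    Nat.card T = 64 ∧ IsKleinFour (Subgroup.center T) ∧
    Subgroup.center T = Subgroup.closure {x : T | orderOf x = 2} ∧
    Subgroup.center T = commutator T ∧
    Nat.card (T ⧸ Subgroup.center T) = 16 ∧ ∀ x : T ⧸ Subgroup.center T, x ^ 2 = 1 := by
  have hcen : ∀ z : T, z ∈ Subgroup.center T ↔ e.symm z ∈ Subgroup.center T₀ := by
    intro z
    rw [Subgroup.mem_center_iff, Subgroup.mem_center_iff]
    constructor
    · intro h g
      have := h (e g)
      apply e.injective
      rw [map_mul, map_mul, e.apply_symm_apply]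
      exact this
    · intro h g
      have := h (e.symm g)
      apply e.symm.injective
      rw [map_mul, map_mul]
      exact this
  have hcardT : Nat.card T = 64 := by rw [← hT]; exact (Nat.card_congr e.toEquiv).symm
  have hcardZ : Nat.card (Subgroup.center T) = 4 := by
    rw [← hZ]; exact (Nat.card_congr (Subgroup.centerCongr e).toEquiv).symm
  have hsq' : ∀ t : T, t * t ∈ Subgroup.center T := by
    intro t
    rw [hcen, map_mul]
    exact hsq _
  have hZ2' : ∀ z ∈ Subgroup.center T, z * z = 1 := by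
    intro z hz
    apply e.symm.injective
    rw [map_mul, map_one]
    exact hZ2 _ ((hcen z).mp hz)
  have hinv' : ∀ t : T, t * t = 1 → t ∈ Subgroup.center T := by
    intro t ht
    rw [hcen]
    apply hinv
    rw [← map_mul, ht, map_one]
  have hcomm' : ∀ z ∈ Subgroup.center T, ∃ s t : T, z = s * t * s⁻¹ * t⁻¹ := by
    intro z hz
    obtain ⟨s, t, hst⟩ := hcomm _ ((hcen z).mp hz)
    refine ⟨e s, e t, ?_⟩
    have := congrArg e hst
    rw [e.apply_symm_apply] at this
    rw [this]
    simp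
  refine ⟨hcardT, ?_, ?_, ?_, ?_, ?_⟩
  · have hfin : Finite (Subgroup.center T) :=
      Nat.finite_of_card_ne_zero (by rw [hcardZ]; norm_num)
    have hnt : Nontrivial (Subgroup.center T) := by
      apply (Finite.one_lt_card_iff_nontrivial).mp
      rw [hcardZ]; norm_num
    refine ⟨hcardZ, ?_⟩
    rw [Monoid.exponent_eq_prime_iff Nat.prime_two]
    intro g hg
    have : Fact (Nat.Prime 2) := ⟨Nat.prime_two⟩
    apply orderOf_eq_prime
    · apply Subtype.ext
      have := hZ2' g.1 g.2
      simpa [pow_two] using this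
    · exact hg
  · apply le_antisymm
    · intro z hz
      by_cases h1 : z = 1
      · rw [h1]; exact Subgroup.one_mem _
      · apply Subgroup.subset_closure
        have : Fact (Nat.Prime 2) := ⟨Nat.prime_two⟩
        exact orderOf_eq_prime (by rw [pow_two]; exact hZ2' z hz) h1
    · rw [Subgroup.closure_le]
      intro x hx
      have hx2 : orderOf x = 2 := hx
      apply hinv'
      rw [← pow_two, ← hx2]
      exact pow_orderOf_eq_one x
  · apply le_antisymm
    · intro z hz
      obtain ⟨s, t, rfl⟩ := hcomm' z hz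
      rw [commutator_def, ← commutatorElement_def]
      exact Subgroup.commutator_mem_commutator (Subgroup.mem_top s) (Subgroup.mem_top t)
    · rw [commutator_def, Subgroup.commutator_le]
      intro s _ t _
      rw [commutatorElement_def]
      have hB := (Subgroup.mem_center_iff.mp (hsq' s⁻¹)) t
      have : s * t * s⁻¹ * t⁻¹ = (s * t * (s * t)) * (s⁻¹ * s⁻¹) * (t⁻¹ * t⁻¹) := by
        symm
        calc (s * t * (s * t)) * (s⁻¹ * s⁻¹) * (t⁻¹ * t⁻¹)
            = s * t * s * (t * (s⁻¹ * s⁻¹)) * t⁻¹ * t⁻¹ := by group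
          _ = s * t * s * ((s⁻¹ * s⁻¹) * t) * t⁻¹ * t⁻¹ := by rw [hB]
          _ = s * t * s⁻¹ * t⁻¹ := by group
      rw [this]
      exact Subgroup.mul_mem _ (Subgroup.mul_mem _ (hsq' _) (hsq' _)) (hsq' _)
  · have := Subgroup.card_eq_card_quotient_mul_card_subgroup (Subgroup.center T)
    rw [hcardT, hcardZ] at this
    omega
  · intro x
    induction x using QuotientGroup.induction_on with
    | H t =>
      rw [← QuotientGroup.mk_pow, QuotientGroup.eq_one_iff, pow_two]
      exact hsq' t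

end transfer

section model
variable {F : Type*} [Field F] [Fintype F]

/-- The model group: pairs `(a, b)` with `b + b⁴ = a⁵`. -/
@[ext] structure Par (hF : Fintype.card F = 16) where
  a : F
  b : F
  h : b + b ^ 4 = a * a ^ 4

variable {hF : Fintype.card F = 16}

instance : Mul (Par hF) where
  mul x y := ⟨x.a + y.a, x.b + y.b + x.a * y.a ^ 4, by
    have := charP_two hF
    have h1 := x.h
    have h2 := y.h
    have h3 := pow16 hF y.a
    grind⟩

instance : One (Par hF) where
  one := ⟨0, 0, by simp⟩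

instance : Inv (Par hF) where
  inv x := ⟨x.a, x.b ^ 4, by
    have := charP_two hF
    have h1 := x.h
    have h3 := pow16 hF x.b
    grind⟩

theorem mul_a (x y : Par hF) : (x * y).a = x.a + y.a := rfl
theorem mul_b (x y : Par hF) : (x * y).b = x.b + y.b + x.a * y.a ^ 4 := rfl
theorem one_a : (1 : Par hF).a = 0 := rfl
theorem one_b : (1 : Par hF).b = 0 := rfl
theorem inv_a (x : Par hF) : (x⁻¹).a = x.a := rfl
theorem inv_b (x : Par hF) : (x⁻¹).b = x.b ^ 4 := rfl

instance : Group (Par hF) :=
  Group.ofLeftAxioms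
    (by
      intro x y z
      have := charP_two hF
      apply Par.ext
      · simp only [mul_a]; ring
      · simp only [mul_a, mul_b]; grind)
    (by
      intro x
      apply Par.ext
      · simp only [mul_a, one_a]; ring
      · simp only [mul_b, one_a, one_b]; ring)
    (by
      intro x
      have := charP_two hF
      have h1 := x.h
      apply Par.ext
      · simp only [mul_a, inv_a, one_a]; grind
      · simp only [mul_b, inv_a, inv_b, one_b]; grind)

theorem lift_h (hF : Fintype.card F = 16) (θ : F) (hθ : θ + θ ^ 4 = 1) (a : F) :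
    θ * (a * a ^ 4) + (θ * (a * a ^ 4)) ^ 4 = a * a ^ 4 := by
  have := charP_two hF
  have h16 := pow16 hF a
  have hn : (a * a ^ 4) ^ 4 = a * a ^ 4 := by grind
  calc θ * (a * a ^ 4) + (θ * (a * a ^ 4)) ^ 4
      = (θ + θ ^ 4) * (a * a ^ 4) := by rw [mul_pow, hn]; ring
    _ = a * a ^ 4 := by rw [hθ, one_mul]

/-- An element of the model group with prescribed first coordinate. -/
def lift (hF : Fintype.card F = 16) (θ : F) (hθ : θ + θ ^ 4 = 1) (a : F) : Par hF :=
  ⟨a, θ * (a * a ^ 4), lift_h hF θ hθ a⟩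

theorem mem_center_iff (x : Par hF) : x ∈ Subgroup.center (Par hF) ↔ x.a = 0 := by
  have := charP_two hF
  rw [Subgroup.mem_center_iff]
  constructor
  · intro h
    by_contra ha
    obtain ⟨g, hg⟩ := Cfsg.Agent.Lib.Helper5.exists_pow_q_ne (hF' hF)
    obtain ⟨θ, hθ⟩ := exists_theta hF
    have h1 := congrArg Par.b (h (lift hF θ hθ (x.a * g)))
    simp only [mul_b] at h1
    have hya : (lift hF θ hθ (x.a * g)).a = x.a * g := rfl
    rw [hya] at h1
    have h2 : x.a * x.a ^ 4 * (g ^ 4 - g) = 0 := by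
      rw [mul_pow] at h1
      linear_combination -h1
    rcases mul_eq_zero.mp h2 with h3 | h3
    · rcases mul_eq_zero.mp h3 with h4 | h4
      · exact ha h4
      · exact ha (pow_eq_zero_iff (by norm_num) |>.mp h4)
    · exact hg (sub_eq_zero.mp h3)
  · intro ha g
    apply Par.ext
    · simp only [mul_a]; ring
    · simp only [mul_b, ha]; ring

theorem fixed_of_center (z : Par hF) (hz : z.a = 0) : z.b ^ 4 = z.b := by
  have := charP_two hF
  have h := z.h
  rw [hz] at h
  grind

theorem card_center : Nat.card (Subgroup.center (Par hF)) = 4 := by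
  have := charP_two hF
  rw [← card_fixed hF]
  apply Nat.card_congr
  refine
    { toFun := fun z => ⟨z.1.b, fixed_of_center z.1 ((mem_center_iff z.1).mp z.2)⟩
      invFun := fun k => ⟨⟨0, k.1, by have := k.2; grind⟩, (mem_center_iff _).mpr rfl⟩
      left_inv := ?_
      right_inv := ?_ }
  · intro z
    apply Subtype.ext
    apply Par.ext
    · exact ((mem_center_iff z.1).mp z.2).symm
    · rfl
  · intro k
    rfl

theorem card_par : Nat.card (Par hF) = 64 := by
  have := charP_two hF
  obtain ⟨θ, hθ⟩ := exists_theta hF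
  have h1 : Nat.card (F × {k : F // k ^ 4 = k}) = 64 := by
    rw [Nat.card_prod, card_fixed hF, Nat.card_eq_fintype_card, hF]
  rw [← h1]
  apply Nat.card_congr
  refine
    { toFun := fun x => ⟨x.a, ⟨x.b + θ * (x.a * x.a ^ 4), ?_⟩⟩
      invFun := fun p => ⟨p.1, p.2.1 + θ * (p.1 * p.1 ^ 4), ?_⟩
      left_inv := ?_
      right_inv := ?_ }
  · have h := x.h
    have h2 := lift_h hF θ hθ x.a
    grind
  · have h := p.2.2
    have h2 := lift_h hF θ hθ p.1
    grind
  · intro x
    apply Par.ext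
    · rfl
    · simp only; grind
  · intro p
    apply Prod.ext
    · rfl
    · apply Subtype.ext
      simp only; grind

theorem sq_mem_center (x : Par hF) : x * x ∈ Subgroup.center (Par hF) := by
  have := charP_two hF
  rw [mem_center_iff, mul_a]
  grind

theorem center_sq (z : Par hF) (hz : z ∈ Subgroup.center (Par hF)) : z * z = 1 := by
  have := charP_two hF
  rw [mem_center_iff] at hz
  apply Par.ext
  · rw [mul_a, hz, one_a]; ring
  · rw [mul_b, hz, one_b]; grind

theorem invol_mem_center (x : Par hF) (hx : x * x = 1) : x ∈ Subgroup.center (Par hF) := by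
  have := charP_two hF
  rw [mem_center_iff]
  have h := congrArg Par.b hx
  rw [mul_b, one_b] at h
  have h2 : x.a * x.a ^ 4 = 0 := by grind
  rcases mul_eq_zero.mp h2 with h3 | h3
  · exact h3
  · exact pow_eq_zero_iff (by norm_num) |>.mp h3

theorem center_comm (z : Par hF) (hz : z ∈ Subgroup.center (Par hF)) :
    ∃ s t : Par hF, z = s * t * s⁻¹ * t⁻¹ := by
  have := charP_two hF
  obtain ⟨θ, hθ⟩ := exists_theta hF
  have hza := (mem_center_iff z).mp hz
  have hk := fixed_of_center z hza
  have h16 := pow16 hF θ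
  refine ⟨lift hF θ hθ (z.b * θ), lift hF θ hθ 1, ?_⟩
  apply Par.ext
  · simp only [mul_a, inv_a, lift, hza]; grind
  · simp only [mul_a, mul_b, inv_a, inv_b, lift]; grind

end model

section mats
variable {F : Type*} [Field F] [Fintype F]

def Jm : Matrix (Fin 3) (Fin 3) F := !![0, 0, 1; 0, 1, 0; 1, 0, 0]
def Pm (w : F) : Matrix (Fin 3) (Fin 3) F := !![1, 1, 1; w, 1, w ^ 2; w ^ 2, 1, w]
def Qm (w : F) : Matrix (Fin 3) (Fin 3) F := !![1, w ^ 2, w; 1, 1, 1; 1, w, w ^ 2]
def Um (a b c : F) : Matrix (Fin 3) (Fin 3) F := !![1, a, b; 0, 1, c; 0, 0, 1]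

variable (hF : Fintype.card F = 16) (w : F) (hw : w ^ 2 = w + 1)

include hF hw in
theorem L1 : (Pm w)ᵀ * Pm w = Jm := by
  have := charP_two hF
  ext i j
  fin_cases i <;> fin_cases j <;>
    simp [Pm, Jm, Matrix.mul_apply, Fin.sum_univ_three] <;> grind

include hF hw in
theorem L1' : (Pm w).map (· ^ 4) = Pm w := by
  have := charP_two hF
  ext i j
  fin_cases i <;> fin_cases j <;>
    simp [Pm] <;> grind

include hF hw in
theorem L1'' : (Qm w).map (· ^ 4) = Qm w := by
  have := charP_two hF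
  ext i j
  fin_cases i <;> fin_cases j <;>
    simp [Qm] <;> grind

include hF hw in
theorem L2 : (Qm w)ᵀ * Jm * Qm w = 1 := by
  have := charP_two hF
  ext i j
  fin_cases i <;> fin_cases j <;>
    simp [Qm, Jm, Matrix.mul_apply, Fin.sum_univ_three] <;> grind

include hF in
theorem L3 (a b c e : F) (he : e = b + a * c) : (Um a b c)ᵀ * Jm * Um c e a = Jm := by
  have := charP_two hF
  ext i j
  fin_cases i <;> fin_cases j <;>
    simp [Um, Jm, Matrix.mul_apply, Fin.sum_univ_three] <;> grind

include hF hw in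
theorem L4 : Qm w * Pm w = 1 := by
  have := charP_two hF
  ext i j
  fin_cases i <;> fin_cases j <;>
    simp [Qm, Pm, Matrix.mul_apply, Fin.sum_univ_three] <;> grind

include hF hw in
theorem L4' : Pm w * Qm w = 1 := by
  have := charP_two hF
  ext i j
  fin_cases i <;> fin_cases j <;>
    simp [Qm, Pm, Matrix.mul_apply, Fin.sum_univ_three] <;> grind

theorem L5 (a b c : F) : (Um a b c).det = 1 := by
  rw [Matrix.det_fin_three]
  simp [Um]

theorem L6 (a b c a' b' c' : F) :
    Um a b c * Um a' b' c' = Um (a + a') (b + b' + a * c') (c + c') := by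
  ext i j
  fin_cases i <;> fin_cases j <;>
    simp [Um, Matrix.mul_apply, Fin.sum_univ_three] <;> ring

theorem Um_map (a b c : F) : (Um a b c).map (· ^ 4) = Um (a ^ 4) (b ^ 4) (c ^ 4) := by
  ext i j
  fin_cases i <;> fin_cases j <;> simp [Um]

end mats

section embed
variable {F : Type*} [Field F] [Fintype F]
variable (hF : Fintype.card F = 16) (w : F) (hw : w ^ 2 = w + 1)

/-- The matrix of a model group element. -/
def Mm (x : Par hF) : Matrix (Fin 3) (Fin 3) F := Pm w * Um x.a x.b (x.a ^ 4) * Qm w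

include hw in
theorem Mm_det (x : Par hF) : (Mm hF w x).det = 1 := by
  unfold Mm
  rw [Matrix.det_mul, Matrix.det_mul, L5, mul_one, ← Matrix.det_mul, L4' hF w hw, Matrix.det_one]

include hw in
theorem Mm_map (x : Par hF) :
    (Mm hF w x).map (· ^ 4) = Pm w * Um (x.a ^ 4) (x.b + x.a * x.a ^ 4) x.a * Qm w := by
  have := charP_two hF
  have e : (fun y : F => y ^ 4) = ⇑(Cfsg.Agent.Lib.Helper5.conjHom (hF' hF)) := rfl
  unfold Mm
  rw [e, Matrix.map_mul, Matrix.map_mul, ← e, L1' hF w hw, L1'' hF w hw, Um_map]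
  have h1 : x.b ^ 4 = x.b + x.a * x.a ^ 4 := by
    have := x.h
    grind
  have h2 : (x.a ^ 4) ^ 4 = x.a := by
    rw [← pow_mul]; exact pow16 hF x.a
  rw [h1, h2]

include hw in
theorem Mm_unit (x : Par hF) : (Mm hF w x)ᵀ * (Mm hF w x).map (· ^ 4) = 1 := by
  rw [Mm_map hF w hw]
  unfold Mm
  rw [Matrix.transpose_mul, Matrix.transpose_mul]
  calc (Qm w)ᵀ * ((Um x.a x.b (x.a ^ 4))ᵀ * (Pm w)ᵀ) *
        (Pm w * Um (x.a ^ 4) (x.b + x.a * x.a ^ 4) x.a * Qm w)
      = (Qm w)ᵀ * ((Um x.a x.b (x.a ^ 4))ᵀ * ((Pm w)ᵀ * Pm w) *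
          Um (x.a ^ 4) (x.b + x.a * x.a ^ 4) x.a) * Qm w := by
        simp only [Matrix.mul_assoc]
    _ = (Qm w)ᵀ * Jm * Qm w := by
        rw [L1 hF w hw, L3 hF x.a x.b (x.a ^ 4) (x.b + x.a * x.a ^ 4) rfl]
    _ = 1 := L2 hF w hw

include hw in
theorem Mm_mul (x y : Par hF) : Mm hF w (x * y) = Mm hF w x * Mm hF w y := by
  have := charP_two hF
  unfold Mm
  calc Pm w * Um (x * y).a (x * y).b ((x * y).a ^ 4) * Qm w
      = Pm w * (Um x.a x.b (x.a ^ 4) * Um y.a y.b (y.a ^ 4)) * Qm w := by
        rw [L6, mul_a, mul_b]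
        have : (x.a + y.a) ^ 4 = x.a ^ 4 + y.a ^ 4 := by grind
        rw [this]
    _ = Pm w * Um x.a x.b (x.a ^ 4) * (Qm w * Pm w) * Um y.a y.b (y.a ^ 4) * Qm w := by
        rw [L4 hF w hw]; simp only [Matrix.mul_assoc, Matrix.one_mul]
    _ = Pm w * Um x.a x.b (x.a ^ 4) * Qm w * (Pm w * Um y.a y.b (y.a ^ 4) * Qm w) := by
        simp only [Matrix.mul_assoc]

/-- The embedding of the model group into `SU₃(4)`. -/
noncomputable def Phi : Par hF →* SU 3 F 4 :=
  MonoidHom.mk'
    (fun x => Cfsg.Agent.Lib.Helper5.SUofPreserves (Mm hF w x) (Mm_det hF w hw x)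
      ((Cfsg.Agent.Lib.Helper5.preserves_iff_matrix (q := 4) (hF' hF) (Mm hF w x)).mpr
        (Mm_unit hF w hw x)))
    (by
      intro x y
      apply Subtype.ext
      apply Subtype.ext
      exact Mm_mul hF w hw x y)

theorem Phi_coe (x : Par hF) : (Phi hF w hw x).1.1 = Mm hF w x := rfl

theorem Phi_injective : Function.Injective (Phi hF w hw) := by
  rw [injective_iff_map_eq_one]
  intro x hx
  have h1 : Mm hF w x = 1 := by
    rw [← Phi_coe hF w hw, hx]; rfl
  have h2 : Um x.a x.b (x.a ^ 4) = 1 := by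
    calc Um x.a x.b (x.a ^ 4) = (Qm w * Pm w) * Um x.a x.b (x.a ^ 4) * (Qm w * Pm w) := by
          rw [L4 hF w hw, Matrix.one_mul, Matrix.mul_one]
      _ = Qm w * (Pm w * Um x.a x.b (x.a ^ 4) * Qm w) * Pm w := by
          simp only [Matrix.mul_assoc]
      _ = 1 := by
          have : Pm w * Um x.a x.b (x.a ^ 4) * Qm w = 1 := h1
          rw [this, Matrix.mul_one, L4 hF w hw]
  apply Par.ext
  · have := congrFun (congrFun h2 0) 1
    rw [one_a]
    simpa [Um] using this
  · have := congrFun (congrFun h2 0) 2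
    rw [one_b]
    simpa [Um] using this

end embed

section main
variable {F : Type*} [Field F] [Fintype F]

theorem card_center_SU (hF : Fintype.card F = 16) :
    Nat.card (Subgroup.center (SU 3 F 4)) = 1 := by
  rw [Cfsg.Agent.Lib.Helper5.card_center_SU (hF' hF) (by norm_num)]
  rfl

theorem card_PSU (hF : Fintype.card F = 16) : Nat.card (Cfsg.PSU 3 F 4) = 62400 := by
  have h1 := Subgroup.card_eq_card_quotient_mul_card_subgroup (Subgroup.center (Cfsg.SU 3 F 4))
  rw [card_center_SU hF] at h1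
  have h2 := Cfsg.Agent.Lib.Helper5.card_SU_mul (hF' hF) (by omega : 1 ≤ 3)
  rw [h1, Cfsg.Agent.Lib.Helper5.card_GU (hF' hF) 3] at h2
  change (4 + 1) * (Nat.card (Cfsg.PSU 3 F 4) * 1) = _ at h2
  simp [Finset.prod_range_succ] at h2
  omega

theorem mk_injective (hF : Fintype.card F = 16) :
    Function.Injective (QuotientGroup.mk' (Subgroup.center (SU 3 F 4))) := by
  rw [← MonoidHom.ker_eq_bot_iff, QuotientGroup.ker_mk']
  exact Subgroup.card_eq_one.mp (card_center_SU hF)

theorem sylow_card (hF : Fintype.card F = 16) (Q : Sylow 2 (Cfsg.PSU 3 F 4)) :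
    Nat.card Q = 64 := by
  have : Fact (Nat.Prime 2) := ⟨Nat.prime_two⟩
  have hcard := card_PSU hF
  have hfin : Finite (Cfsg.PSU 3 F 4) := Nat.finite_of_card_ne_zero (by rw [hcard]; norm_num)
  obtain ⟨k, hk⟩ := IsPGroup.iff_card.mp Q.isPGroup'
  have hidx : ¬ 2 ∣ (Q : Subgroup (Cfsg.PSU 3 F 4)).index := Q.not_dvd_index
  have hmul : Nat.card Q * (Q : Subgroup (Cfsg.PSU 3 F 4)).index = 62400 := by
    rw [← hcard]; exact Subgroup.card_mul_index _
  rw [hk] at hmul ⊢
  have hk6 : k ≤ 6 := by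
    by_contra h
    push Not at h
    have h1 : 2 ^ 7 ∣ 2 ^ k := pow_dvd_pow 2 h
    have h2 : 2 ^ 7 ∣ 62400 := dvd_trans h1 ⟨_, hmul.symm⟩
    norm_num at h2
  interval_cases k <;> omega

/-- Let F be a field with 16 elements and S a Sylow 2-subgroup of PSU(3) over F (the unitary group U₃(4)). Then |S| = 64; the centre Z(S) is a Klein four-group and coincides with the subgroup generated by the involutions of S and with the derived subgroup; and every element of S ⧸ Z(S) squares to the identity, S ⧸ Z(S) having order 16. -/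
theorem sylow_structure {F : Type*} [Field F] [Fintype F] (hF : Fintype.card F = 16) (S : Sylow 2 (Cfsg.PSU 3 F 4)) : Nat.card S = 64 ∧ IsKleinFour (Subgroup.center (S : Subgroup (Cfsg.PSU 3 F 4))) ∧ Subgroup.center (S : Subgroup (Cfsg.PSU 3 F 4)) = Subgroup.closure {x : (S : Subgroup (Cfsg.PSU 3 F 4)) | orderOf x = 2} ∧ Subgroup.center (S : Subgroup (Cfsg.PSU 3 F 4)) = commutator (S : Subgroup (Cfsg.PSU 3 F 4)) ∧ Nat.card ((S : Subgroup (Cfsg.PSU 3 F 4)) ⧸ Subgroup.center (S : Subgroup (Cfsg.PSU 3 F 4))) = 16 ∧ ∀ x : (S : Subgroup (Cfsg.PSU 3 F 4)) ⧸ Subgroup.center (S : Subgroup (Cfsg.PSU 3 F 4)), x ^ 2 = 1 := by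
  have : Fact (Nat.Prime 2) := ⟨Nat.prime_two⟩
  obtain ⟨w, hw0, hw⟩ := exists_omega hF
  have hcard := card_PSU hF
  have hfin : Finite (Cfsg.PSU 3 F 4) := Nat.finite_of_card_ne_zero (by rw [hcard]; norm_num)
  have hΨ : Function.Injective
      ((QuotientGroup.mk' (Subgroup.center (SU 3 F 4))).comp (Phi hF w hw)) :=
    (mk_injective hF).comp (Phi_injective hF w hw)
  let e₁ := MonoidHom.ofInjective hΨ
  have hR : Nat.card ((QuotientGroup.mk' (Subgroup.center (SU 3 F 4))).comp
      (Phi hF w hw)).range = 64 := by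
    rw [← Nat.card_congr e₁.toEquiv]; exact card_par
  have hR2 : IsPGroup 2 ((QuotientGroup.mk' (Subgroup.center (SU 3 F 4))).comp
      (Phi hF w hw)).range := IsPGroup.of_card (n := 6) (by rw [hR]; norm_num)
  obtain ⟨Q, hQ⟩ := hR2.exists_le_sylow
  have hRQ : ((QuotientGroup.mk' (Subgroup.center (SU 3 F 4))).comp
      (Phi hF w hw)).range = (Q : Subgroup (Cfsg.PSU 3 F 4)) :=
    Subgroup.eq_of_le_of_card_ge hQ (by rw [sylow_card hF Q, hR])
  let e₂ := MulEquiv.subgroupCongr hRQ
  let e₃ := Sylow.equiv Q S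
  exact structure_transfer (e₁.trans (e₂.trans e₃)) card_par card_center sq_mem_center
    center_sq invol_mem_center center_comm

end main

end Cfsg.Agent.Lib.Helper98.U34
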