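import Cfsg.Agent.Lib.Helper98.FusionSelfNorm
import Cfsg.Agent.S3225

/-!
# A simplicity criterion for 2-fusion systems: cyclic quotient by the involutions

`G` finite without subgroups of index 2, `S` a Sylow 2-subgroup, all involutions of `G` conjugate,
`S = ⟨involutions of S, x⟩` for some `x`, and `Aut_G(S) = Inn(S)`. Then `F_S(G)` is simple.
-/

set_option autoImplicit false

namespace Cfsg.Agent.Lib.Helper98.FusionCyclicQuot

open Cfsg Cfsg.FusionSystem
open Cfsg.Agent.Lib.Helper85 Cfsg.Agent.Lib.Helper98.FusionSelfNorm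

variable {G : Type*} [Group G]

/-- `M` is closed under `G`-fusion inside `S`. -/
def FusClosed (M S : Subgroup G) : Prop :=
  ∀ m ∈ M, ∀ g : G, g * m * g⁻¹ ∈ S → g * m * g⁻¹ ∈ M

/-- A subgroup strongly closed in `F_S(G)` is closed under `G`-fusion in `S`. -/
theorem fusClosed_of_stronglyClosed {S T : Subgroup G}
    (hT : (groupFusionSystem S).StronglyClosed T) : FusClosed T S := by
  obtain ⟨hTS, hT⟩ := hT
  intro m hm g hg
  have hRS : Subgroup.zpowers m ≤ T := by
    rw [Subgroup.zpowers_le]; exact hm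
  have hval : ∀ y : Subgroup.zpowers m, g * (y : G) * g⁻¹ ∈ S := by
    rintro ⟨y, hy⟩
    obtain ⟨n, rfl⟩ := Subgroup.mem_zpowers_iff.1 hy
    have : g * m ^ n * g⁻¹ = (g * m * g⁻¹) ^ n := by simp
    show g * m ^ n * g⁻¹ ∈ S
    rw [this]
    exact Subgroup.zpow_mem _ hg n
  have hmem : conjHom (Subgroup.zpowers m) g ∈ (groupFusionSystem S).Hom (Subgroup.zpowers m) :=
    ⟨hRS.trans hTS, hval, g, fun _ => rfl⟩
  exact hT _ hRS _ hmem ⟨m, Subgroup.mem_zpowers _⟩

section transfer

variable [Finite G]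

omit [Finite G] in
open Cfsg.Agent.S3225 in
/-- The value of the sign character on one factor of the transfer formula. -/
theorem factor_eq' (S M : Subgroup G) (hM : M.relIndex S = 2) (hcl : FusClosed M S)
    (x : G) (hxS : x ∈ S) (hxM : x ∉ M) (hx2 : ∀ k : ℕ, Even k → x ^ k ∈ M)
    (n k : ℕ) (hkdvd : k ∣ 2 ^ n) (g : G) (hmem : g⁻¹ * x ^ k * g ∈ S) :
    signHom S M hM ⟨g⁻¹ * x ^ k * g, hmem⟩ = (-1 : ℤˣ) ^ k := by
  obtain ⟨j, -, hkj⟩ := (Nat.dvd_prime_pow Nat.prime_two).1 hkdvd
  rcases Nat.eq_zero_or_pos j with hj0 | hjpos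
  · have hk1 : k = 1 := by rw [hkj, hj0, pow_zero]
    subst hk1
    have h1 : ((-1 : ℤˣ)) ^ 1 = -1 := pow_one _
    rw [h1]
    apply signHom_apply_of_not_mem
    intro hin
    apply hxM
    have e : g * (g⁻¹ * x ^ 1 * g) * g⁻¹ = x := by group
    have := hcl _ hin g (by rw [e]; exact hxS)
    rw [e] at this
    exact this
  · have hkeven : Even k := by
      rw [hkj]
      exact (Nat.even_pow.2 ⟨even_two, hjpos.ne'⟩)
    rw [hkeven.neg_one_pow]
    apply signHom_apply_of_mem
    have := hcl _ (hx2 k hkeven) g⁻¹ (by rw [inv_inv]; exact hmem)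
    rw [inv_inv] at this
    exact this

open Cfsg.Agent.S3225 in
/-- A fusion-closed subgroup of index 2 in a Sylow 2-subgroup yields a subgroup of index 2. -/
theorem false_of_fusClosed_index_two (hG : ∀ H : Subgroup G, H.index ≠ 2) (S : Sylow 2 G)
    (M : Subgroup G) (hM : M.relIndex (S : Subgroup G) = 2)
    (hcl : FusClosed M (S : Subgroup G)) : False := by
  classical
  have : Fact (Nat.Prime 2) := ⟨Nat.prime_two⟩
  -- an element of `S` outside `M`
  obtain ⟨x, hxS, hxM⟩ : ∃ x ∈ (S : Subgroup G), x ∉ M := by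
    by_contra h
    push Not at h
    have : (M.subgroupOf (S : Subgroup G)) = ⊤ := by
      rw [Subgroup.subgroupOf_eq_top]; exact h
    have h1 : M.relIndex (S : Subgroup G) = 1 := by
      unfold Subgroup.relIndex; rw [this, Subgroup.index_top]
    omega
  have hx2 : ∀ k : ℕ, Even k → x ^ k ∈ M := by
    intro k hk
    obtain ⟨j, rfl⟩ := hk
    have h2 : (M.subgroupOf (S : Subgroup G)).index = 2 := hM
    have key := Subgroup.mul_self_mem_of_index_two h2 (⟨x, hxS⟩ : (S : Subgroup G))
    rw [Subgroup.mem_subgroupOf] at key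
    have : x ^ (j + j) = (x * x) ^ j := by
      rw [← pow_two, ← pow_mul, two_mul]
    rw [this]
    exact Subgroup.pow_mem _ key j
  -- `x` has 2-power order
  obtain ⟨n, hn⟩ : ∃ n : ℕ, orderOf x = 2 ^ n := by
    obtain ⟨k, hk⟩ := S.isPGroup' ⟨x, hxS⟩
    have h1 : x ^ 2 ^ k = 1 := congrArg Subtype.val hk
    obtain ⟨j, -, hj⟩ := (Nat.dvd_prime_pow Nat.prime_two).1 (orderOf_dvd_of_pow_eq_one h1)
    exact ⟨j, hj⟩
  have htriv := hom_trivial hG (MonoidHom.transfer (signHom (S : Subgroup G) M hM)) x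
  let _ : Fintype (Quotient (MulAction.orbitRel (Subgroup.zpowers x) (G ⧸ (S : Subgroup G)))) :=
    Fintype.ofFinite _
  rw [MonoidHom.transfer_eq_prod_quotient_orbitRel_zpowers_quot] at htriv
  have hfac : ∀ q : Quotient (MulAction.orbitRel (Subgroup.zpowers x) (G ⧸ (S : Subgroup G))),
      signHom (S : Subgroup G) M hM
        ⟨q.out.out⁻¹ * x ^ Function.minimalPeriod (x • ·) q.out * q.out.out,
          QuotientGroup.out_conj_pow_minimalPeriod_mem (S : Subgroup G) x q.out⟩ =
        (-1 : ℤˣ) ^ Function.minimalPeriod (x • ·) q.out := by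
    intro q
    apply factor_eq' (S : Subgroup G) M hM hcl x hxS hxM hx2 n
    rw [← hn, ← MulAction.pow_smul_eq_iff_minimalPeriod_dvd, pow_orderOf_eq_one, one_smul]
  rw [Finset.prod_congr rfl (fun q _ => hfac q), Finset.prod_pow_eq_pow_sum,
    ← Subgroup.index_eq_sum_minimalPeriod] at htriv
  have hodd : Odd (S : Subgroup G).index := by
    have := S.not_dvd_index
    exact Nat.odd_iff.2 (Nat.two_dvd_ne_zero.1 this)
  rw [hodd.neg_one_pow] at htriv
  exact absurd htriv (by decide)

/-- If `T` is fusion-closed in the Sylow 2-subgroup `S`, `S = ⟨T, x⟩`, and `G` has no subgroup of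
index 2, then `T = S`. -/
theorem eq_of_fusClosed_of_sup_zpowers (hG : ∀ H : Subgroup G, H.index ≠ 2) (S : Sylow 2 G)
    (T : Subgroup G) (hTS : T ≤ (S : Subgroup G)) (hcl : FusClosed T (S : Subgroup G))
    (x : G) (hx : x ∈ (S : Subgroup G)) (hgen : (S : Subgroup G) ≤ T ⊔ Subgroup.zpowers x) :
    T = (S : Subgroup G) := by
  classical
  have : Fact (Nat.Prime 2) := ⟨Nat.prime_two⟩
  let N : Subgroup (S : Subgroup G) := T.subgroupOf (S : Subgroup G)
  have hNn : N.Normal := by
    constructor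
    intro n hn g
    rw [Subgroup.mem_subgroupOf] at hn ⊢
    have e : ((g * n * g⁻¹ : (S : Subgroup G)) : G) = (g : G) * (n : G) * (g : G)⁻¹ := by simp
    rw [e]
    apply hcl _ hn
    rw [← e]; exact (g * n * g⁻¹).2
  let π : (S : Subgroup G) →* (S : Subgroup G) ⧸ N := QuotientGroup.mk' N
  let xs : (S : Subgroup G) := ⟨x, hx⟩
  let c : (S : Subgroup G) ⧸ N := π xs
  have hπ1 : ∀ s : (S : Subgroup G), π s = 1 ↔ (s : G) ∈ T := by
    intro s
    show (QuotientGroup.mk s : (S : Subgroup G) ⧸ N) = 1 ↔ _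
    rw [QuotientGroup.eq_one_iff, Subgroup.mem_subgroupOf]
  have hcyc : ∀ q : (S : Subgroup G) ⧸ N, q ∈ Subgroup.zpowers c := by
    intro q
    obtain ⟨s, rfl⟩ := QuotientGroup.mk'_surjective N q
    let K : Subgroup G := ((Subgroup.zpowers c).comap π).map (S : Subgroup G).subtype
    have hTK : T ≤ K := by
      intro t ht
      refine ⟨⟨t, hTS ht⟩, ?_, rfl⟩
      show π ⟨t, hTS ht⟩ ∈ Subgroup.zpowers c
      rw [(hπ1 _).2 ht]
      exact Subgroup.one_mem _
    have hxK : Subgroup.zpowers x ≤ K := by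
      rw [Subgroup.zpowers_le]
      exact ⟨xs, Subgroup.mem_zpowers c, rfl⟩
    have hsK : (s : G) ∈ K := (hgen.trans (sup_le hTK hxK)) s.2
    obtain ⟨s', hs', hss⟩ := hsK
    have : s' = s := Subtype.ext hss
    rw [← this]
    exact hs'
  -- the order of `c` is `2 ^ e`
  obtain ⟨e, he⟩ : ∃ e : ℕ, orderOf c = 2 ^ e := by
    obtain ⟨k, hk⟩ := S.isPGroup' xs
    have h1 : c ^ 2 ^ k = 1 := by
      show (π xs) ^ 2 ^ k = 1
      rw [← map_pow, hk, map_one]
    obtain ⟨j, -, hj⟩ := (Nat.dvd_prime_pow Nat.prime_two).1 (orderOf_dvd_of_pow_eq_one h1)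
    exact ⟨j, hj⟩
  rcases Nat.eq_zero_or_pos e with he0 | hepos
  · apply le_antisymm hTS
    intro s hs
    have hc1 : c = 1 := by
      rw [← orderOf_eq_one_iff, he, he0, pow_zero]
    have := hcyc (π ⟨s, hs⟩)
    rw [hc1, Subgroup.zpowers_one_eq_bot, Subgroup.mem_bot] at this
    exact (hπ1 _).1 this
  · exfalso
    have he2 : (2 : ℤ) ^ e = 2 * 2 ^ (e - 1) := by
      rw [← pow_succ']; congr 1; omega
    have hne : (2 : ℤ) ^ (e - 1) ≠ 0 := by positivity
    let M' : Subgroup (S : Subgroup G) := (Subgroup.zpowers (c ^ 2)).comap π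
    let M : Subgroup G := M'.map (S : Subgroup G).subtype
    have hmemM' : ∀ s : (S : Subgroup G), s ∈ M' ↔ (s : G) ^ 2 ^ (e - 1) ∈ T := by
      intro s
      show π s ∈ Subgroup.zpowers (c ^ 2) ↔ _
      have hpow : (s : G) ^ 2 ^ (e - 1) ∈ T ↔ (π s) ^ 2 ^ (e - 1) = 1 := by
        rw [← map_pow, hπ1]; simp
      rw [hpow]
      obtain ⟨k, hk⟩ := Subgroup.mem_zpowers_iff.1 (hcyc (π s))
      rw [← hk]
      constructor
      · rintro ⟨j, hj⟩
        have hj' : (c ^ 2) ^ j = c ^ k := hj
        rw [← hj', ← zpow_natCast, ← zpow_natCast, ← zpow_mul, ← zpow_mul,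
          ← orderOf_dvd_iff_zpow_eq_one, he]
        push_cast
        rw [he2]
        exact ⟨j, by ring⟩
      · intro h
        rw [← zpow_natCast, ← zpow_mul, ← orderOf_dvd_iff_zpow_eq_one, he] at h
        push_cast at h
        rw [he2, mul_dvd_mul_iff_right hne] at h
        obtain ⟨j, rfl⟩ := h
        refine ⟨j, ?_⟩
        show (c ^ 2) ^ j = c ^ (2 * j)
        rw [← zpow_natCast, ← zpow_mul]
        norm_num
    have hMsub : M.subgroupOf (S : Subgroup G) = M' := by
      ext s
      rw [Subgroup.mem_subgroupOf]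
      constructor
      · rintro ⟨s', hs', hss⟩
        have : s' = s := Subtype.ext hss
        rw [← this]; exact hs'
      · intro hs
        exact ⟨s, hs, rfl⟩
    have hrel : M.relIndex (S : Subgroup G) = 2 := by
      unfold Subgroup.relIndex
      rw [hMsub]
      show ((Subgroup.zpowers (c ^ 2)).comap π).index = 2
      rw [Subgroup.index_comap_of_surjective _ (QuotientGroup.mk'_surjective N)]
      have htop : Subgroup.zpowers c = ⊤ := by
        rw [eq_top_iff]; intro q _; exact hcyc q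
      have hcardQ : Nat.card ((S : Subgroup G) ⧸ N) = 2 ^ e := by
        rw [← he, ← Nat.card_zpowers, htop, Subgroup.card_top]
      have hcardH : Nat.card (Subgroup.zpowers (c ^ 2)) = 2 ^ (e - 1) := by
        rw [Nat.card_zpowers, orderOf_pow, he]
        have h2 : Nat.gcd (2 ^ e) 2 = 2 := by
          apply Nat.gcd_eq_right
          exact dvd_pow_self 2 (by omega)
        rw [h2]
        have : 2 ^ e = 2 * 2 ^ (e - 1) := by
          rw [← pow_succ']; congr 1; omega
        rw [this, Nat.mul_div_cancel_left _ (by norm_num : 0 < 2)]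
      have hmul := Subgroup.card_mul_index (Subgroup.zpowers (c ^ 2))
      rw [hcardQ, hcardH] at hmul
      have h3 : 2 ^ e = 2 ^ (e - 1) * 2 := by
        rw [← pow_succ]; congr 1; omega
      rw [h3] at hmul
      exact Nat.eq_of_mul_eq_mul_left (by positivity) hmul
    have hMcl : FusClosed M (S : Subgroup G) := by
      rintro m ⟨s, hs, rfl⟩ g hg
      refine ⟨⟨g * (s : G) * g⁻¹, hg⟩, ?_, rfl⟩
      rw [SetLike.mem_coe, hmemM']
      rw [SetLike.mem_coe, hmemM'] at hs
      have e1 : (g * (s : G) * g⁻¹) ^ 2 ^ (e - 1) = g * (s : G) ^ 2 ^ (e - 1) * g⁻¹ := by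
        simp
      show (g * (s : G) * g⁻¹) ^ 2 ^ (e - 1) ∈ T
      rw [e1]
      apply hcl _ hs
      rw [← e1]
      exact Subgroup.pow_mem _ hg _
    exact false_of_fusClosed_index_two hG S M hrel hMcl

end transfer

/-! ### The generation condition when `Aut_G(S) = Inn(S)` -/

theorem aut_eq_of_forall {S : Subgroup G}
    (h : ∀ g ∈ Subgroup.normalizer (S : Set G), ∃ s ∈ S, ∀ y ∈ S, g * y * g⁻¹ = s * y * s⁻¹) :
    autInducedBy ⊤ S = autInducedBy S S := by
  apply le_antisymm
  · intro α hα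
    rw [mem_autInducedBy_iff] at hα ⊢
    obtain ⟨g, -, hg⟩ := hα
    obtain ⟨s, hs, hsy⟩ := h g (mem_normalizer_of_induces α hg)
    exact ⟨s, hs, fun y => by rw [hg y, hsy y y.2]⟩
  · exact autInducedBy_mono' le_top S

theorem isRadical_self_of_aut_eq {p : ℕ} [Fact p.Prime] {S : Subgroup G} (hS : IsPGroup p S)
    (hAut : autInducedBy ⊤ S = autInducedBy S S) : (groupFusionSystem S).IsRadical p S := by
  refine ⟨le_rfl, ?_⟩
  have hA : (groupFusionSystem S).autGroup S = Inn S := by
    rw [autGroup_groupFusionSystem_self, hAut, autInducedBy_self_eq_Inn]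
  have hp : IsPGroup p ((groupFusionSystem S).autGroup S) := by
    rw [hA]
    rintro ⟨_, s, rfl⟩
    obtain ⟨k, hk⟩ := hS s
    refine ⟨k, Subtype.ext ?_⟩
    show (MulAut.conj s) ^ p ^ k = 1
    rw [← map_pow, hk, map_one]
  have htop : pCore p ((groupFusionSystem S).autGroup S) = ⊤ := by
    apply le_antisymm le_top
    apply le_sSup
    refine ⟨inferInstance, ?_⟩
    intro x
    obtain ⟨k, hk⟩ := hp x.1
    exact ⟨k, Subtype.ext hk⟩
  rw [htop, ← MonoidHom.range_eq_map, Subgroup.range_subtype, hA]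

theorem hb_of_aut_eq [Finite G] (p : ℕ) [Fact p.Prime] (S : Sylow p G)
    (hAut : autInducedBy ⊤ (S : Subgroup G) = autInducedBy (S : Subgroup G) (S : Subgroup G)) :
    autInducedBy ⊤ (S : Subgroup G) = ⨆ (R : Subgroup G)
      (_ : (groupFusionSystem (S : Subgroup G)).IsFullyNormalized R ∧
        (groupFusionSystem (S : Subgroup G)).IsRadical p R ∧
        (groupFusionSystem (S : Subgroup G)).IsCentric R),
      autInducedBy (Subgroup.closure {g : G | g ∈ Subgroup.normalizer (R : Set G) ∧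
        ∃ k : ℕ, orderOf g = p ^ k}) (S : Subgroup G) := by
  have hSp : IsPGroup p (S : Subgroup G) := S.isPGroup'
  apply le_antisymm
  · rw [hAut]
    refine le_trans ?_ (le_iSup₂ (f := fun (R : Subgroup G)
      (_ : (groupFusionSystem (S : Subgroup G)).IsFullyNormalized R ∧
        (groupFusionSystem (S : Subgroup G)).IsRadical p R ∧
        (groupFusionSystem (S : Subgroup G)).IsCentric R) =>
      autInducedBy (Subgroup.closure {g : G | g ∈ Subgroup.normalizer (R : Set G) ∧
        ∃ k : ℕ, orderOf g = p ^ k}) (S : Subgroup G)) (S : Subgroup G)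
      ⟨isFullyNormalized_self _, isRadical_self_of_aut_eq hSp hAut, isCentric_self _⟩)
    apply autInducedBy_mono'
    intro g hg
    apply Subgroup.subset_closure
    refine ⟨Subgroup.le_normalizer hg, ?_⟩
    obtain ⟨k, hk⟩ := hSp ⟨g, hg⟩
    have h1 : g ^ p ^ k = 1 := congrArg Subtype.val hk
    obtain ⟨j, -, hj⟩ := (Nat.dvd_prime_pow (Fact.out : p.Prime)).1 (orderOf_dvd_of_pow_eq_one h1)
    exact ⟨j, hj⟩
  · apply iSup₂_le
    intro R _
    exact autInducedBy_mono' le_top _

/-- **Criterion.** `G` finite without subgroups of index 2, `S` a nontrivial Sylow 2-subgroup, all involutions of `G`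
conjugate, `S` generated by its involutions and one further element, and `Aut_G(S) = Inn(S)`: then `F_S(G)` is simple. -/
theorem isSimple_of_cyclic_quot [Finite G] (S : Sylow 2 G) (hS1 : (S : Subgroup G) ≠ ⊥)
    (hG : ∀ H : Subgroup G, H.index ≠ 2)
    (hconj : ∀ x y : G, orderOf x = 2 → orderOf y = 2 → IsConj x y)
    (x : G) (hx : x ∈ (S : Subgroup G))
    (hgen : (S : Subgroup G) ≤
      Subgroup.closure {t : G | t ∈ (S : Subgroup G) ∧ orderOf t = 2} ⊔ Subgroup.zpowers x)
    (hAut : autInducedBy ⊤ (S : Subgroup G) = autInducedBy (S : Subgroup G) (S : Subgroup G)) :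
    (groupFusionSystem (S : Subgroup G)).IsSimple 2 := by
  have : Fact (Nat.Prime 2) := ⟨Nat.prime_two⟩
  have hSp : IsPGroup 2 (S : Subgroup G) := S.isPGroup'
  apply Cfsg.Agent.S5160.result 2 S hS1
  · intro T hT
    have hcl := fusClosed_of_stronglyClosed hT
    obtain ⟨hTS, -⟩ := hT
    by_cases hTbot : T = ⊥
    · exact Or.inl hTbot
    right
    -- `T` contains an involution, hence all involutions of `S`
    have hTp : IsPGroup 2 T := hSp.to_le hTS
    have : Nontrivial T := (Subgroup.nontrivial_iff_ne_bot T).2 hTbot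
    have hdvd : 2 ∣ Nat.card T := by
      obtain ⟨n, hn⟩ := IsPGroup.iff_card.1 hTp
      rw [hn]
      rcases n with _ | n
      · rw [pow_zero] at hn
        have := Finite.one_lt_card (α := T)
        omega
      · exact dvd_pow_self 2 (Nat.succ_ne_zero n)
    obtain ⟨t, ht⟩ := exists_prime_orderOf_dvd_card' 2 hdvd
    have ht' : orderOf (t : G) = 2 := by rw [Subgroup.orderOf_coe]; exact ht
    have hinv : Subgroup.closure {t : G | t ∈ (S : Subgroup G) ∧ orderOf t = 2} ≤ T := by
      rw [Subgroup.closure_le]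
      rintro s ⟨hsS, hs⟩
      obtain ⟨g, hg⟩ := isConj_iff.1 (hconj (t : G) s ht' hs)
      have := hcl _ t.2 g (by rw [hg]; exact hsS)
      rw [hg] at this
      exact this
    apply eq_of_fusClosed_of_sup_zpowers hG S T hTS hcl x hx
    exact hgen.trans (sup_le_sup_right hinv _)
  · exact hb_of_aut_eq 2 S hAut

end Cfsg.Agent.Lib.Helper98.FusionCyclicQuot
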