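import Mathlib
import Cfsg.Agent.Lib.Helper67.S3Defs
import Cfsg.Agent.Lib.Helper24.InvSylow
import Cfsg.Agent.Lib.Helper9.PGroupLemmas

/-!
# MODULE STRUCT for S4305 (helper67's Shult `S₃` theorem)

The structure `Q = S ⋊ T` of a minimal counterexample with trivial centre.
-/

set_option autoImplicit false
set_option linter.unusedSimpArgs false
set_option linter.style.haveILetI false

namespace Cfsg.Agent.Lib.Helper98.S3Struct

open Cfsg.Agent.Lib.Helper67.S3
open scoped commutatorElement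

section RelSec

variable {𝔸 : Type*} [Group 𝔸] {f h : 𝔸}

/-- The six elements of `𝔸 = ⟨f, h⟩`. -/
theorem rel_list (r : Rel f h) (a : 𝔸) :
    a = 1 ∨ a = f ∨ a = f * f ∨ a = h ∨ a = f * h ∨ a = f * (f * h) := by
  have fff : f * (f * f) = 1 := by
    have := r.f3
    rw [pow_succ, pow_two, mul_assoc] at this
    exact this
  have fffx : ∀ x : 𝔸, f * (f * (f * x)) = x := by
    intro x
    rw [← mul_assoc, ← mul_assoc, mul_assoc f f f, fff, one_mul]
  have hh : h * h = 1 := by
    have := r.h2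
    rwa [pow_two] at this
  have hhx : ∀ x : 𝔸, h * (h * x) = x := by
    intro x
    rw [← mul_assoc, hh, one_mul]
  have finv : f⁻¹ = f * f := by
    rw [inv_eq_iff_mul_eq_one, fff]
  have hinv : h⁻¹ = h := by
    rw [inv_eq_iff_mul_eq_one, hh]
  have hf : h * f = f * (f * h) := by
    have := r.hf
    rw [hinv, finv] at this
    calc h * f = h * f * h * h := by rw [mul_assoc (h * f), hh, mul_one]
      _ = f * f * h := by rw [this]
      _ = f * (f * h) := by rw [mul_assoc]
  have hfx : ∀ x : 𝔸, h * (f * x) = f * (f * (h * x)) := by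
    intro x
    rw [← mul_assoc, hf, mul_assoc, mul_assoc]
  let L : 𝔸 → Prop := fun a =>
    a = 1 ∨ a = f ∨ a = f * f ∨ a = h ∨ a = f * h ∨ a = f * (f * h)
  have key : ∀ x ∈ Subgroup.closure ({f, h} : Set 𝔸),
      ∀ b, L b → L (b * x) ∧ L (b * x⁻¹) := by
    intro x hx
    induction hx using Subgroup.closure_induction with
    | mem x hx =>
      rcases hx with rfl | rfl
      · intro b hb
        rcases hb with rfl | rfl | rfl | rfl | rfl | rfl <;>
          constructor <;>
          simp only [L, finv, mul_assoc, fff, fffx, hh, hhx, hf, hfx, mul_one, one_mul] <;>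
          simp
      · intro b hb
        rcases hb with rfl | rfl | rfl | rfl | rfl | rfl <;>
          constructor <;>
          simp only [L, hinv, mul_assoc, fff, fffx, hh, hhx, hf, hfx, mul_one, one_mul] <;>
          simp
    | one =>
      intro b hb
      simp only [inv_one, mul_one, and_self]
      exact hb
    | mul x y _ _ hx hy =>
      intro b hb
      constructor
      · rw [← mul_assoc]
        exact (hy _ (hx b hb).1).1
      · rw [mul_inv_rev, ← mul_assoc]
        exact (hx _ (hy b hb).2).2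
    | inv x _ hx =>
      intro b hb
      rw [inv_inv]
      exact ⟨(hx b hb).2, (hx b hb).1⟩
  have hmem : a ∈ Subgroup.closure ({f, h} : Set 𝔸) := by
    rw [r.gen]; trivial
  have := (key a hmem 1 (Or.inl rfl)).1
  rwa [one_mul] at this

theorem rel_pow_six (r : Rel f h) (a : 𝔸) : a ^ 6 = 1 := by
  have fff : f * (f * f) = 1 := by
    have := r.f3
    rw [pow_succ, pow_two, mul_assoc] at this
    exact this
  have fffx : ∀ x : 𝔸, f * (f * (f * x)) = x := by
    intro x
    rw [← mul_assoc, ← mul_assoc, mul_assoc f f f, fff, one_mul]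
  have hh : h * h = 1 := by
    have := r.h2
    rwa [pow_two] at this
  have hhx : ∀ x : 𝔸, h * (h * x) = x := by
    intro x
    rw [← mul_assoc, hh, one_mul]
  have finv : f⁻¹ = f * f := by
    rw [inv_eq_iff_mul_eq_one, fff]
  have hinv : h⁻¹ = h := by
    rw [inv_eq_iff_mul_eq_one, hh]
  have hf : h * f = f * (f * h) := by
    have := r.hf
    rw [hinv, finv] at this
    calc h * f = h * f * h * h := by rw [mul_assoc (h * f), hh, mul_one]
      _ = f * f * h := by rw [this]
      _ = f * (f * h) := by rw [mul_assoc]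
  have hfx : ∀ x : 𝔸, h * (f * x) = f * (f * (h * x)) := by
    intro x
    rw [← mul_assoc, hf, mul_assoc, mul_assoc]
  have e6 : ∀ x : 𝔸, x ^ 6 = x * (x * (x * (x * (x * x)))) := by
    intro x
    simp only [pow_succ, pow_zero, one_mul, mul_assoc]
  rcases rel_list r a with rfl | rfl | rfl | rfl | rfl | rfl <;>
    rw [e6] <;>
    simp only [mul_assoc, fff, fffx, hh, hhx, hf, hfx, mul_one, one_mul]

end RelSec

section Main

variable {𝔸 Q : Type*} [Group 𝔸] [Group Q] [Finite Q] {f h : 𝔸} {ψ : 𝔸 →* MulAut Q}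

omit [Finite Q] in
theorem invQ_of_characteristic (K : Subgroup Q) [hK : K.Characteristic] : InvQ ψ K := by
  intro a x hx
  have := (Subgroup.characteristic_iff_map_le.mp hK) (ψ a)
  exact this ⟨x, hx, rfl⟩

omit [Finite Q] in
theorem invQ_sup {K L : Subgroup Q} (hK : InvQ ψ K) (hL : InvQ ψ L) : InvQ ψ (K ⊔ L) := by
  intro a
  have : K ⊔ L ≤ (K ⊔ L).comap (ψ a).toMonoidHom := by
    apply sup_le
    · intro x hx
      exact Subgroup.mem_sup_left (hK a x hx)
    · intro x hx
      exact Subgroup.mem_sup_right (hL a x hx)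
  intro x hx
  exact this hx

theorem exists_invQ_sylow (r : Rel f h) (hQ6 : (Nat.card Q).Coprime 6) [Group.IsSolvable Q]
    (t : ℕ) [Fact t.Prime] : ∃ P : Sylow t Q, InvQ ψ (P : Subgroup Q) := by
  let A' : Subgroup (MulAut Q) := ψ.range
  have hcop : (Nat.card A').Coprime (Nat.card Q) := by
    apply Nat.Coprime.symm
    apply Nat.coprime_of_dvd
    intro k hk hkQ hkA
    have : Fact k.Prime := ⟨hk⟩
    obtain ⟨x, hx⟩ := exists_prime_orderOf_dvd_card' k hkA
    obtain ⟨a, ha⟩ := x.2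
    have h6 : x ^ 6 = 1 := by
      apply Subtype.ext
      rw [Subgroup.coe_pow, ← ha, ← map_pow, rel_pow_six r a, map_one]
      rfl
    have hk6 : k ∣ 6 := by
      rw [← hx]
      exact orderOf_dvd_of_pow_eq_one h6
    have := Nat.Coprime.eq_one_of_dvd (Nat.Coprime.coprime_dvd_left hkQ hQ6) hk6
    exact hk.one_lt.ne' this
  obtain ⟨P, hP⟩ := Cfsg.Agent.Lib.Helper24.exists_invariant_sylow_action (A := A') (G := Q)
    hcop (Or.inr inferInstance) t
  refine ⟨P, ?_⟩
  intro a x hx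
  exact hP ⟨ψ a, a, rfl⟩ x hx

/-- Elements of order dividing `r` in an abelian subgroup `B`. -/
def omg (B : Subgroup Q) (hB : ∀ x ∈ B, ∀ y ∈ B, x * y = y * x) (r : ℕ) : Subgroup Q where
  carrier := {x | x ∈ B ∧ x ^ r = 1}
  mul_mem' := by
    rintro a b ⟨ha, ha'⟩ ⟨hb, hb'⟩
    refine ⟨B.mul_mem ha hb, ?_⟩
    have hc : Commute a b := hB a ha b hb
    rw [hc.mul_pow, ha', hb', one_mul]
  one_mem' := ⟨B.one_mem, one_pow r⟩
  inv_mem' := by
    rintro a ⟨ha, ha'⟩
    exact ⟨B.inv_mem ha, by rw [inv_pow, ha', inv_one]⟩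

omit [Finite Q] in
theorem mem_omg {B : Subgroup Q} {hB : ∀ x ∈ B, ∀ y ∈ B, x * y = y * x} {r : ℕ} {x : Q} :
    x ∈ omg B hB r ↔ x ∈ B ∧ x ^ r = 1 := Iff.rfl

omit [Finite Q] in
theorem omg_le (B : Subgroup Q) (hB : ∀ x ∈ B, ∀ y ∈ B, x * y = y * x) (r : ℕ) :
    omg B hB r ≤ B := fun _ hx => hx.1

omit [Finite Q] in
theorem omg_invQ {B : Subgroup Q} (hB : ∀ x ∈ B, ∀ y ∈ B, x * y = y * x) (r : ℕ)
    (hinv : InvQ ψ B) : InvQ ψ (omg B hB r) := by
  intro a x hx
  refine ⟨hinv a x hx.1, ?_⟩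
  rw [← map_pow, hx.2, map_one]

omit [Finite Q] in
theorem omg_normal {B : Subgroup Q} (hB : ∀ x ∈ B, ∀ y ∈ B, x * y = y * x) (r : ℕ)
    (hn : B.Normal) : (omg B hB r).Normal := by
  constructor
  intro x hx g
  refine ⟨hn.conj_mem x hx.1 g, ?_⟩
  rw [conj_pow, hx.2, mul_one, mul_inv_cancel]

omit [Finite Q] in
theorem omg_isPGroup {B : Subgroup Q} (hB : ∀ x ∈ B, ∀ y ∈ B, x * y = y * x) (r : ℕ) :
    IsPGroup r (omg B hB r) := by
  intro x
  refine ⟨1, ?_⟩
  apply Subtype.ext
  rw [pow_one, Subgroup.coe_pow]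
  exact x.2.2

theorem omg_ne_bot {B : Subgroup Q} (hB : ∀ x ∈ B, ∀ y ∈ B, x * y = y * x) (r : ℕ)
    [Fact r.Prime] (hdvd : r ∣ Nat.card B) : omg B hB r ≠ ⊥ := by
  obtain ⟨x, hx⟩ := exists_prime_orderOf_dvd_card' r hdvd
  intro hbot
  have hmem : (x : Q) ∈ omg B hB r := by
    refine ⟨x.2, ?_⟩
    have : x ^ r = 1 := by rw [← hx]; exact pow_orderOf_eq_one x
    have := congrArg (fun y : B => (y : Q)) this
    simpa using this
  rw [hbot, Subgroup.mem_bot] at hmem
  have : x = 1 := Subtype.ext hmem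
  rw [this, orderOf_one] at hx
  exact (Fact.out : r.Prime).one_lt.ne hx

/-- A subgroup containing a Sylow `t`-subgroup for every prime `t` is everything. -/
theorem eq_top_of_forall_sylow_le (H : Subgroup Q)
    (hH : ∀ (t : ℕ) [Fact t.Prime], ∃ P : Sylow t Q, (P : Subgroup Q) ≤ H) : H = ⊤ := by
  apply Subgroup.eq_top_of_card_eq
  apply Nat.dvd_antisymm (Subgroup.card_subgroup_dvd_card H)
  have hQ0 : Nat.card Q ≠ 0 := Nat.card_pos.ne'
  have hH0 : Nat.card H ≠ 0 := Nat.card_pos.ne'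
  rw [← Nat.factorization_prime_le_iff_dvd hQ0 hH0]
  intro t ht
  haveI : Fact t.Prime := ⟨ht⟩
  obtain ⟨P, hP⟩ := hH t
  have h1 : Nat.card P ∣ Nat.card H := Subgroup.card_dvd_of_le hP
  rw [Sylow.card_eq_multiplicity] at h1
  exact (ht.pow_dvd_iff_le_factorization hH0).mp h1

omit [Finite Q] in
/-- An element killed by `s` lying in a `p`-subgroup with `s ≠ p` prime is trivial. -/
theorem eq_one_of_pow_prime_of_isPGroup {p s : ℕ} (hp : p.Prime) (hs : s.Prime) (hsp : s ≠ p)
    {K : Subgroup Q} (hK : IsPGroup p K) {c : Q} (hc : c ∈ K) (hcs : c ^ s = 1) : c = 1 := by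
  obtain ⟨k, hk⟩ := hK ⟨c, hc⟩
  have hk' : c ^ (p ^ k) = 1 := by
    have := congrArg (fun y : K => (y : Q)) hk
    simpa using this
  have h1 : orderOf c ∣ s := orderOf_dvd_of_pow_eq_one hcs
  have h2 : orderOf c ∣ p ^ k := orderOf_dvd_of_pow_eq_one hk'
  have hcop : Nat.Coprime s (p ^ k) :=
    Nat.Coprime.pow_right k ((Nat.coprime_primes hs hp).mpr hsp)
  have : orderOf c = 1 := Nat.eq_one_of_dvd_coprimes hcop h1 h2
  exact orderOf_eq_one_iff.mp this

end Main

section Thm

variable {𝔸 Q : Type*} [Group 𝔸] [Group Q] [Finite Q] {p : ℕ} [Fact p.Prime] {f h : 𝔸}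
  {ψ : 𝔸 →* MulAut Q}

theorem exists_struct_aux (r : Rel f h) (hQ6 : (Nat.card Q).Coprime 6) [Group.IsSolvable Q]
    (hOp : HOp p Q) (h2 : H2 p ψ) (hZ : Subgroup.center Q = ⊥)
    (hnc : ¬ ∀ x y : Q, x * y = y * x) :
    ∃ (S T : Subgroup Q) (s t : ℕ), Struct ψ p S T s t := by
  classical
  have hp : p.Prime := Fact.out
  haveI : Nontrivial Q := by
    by_contra hnt
    rw [not_nontrivial_iff_subsingleton] at hnt
    exact hnc (fun x y => Subsingleton.elim _ _)
  have hQ'top : commutator Q ≠ ⊤ := (Group.IsSolvable.commutator_lt_top_of_nontrivial Q).ne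
  have hQ'inv : InvQ ψ (commutator Q) := invQ_of_characteristic (commutator Q)
  have hQ'ne : commutator Q ≠ ⊥ := by
    intro hbot
    apply hnc
    intro x y
    have : ⁅x, y⁆ ∈ commutator Q :=
      Subgroup.commutator_mem_commutator (Subgroup.mem_top x) (Subgroup.mem_top y)
    rw [hbot, Subgroup.mem_bot] at this
    exact commutatorElement_eq_one_iff_mul_comm.mp this
  have hQ''p : IsPGroup p ↥⁅commutator Q, commutator Q⁆ := h2 (commutator Q) hQ'inv hQ'top
  have hQ''bot : ⁅commutator Q, commutator Q⁆ = ⊥ := hOp _ inferInstance hQ''p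
  have hQ'comm : ∀ x ∈ commutator Q, ∀ y ∈ commutator Q, x * y = y * x := by
    intro x hx y hy
    have := Subgroup.commutator_eq_bot_iff_le_centralizer.mp hQ''bot hx
    rw [Subgroup.mem_centralizer_iff] at this
    exact (this y hy).symm
  have hpQ' : ¬ p ∣ Nat.card (commutator Q) := by
    intro hdvd
    have h1 := omg_ne_bot hQ'comm p hdvd
    have h2' := hOp _ (omg_normal hQ'comm p inferInstance) (omg_isPGroup hQ'comm p)
    exact h1 h2'
  -- minimal S
  have hex : ∃ n, ∃ N : Subgroup Q,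
      (N ≠ ⊥ ∧ N.Normal ∧ InvQ ψ N ∧ N ≤ commutator Q) ∧ Nat.card N = n :=
    ⟨_, commutator Q, ⟨hQ'ne, inferInstance, hQ'inv, le_rfl⟩, rfl⟩
  obtain ⟨S, ⟨hSne, hSn, hSinv, hSQ'⟩, hScard⟩ := Nat.find_spec hex
  have hSmin : ∀ N : Subgroup Q, N ≠ ⊥ → N.Normal → InvQ ψ N → N ≤ commutator Q →
      Nat.card S ≤ Nat.card N := by
    intro N h1 h2' h3 h4
    rw [hScard]
    exact Nat.find_min' hex ⟨N, ⟨h1, h2', h3, h4⟩, rfl⟩
  have hSmin' : ∀ S₀ : Subgroup Q, S₀ ≤ S → S₀.Normal → InvQ ψ S₀ → S₀ = ⊥ ∨ S₀ = S := by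
    intro S₀ hle hn hi
    by_cases hb : S₀ = ⊥
    · exact Or.inl hb
    · right
      exact Subgroup.eq_of_le_of_card_ge hle (hSmin S₀ hb hn hi (hle.trans hSQ'))
  have hScomm : ∀ x ∈ S, ∀ y ∈ S, x * y = y * x :=
    fun x hx y hy => hQ'comm x (hSQ' hx) y (hSQ' hy)
  have hScard1 : Nat.card S ≠ 1 := by
    intro h1
    exact hSne (Subgroup.card_eq_one.mp h1)
  obtain ⟨s, hs, hsdvd⟩ := Nat.exists_prime_and_dvd hScard1
  haveI : Fact s.Prime := ⟨hs⟩
  have hSexp : ∀ x ∈ S, x ^ s = 1 := by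
    have := hSmin' (omg S hScomm s) (omg_le _ _ _) (omg_normal hScomm s hSn)
      (omg_invQ hScomm s hSinv)
    rcases this with h' | h'
    · exact absurd h' (omg_ne_bot hScomm s hsdvd)
    · intro x hx
      have : x ∈ omg S hScomm s := by rw [h']; exact hx
      exact this.2
  have hsp : s ≠ p := by
    intro hsp
    rw [hsp] at hsdvd
    exact hpQ' (hsdvd.trans (Subgroup.card_dvd_of_le hSQ'))
  have hSp : IsPGroup s S := by
    intro x
    refine ⟨1, ?_⟩
    apply Subtype.ext
    rw [pow_one, Subgroup.coe_pow]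
    exact hSexp _ x.2
  -- choice of T
  have hT : ∃ (t : ℕ) (_ : Fact t.Prime) (T : Sylow t Q), t ≠ s ∧ InvQ ψ (T : Subgroup Q) ∧
      ¬ ∀ y ∈ (T : Subgroup Q), ∀ x ∈ S, y * x = x * y := by
    by_contra hcon
    push Not at hcon
    obtain ⟨Ts, hTs⟩ := hSp.exists_le_sylow
    have hHtop : Subgroup.centralizer (S : Set Q) ⊔ (Ts : Subgroup Q) = ⊤ := by
      apply eq_top_of_forall_sylow_le
      intro t _
      by_cases hts : t = s
      · subst hts
        exact ⟨Ts, le_sup_right⟩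
      · obtain ⟨P, hP⟩ := exists_invQ_sylow (ψ := ψ) r hQ6 t
        refine ⟨P, le_trans ?_ le_sup_left⟩
        intro y hy
        rw [Subgroup.mem_centralizer_iff]
        intro x hx
        exact (hcon t inferInstance P hts hP y hy x hx).symm
    have hSTs_ne : S.subgroupOf (Ts : Subgroup Q) ≠ ⊥ := by
      intro hb
      rw [Subgroup.subgroupOf_eq_bot] at hb
      apply hSne
      rw [eq_bot_iff]
      exact hb le_rfl hTs
    haveI : (S.subgroupOf (Ts : Subgroup Q)).Normal := hSn.subgroupOf _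
    obtain ⟨z, hzS, hz1, hzc⟩ := Cfsg.Agent.Lib.Helper9.exists_ne_one_mem_center_of_normal
      (p := s) Ts.isPGroup' (S.subgroupOf (Ts : Subgroup Q)) hSTs_ne
    have hzS' : (z : Q) ∈ S := Subgroup.mem_subgroupOf.mp hzS
    have hle : Subgroup.centralizer (S : Set Q) ⊔ (Ts : Subgroup Q) ≤
        Subgroup.centralizer ({(z : Q)} : Set Q) := by
      apply sup_le
      · apply Subgroup.centralizer_le
        intro w hw
        rw [Set.mem_singleton_iff] at hw
        rw [hw]
        exact hzS'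
      · intro y hy
        rw [Subgroup.mem_centralizer_iff]
        intro w hw
        rw [Set.mem_singleton_iff] at hw
        rw [hw]
        have := Subgroup.mem_center_iff.mp hzc ⟨y, hy⟩
        have := congrArg Subtype.val this
        simpa using this.symm
    have hzc' : (z : Q) ∈ Subgroup.center Q := by
      rw [Subgroup.mem_center_iff]
      intro g
      have hg : g ∈ Subgroup.centralizer ({(z : Q)} : Set Q) := by
        apply hle
        rw [hHtop]
        trivial
      rw [Subgroup.mem_centralizer_iff] at hg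
      exact (hg _ rfl).symm
    rw [hZ, Subgroup.mem_bot] at hzc'
    exact hz1 (Subtype.ext hzc')
  obtain ⟨t, hFt, T, hts, hTinv, hTnc⟩ := hT
  have ht : t.Prime := hFt.out
  push Not at hTnc
  obtain ⟨y0, hy0, x0, hx0, hxy0⟩ := hTnc
  have key : ∀ T₀ : Subgroup Q, InvQ ψ T₀ → S ⊔ T₀ ≠ ⊤ →
      ∀ y ∈ T₀, ∀ x ∈ S, y * x = x * y := by
    intro T₀ hT₀ hne y hy x hx
    have hKp := h2 (S ⊔ T₀) (invQ_sup hSinv hT₀) hne
    have hc : ⁅y, x⁆ ∈ ⁅S ⊔ T₀, S ⊔ T₀⁆ :=
      Subgroup.commutator_mem_commutator (Subgroup.mem_sup_right hy) (Subgroup.mem_sup_left hx)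
    have hcS : ⁅y, x⁆ ∈ S := by
      rw [commutatorElement_def]
      exact S.mul_mem (hSn.conj_mem x hx y) (S.inv_mem hx)
    have h1 := eq_one_of_pow_prime_of_isPGroup hp hs hsp hKp hc (hSexp _ hcS)
    exact commutatorElement_eq_one_iff_mul_comm.mp h1
  have hsup : S ⊔ (T : Subgroup Q) = ⊤ := by
    by_contra hne
    exact hxy0 (key T hTinv hne y0 hy0 x0 hx0)
  have hST : ∀ x ∈ S, x ∈ (T : Subgroup Q) → x = 1 := by
    intro x hxS hxT
    exact eq_one_of_pow_prime_of_isPGroup ht hs hts.symm T.isPGroup' hxT (hSexp x hxS)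
  have hTtop : (T : Subgroup Q) ≠ ⊤ := by
    intro htop
    apply hSne
    rw [Subgroup.eq_bot_iff_forall]
    intro x hx
    exact hST x hx (by rw [htop]; trivial)
  have hTcomm : ∀ x ∈ (T : Subgroup Q), ∀ y ∈ (T : Subgroup Q), x * y = y * x := by
    intro x hx y hy
    have hTp := h2 T hTinv hTtop
    have hc : ⁅x, y⁆ ∈ ⁅(T : Subgroup Q), (T : Subgroup Q)⁆ :=
      Subgroup.commutator_mem_commutator hx hy
    have hcQ' : ⁅x, y⁆ ∈ commutator Q :=
      Subgroup.commutator_mem_commutator (Subgroup.mem_top x) (Subgroup.mem_top y)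
    obtain ⟨k, hk⟩ := hTp ⟨_, hc⟩
    have hk' : ⁅x, y⁆ ^ (p ^ k) = 1 := by
      have := congrArg Subtype.val hk
      simpa using this
    have h1 : orderOf ⁅x, y⁆ ∣ p ^ k := orderOf_dvd_of_pow_eq_one hk'
    have h2' : orderOf ⁅x, y⁆ ∣ Nat.card (commutator Q) := by
      have := orderOf_dvd_natCard (⟨_, hcQ'⟩ : commutator Q)
      rwa [Subgroup.orderOf_mk] at this
    have hcop : Nat.Coprime (p ^ k) (Nat.card (commutator Q)) :=
      Nat.Coprime.pow_left k ((Nat.Prime.coprime_iff_not_dvd hp).mpr hpQ')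
    have : orderOf ⁅x, y⁆ = 1 := Nat.eq_one_of_dvd_coprimes hcop h1 h2'
    exact commutatorElement_eq_one_iff_mul_comm.mp (orderOf_eq_one_iff.mp this)
  have central_of : ∀ x : Q, (∀ y ∈ S, y * x = x * y) →
      (∀ y ∈ (T : Subgroup Q), y * x = x * y) → x = 1 := by
    intro x h1 h2'
    have hxc : x ∈ Subgroup.center Q := by
      rw [Subgroup.mem_center_iff]
      intro g
      have hle : S ⊔ (T : Subgroup Q) ≤ Subgroup.centralizer ({x} : Set Q) := by
        apply sup_le
        · intro y hy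
          rw [Subgroup.mem_centralizer_iff]
          intro w hw
          rw [Set.mem_singleton_iff] at hw
          rw [hw]
          exact (h1 y hy).symm
        · intro y hy
          rw [Subgroup.mem_centralizer_iff]
          intro w hw
          rw [Set.mem_singleton_iff] at hw
          rw [hw]
          exact (h2' y hy).symm
      have hg : g ∈ Subgroup.centralizer ({x} : Set Q) := by
        apply hle
        rw [hsup]
        trivial
      rw [Subgroup.mem_centralizer_iff] at hg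
      exact (hg x rfl).symm
    rw [hZ, Subgroup.mem_bot] at hxc
    exact hxc
  have cST : ∀ x ∈ S, (∀ y ∈ (T : Subgroup Q), y * x = x * y) → x = 1 :=
    fun x hx hxT => central_of x (fun y hy => hScomm y hy x hx) hxT
  have cTS : ∀ y ∈ (T : Subgroup Q), (∀ x ∈ S, y * x = x * y) → y = 1 :=
    fun y hy hyS => central_of y (fun x hx => (hyS x hx).symm)
      (fun y' hy' => hTcomm y' hy' y hy)
  have hTmin : ∀ T₀ : Subgroup Q, T₀ ≤ (T : Subgroup Q) → InvQ ψ T₀ →
      T₀ = ⊥ ∨ T₀ = (T : Subgroup Q) := by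
    intro T₀ hle hinv
    by_cases hb : T₀ = ⊥
    · exact Or.inl hb
    right
    have hsup₀ : S ⊔ T₀ = ⊤ := by
      by_contra hne
      apply hb
      rw [Subgroup.eq_bot_iff_forall]
      intro y hy
      exact cTS y (hle hy) (fun x hx => key T₀ hinv hne y hy x hx)
    apply le_antisymm hle
    intro y hy
    have hy' : y ∈ (↑(S ⊔ T₀) : Set Q) := by
      rw [hsup₀]
      trivial
    rw [Subgroup.normal_mul] at hy'
    obtain ⟨x, hx, y₀, hy₀, rfl⟩ := Set.mem_mul.mp hy'
    have hxT : x ∈ (T : Subgroup Q) := by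
      have : x = x * y₀ * y₀⁻¹ := by group
      rw [this]
      exact (T : Subgroup Q).mul_mem hy ((T : Subgroup Q).inv_mem (hle hy₀))
    rw [hST x hx hxT, one_mul]
    exact hy₀
  have hTne : (T : Subgroup Q) ≠ ⊥ := by
    intro hb
    rw [hb, Subgroup.mem_bot] at hy0
    apply hxy0
    rw [hy0, one_mul, mul_one]
  have htdvd : t ∣ Nat.card (T : Subgroup Q) := by
    obtain ⟨n, hn⟩ := IsPGroup.iff_card.mp T.isPGroup'
    have hn0 : n ≠ 0 := by
      rintro rfl
      rw [pow_zero] at hn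
      exact hTne (Subgroup.card_eq_one.mp hn)
    rw [hn]
    exact dvd_pow_self t hn0
  have hTexp : ∀ y ∈ (T : Subgroup Q), y ^ t = 1 := by
    have := hTmin (omg (T : Subgroup Q) hTcomm t) (omg_le _ _ _) (omg_invQ hTcomm t hTinv)
    rcases this with h' | h'
    · exact absurd h' (omg_ne_bot hTcomm t htdvd)
    · intro y hy
      have : y ∈ omg (T : Subgroup Q) hTcomm t := by rw [h']; exact hy
      exact this.2
  exact ⟨S, T, s, t,
    { hs := hs
      ht := ht
      hsp := hsp
      hst := hts.symm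
      S_normal := hSn
      S_inv := hSinv
      T_inv := hTinv
      S_comm := hScomm
      S_exp := hSexp
      T_comm := hTcomm
      T_exp := hTexp
      sup := hsup
      S_ne := hSne
      T_ne := hTne
      cST := cST
      cTS := cTS
      T_min := hTmin
      S_min := hSmin' }⟩

end Thm

section Final

variable {𝔸 Q V : Type*} [Group 𝔸] [Group Q] [Finite Q] [AddCommGroup V] [Finite V] {p : ℕ}
  [Fact p.Prime] [Module (ZMod p) V] {f h : 𝔸} {ψ : 𝔸 →* MulAut Q}
  {ρ : Representation (ZMod p) Q V} {σ : Representation (ZMod p) 𝔸 V}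

omit [Finite V] in
/-- MODULE STRUCT. -/
theorem exists_struct (c : Ctx f h ψ ρ σ) [Group.IsSolvable Q] (hOp : HOp p Q) (h2 : H2 p ψ)
    (hZ : Subgroup.center Q = ⊥) (hnc : ¬ ∀ x y : Q, x * y = y * x) :
    ∃ (S T : Subgroup Q) (s t : ℕ), Struct ψ p S T s t :=
  exists_struct_aux c.rel c.q6 hOp h2 hZ hnc

end Final

end Cfsg.Agent.Lib.Helper98.S3Struct
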