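import Mathlib
import Cfsg.Prelude.Def_Amalgam
import Cfsg.Agent.Lib.Helper68.AmalBDefs
import Cfsg.Agent.Lib.Helper68.AmalBTools
import Cfsg.Agent.Lib.Helper46.Amalgam2
import Cfsg.Agent.Lib.Helper30.AmalBAllCrit

/-!
# S2751, case (B): module GSB-[B2-V] (helper98) — `b = 2`: every pair of α-type vertices at
distance `2` is critical
-/

set_option autoImplicit false
set_option linter.unusedVariables false

namespace Cfsg.Agent.Lib.Helper68.AmalB

open Cfsg Cfsg.Agent.Lib.Helper12.Amal Cfsg.Agent.Lib.Helper68.AmalD Cfsg.Agent.Lib.Helper68.AmalW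

variable {G : Type*} [Group G] {P₁ P₂ : Subgroup G}

/-- **[B2-V]** -/
theorem b2_allCrit (hB : BaseB P₁ P₂) {x₁ x₂ : CosetVertex P₁ P₂}
    (hc : CritPair P₁ P₂ 2 x₁ x₂) (h₁ : ¬ IsB x₁) (h₂ : ¬ IsB x₂) : AllCrit2 P₁ P₂ := by
  have hW := hB.W
  -- the common neighbour
  obtain ⟨y₀, hx₁y₀, hd⟩ := Cfsg.Agent.Lib.Helper46.exists_adj_dist_eq hW.conn
    (u := x₁) (v := x₂) (n := 1) hc.dist
  have hy₀x₂ : (cosetGraph P₁ P₂).Adj y₀ x₂ := SimpleGraph.dist_eq_one_iff_adj.1 hd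
  have hne12 : x₁ ≠ x₂ := by
    intro he
    have h0 : (cosetGraph P₁ P₂).dist x₁ x₂ = 0 := by rw [he]; exact SimpleGraph.dist_self
    rw [hc.dist] at h0
    omega
  have hcrit : ¬ Zv x₁ ≤ Qv x₂ := hc.crit
  intro x y x' hx hxy hyx' hne hle
  -- `y` is of β-type
  have hy : IsB y := by
    have := hB.adj_type x y hxy
    by_contra hny
    exact hx (this.2 hny)
  -- move the edge `(x₂, y₀)` to `(x, y)`
  obtain ⟨g, hg⟩ := hW.edge_trans x₂ y₀ x y hy₀x₂.symm hxy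
  have hg' : g • x₂ = x ∧ g • y₀ = y := by
    rcases hg with hg | hg
    · exact hg
    · exfalso
      have : IsB (g • x₂) := by rw [hg.1]; exact hy
      exact h₂ ((IsB_smul hW g x₂).1 this)
  obtain ⟨hgx₂, hgy₀⟩ := hg'
  have hadj1 : (cosetGraph P₁ P₂).Adj y (g • x₁) := by
    have := hW.smul_adj g _ _ hx₁y₀.symm
    rwa [hgy₀] at this
  have hne1 : x ≠ g • x₁ := by
    rw [← hgx₂]
    intro he
    exact hne12 (smul_left_cancel g he).symm
  -- an element `k` with `k • x₁ = x'`, `k • x₂ = x`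
  have hk : ∃ k : G, k • x₁ = x' ∧ k • x₂ = x := by
    by_cases he : g • x₁ = x'
    · exact ⟨g, he, hgx₂⟩
    · obtain ⟨h, hh, hhx, hhx'⟩ := hW.two_trans y x (g • x₁) x x' hxy.symm hadj1 hne1 hxy.symm hyx'
        (Ne.symm hne)
      refine ⟨h * g, ?_, ?_⟩
      · rw [mul_smul, hhx']
      · rw [mul_smul, hgx₂, hhx]
  obtain ⟨k, hk1, hk2⟩ := hk
  apply hcrit
  have e1 : Zv x' = (Zv x₁).map (MulAut.conj k).toMonoidHom := by rw [← hk1, hW.smul_Z]
  have e2 : Qv x = (Qv x₂).map (MulAut.conj k).toMonoidHom := by rw [← hk2, hW.smul_Q]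
  rw [e1, e2] at hle
  exact (Subgroup.map_le_map_iff_of_injective (MulAut.conj k).injective).1 hle

end Cfsg.Agent.Lib.Helper68.AmalB
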