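import Mathlib
import Cfsg.Prelude.Def_Amalgam
import Cfsg.Agent.Lib.Helper68.AmalBDefs
import Cfsg.Agent.Lib.Helper68.AmalBTools
import Cfsg.Agent.Lib.Helper46.Amalgam2

/-!
# S2751, case (B): module GSB-[CRIT] (helper98), `_of` form

`exists_crit_of`: a critical pair `(x, y)` at distance `n ≥ 2` with `x` of α-type, from the statements of
[P2a] (`Zb_le`) and [P3] (`minB_two`) as hypotheses.
-/

set_option autoImplicit false

namespace Cfsg.Agent.Lib.Helper68.AmalB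

open Cfsg Cfsg.Agent.Lib.Helper12.Amal Cfsg.Agent.Lib.Helper68.AmalD Cfsg.Agent.Lib.Helper68.AmalW

variable {G : Type*} [Group G] {P₁ P₂ : Subgroup G}

/-- some pair of vertices is critical -/
theorem exists_not_le_h98 (hB : BaseB P₁ P₂) :
    ∃ n, ∃ x y : CosetVertex P₁ P₂,
      (cosetGraph P₁ P₂).dist x y = n ∧ ¬ vertexZ 2 x ≤ vertexQ 2 y := by
  have hW := hB.W
  by_contra hcon
  push Not at hcon
  obtain ⟨x₀⟩ : Nonempty (CosetVertex P₁ P₂) := ⟨Sum.inl ((1 : G) : G ⧸ P₁)⟩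
  obtain ⟨y₀, hadj⟩ := exists_adj x₀
  apply hB.ne_bot x₀
  have hsm : ∀ (g : G) (k : G), (∀ v : CosetVertex P₁ P₂, k ∈ Gv v) →
      ∀ v : CosetVertex P₁ P₂, g * k * g⁻¹ ∈ Gv v := by
    intro g k hk v
    have h1 : k ∈ Gv (g⁻¹ • v) := hk _
    have h2 : g * k * g⁻¹ ∈ (Gv (g⁻¹ • v)).map (MulAut.conj g).toMonoidHom := conj_mem_map g h1
    rw [← hW.smul_G, smul_inv_smul] at h2
    exact h2
  have hnorm : ∀ g : G, g ∈ Subgroup.normalizer
      ((⨅ v : CosetVertex P₁ P₂, Gv v : Subgroup G) : Set G) := by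
    intro g
    apply mem_normalizer_of_forall
    · intro d hd
      rw [Subgroup.mem_iInf] at hd ⊢
      exact hsm g d hd
    · intro d hd
      rw [Subgroup.mem_iInf] at hd ⊢
      have := hsm g⁻¹ d hd
      simpa using this
  have hKbot : (⨅ v : CosetVertex P₁ P₂, Gv v : Subgroup G) = ⊥ :=
    hW.core x₀ y₀ hadj _ (le_inf (iInf_le _ x₀) (iInf_le _ y₀)) (fun g _ => hnorm g)
      (fun g _ => hnorm g)
  have hZK : Zv x₀ ≤ ⨅ v : CosetVertex P₁ P₂, Gv v := by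
    apply le_iInf
    intro v
    exact (hcon _ x₀ v rfl).trans (Q_le_G hW v)
  rw [hKbot] at hZK
  exact le_bot_iff.1 hZK

/-- **[B-CRIT]**, `_of` form: hypotheses = the sheet statements `Zb_le` ([P2a]) and `minB_two` ([P3]) -/
theorem exists_crit_of_h98 (hB : BaseB P₁ P₂)
    (hZb : ∀ x y : CosetVertex P₁ P₂, (cosetGraph P₁ P₂).Adj x y → IsB y → Zv y ≤ Zv x)
    (hmin2 : MinB P₁ P₂ 2) :
    ∃ (n : ℕ) (x y : CosetVertex P₁ P₂), 2 ≤ n ∧ CritPair P₁ P₂ n x y ∧ ¬ IsB x := by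
  classical
  have hW := hB.W
  have hex := exists_not_le_h98 hB
  obtain ⟨x, y, hd, hc⟩ := Nat.find_spec hex
  have hbelow : Below P₁ P₂ (Nat.find hex) := by
    intro u v huv
    by_contra hcon
    exact Nat.find_min hex huv ⟨u, v, rfl, hcon⟩
  have h2 : 2 ≤ Nat.find hex := by
    have := hmin2 x y hc
    rw [hd] at this
    exact this
  refine ⟨Nat.find hex, x, y, h2, ⟨hbelow, hd, hc⟩, ?_⟩
  intro hx
  obtain ⟨m, hm⟩ : ∃ m, Nat.find hex = m + 1 := ⟨Nat.find hex - 1, by omega⟩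
  rw [hm] at hd
  obtain ⟨x', hxx', hd'⟩ := Cfsg.Agent.Lib.Helper46.exists_adj_dist_eq hW.conn hd
  have hle : Zv x ≤ Zv x' := hZb x' x hxx'.symm hx
  have hlt : (cosetGraph P₁ P₂).dist x' y < Nat.find hex := by omega
  exact hc (hle.trans (hbelow x' y hlt))

end Cfsg.Agent.Lib.Helper68.AmalB
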