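import Mathlib
import Cfsg.Prelude.Def_Amalgam
import Cfsg.Agent.Lib.Helper68.AmalBDefs
import Cfsg.Agent.Lib.Helper68.AmalBTools
import Cfsg.Agent.Lib.Helper19.AmalBP2a
import Cfsg.Agent.Lib.Helper7.AmalBP3
import Cfsg.Agent.Lib.Helper98.AmalBCritOf

/-!
# S2751, case (B): module GSB-[CRIT] (helper98), exact sheet statement

Uses [P2a] `Zb_le` (Lib/Helper19/AmalBP2a.lean) and [P3] `H7.minB_two` (Lib/Helper7/AmalBP3.lean).
-/

set_option autoImplicit false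

namespace Cfsg.Agent.Lib.Helper68.AmalB

open Cfsg Cfsg.Agent.Lib.Helper12.Amal Cfsg.Agent.Lib.Helper68.AmalD Cfsg.Agent.Lib.Helper68.AmalW

variable {G : Type*} [Group G] {P₁ P₂ : Subgroup G}

/-- **[B-CRIT]** a critical pair `(x, y)` at distance `n ≥ 2` with `x` of α-type -/
theorem exists_crit (hB : BaseB P₁ P₂) :
    ∃ (n : ℕ) (x y : CosetVertex P₁ P₂), 2 ≤ n ∧ CritPair P₁ P₂ n x y ∧ ¬ IsB x :=
  exists_crit_of_h98 hB (fun _ _ hxy hy => Zb_le hB hxy hy) (H7.minB_two hB)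

end Cfsg.Agent.Lib.Helper68.AmalB
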