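import Mathlib
import Cfsg.Prelude.Def_Amalgam
import Cfsg.Agent.Lib.Helper68.AmalBDefs
import Cfsg.Agent.Lib.Helper68.AmalBTools

/-!
# S2751, case (B): module GSB-[B2-FQ] (helper98) — `F_y ≤ Q_x` for `x ~ y`, `x` of α-type
-/

set_option autoImplicit false

namespace Cfsg.Agent.Lib.Helper68.AmalB

open Cfsg Cfsg.Agent.Lib.Helper12.Amal Cfsg.Agent.Lib.Helper68.AmalD Cfsg.Agent.Lib.Helper68.AmalW

variable {G : Type*} [Group G] {P₁ P₂ : Subgroup G}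

/-- `F_y ≤ Q_x` for `x ~ y` (used in [B2-I], [B2-A1], [B2-CNT]) -/
theorem Fb_le_Qa (hB : BaseB P₁ P₂) {x y : CosetVertex P₁ P₂} (hx : ¬ IsB x)
    (hxy : (cosetGraph P₁ P₂).Adj x y) : Fb y ≤ Qv x := by
  intro f hf
  apply hB.Za_cent x hx
  have hf' : f ∈ Qv y ⊓ Subgroup.centralizer ((Vv y : Subgroup G) : Set G) := hf
  refine Subgroup.mem_inf.2 ⟨?_, ?_⟩
  · exact (Q_le_T' hB.W hxy (Subgroup.mem_inf.1 hf').1).1
  · have h2 := (Subgroup.mem_inf.1 hf').2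
    rw [Subgroup.mem_centralizer_iff] at h2 ⊢
    intro z hz
    exact h2 z (Z_le_Vv hxy.symm hz)

end Cfsg.Agent.Lib.Helper68.AmalB
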