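import Mathlib
import Cfsg.Agent.Lib.Helper71.LWDefs

/-!
# Livingstone–Wagner project (helper71 #4295): modules [SYMGEN], [HOM], [HOM2] (helper98)
-/

set_option autoImplicit false
set_option linter.unusedSectionVars false
open Equiv
open Cfsg.Agent.Lib.Helper71.LW

namespace Cfsg.Agent.Lib.Helper98.LW

variable {α : Type*} [Fintype α] [DecidableEq α]

/-- MODULE [SYMGEN] -/
theorem inducesSym_of_swaps (G : Subgroup (Perm α)) (Δ : Finset α)
    (h : ∀ x ∈ Δ, ∀ y ∈ Δ, x ≠ y → ∃ g ∈ G, g x = y ∧ g y = x ∧ ∀ z ∈ Δ, z ≠ x → z ≠ y → g z = z) :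
    InducesSym G Δ := by
  intro σ
  induction σ using Equiv.Perm.swap_induction_on with
  | one => exact ⟨1, G.one_mem, fun x => rfl⟩
  | swap_mul f x y hxy ih =>
    obtain ⟨gf, hgf, hgf'⟩ := ih
    have hxy' : (x : α) ≠ (y : α) := fun e => hxy (Subtype.ext e)
    obtain ⟨gs, hgs, h1, h2, h3⟩ := h x x.2 y y.2 hxy'
    have key : ∀ w : ↥Δ, gs (w : α) = ((swap x y w : ↥Δ) : α) := by
      intro w
      by_cases hwx : w = x
      · subst hwx; rw [swap_apply_left]; exact h1
      · by_cases hwy : w = y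
        · subst hwy; rw [swap_apply_right]; exact h2
        · rw [swap_apply_of_ne_of_ne hwx hwy]
          exact h3 w w.2 (fun e => hwx (Subtype.ext e)) (fun e => hwy (Subtype.ext e))
    refine ⟨gs * gf, G.mul_mem hgs hgf, fun z => ?_⟩
    rw [Perm.mul_apply, hgf' z, key (f z), Perm.mul_apply]

/-- MODULE [HOM] -/
theorem trans_of_inducesSym (G : Subgroup (Perm α)) (j : ℕ) (hh : Homog G j) (Δ : Finset α)
    (hΔ : Δ.card = j) (hS : InducesSym G Δ) : Trans G j := by
  intro x y
  -- move the images of `x` and `y` onto `Δ`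
  have hcard : ∀ z : Fin j ↪ α, (Finset.univ.map z).card = j := by
    intro z
    rw [Finset.card_map, Finset.card_univ, Fintype.card_fin]
  obtain ⟨g1, hg1, hg1'⟩ := hh _ Δ (hcard x) hΔ
  obtain ⟨g2, hg2, hg2'⟩ := hh _ Δ (hcard y) hΔ
  have hmem : ∀ (z : Fin j ↪ α) (g : Perm α), (Finset.univ.map z).image g = Δ → ∀ i, g (z i) ∈ Δ := by
    intro z g hg i
    rw [← hg]
    exact Finset.mem_image_of_mem _ (Finset.mem_map_of_mem _ (Finset.mem_univ i))
  have hbij : ∀ (z : Fin j ↪ α) (g : Perm α) (hg : (Finset.univ.map z).image g = Δ),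
      Function.Bijective (fun i : Fin j => (⟨g (z i), hmem z g hg i⟩ : ↥Δ)) := by
    intro z g hg
    rw [Fintype.bijective_iff_injective_and_card]
    refine ⟨fun i i' e => ?_, ?_⟩
    · have := congrArg Subtype.val e
      exact z.injective (g.injective this)
    · rw [Fintype.card_fin, Fintype.card_coe, hΔ]
  let ex : Fin j ≃ ↥Δ := Equiv.ofBijective _ (hbij x g1 hg1')
  let ey : Fin j ≃ ↥Δ := Equiv.ofBijective _ (hbij y g2 hg2')
  obtain ⟨g, hg, hg'⟩ := hS (ex.symm.trans ey)
  refine ⟨g2⁻¹ * g * g1, G.mul_mem (G.mul_mem (G.inv_mem hg2) hg) hg1, fun i => ?_⟩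
  have h1 : g (g1 (x i)) = g2 (y i) := by
    have := hg' (ex i)
    rw [Equiv.trans_apply, Equiv.symm_apply_apply] at this
    exact this
  rw [Perm.mul_apply, Perm.mul_apply, h1, Perm.inv_def, Equiv.symm_apply_apply]

/-- MODULE [HOM2] -/
theorem inducesSym_of_alt_of_swap (G : Subgroup (Perm α)) (j : ℕ) (hh : Homog G j) (Δ₀ : Finset α)
    (hΔ₀ : Δ₀.card = j) (halt : InducesAlt G Δ₀) (E' : Finset α) (a b : α) (ha : a ∉ E')
    (hb : b ∉ E') (hab : a ≠ b) (hE' : E'.card + 2 = j) (g : Perm α) (hg : g ∈ G)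
    (hgE : ∀ x ∈ E', g x = x) (hga : g a = b) (hgb : g b = a) : InducesSym G Δ₀ := by
  have hcard : (insert a (insert b E')).card = j := by
    rw [Finset.card_insert_of_notMem, Finset.card_insert_of_notMem hb, ← hE']
    rw [Finset.mem_insert]
    rintro (e | e)
    · exact hab e
    · exact ha e
  obtain ⟨h, hh', himg⟩ := hh _ Δ₀ hcard hΔ₀
  have haΔ : h a ∈ Δ₀ := by
    rw [← himg]; exact Finset.mem_image_of_mem _ (Finset.mem_insert_self _ _)
  have hbΔ : h b ∈ Δ₀ := by
    rw [← himg]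
    exact Finset.mem_image_of_mem _ (Finset.mem_insert_of_mem (Finset.mem_insert_self _ _))
  set a' : ↥Δ₀ := ⟨h a, haΔ⟩ with ha'
  set b' : ↥Δ₀ := ⟨h b, hbΔ⟩ with hb'
  have hab' : a' ≠ b' := by
    intro e
    exact hab (h.injective (congrArg Subtype.val e))
  -- the conjugate `h g h⁻¹` induces the transposition `swap a' b'`
  have hτ : ∀ z : ↥Δ₀, (h * g * h⁻¹) (z : α) = ((swap a' b' z : ↥Δ₀) : α) := by
    intro z
    have hz : (z : α) ∈ (insert a (insert b E')).image h := by rw [himg]; exact z.2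
    obtain ⟨w, hw, hwz⟩ := Finset.mem_image.1 hz
    have e1 : (h * g * h⁻¹) (z : α) = h (g w) := by
      rw [Perm.mul_apply, Perm.mul_apply, ← hwz, Perm.inv_def, Equiv.symm_apply_apply]
    rw [e1]
    rw [Finset.mem_insert, Finset.mem_insert] at hw
    rcases hw with rfl | rfl | hw
    · have : z = a' := Subtype.ext hwz.symm
      rw [this, swap_apply_left, hga]
    · have : z = b' := Subtype.ext hwz.symm
      rw [this, swap_apply_right, hgb]
    · have hza : z ≠ a' := by
        intro e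
        have : h w = h a := by rw [hwz, e]
        exact ha (h.injective this ▸ hw)
      have hzb : z ≠ b' := by
        intro e
        have : h w = h b := by rw [hwz, e]
        exact hb (h.injective this ▸ hw)
      rw [swap_apply_of_ne_of_ne hza hzb, hgE w hw, hwz]
  have hτG : h * g * h⁻¹ ∈ G := G.mul_mem (G.mul_mem hh' hg) (G.inv_mem hh')
  intro σ
  by_cases hs : σ ∈ alternatingGroup ↥Δ₀
  · exact halt σ hs
  · have hs' : σ * swap a' b' ∈ alternatingGroup ↥Δ₀ := by
      rw [Perm.mem_alternatingGroup] at hs ⊢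
      rw [Perm.sign_mul, Perm.sign_swap hab']
      rcases Int.units_eq_one_or (Perm.sign σ) with e | e
      · exact absurd e hs
      · rw [e]; rfl
    obtain ⟨ge, hge, hge'⟩ := halt _ hs'
    refine ⟨ge * (h * g * h⁻¹), G.mul_mem hge hτG, fun z => ?_⟩
    rw [Perm.mul_apply, hτ z, hge' (swap a' b' z), Perm.mul_apply, swap_apply_self]

end Cfsg.Agent.Lib.Helper98.LW
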