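import Cfsg.Agent.Lib.Helper98.FusionCyclicQuot

/-!
# A simplicity criterion: central elements of order `p` conjugate to a generating set

`S` a Sylow `p`-subgroup with `Aut_G(S) = Inn(S)`, generated by a set `X ⊆ S` each of whose elements is
`G`-conjugate to every element of order `p` of `Z(S)`: then the `p`-fusion system is simple.
-/

set_option autoImplicit false

namespace Cfsg.Agent.Lib.Helper98.FusionCentralConj

open Cfsg Cfsg.FusionSystem

variable {G : Type*} [Group G]

/-- A nontrivial normal subgroup of a finite `p`-group contains a central element of order `p`. -/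
theorem exists_central_of_normal {P : Type*} [Group P] [Finite P] (p : ℕ) [Fact p.Prime]
    (hP : IsPGroup p P) (N : Subgroup P) [hN : N.Normal] (hN1 : N ≠ ⊥) :
    ∃ z ∈ N, orderOf z = p ∧ ∀ s : P, s * z = z * s := by
  classical
  have hdvd : p ∣ Nat.card N := by
    have : Nontrivial N := (Subgroup.nontrivial_iff_ne_bot N).2 hN1
    obtain ⟨n, hn⟩ := IsPGroup.iff_card.1 (hP.to_subgroup N)
    rw [hn]
    rcases n with _ | n
    · rw [pow_zero] at hn
      have := Finite.one_lt_card (α := N)
      omega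
    · exact dvd_pow_self p (Nat.succ_ne_zero n)
  have h1 : (1 : N) ∈ MulAction.fixedPoints (ConjAct P) N := by
    intro g
    exact smul_one g
  obtain ⟨b, hb, hb1⟩ := (hP.of_equiv ConjAct.toConjAct).exists_fixed_point_of_prime_dvd_card_of_fixed_point
    N hdvd h1
  -- `b` is a nontrivial central element of `N`
  have hbc : ∀ s : P, s * (b : P) = (b : P) * s := by
    intro s
    have := hb (ConjAct.toConjAct s)
    have h2 := congrArg Subtype.val this
    rw [ConjAct.Subgroup.val_conj_smul, ConjAct.smul_def, ConjAct.ofConjAct_toConjAct] at h2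
    calc s * (b : P) = (s * (b : P) * s⁻¹) * s := by group
      _ = (b : P) * s := by rw [h2]
  have hb1' : (b : P) ≠ 1 := fun h => hb1 (Subtype.ext h.symm)
  obtain ⟨k, hk⟩ := IsPGroup.iff_orderOf.1 (hP.to_subgroup N) b
  have hk' : orderOf (b : P) = p ^ k := by rw [Subgroup.orderOf_coe]; exact hk
  rcases k with _ | k
  · rw [pow_zero, orderOf_eq_one_iff] at hk'
    exact absurd hk' hb1'
  refine ⟨(b : P) ^ p ^ k, N.pow_mem b.2 _, ?_, fun s => ?_⟩
  · rw [orderOf_pow' _ (pow_ne_zero k (Fact.out : p.Prime).ne_zero), hk',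
      Nat.gcd_eq_right (pow_dvd_pow p (Nat.le_succ k)), pow_succ, Nat.mul_div_cancel_left _
        (pow_pos (Fact.out : p.Prime).pos k)]
  · exact ((Commute.pow_right (hbc s) _ : Commute s ((b : P) ^ p ^ k))).eq

/-- **Criterion.** -/
theorem isSimple_of_central_conj [Finite G] (p : ℕ) [Fact p.Prime] (S : Sylow p G)
    (hS1 : (S : Subgroup G) ≠ ⊥)
    (hAut : autInducedBy ⊤ (S : Subgroup G) = autInducedBy (S : Subgroup G) (S : Subgroup G))
    (X : Set G) (hXS : X ⊆ (S : Subgroup G)) (hgen : (S : Subgroup G) ≤ Subgroup.closure X)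
    (hX : ∀ z ∈ (S : Subgroup G), (∀ s ∈ (S : Subgroup G), s * z = z * s) → orderOf z = p →
      ∀ x ∈ X, IsConj z x) :
    (groupFusionSystem (S : Subgroup G)).IsSimple p := by
  have hSp : IsPGroup p (S : Subgroup G) := S.isPGroup'
  apply Cfsg.Agent.S5160.result p S hS1 ?_ (FusionCyclicQuot.hb_of_aut_eq p S hAut)
  intro T hT
  have hTS : T ≤ (S : Subgroup G) := hT.1
  have hfc := FusionCyclicQuot.fusClosed_of_stronglyClosed hT
  by_cases hTbot : T = ⊥
  · exact Or.inl hTbot
  right
  apply le_antisymm hTS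
  -- `T` is normal in `S`
  have hnorm : (T.subgroupOf (S : Subgroup G)).Normal := by
    constructor
    intro n hn g
    rw [Subgroup.mem_subgroupOf] at hn ⊢
    exact hfc _ hn (g : G) ((S : Subgroup G).mul_mem ((S : Subgroup G).mul_mem g.2 n.2)
      ((S : Subgroup G).inv_mem g.2))
  have hne : T.subgroupOf (S : Subgroup G) ≠ ⊥ := by
    intro h
    rw [Subgroup.subgroupOf_eq_bot, disjoint_iff, inf_eq_left.2 hTS] at h
    exact hTbot h
  obtain ⟨z, hzT, hzo, hzc⟩ := exists_central_of_normal p hSp (T.subgroupOf (S : Subgroup G)) hne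
  rw [Subgroup.mem_subgroupOf] at hzT
  have hzo' : orderOf (z : G) = p := by rw [Subgroup.orderOf_coe]; exact hzo
  have hzc' : ∀ s ∈ (S : Subgroup G), s * (z : G) = (z : G) * s := by
    intro s hs
    exact congrArg Subtype.val (hzc ⟨s, hs⟩)
  refine hgen.trans ?_
  rw [Subgroup.closure_le]
  intro x hx
  obtain ⟨g, hg⟩ := isConj_iff.1 (hX (z : G) z.2 hzc' hzo' x hx)
  have := hfc (z : G) hzT g (by rw [hg]; exact hXS hx)
  rwa [hg] at this

/-- **Criterion, fusion-closure form.** Instead of `S ≤ closure X` it is enough that every subgroup of `S` closed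
under `G`-fusion in `S` and containing `X` is all of `S`. -/
theorem isSimple_of_central_conj' [Finite G] (p : ℕ) [Fact p.Prime] (S : Sylow p G)
    (hS1 : (S : Subgroup G) ≠ ⊥)
    (hAut : autInducedBy ⊤ (S : Subgroup G) = autInducedBy (S : Subgroup G) (S : Subgroup G))
    (X : Set G) (hXS : X ⊆ (S : Subgroup G))
    (hgen : ∀ T : Subgroup G, T ≤ (S : Subgroup G) → FusionCyclicQuot.FusClosed T (S : Subgroup G) →
      X ⊆ T → (S : Subgroup G) ≤ T)
    (hX : ∀ z ∈ (S : Subgroup G), (∀ s ∈ (S : Subgroup G), s * z = z * s) → orderOf z = p →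
      ∀ x ∈ X, IsConj z x) :
    (groupFusionSystem (S : Subgroup G)).IsSimple p := by
  have hSp : IsPGroup p (S : Subgroup G) := S.isPGroup'
  apply Cfsg.Agent.S5160.result p S hS1 ?_ (FusionCyclicQuot.hb_of_aut_eq p S hAut)
  intro T hT
  have hTS : T ≤ (S : Subgroup G) := hT.1
  have hfc := FusionCyclicQuot.fusClosed_of_stronglyClosed hT
  by_cases hTbot : T = ⊥
  · exact Or.inl hTbot
  right
  apply le_antisymm hTS
  have hnorm : (T.subgroupOf (S : Subgroup G)).Normal := by
    constructor
    intro n hn g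
    rw [Subgroup.mem_subgroupOf] at hn ⊢
    exact hfc _ hn (g : G) ((S : Subgroup G).mul_mem ((S : Subgroup G).mul_mem g.2 n.2)
      ((S : Subgroup G).inv_mem g.2))
  have hne : T.subgroupOf (S : Subgroup G) ≠ ⊥ := by
    intro h
    rw [Subgroup.subgroupOf_eq_bot, disjoint_iff, inf_eq_left.2 hTS] at h
    exact hTbot h
  obtain ⟨z, hzT, hzo, hzc⟩ := exists_central_of_normal p hSp (T.subgroupOf (S : Subgroup G)) hne
  rw [Subgroup.mem_subgroupOf] at hzT
  have hzo' : orderOf (z : G) = p := by rw [Subgroup.orderOf_coe]; exact hzo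
  have hzc' : ∀ s ∈ (S : Subgroup G), s * (z : G) = (z : G) * s := by
    intro s hs
    exact congrArg Subtype.val (hzc ⟨s, hs⟩)
  apply hgen T hTS hfc
  intro x hx
  obtain ⟨g, hg⟩ := isConj_iff.1 (hX (z : G) z.2 hzc' hzo' x hx)
  have := hfc (z : G) hzT g (by rw [hg]; exact hXS hx)
  rwa [hg] at this

end Cfsg.Agent.Lib.Helper98.FusionCentralConj
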