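import Cfsg.Agent.Lib.Helper85.Suz2Defs
import Cfsg.Agent.Lib.Helper19.SuzQuot

/-!
# SUZ2-[QUOT]: the quotient `P ⧸ Z0 P` of a Suzuki 2-group with solvable transitive `Y` (helper98)

Port of helper19's `SuzHyp.quot` to helper85's `SHyp`.
-/

set_option autoImplicit false
set_option linter.style.haveILetI false
set_option linter.unusedSectionVars false
set_option linter.unusedVariables false

namespace Cfsg.Agent.Lib.Helper98.Suz2

open Cfsg.Agent.Lib.Helper19.Suz Cfsg.Agent.Lib.Helper85.Suz2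

universe u

variable {P : Type u} [Group P] {Y : Subgroup (MulAut P)}

/-- If the centre has an element of order at least four, every involution is the square of
a central element. -/
theorem invol_is_sq (h : SHyp P Y) {z : P} (hz : z ∈ Subgroup.center P)
    (hz2 : z * z ≠ 1) {y : P} (hy1 : y ≠ 1) (hy2 : y * y = 1) :
    ∃ c ∈ Subgroup.center P, c * c = y := by
  haveI : Fact (Nat.Prime 2) := ⟨Nat.prime_two⟩
  obtain ⟨m, hm⟩ := (IsPGroup.iff_orderOf.mp h.pgrp) z
  have hm2 : 2 ≤ m := by
    by_contra hlt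
    have hm1 : m = 0 ∨ m = 1 := by omega
    rcases hm1 with rfl | rfl
    · rw [pow_zero, orderOf_eq_one_iff] at hm
      apply hz2; rw [hm, one_mul]
    · apply hz2
      have : z ^ 2 = 1 := by rw [← pow_orderOf_eq_one z, hm, pow_one]
      rw [← pow_two]; exact this
  obtain ⟨m', rfl⟩ : ∃ m', m = m' + 2 := ⟨m - 2, by omega⟩
  set w := z ^ 2 ^ m' with hw
  have hwc : w ∈ Subgroup.center P := Subgroup.pow_mem _ hz _
  have hw4 : (w * w) * (w * w) = 1 := by
    rw [hw, ← pow_add, ← pow_add]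
    have : 2 ^ m' + 2 ^ m' + (2 ^ m' + 2 ^ m') = 2 ^ (m' + 2) := by ring
    rw [this, ← hm, pow_orderOf_eq_one]
  have hw2 : w * w ≠ 1 := by
    intro h1
    rw [hw, ← pow_add] at h1
    have := orderOf_dvd_of_pow_eq_one h1
    rw [hm] at this
    have h2 := Nat.le_of_dvd (by positivity) this
    have : 2 ^ (m' + 2) = 4 * 2 ^ m' := by ring
    have : 0 < 2 ^ m' := by positivity
    omega
  obtain ⟨k, -, hk⟩ := h.trans (w * w) y hw2 hw4 hy1 hy2
  refine ⟨k w, aut_mem_center k hwc, ?_⟩
  rw [← map_mul, hk]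

/-- If the centre has an element of order at least four, every element of order dividing four
is central. -/
theorem four_central (h : SHyp P Y) {z : P} (hz : z ∈ Subgroup.center P)
    (hz2 : z * z ≠ 1) {x : P} (hx4 : (x * x) * (x * x) = 1) : x ∈ Subgroup.center P := by
  by_cases hx2 : x * x = 1
  · exact h.sq_one_central hx2
  · obtain ⟨c, hc, hcc⟩ := invol_is_sq h hz hz2 hx2 hx4
    have hcomm : ∀ g, g * c = c * g := Subgroup.mem_center_iff.mp hc
    have h1 : (x * c⁻¹) * (x * c⁻¹) = 1 := by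
      have hc' : c⁻¹ * x = x * c⁻¹ := by
        have := hcomm x
        calc c⁻¹ * x = c⁻¹ * (x * c) * c⁻¹ := by group
          _ = c⁻¹ * (c * x) * c⁻¹ := by rw [this]
          _ = x * c⁻¹ := by group
      calc (x * c⁻¹) * (x * c⁻¹) = x * (c⁻¹ * x) * c⁻¹ := by group
        _ = x * (x * c⁻¹) * c⁻¹ := by rw [hc']
        _ = (x * x) * (c * c)⁻¹ := by group
        _ = 1 := by rw [hcc, mul_inv_cancel]
    have h2 := h.sq_one_central h1
    have : x = (x * c⁻¹) * c := by group
    rw [this]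
    exact Subgroup.mul_mem _ h2 hc

theorem mk_sq_eq_one_iff' (h : SHyp P Y) {x : P} :
    (QuotientGroup.mk x : P ⧸ Z0 P) * QuotientGroup.mk x = 1 ↔ (x * x) * (x * x) = 1 := by
  rw [← QuotientGroup.mk_mul, mk_eq_one_iff, h.mem_Z0_iff]

theorem quotAut_mul_eq (k l : MulAut P) : quotAut (k * l) = quotAut k * quotAut l := by
  apply MulEquiv.ext
  intro q
  induction q using QuotientGroup.induction_on with
  | H x =>
    rw [MulAut.mul_apply, quotAut_mk, quotAut_mk, quotAut_mk]
    rfl

theorem quotAut_one_eq : quotAut (1 : MulAut P) = 1 := by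
  apply MulEquiv.ext
  intro q
  induction q using QuotientGroup.induction_on with
  | H x =>
    rw [quotAut_mk]
    rfl

/-- the hom `Y → Kbar Y` -/
noncomputable def toKbar (Y : Subgroup (MulAut P)) : ↥Y →* ↥(Kbar Y) where
  toFun k := ⟨quotAut (k : MulAut P), quotAut_mem_Kbar k.2⟩
  map_one' := Subtype.ext quotAut_one_eq
  map_mul' k l := Subtype.ext (quotAut_mul_eq (k : MulAut P) (l : MulAut P))

theorem toKbar_surjective (Y : Subgroup (MulAut P)) : Function.Surjective (toKbar Y) := by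
  rintro ⟨β, k, hk, hkβ⟩
  refine ⟨⟨k, hk⟩, Subtype.ext ?_⟩
  apply MulEquiv.ext
  intro q
  induction q using QuotientGroup.induction_on with
  | H x =>
    show quotAut k _ = β _
    rw [quotAut_mk, hkβ]

/-- [QUOT] -/
theorem SHyp.quot (h : SHyp P Y) {z : P} (hz : z ∈ Subgroup.center P) (hz2 : z * z ≠ 1) :
    SHyp (P ⧸ Z0 P) (Kbar Y) ∧ (∀ x : P, (x * x) * (x * x) = 1 → x ∈ Subgroup.center P) := by
  haveI := h.fin
  have hfour : ∀ {x : P}, (x * x) * (x * x) = 1 → x ∈ Subgroup.center P :=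
    fun hx => four_central h hz hz2 hx
  refine ⟨?_, fun x hx => hfour hx⟩
  -- key: two elements of order dividing 4 with the same square agree mod Z0
  have hkey : ∀ {a b : P}, (a * a) * (a * a) = 1 → (b * b) * (b * b) = 1 → a * a = b * b →
      (QuotientGroup.mk a : P ⧸ Z0 P) = QuotientGroup.mk b := by
    intro a b ha hb hab
    rw [QuotientGroup.eq, h.mem_Z0_iff]
    have hac := Subgroup.mem_center_iff.mp (hfour ha)
    calc a⁻¹ * b * (a⁻¹ * b) = a⁻¹ * (b * a⁻¹) * b := by group
      _ = a⁻¹ * (a⁻¹ * b) * b := by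
          have : b * a⁻¹ = a⁻¹ * b := by
            have := hac b
            calc b * a⁻¹ = a⁻¹ * (a * b) * a⁻¹ := by group
              _ = a⁻¹ * (b * a) * a⁻¹ := by rw [this]
              _ = a⁻¹ * b := by group
          rw [this]
      _ = (a * a)⁻¹ * (b * b) := by group
      _ = 1 := by rw [hab, inv_mul_cancel]
  refine ⟨inferInstance, h.pgrp.to_quotient _, ?_, ?_, ?_⟩
  · -- solvable
    haveI := h.sol
    exact Group.isSolvable_of_surjective (toKbar_surjective Y)
  · -- transitivity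
    intro q r hq1 hq2 hr1 hr2
    induction q using QuotientGroup.induction_on with
    | H x =>
    induction r using QuotientGroup.induction_on with
    | H y =>
      have hx4 := (mk_sq_eq_one_iff' h).mp hq2
      have hy4 := (mk_sq_eq_one_iff' h).mp hr2
      have hx2 : x * x ≠ 1 := fun h1 => hq1 (mk_eq_one_iff.mpr (h.mem_Z0_iff.mpr h1))
      have hy2 : y * y ≠ 1 := fun h1 => hr1 (mk_eq_one_iff.mpr (h.mem_Z0_iff.mpr h1))
      obtain ⟨k, hk, hkxy⟩ := h.trans (x * x) (y * y) hx2 hx4 hy2 hy4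
      refine ⟨quotAut k, quotAut_mem_Kbar hk, ?_⟩
      rw [quotAut_mk]
      apply hkey
      · rw [← map_mul, ← map_mul, hx4, map_one]
      · exact hy4
      · rw [← map_mul, hkxy]
  · -- at least two involutions
    obtain ⟨u, v, huv, hu1, hu2, hv1, hv2⟩ := h.two
    obtain ⟨c, hc, hcc⟩ := invol_is_sq h hz hz2 hu1 hu2
    obtain ⟨d, hd, hdd⟩ := invol_is_sq h hz hz2 hv1 hv2
    have hc4 : (c * c) * (c * c) = 1 := by rw [hcc, hu2]
    have hd4 : (d * d) * (d * d) = 1 := by rw [hdd, hv2]
    refine ⟨QuotientGroup.mk c, QuotientGroup.mk d, ?_, ?_, ?_, ?_, ?_⟩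
    · intro heq
      rw [QuotientGroup.eq, h.mem_Z0_iff] at heq
      apply huv
      have hcc' := Subgroup.mem_center_iff.mp hc
      have e1 : c⁻¹ * d * (c⁻¹ * d) = (c * c)⁻¹ * (d * d) := by
        calc c⁻¹ * d * (c⁻¹ * d) = c⁻¹ * (d * c⁻¹) * d := by group
          _ = c⁻¹ * (c⁻¹ * d) * d := by
              have : d * c⁻¹ = c⁻¹ * d := by
                have := hcc' d
                calc d * c⁻¹ = c⁻¹ * (c * d) * c⁻¹ := by group
                  _ = c⁻¹ * (d * c) * c⁻¹ := by rw [this]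
                  _ = c⁻¹ * d := by group
              rw [this]
          _ = (c * c)⁻¹ * (d * d) := by group
      rw [e1, hcc, hdd] at heq
      exact inv_mul_eq_one.mp heq
    · intro h1
      rw [mk_eq_one_iff, h.mem_Z0_iff, hcc] at h1
      exact hu1 h1
    · rw [mk_sq_eq_one_iff' h]; exact hc4
    · intro h1
      rw [mk_eq_one_iff, h.mem_Z0_iff, hdd] at h1
      exact hv1 h1
    · rw [mk_sq_eq_one_iff' h]; exact hd4

end Cfsg.Agent.Lib.Helper98.Suz2
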