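import Mathlib
import Cfsg.Prelude.Def_GeometricClasses
import Cfsg.Agent.Lib.Helper98.BhrLines

/-!
# BHR-[E2] : lines over `F_3` : the stabiliser preserves a non-degenerate quadratic form
-/

set_option autoImplicit false
set_option linter.unusedSectionVars false
set_option linter.unusedVariables false

namespace Cfsg.Agent.Lib.Helper99.Asch

open Cfsg Cfsg.Geo
open scoped MatrixGroups Matrix

variable {n : ℕ} {F : Type*} [Field F] [Fintype F]

/-- BHR-[E2] -/
theorem decomp_lines_card_three {t : ℕ} (D : Fin t → Submodule F (Fin n → F))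
    (hD : IsMDecomposition 1 D) (hq : Fintype.card F = 3) :
    ∃ Q : (Fin n → F) → F, IsNondegenerateQuadraticForm Q ∧
      decompositionStabilizer D ≤ quadSimilarityGroup Q := by
  classical
  obtain ⟨B, hB⟩ := Cfsg.Agent.Lib.Helper98.Bhr.exists_basis_of_lines D hD
  -- squares of nonzero elements are 1
  have hsq : ∀ x : F, x ≠ 0 → x ^ 2 = 1 := by
    intro x hx
    have := FiniteField.pow_card_sub_one_eq_one x hx
    rwa [hq] at this
  -- 2 ≠ 0
  have h2 : (2 : F) ≠ 0 := by
    intro h
    have h3 : ((3 : ℕ) : F) = 0 := by rw [← hq]; exact Nat.cast_card_eq_zero F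
    have h1 : (1 : F) = 0 := by
      have : ((3 : ℕ) : F) = 2 + 1 := by norm_num
      rw [this, h, zero_add] at h3; exact h3
    exact one_ne_zero h1
  let Q : (Fin n → F) → F := fun v => ∑ i, (B.repr v i) ^ 2
  have hpolar : ∀ u v, QuadraticMap.polar Q u v = 2 * ∑ i, B.repr u i * B.repr v i := by
    intro u v
    simp only [QuadraticMap.polar, Q, map_add, Finsupp.coe_add, Pi.add_apply]
    rw [← Finset.sum_sub_distrib, ← Finset.sum_sub_distrib, Finset.mul_sum]
    refine Finset.sum_congr rfl fun i _ => ?_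
    ring
  refine ⟨Q, ⟨?_, ⟨?_, ?_, ?_, ?_⟩, ?_⟩, ?_⟩
  · intro c v
    simp only [Q, map_smul, Finsupp.coe_smul, Pi.smul_apply, smul_eq_mul, Finset.mul_sum]
    refine Finset.sum_congr rfl fun i _ => ?_
    ring
  · intro x y v
    rw [hpolar, hpolar, hpolar, ← mul_add, ← Finset.sum_add_distrib]
    congr 1
    refine Finset.sum_congr rfl fun i _ => ?_
    simp only [map_add, Finsupp.coe_add, Pi.add_apply]; ring
  · intro c x v
    rw [hpolar, hpolar, Finset.mul_sum, Finset.mul_sum, Finset.mul_sum]
    refine Finset.sum_congr rfl fun i _ => ?_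
    simp only [map_smul, Finsupp.coe_smul, Pi.smul_apply, smul_eq_mul]; ring
  · intro v x y
    rw [hpolar, hpolar, hpolar, ← mul_add, ← Finset.sum_add_distrib]
    congr 1
    refine Finset.sum_congr rfl fun i _ => ?_
    simp only [map_add, Finsupp.coe_add, Pi.add_apply]; ring
  · intro c v x
    rw [hpolar, hpolar, Finset.mul_sum, Finset.mul_sum, Finset.mul_sum]
    refine Finset.sum_congr rfl fun i _ => ?_
    simp only [map_smul, Finsupp.coe_smul, Pi.smul_apply, smul_eq_mul]; ring
  · intro v hv
    have hex : ∃ j, B.repr v j ≠ 0 := by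
      by_contra hcon
      push Not at hcon
      apply hv
      have : B.repr v = 0 := by ext j; simpa using hcon j
      exact (B.repr.map_eq_zero_iff).mp this
    obtain ⟨j, hj⟩ := hex
    have hval : ∑ i, B.repr (B j) i * B.repr v i = B.repr v j := by
      rw [Finset.sum_eq_single j]
      · simp
      · intro i _ hij
        rw [B.repr_self, Finsupp.single_apply, if_neg (Ne.symm hij), zero_mul]
      · intro h; exact absurd (Finset.mem_univ j) h
    have hval' : ∑ i, B.repr v i * B.repr (B j) i = B.repr v j := by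
      rw [← hval]; exact Finset.sum_congr rfl fun i _ => mul_comm _ _
    refine ⟨⟨B j, ?_⟩, ⟨B j, ?_⟩⟩
    · rw [hpolar, hval]; exact mul_ne_zero h2 hj
    · rw [hpolar, hval']; exact mul_ne_zero h2 hj
  · intro g hg
    obtain ⟨τ, l, hl0, hl⟩ := Cfsg.Agent.Lib.Helper98.Bhr.stabilizer_coords D B hB g hg
    refine ⟨1, fun v => ?_⟩
    simp only [Units.val_one, one_mul, Q]
    rw [← Equiv.sum_comp τ (fun k => (B.repr ((g : Matrix (Fin n) (Fin n) F) *ᵥ v) k) ^ 2)]
    refine Finset.sum_congr rfl fun i _ => ?_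
    rw [hl v i, mul_pow, hsq (l i) (hl0 i), one_mul]

end Cfsg.Agent.Lib.Helper99.Asch
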