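import Mathlib
import Cfsg.Prelude.Def_GeometricClasses
import Cfsg.Agent.Lib.Helper98.BhrLines

/-!
# BHR-[E3] : lines over `F_4` : the stabiliser preserves a non-degenerate unitary form
-/

set_option autoImplicit false
set_option linter.unusedSectionVars false
set_option linter.unusedVariables false
set_option linter.style.haveILetI false

namespace Cfsg.Agent.Lib.Helper98.Bhr

variable {F : Type*} [Field F] [Fintype F]

/-- a field with four elements has characteristic two. -/
theorem charP_two_of_card_four (hq : Fintype.card F = 4) : CharP F 2 := by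
  obtain ⟨k, hp, hk⟩ := FiniteField.card F (ringChar F)
  have hdvd : ringChar F ∣ 4 := by
    rw [← hq, hk]; exact dvd_pow_self _ k.ne_zero
  have h2 : ringChar F = 2 := by
    have : ringChar F ∣ 2 ^ 2 := by simpa using hdvd
    exact (Nat.prime_dvd_prime_iff_eq hp Nat.prime_two).mp (hp.dvd_of_dvd_pow this)
  exact h2 ▸ ringChar.charP F

/-- the Frobenius `x ↦ x ^ 2` of a field with four elements, as a ring automorphism. -/
noncomputable def frob4 (hq : Fintype.card F = 4) : F ≃+* F :=
  haveI := charP_two_of_card_four hq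
  RingEquiv.ofBijective (frobenius F 2)
    (Finite.injective_iff_bijective.mp (frobenius F 2).injective)

theorem frob4_apply (hq : Fintype.card F = 4) (x : F) : frob4 hq x = x ^ 2 := by
  haveI := charP_two_of_card_four hq
  simp [frob4, frobenius_def]

end Cfsg.Agent.Lib.Helper98.Bhr

namespace Cfsg.Agent.Lib.Helper99.Asch

open Cfsg Cfsg.Geo
open scoped MatrixGroups Matrix

variable {n : ℕ} {F : Type*} [Field F] [Fintype F]

/-- BHR-[E3] -/
theorem decomp_lines_card_four {t : ℕ} (D : Fin t → Submodule F (Fin n → F))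
    (hD : IsMDecomposition 1 D) (hq : Fintype.card F = 4) :
    ∃ (σ : F ≃+* F) (f : (Fin n → F) → (Fin n → F) → F), IsUnitaryForm σ f ∧
      decompositionStabilizer D ≤ similarityGroup f := by
  classical
  obtain ⟨B, hB⟩ := Cfsg.Agent.Lib.Helper98.Bhr.exists_basis_of_lines D hD
  set σ : F ≃+* F := Cfsg.Agent.Lib.Helper98.Bhr.frob4 hq with hσdef
  have hσ : ∀ x : F, σ x = x ^ 2 := Cfsg.Agent.Lib.Helper98.Bhr.frob4_apply hq
  have hcube : ∀ x : F, x ≠ 0 → x ^ 3 = 1 := by
    intro x hx
    have := FiniteField.pow_card_sub_one_eq_one x hx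
    rwa [hq] at this
  have hfour : ∀ x : F, x ^ 4 = x := by
    intro x
    have := FiniteField.pow_card x
    rwa [hq] at this
  let f : (Fin n → F) → (Fin n → F) → F := fun u v => ∑ i, B.repr u i * σ (B.repr v i)
  have hBj : ∀ (j : Fin t) (v : Fin n → F),
      (∑ i, B.repr (B j) i * σ (B.repr v i) = σ (B.repr v j)) ∧
      (∑ i, B.repr v i * σ (B.repr (B j) i) = B.repr v j) := by
    intro j v
    constructor
    · rw [Finset.sum_eq_single j]
      · simp
      · intro i _ hij
        rw [B.repr_self, Finsupp.single_apply, if_neg (Ne.symm hij), zero_mul]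
      · intro h; exact absurd (Finset.mem_univ j) h
    · rw [Finset.sum_eq_single j]
      · simp
      · intro i _ hij
        rw [B.repr_self, Finsupp.single_apply, if_neg (Ne.symm hij), map_zero, mul_zero]
      · intro h; exact absurd (Finset.mem_univ j) h
  refine ⟨σ, f, ⟨?_, ?_, ?_, ?_, ?_, ?_⟩, ?_⟩
  · -- σ ≠ refl
    intro h
    have hall : ∀ x : F, x ^ 2 = x := fun x => by
      rw [← hσ x, h]; rfl
    have hsub : ∀ x : F, x = 0 ∨ x = 1 := by
      intro x
      have hx : x * (x - 1) = 0 := by
        have := hall x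
        rw [mul_sub, mul_one, ← sq, this, sub_self]
      rcases mul_eq_zero.mp hx with h0 | h1
      · exact Or.inl h0
      · exact Or.inr (sub_eq_zero.mp h1)
    have hcard : Fintype.card F ≤ 2 := by
      have hsub' : (Finset.univ : Finset F) ⊆ {0, 1} := by
        intro x _
        rcases hsub x with h | h <;> simp [h]
      calc Fintype.card F = (Finset.univ : Finset F).card := rfl
        _ ≤ ({0, 1} : Finset F).card := Finset.card_le_card hsub'
        _ ≤ 2 := Finset.card_le_two
    omega
  · intro a
    rw [hσ, hσ, ← pow_mul]; exact hfour a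
  · intro x y v
    simp only [f, map_add, Finsupp.coe_add, Pi.add_apply, add_mul, Finset.sum_add_distrib]
  · intro c x v
    simp only [f, map_smul, Finsupp.coe_smul, Pi.smul_apply, smul_eq_mul, Finset.mul_sum, mul_assoc]
  · intro v w
    simp only [f, map_sum, map_mul]
    refine Finset.sum_congr rfl fun i _ => ?_
    have hinv : σ (σ (B.repr v i)) = B.repr v i := by
      rw [hσ, hσ, ← pow_mul]; exact hfour _
    rw [hinv, mul_comm]
  · intro v hv
    have hex : ∃ j, B.repr v j ≠ 0 := by
      by_contra hcon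
      push Not at hcon
      apply hv
      have : B.repr v = 0 := by ext j; simpa using hcon j
      exact (B.repr.map_eq_zero_iff).mp this
    obtain ⟨j, hj⟩ := hex
    refine ⟨⟨B j, ?_⟩, ⟨B j, ?_⟩⟩
    · show ∑ i, B.repr (B j) i * σ (B.repr v i) ≠ 0
      rw [(hBj j v).1]
      exact (map_ne_zero σ).mpr hj
    · show ∑ i, B.repr v i * σ (B.repr (B j) i) ≠ 0
      rw [(hBj j v).2]; exact hj
  · intro g hg
    obtain ⟨τ, l, hl0, hl⟩ := Cfsg.Agent.Lib.Helper98.Bhr.stabilizer_coords D B hB g hg
    refine ⟨1, fun u v => ?_⟩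
    simp only [Units.val_one, one_mul, f]
    rw [← Equiv.sum_comp τ (fun k => B.repr ((g : Matrix (Fin n) (Fin n) F) *ᵥ u) k *
      σ (B.repr ((g : Matrix (Fin n) (Fin n) F) *ᵥ v) k))]
    refine Finset.sum_congr rfl fun i _ => ?_
    rw [hl u i, hl v i, map_mul, hσ (l i)]
    have : l i * B.repr u i * (l i ^ 2 * σ (B.repr v i))
        = l i ^ 3 * (B.repr u i * σ (B.repr v i)) := by ring
    rw [this, hcube (l i) (hl0 i), one_mul]

end Cfsg.Agent.Lib.Helper99.Asch
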