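import Cfsg.Agent.Lib.Helper98.BhrSp4NormCent

/-!
# BHRSP-[3B-NF-BASIS] (helper98, for helper94's project BHRSP, S5787)

`|F| = 3`: a matrix `i` with `i² = -1` and `f(i u, v) = - f(u, i v)` for the standard symplectic form
`f` on `F⁴` is conjugate to `i₀ = 1 ⊗ J₂` under `Sp_4(F)`.
-/

set_option autoImplicit false
set_option linter.unusedVariables false
set_option linter.unusedSectionVars false

namespace Cfsg.Agent.Lib.Helper98.BhrSp4

open Cfsg Cfsg.Geo Cfsg.Agent.Lib.Helper94.BHRSP Cfsg.Agent.Lib.Helper94.BHRSP.Sp4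
open scoped MatrixGroups Matrix

variable {F : Type*} [Field F]

theorem sf_neg_left (u v : Fin 2 ⊕ Fin 2 → F) : sympForm 2 F (-u) v = - sympForm 2 F u v := by
  have := sympForm_smul_left (m := 2) (-1 : F) u v
  rwa [neg_one_smul, neg_one_mul] at this

theorem sf_neg_right (u v : Fin 2 ⊕ Fin 2 → F) : sympForm 2 F u (-v) = - sympForm 2 F u v := by
  have := sympForm_smul_right (m := 2) (-1 : F) u v
  rwa [neg_one_smul, neg_one_mul] at this

theorem sf_sub_left (u w v : Fin 2 ⊕ Fin 2 → F) :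
    sympForm 2 F (u - w) v = sympForm 2 F u v - sympForm 2 F w v := by
  rw [sub_eq_add_neg, sympForm_add_left, sf_neg_left, ← sub_eq_add_neg]

theorem sf_sub_right (u v w : Fin 2 ⊕ Fin 2 → F) :
    sympForm 2 F u (v - w) = sympForm 2 F u v - sympForm 2 F u w := by
  rw [sub_eq_add_neg, sympForm_add_right, sf_neg_right, ← sub_eq_add_neg]

section basis

variable (i : Matrix (Fin 2 ⊕ Fin 2) (Fin 2 ⊕ Fin 2) F) (hi : i * i = -1)
  (hadj : ∀ u v, sympForm 2 F (i *ᵥ u) v = - sympForm 2 F u (i *ᵥ v))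

include hi in
theorem I_I (v : Fin 2 ⊕ Fin 2 → F) : i *ᵥ (i *ᵥ v) = -v := by
  rw [Matrix.mulVec_mulVec, hi, Matrix.neg_mulVec, Matrix.one_mulVec]

include hi hadj in
theorem f_I_I (u v : Fin 2 ⊕ Fin 2 → F) : sympForm 2 F (i *ᵥ u) (i *ᵥ v) = sympForm 2 F u v := by
  rw [hadj, I_I i hi, sf_neg_right, neg_neg]

include hadj in
/-- `s(u, v) = f(u, i v)` is symmetric. -/
theorem s_symm (u v : Fin 2 ⊕ Fin 2 → F) :
    sympForm 2 F v (i *ᵥ u) = sympForm 2 F u (i *ᵥ v) := by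
  rw [sympForm_skew v (i *ᵥ u), hadj, neg_neg]

include hadj in
theorem f_I_left (u v : Fin 2 ⊕ Fin 2 → F) :
    sympForm 2 F (i *ᵥ u) v = - sympForm 2 F u (i *ᵥ v) := hadj u v

/-- the quadratic form `q(v) = f(v, i v)` on a sum -/
theorem q_add (u w : Fin 2 ⊕ Fin 2 → F) :
    sympForm 2 F (u + w) (i *ᵥ (u + w)) = sympForm 2 F u (i *ᵥ u) + sympForm 2 F u (i *ᵥ w) +
      sympForm 2 F w (i *ᵥ u) + sympForm 2 F w (i *ᵥ w) := by
  rw [Matrix.mulVec_add, sympForm_add_left, sympForm_add_right, sympForm_add_right]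
  ring

include hi hadj in
/-- Step 1: the quadratic form `q(v) = f(v, i v)` has a non-trivial zero. -/
theorem exists_isotropic [Fintype F] (hq : Fintype.card F = 3) :
    ∃ a : Fin 2 ⊕ Fin 2 → F, a ≠ 0 ∧ sympForm 2 F a (i *ᵥ a) = 0 := by
  have h2 := two_ne_zero hq
  have h3 := three_eq_zero hq
  -- a nonzero vector
  let u : Fin 2 ⊕ Fin 2 → F := Pi.single (Sum.inl 0) 1
  have hu : u ≠ 0 := by
    intro h
    have := congrFun h (Sum.inl 0)
    simp [u] at this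
  by_cases hσ : sympForm 2 F u (i *ᵥ u) = 0
  · exact ⟨u, hu, hσ⟩
  -- `v ≠ 0` with `f(v,u) = 0 = f(v, iu)`
  obtain ⟨v, hv, hv1, hv2⟩ : ∃ v : Fin 2 ⊕ Fin 2 → F, v ≠ 0 ∧ sympForm 2 F v u = 0 ∧
      sympForm 2 F v (i *ᵥ u) = 0 := by
    let L : (Fin 2 ⊕ Fin 2 → F) →ₗ[F] (Fin 2 → F) :=
      { toFun := fun v => ![sympForm 2 F v u, sympForm 2 F v (i *ᵥ u)]
        map_add' := fun x y => by
          ext k
          fin_cases k <;> simp [sympForm_add_left]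
        map_smul' := fun c x => by
          ext k
          fin_cases k <;> simp [sympForm_smul_left] }
    have hker : LinearMap.ker L ≠ ⊥ := by
      apply LinearMap.ker_ne_bot_of_finrank_lt
      simp
    obtain ⟨v, hvk, hv0⟩ := Submodule.exists_mem_ne_zero_of_ne_bot hker
    have hLv : L v = 0 := LinearMap.mem_ker.1 hvk
    refine ⟨v, hv0, ?_, ?_⟩
    · have := congrFun hLv 0
      simpa [L] using this
    · have := congrFun hLv 1
      simpa [L] using this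
  have huv : sympForm 2 F u v = 0 := by rw [sympForm_skew, hv1, neg_zero]
  have huv' : sympForm 2 F u (i *ᵥ v) = 0 := by rw [← s_symm i hadj u v, hv2]
  -- case `σv = - σu`
  have c2 : sympForm 2 F u (i *ᵥ u) + sympForm 2 F v (i *ᵥ v) = 0 →
      ∃ a : Fin 2 ⊕ Fin 2 → F, a ≠ 0 ∧ sympForm 2 F a (i *ᵥ a) = 0 := by
    intro h
    refine ⟨u + v, ?_, ?_⟩
    · intro h0
      have hvu : v = -u := by rw [eq_neg_iff_add_eq_zero, add_comm]; exact h0
      rw [hvu, Matrix.mulVec_neg, sf_neg_left, sf_neg_right, neg_neg] at h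
      apply hσ
      have : (2 : F) * sympForm 2 F u (i *ᵥ u) = 0 := by linear_combination h
      rcases mul_eq_zero.1 this with h' | h'
      · exact absurd h' h2
      · exact h'
    · rw [q_add, huv', hv2]
      linear_combination h
  -- case `σv = σu`
  have c3 : sympForm 2 F v (i *ᵥ v) = sympForm 2 F u (i *ᵥ u) →
      ∃ a : Fin 2 ⊕ Fin 2 → F, a ≠ 0 ∧ sympForm 2 F a (i *ᵥ a) = 0 := by
    intro h
    have hIw : i *ᵥ (v + i *ᵥ v) = i *ᵥ v - v := by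
      rw [Matrix.mulVec_add, I_I i hi, sub_eq_add_neg]
    have hw : sympForm 2 F (v + i *ᵥ v) (i *ᵥ (v + i *ᵥ v)) = 2 * sympForm 2 F v (i *ᵥ v) := by
      rw [hIw, sympForm_add_left, sf_sub_right, sf_sub_right, sympForm_self, sympForm_self, hadj v v]
      ring
    have huw : sympForm 2 F u (i *ᵥ (v + i *ᵥ v)) = 0 := by
      rw [hIw, sf_sub_right, huv', huv, sub_zero]
    have hwu : sympForm 2 F (v + i *ᵥ v) (i *ᵥ u) = 0 := by
      rw [sympForm_add_left, hv2, f_I_I i hi hadj, hv1, add_zero]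
    refine ⟨u + (v + i *ᵥ v), ?_, ?_⟩
    · intro h0
      have huw0 : u = -(v + i *ᵥ v) := by rw [eq_neg_iff_add_eq_zero]; exact h0
      apply hσ
      have h4 : sympForm 2 F u (i *ᵥ u) = 2 * sympForm 2 F v (i *ᵥ v) := by
        conv_lhs => rw [huw0, Matrix.mulVec_neg, sf_neg_left, sf_neg_right, neg_neg, hw]
      linear_combination (-1) * h4 - 2 * h
    · rw [q_add, huw, hwu, hw, h]
      linear_combination sympForm 2 F u (i *ᵥ u) * h3
  rcases eq_zero_or_one_or_neg_one hq (sympForm 2 F v (i *ᵥ v)) with h0 | h1 | h1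
  · exact ⟨v, hv, h0⟩
  · rcases eq_zero_or_one_or_neg_one hq (sympForm 2 F u (i *ᵥ u)) with k0 | k1 | k1
    · exact absurd k0 hσ
    · exact c3 (by rw [h1, k1])
    · exact c2 (by rw [h1, k1]; ring)
  · rcases eq_zero_or_one_or_neg_one hq (sympForm 2 F u (i *ᵥ u)) with k0 | k1 | k1
    · exact absurd k0 hσ
    · exact c2 (by rw [h1, k1]; ring)
    · exact c3 (by rw [h1, k1])

include hi hadj in
/-- Step 2: a partner `b` of the isotropic vector `a`. -/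
theorem exists_partner [Fintype F] (hq : Fintype.card F = 3) (a : Fin 2 ⊕ Fin 2 → F) (ha : a ≠ 0)
    (haa : sympForm 2 F a (i *ᵥ a) = 0) :
    ∃ b : Fin 2 ⊕ Fin 2 → F, sympForm 2 F b a = 1 ∧ sympForm 2 F b (i *ᵥ a) = 0 ∧
      sympForm 2 F b (i *ᵥ b) = 0 := by
  have h3 := three_eq_zero hq
  obtain ⟨x, hx⟩ := exists_sympForm_ne_zero a ha
  have hp0 : sympForm 2 F x a ≠ 0 := by
    rw [sympForm_skew]
    exact neg_ne_zero.2 hx
  have hN : sympForm 2 F x a * sympForm 2 F x a +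
      sympForm 2 F x (i *ᵥ a) * sympForm 2 F x (i *ᵥ a) ≠ 0 := fun h => hp0 (norm_eq_zero hq h).1
  obtain ⟨c, hca, hcia⟩ : ∃ c : Fin 2 ⊕ Fin 2 → F, sympForm 2 F c a = 1 ∧
      sympForm 2 F c (i *ᵥ a) = 0 := by
    refine ⟨(sympForm 2 F x a / (sympForm 2 F x a * sympForm 2 F x a +
        sympForm 2 F x (i *ᵥ a) * sympForm 2 F x (i *ᵥ a))) • x +
      (-sympForm 2 F x (i *ᵥ a) / (sympForm 2 F x a * sympForm 2 F x a +
        sympForm 2 F x (i *ᵥ a) * sympForm 2 F x (i *ᵥ a))) • (i *ᵥ x), ?_, ?_⟩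
    · rw [sympForm_add_left, sympForm_smul_left, sympForm_smul_left, hadj x a]
      generalize sympForm 2 F x a = p at *
      generalize sympForm 2 F x (i *ᵥ a) = r at *
      have hN2 : p ^ 2 + r ^ 2 ≠ 0 := by rw [sq, sq]; exact hN
      field_simp
      try ring
    · rw [sympForm_add_left, sympForm_smul_left, sympForm_smul_left, f_I_I i hi hadj]
      generalize sympForm 2 F x a = p at *
      generalize sympForm 2 F x (i *ᵥ a) = r at *
      have hN2 : p ^ 2 + r ^ 2 ≠ 0 := by rw [sq, sq]; exact hN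
      field_simp
      try ring
  have e1 : sympForm 2 F (i *ᵥ a) (i *ᵥ c) = -1 := by
    rw [f_I_I i hi hadj, sympForm_skew, hca]
  have e2 : sympForm 2 F (i *ᵥ a) a = 0 := by
    rw [hadj, haa, neg_zero]
  refine ⟨c - sympForm 2 F c (i *ᵥ c) • (i *ᵥ a), ?_, ?_, ?_⟩
  · rw [sf_sub_left, sympForm_smul_left, e2, hca]
    ring
  · rw [sf_sub_left, sympForm_smul_left, sympForm_self, hcia]
    ring
  · have hIb : i *ᵥ (c - sympForm 2 F c (i *ᵥ c) • (i *ᵥ a)) =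
        i *ᵥ c + sympForm 2 F c (i *ᵥ c) • a := by
      rw [Matrix.mulVec_sub, Matrix.mulVec_smul, I_I i hi, smul_neg, sub_neg_eq_add]
    rw [hIb, sf_sub_left, sympForm_add_right, sympForm_add_right, sympForm_smul_left,
      sympForm_smul_left, sympForm_smul_right, sympForm_smul_right, e1, e2, hca]
    linear_combination sympForm 2 F c (i *ᵥ c) * h3

end basis

/-- entries of `Pᵀ J P` are the values of the form on the columns of `P` -/
theorem transpose_J_mul_apply (P : Matrix (Fin 2 ⊕ Fin 2) (Fin 2 ⊕ Fin 2) F) (c c' : Fin 2 ⊕ Fin 2) :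
    (Pᵀ * Matrix.J (Fin 2) F * P) c c' = sympForm 2 F (Pᵀ c) (Pᵀ c') := by
  unfold sympForm
  simp only [Matrix.mul_apply, Matrix.transpose_apply, dotProduct, Matrix.mulVec, Finset.sum_mul,
    Finset.mul_sum]
  rw [Finset.sum_comm]
  refine Finset.sum_congr rfl fun r _ => Finset.sum_congr rfl fun r' _ => ?_
  ring

/-- the matrix with columns `a, -i a, b, -i b` (defined through its rows of the transpose) -/
def colMatT (i : Matrix (Fin 2 ⊕ Fin 2) (Fin 2 ⊕ Fin 2) F) (a b : Fin 2 ⊕ Fin 2 → F) :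
    Matrix (Fin 2 ⊕ Fin 2) (Fin 2 ⊕ Fin 2) F :=
  Matrix.of (Sum.elim ![a, -(i *ᵥ a)] ![b, -(i *ᵥ b)])

theorem colMatT_inl_zero (i : Matrix (Fin 2 ⊕ Fin 2) (Fin 2 ⊕ Fin 2) F) (a b : Fin 2 ⊕ Fin 2 → F) :
    colMatT i a b (Sum.inl 0) = a := rfl
theorem colMatT_inl_one (i : Matrix (Fin 2 ⊕ Fin 2) (Fin 2 ⊕ Fin 2) F) (a b : Fin 2 ⊕ Fin 2 → F) :
    colMatT i a b (Sum.inl 1) = -(i *ᵥ a) := rfl
theorem colMatT_inr_zero (i : Matrix (Fin 2 ⊕ Fin 2) (Fin 2 ⊕ Fin 2) F) (a b : Fin 2 ⊕ Fin 2 → F) :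
    colMatT i a b (Sum.inr 0) = b := rfl
theorem colMatT_inr_one (i : Matrix (Fin 2 ⊕ Fin 2) (Fin 2 ⊕ Fin 2) F) (a b : Fin 2 ⊕ Fin 2 → F) :
    colMatT i a b (Sum.inr 1) = -(i *ᵥ b) := rfl

/-- **[3B-NF-BASIS]** -/
theorem exists_conj_i0 [Fintype F] (hq : Fintype.card F = 3)
    (i : Matrix (Fin 2 ⊕ Fin 2) (Fin 2 ⊕ Fin 2) F) (hi : i * i = -1)
    (hadj : ∀ u v, sympForm 2 F (i *ᵥ u) v = - sympForm 2 F u (i *ᵥ v)) :
    ∃ P : GL (Fin 2 ⊕ Fin 2) F, P ∈ spGL 2 F ∧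
      ((P⁻¹ : GL (Fin 2 ⊕ Fin 2) F) : Matrix (Fin 2 ⊕ Fin 2) (Fin 2 ⊕ Fin 2) F) * i *
        (P : Matrix (Fin 2 ⊕ Fin 2) (Fin 2 ⊕ Fin 2) F) = i0 := by
  obtain ⟨a, ha, haa⟩ := exists_isotropic i hi hadj hq
  obtain ⟨b, hba, hbia, hbb⟩ := exists_partner i hi hadj hq a ha haa
  set Pm : Matrix (Fin 2 ⊕ Fin 2) (Fin 2 ⊕ Fin 2) F := (colMatT i a b)ᵀ with hPm
  have hPT : Pmᵀ = colMatT i a b := by rw [hPm, Matrix.transpose_transpose]
  -- values of the form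
  have hab : sympForm 2 F a b = -1 := by rw [sympForm_skew, hba]
  have haib : sympForm 2 F a (i *ᵥ b) = 0 := by rw [← s_symm i hadj a b, hbia]
  have hiaa : sympForm 2 F (i *ᵥ a) a = 0 := by rw [hadj, haa, neg_zero]
  have hibb : sympForm 2 F (i *ᵥ b) b = 0 := by rw [hadj, hbb, neg_zero]
  have hiab : sympForm 2 F (i *ᵥ a) b = 0 := by rw [hadj, haib, neg_zero]
  have hiba : sympForm 2 F (i *ᵥ b) a = 0 := by rw [hadj, hbia, neg_zero]
  have hsymp : Pm ∈ Matrix.symplecticGroup (Fin 2) F := by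
    rw [SymplecticGroup.mem_iff']
    ext c c'
    rw [transpose_J_mul_apply, hPT]
    rcases c with c | c <;> rcases c' with c' | c' <;> fin_cases c <;> fin_cases c' <;>
      simp [colMatT_inl_zero, colMatT_inl_one, colMatT_inr_zero, colMatT_inr_one, Matrix.J,
        sf_neg_left, sf_neg_right, sympForm_self, f_I_I i hi hadj, haa, hba, hbia, hbb, hab, haib,
        hiaa, hibb, hiab, hiba]
  obtain ⟨Pg, hPgmem, hcoe⟩ : ∃ Pg : GL (Fin 2 ⊕ Fin 2) F, Pg ∈ spGL 2 F ∧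
      (Pg : Matrix (Fin 2 ⊕ Fin 2) (Fin 2 ⊕ Fin 2) F) = Pm :=
    ⟨sympToGL 2 F ⟨Pm, hsymp⟩, sympToGL_mem _, sympToGL_coe _⟩
  have hcomm : i * Pm = Pm * i0 := by
    have hcol : ∀ r c, (i * Pm) r c = (i *ᵥ (Pmᵀ c)) r := fun r c => rfl
    ext r c
    rw [hcol, hPT]
    rcases c with c | c <;> fin_cases c
    · simp [colMatT_inl_zero, Matrix.mul_apply, Fintype.sum_sum_type, Fin.sum_univ_two, i0, tens, J2,
        hPm, Matrix.transpose_apply, colMatT_inl_one]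
    · simp [colMatT_inl_zero, Matrix.mul_apply, Fintype.sum_sum_type, Fin.sum_univ_two, i0, tens, J2,
        hPm, Matrix.transpose_apply, colMatT_inl_one, Matrix.mulVec_neg, I_I i hi]
    · simp [colMatT_inr_zero, Matrix.mul_apply, Fintype.sum_sum_type, Fin.sum_univ_two, i0, tens, J2,
        hPm, Matrix.transpose_apply, colMatT_inr_one]
    · simp [colMatT_inr_zero, Matrix.mul_apply, Fintype.sum_sum_type, Fin.sum_univ_two, i0, tens, J2,
        hPm, Matrix.transpose_apply, colMatT_inr_one, Matrix.mulVec_neg, I_I i hi]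
  refine ⟨Pg, hPgmem, ?_⟩
  calc ((Pg⁻¹ : GL (Fin 2 ⊕ Fin 2) F) : Matrix (Fin 2 ⊕ Fin 2) (Fin 2 ⊕ Fin 2) F) * i *
        (Pg : Matrix (Fin 2 ⊕ Fin 2) (Fin 2 ⊕ Fin 2) F)
      = ((Pg⁻¹ : GL (Fin 2 ⊕ Fin 2) F) : Matrix (Fin 2 ⊕ Fin 2) (Fin 2 ⊕ Fin 2) F) * (i * Pm) := by
        rw [Matrix.mul_assoc, hcoe]
    _ = ((Pg⁻¹ : GL (Fin 2 ⊕ Fin 2) F) : Matrix (Fin 2 ⊕ Fin 2) (Fin 2 ⊕ Fin 2) F) *
          ((Pg : Matrix (Fin 2 ⊕ Fin 2) (Fin 2 ⊕ Fin 2) F) * i0) := by rw [hcomm, hcoe]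
    _ = i0 := by
        rw [← Matrix.mul_assoc, ← Units.val_mul, inv_mul_cancel, Units.val_one, Matrix.one_mul]

end Cfsg.Agent.Lib.Helper98.BhrSp4
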