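import Cfsg.Agent.Lib.Helper94.BHRSP.Sp4Model

/-!
# BHRSP-[3B-NORM-CENT] (helper98, for helper94's project BHRSP, S5787)

`|F| = 3`: an element of `Sp_4(F)` commuting with `i₀ = 1 ⊗ J₂` is `a ⊗ b` with `b` a similitude of
the dot product (`b ∈ F[J₂]ˣ`).
-/

set_option autoImplicit false
set_option linter.unusedVariables false
set_option linter.unusedSectionVars false

namespace Cfsg.Agent.Lib.Helper98.BhrSp4

open Cfsg Cfsg.Geo Cfsg.Agent.Lib.Helper94.BHRSP Cfsg.Agent.Lib.Helper94.BHRSP.Sp4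
open scoped MatrixGroups Matrix

variable {F : Type*} [Field F]

section card3
variable [Fintype F]

theorem three_eq_zero (hq : Fintype.card F = 3) : (3 : F) = 0 := by
  have := FiniteField.cast_card_eq_zero F
  rw [hq] at this
  exact_mod_cast this

theorem two_ne_zero (hq : Fintype.card F = 3) : (2 : F) ≠ 0 := by
  intro h
  have h3 := three_eq_zero hq
  have : (1 : F) = 0 := by linear_combination h3 - h
  exact one_ne_zero this

theorem eq_zero_or_one_or_neg_one (hq : Fintype.card F = 3) (x : F) : x = 0 ∨ x = 1 ∨ x = -1 := by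
  have h := FiniteField.pow_card x
  rw [hq] at h
  have h2 : x * (x - 1) * (x + 1) = 0 := by ring_nf; rw [h]; ring
  rcases mul_eq_zero.mp h2 with h3 | h3
  · rcases mul_eq_zero.mp h3 with h4 | h4
    · exact Or.inl h4
    · exact Or.inr (Or.inl (sub_eq_zero.mp h4))
  · exact Or.inr (Or.inr (eq_neg_of_add_eq_zero_left h3))

/-- `-1` is not a sum of two squares... : the norm form of `F[J₂]` is anisotropic over `F_3`. -/
theorem norm_eq_zero (hq : Fintype.card F = 3) {x y : F} (h : x * x + y * y = 0) : x = 0 ∧ y = 0 := by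
  have h2 := two_ne_zero hq
  have h3 := three_eq_zero hq
  have h1 : (1 : F) + 1 ≠ 0 := by
    intro h; apply h2; linear_combination h
  rcases eq_zero_or_one_or_neg_one hq x with rfl | rfl | rfl <;>
    rcases eq_zero_or_one_or_neg_one hq y with rfl | rfl | rfl <;>
    first
      | exact ⟨rfl, rfl⟩
      | (exfalso; apply h1; linear_combination h)
      | (exfalso; apply one_ne_zero (α := F); linear_combination h)

end card3

/-- The scalar core: eight parameters satisfying the block equations of `gᵀ J g = J` are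
`F`-proportional to one vector `(β₁, β₂)`. -/
theorem scalar_core (hF : ∀ x y : F, x * x + y * y = 0 → x = 0 ∧ y = 0)
    (a1 a2 b1 b2 c1 c2 d1 d2 : F) (e1 : c1 * a2 = c2 * a1) (e2 : d1 * b2 = d2 * b1)
    (e3 : a1 * d1 + a2 * d2 - c1 * b1 - c2 * b2 = 1) (e4 : a1 * d2 - a2 * d1 - c1 * b2 + c2 * b1 = 0) :
    ∃ β1 β2 tA tB tC tD : F, a1 = tA * β1 ∧ a2 = tA * β2 ∧ b1 = tB * β1 ∧ b2 = tB * β2 ∧
      c1 = tC * β1 ∧ c2 = tC * β2 ∧ d1 = tD * β1 ∧ d2 = tD * β2 ∧
      (tA * tD - tB * tC) * (β1 * β1 + β2 * β2) = 1 := by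
  by_cases hA : a1 * a1 + a2 * a2 = 0
  · -- `A = 0`: take `b = C`
    obtain ⟨rfl, rfl⟩ := hF a1 a2 hA
    have hn : c1 * c1 + c2 * c2 ≠ 0 := by
      intro h
      obtain ⟨rfl, rfl⟩ := hF c1 c2 h
      simp at e3
    -- `B = -C / n`
    have hb1n : b1 * (c1 * c1 + c2 * c2) = -c1 := by
      linear_combination (-c1) * e3 + c2 * e4
    have hb2n : b2 * (c1 * c1 + c2 * c2) = -c2 := by
      linear_combination (-c2) * e3 - c1 * e4
    have hd : d1 * c2 = d2 * c1 := by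
      linear_combination (-(c1 * c1 + c2 * c2)) * e2 + d1 * hb2n - d2 * hb1n
    refine ⟨c1, c2, 0, -1 / (c1 * c1 + c2 * c2), 1, (d1 * c1 + d2 * c2) / (c1 * c1 + c2 * c2),
      by ring, by ring, ?_, ?_, by ring, by ring, ?_, ?_, ?_⟩
    · rw [div_mul_eq_mul_div, eq_div_iff hn]
      linear_combination hb1n
    · rw [div_mul_eq_mul_div, eq_div_iff hn]
      linear_combination hb2n
    · rw [div_mul_eq_mul_div, eq_div_iff hn]
      linear_combination c2 * hd
    · rw [div_mul_eq_mul_div, eq_div_iff hn]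
      linear_combination (-c1) * hd
    · have hn2 : c1 ^ 2 + c2 ^ 2 ≠ 0 := by rw [sq, sq]; exact hn
      field_simp
      ring
  · -- `A ≠ 0`: take `b = A`
    have hn' : a1 * a1 + a2 * a2 ≠ 0 := hA
    -- `C = s A`
    obtain ⟨s, rfl, rfl⟩ : ∃ s : F, c1 = s * a1 ∧ c2 = s * a2 := by
      refine ⟨(c1 * a1 + c2 * a2) / (a1 * a1 + a2 * a2), ?_, ?_⟩
      · rw [div_mul_eq_mul_div, eq_div_iff hn']
        linear_combination a2 * e1
      · rw [div_mul_eq_mul_div, eq_div_iff hn']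
        linear_combination (-a1) * e1
    have hE1 : (d1 - s * b1) * (a1 * a1 + a2 * a2) = a1 := by
      linear_combination a1 * e3 - a2 * e4
    have hE2 : (d2 - s * b2) * (a1 * a1 + a2 * a2) = a2 := by
      linear_combination a2 * e3 + a1 * e4
    have hab : a1 * b2 = a2 * b1 := by
      linear_combination (-b2) * hE1 + b1 * hE2 + (a1 * a1 + a2 * a2) * e2
    have hb1n : b1 * (a1 * a1 + a2 * a2) = (b1 * a1 + b2 * a2) * a1 := by
      linear_combination (-a2) * hab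
    have hb2n : b2 * (a1 * a1 + a2 * a2) = (b1 * a1 + b2 * a2) * a2 := by
      linear_combination a1 * hab
    refine ⟨a1, a2, 1, (b1 * a1 + b2 * a2) / (a1 * a1 + a2 * a2), s,
      (1 + s * (b1 * a1 + b2 * a2)) / (a1 * a1 + a2 * a2),
      by ring, by ring, ?_, ?_, rfl, rfl, ?_, ?_, ?_⟩
    · rw [div_mul_eq_mul_div, eq_div_iff hn']
      exact hb1n
    · rw [div_mul_eq_mul_div, eq_div_iff hn']
      exact hb2n
    · rw [div_mul_eq_mul_div, eq_div_iff hn']
      linear_combination hE1 + s * hb1n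
    · rw [div_mul_eq_mul_div, eq_div_iff hn']
      linear_combination hE2 + s * hb2n
    · have hn2 : a1 ^ 2 + a2 ^ 2 ≠ 0 := by rw [sq, sq]; exact hn'
      field_simp
      ring

/-- **[3B-NORM-CENT]** -/
theorem centralizer_i0_eq_tens [Fintype F] (hq : Fintype.card F = 3) (g : GL (Fin 2 ⊕ Fin 2) F)
    (hg : g ∈ spGL 2 F)
    (hc : (g : Matrix (Fin 2 ⊕ Fin 2) (Fin 2 ⊕ Fin 2) F) * i0 =
      i0 * (g : Matrix (Fin 2 ⊕ Fin 2) (Fin 2 ⊕ Fin 2) F)) :
    ∃ (a b : GL (Fin 2) F) (μ : F), g = tensGL a b ∧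
      (b : Matrix (Fin 2) (Fin 2) F)ᵀ * (b : Matrix (Fin 2) (Fin 2) F) = μ • 1 := by
  have h2 := two_ne_zero hq
  set G : Matrix (Fin 2 ⊕ Fin 2) (Fin 2 ⊕ Fin 2) F := (g : Matrix (Fin 2 ⊕ Fin 2) (Fin 2 ⊕ Fin 2) F)
    with hG
  -- the block structure
  have hcE : ∀ r c : Fin 2 ⊕ Fin 2, (G * (i0 : Matrix (Fin 2 ⊕ Fin 2) (Fin 2 ⊕ Fin 2) F)) r c =
      ((i0 : Matrix (Fin 2 ⊕ Fin 2) (Fin 2 ⊕ Fin 2) F) * G) r c := fun r c => by rw [hc]
  have hb : ∀ (x y : Fin 2 → Fin 2 ⊕ Fin 2), (x = Sum.inl ∨ x = Sum.inr) → (y = Sum.inl ∨ y = Sum.inr) →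
      G (x 1) (y 0) = - G (x 0) (y 1) ∧ G (x 1) (y 1) = G (x 0) (y 0) := by
    intro x y hx hy
    have k1 := hcE (x 0) (y 0)
    have k2 := hcE (x 0) (y 1)
    rcases hx with rfl | rfl <;> rcases hy with rfl | rfl <;>
      simp [Matrix.mul_apply, Fintype.sum_sum_type, Fin.sum_univ_two, i0, tens, J2] at k1 k2 <;>
      exact ⟨by linear_combination -k1, by linear_combination -k2⟩
  obtain ⟨hA1, hA2⟩ := hb Sum.inl Sum.inl (Or.inl rfl) (Or.inl rfl)
  obtain ⟨hB1, hB2⟩ := hb Sum.inl Sum.inr (Or.inl rfl) (Or.inr rfl)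
  obtain ⟨hC1, hC2⟩ := hb Sum.inr Sum.inl (Or.inr rfl) (Or.inl rfl)
  obtain ⟨hD1, hD2⟩ := hb Sum.inr Sum.inr (Or.inr rfl) (Or.inr rfl)
  -- the symplectic condition
  have hJ : Gᵀ * Matrix.J (Fin 2) F * G = Matrix.J (Fin 2) F :=
    SymplecticGroup.mem_iff'.1 (coe_mem_symplecticGroup g hg)
  have hJE : ∀ r c : Fin 2 ⊕ Fin 2, (Gᵀ * Matrix.J (Fin 2) F * G) r c = Matrix.J (Fin 2) F r c :=
    fun r c => by rw [hJ]
  have j1 := hJE (Sum.inl 0) (Sum.inl 1)
  have j2 := hJE (Sum.inr 0) (Sum.inr 1)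
  have j3 := hJE (Sum.inr 0) (Sum.inl 0)
  have j4 := hJE (Sum.inr 0) (Sum.inl 1)
  simp [Matrix.mul_apply, Fintype.sum_sum_type, Fin.sum_univ_two, Matrix.J, Matrix.transpose_apply,
    hA1, hA2, hB1, hB2, hC1, hC2, hD1, hD2] at j1 j2 j3 j4
  have e1 : G (Sum.inr 0) (Sum.inl 0) * G (Sum.inl 0) (Sum.inl 1) =
      G (Sum.inr 0) (Sum.inl 1) * G (Sum.inl 0) (Sum.inl 0) := by
    have : (2 : F) * (G (Sum.inr 0) (Sum.inl 0) * G (Sum.inl 0) (Sum.inl 1) -
        G (Sum.inr 0) (Sum.inl 1) * G (Sum.inl 0) (Sum.inl 0)) = 0 := by linear_combination j1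
    rcases mul_eq_zero.1 this with h | h
    · exact absurd h h2
    · exact sub_eq_zero.1 h
  have e2 : G (Sum.inr 0) (Sum.inr 0) * G (Sum.inl 0) (Sum.inr 1) =
      G (Sum.inr 0) (Sum.inr 1) * G (Sum.inl 0) (Sum.inr 0) := by
    have : (2 : F) * (G (Sum.inr 0) (Sum.inr 0) * G (Sum.inl 0) (Sum.inr 1) -
        G (Sum.inr 0) (Sum.inr 1) * G (Sum.inl 0) (Sum.inr 0)) = 0 := by linear_combination j2
    rcases mul_eq_zero.1 this with h | h
    · exact absurd h h2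
    · exact sub_eq_zero.1 h
  obtain ⟨β1, β2, tA, tB, tC, tD, ha1, ha2, hb1, hb2, hc1, hc2, hd1, hd2, hdet⟩ :=
    scalar_core (fun x y h => norm_eq_zero hq h)
      (G (Sum.inl 0) (Sum.inl 0)) (G (Sum.inl 0) (Sum.inl 1)) (G (Sum.inl 0) (Sum.inr 0))
      (G (Sum.inl 0) (Sum.inr 1)) (G (Sum.inr 0) (Sum.inl 0)) (G (Sum.inr 0) (Sum.inl 1))
      (G (Sum.inr 0) (Sum.inr 0)) (G (Sum.inr 0) (Sum.inr 1)) e1 e2
      (by linear_combination j3) (by linear_combination -j4)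
  have hN : β1 * β1 + β2 * β2 ≠ 0 := by
    intro h
    rw [h, mul_zero] at hdet
    exact zero_ne_one hdet
  have hT : tA * tD - tB * tC ≠ 0 := by
    intro h
    rw [h, zero_mul] at hdet
    exact zero_ne_one hdet
  have hdb : (!![β1, β2; -β2, β1] : Matrix (Fin 2) (Fin 2) F).det ≠ 0 := by
    rw [Matrix.det_fin_two_of]
    intro h
    apply hN
    linear_combination h
  have hda : (!![tA, tB; tC, tD] : Matrix (Fin 2) (Fin 2) F).det ≠ 0 := by
    rw [Matrix.det_fin_two_of]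
    exact hT
  refine ⟨Matrix.GeneralLinearGroup.mkOfDetNeZero _ hda, Matrix.GeneralLinearGroup.mkOfDetNeZero _ hdb,
    β1 * β1 + β2 * β2, ?_, ?_⟩
  · apply Units.ext
    rw [tensGL_val]
    show G = tens !![tA, tB; tC, tD] !![β1, β2; -β2, β1]
    ext r c
    rcases r with r | r <;> rcases c with c | c <;> fin_cases r <;> fin_cases c <;>
      simp [tens_apply_inl_inl, tens_apply_inl_inr, tens_apply_inr_inl, tens_apply_inr_inr,
        hA1, hA2, hB1, hB2, hC1, hC2, hD1, hD2, ← ha1, ← ha2, ← hb1, ← hb2, ← hc1, ← hc2, ← hd1, ← hd2]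
  · show (!![β1, β2; -β2, β1] : Matrix (Fin 2) (Fin 2) F)ᵀ * !![β1, β2; -β2, β1] = _
    ext r c
    fin_cases r <;> fin_cases c <;>
      simp [Matrix.mul_apply, Fin.sum_univ_two, Matrix.transpose_apply] <;> ring

end Cfsg.Agent.Lib.Helper98.BhrSp4
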