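import Mathlib
import Cfsg.Agent.Lib.Helper95.D4Iso.Defs
import Cfsg.Agent.Lib.Helper98.D4IsoGMem

/-!
# D4ISO [G-TORUS]: the torus elements `d(μ²)` lie in `E0` (helper98)
-/

set_option autoImplicit false
set_option linter.unusedVariables false

namespace Cfsg.Agent.Lib.Helper98.D4Iso

open Matrix Cfsg.Agent.Lib.Helper95.D4Iso

/-! ### Two identities in a ring with an `sl₂`-pair -/

section abstract

variable {A : Type*} [Ring A]

theorem h98_n_form (e f : A) (he : e * e = 0) (hefe : e * f * e = e) :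
    (1 + e) * (1 - f) * (1 + e) = 1 - (e * f + f * e) + e - f := by
  have : (1 + e) * (1 - f) * (1 + e) =
      1 + e - f - e * f + e + e * e - f * e - e * f * e := by noncomm_ring
  rw [this, he, hefe]
  abel

theorem h98_h_form (P e f e' f' : A) (hPe : P * e = e) (hPf : P * f = f)
    (he'P : e' * P = e') (hf'P : f' * P = f') (hPP : P * P = P) (he'e : e' * e = 0)
    (hf'f : f' * f = 0) :
    (1 - P + e' - f') * (1 - P - e + f) = 1 - P + e' * f + f' * e := by
  have : (1 - P + e' - f') * (1 - P - e + f) =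
      1 - P - e + f - P + P * P + P * e - P * f + e' - e' * P - e' * e + e' * f - f' + f' * P
        + f' * e - f' * f := by noncomm_ring
  rw [this, hPe, hPf, he'P, hf'P, hPP, he'e, hf'f]
  abel

end abstract

/-! ### The pair `e_{ab}`, `e_{ba}` -/

section pair

variable {R : Type*} [CommRing R]

theorem h98_valid_symm {a b : I8} (h : Valid a b) : Valid b a := by
  refine ⟨Ne.symm h.1, ?_⟩
  intro hb
  apply h.2
  rw [hb, opp_opp]

theorem h98_ee (a b : I8) (h : Valid a b) : (eM a b : Matrix I8 I8 R) * eM a b = 0 := by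
  have h1 : b ≠ a := Ne.symm h.1
  have h2 : b ≠ opp b := (opp_ne b).symm
  have h3 : opp a ≠ a := opp_ne a
  have h4 : opp a ≠ opp b := fun hh => h.1 (opp_injective hh)
  unfold eM
  rw [sub_mul, mul_sub, mul_sub, Matrix.single_mul_single_of_ne _ _ _ _ h1,
    Matrix.single_mul_single_of_ne _ _ _ _ h2, Matrix.single_mul_single_of_ne _ _ _ _ h3,
    Matrix.single_mul_single_of_ne _ _ _ _ h4]
  simp

theorem h98_ef (a b : I8) (h : Valid a b) :
    (eM a b : Matrix I8 I8 R) * eM b a = Matrix.single a a 1 + Matrix.single (opp b) (opp b) 1 := by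
  have h1 : b ≠ opp a := (h98_valid_symm h).2
  have h2 : opp a ≠ b := Ne.symm h1
  unfold eM
  rw [sub_mul, mul_sub, mul_sub, Matrix.single_mul_single_same, Matrix.single_mul_single_same,
    Matrix.single_mul_single_of_ne _ _ _ _ h1, Matrix.single_mul_single_of_ne _ _ _ _ h2]
  simp

theorem h98_efe (a b : I8) (h : Valid a b) :
    (eM a b : Matrix I8 I8 R) * eM b a * eM a b = eM a b := by
  have h1 : a ≠ opp b := h.2
  have h2 : opp b ≠ a := Ne.symm h1
  rw [h98_ef a b h]
  unfold eM
  rw [add_mul, mul_sub, mul_sub, Matrix.single_mul_single_same, Matrix.single_mul_single_same,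
    Matrix.single_mul_single_of_ne _ _ _ _ h1, Matrix.single_mul_single_of_ne _ _ _ _ h2]
  simp [sub_eq_add_neg]

/-- `h_{ab}(μ) = n_{ab}(μ) n_{ab}(1)⁻¹` as a product of six root elements -/
theorem h98_h_prod (a b : I8) (h : Valid a b) (μ ν : R) (hμν : μ * ν = 1) :
    xM a b μ * xM b a (-ν) * xM a b μ * (xM a b (-1) * xM b a 1 * xM a b (-1)) =
      1 - (Matrix.single a a 1 + Matrix.single (opp b) (opp b) 1 +
            (Matrix.single b b 1 + Matrix.single (opp a) (opp a) 1))
        + μ • (Matrix.single a a 1 + Matrix.single (opp b) (opp b) 1)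
        + ν • (Matrix.single b b 1 + Matrix.single (opp a) (opp a) 1) := by
  have h' := h98_valid_symm h
  set e : Matrix I8 I8 R := eM a b with he_def
  set f : Matrix I8 I8 R := eM b a with hf_def
  have hee : e * e = 0 := h98_ee a b h
  have hff : f * f = 0 := h98_ee b a h'
  have hefe : e * f * e = e := h98_efe a b h
  have hfef : f * e * f = f := h98_efe b a h'
  have hef : e * f = Matrix.single a a 1 + Matrix.single (opp b) (opp b) 1 := h98_ef a b h
  have hfe : f * e = Matrix.single b b 1 + Matrix.single (opp a) (opp a) 1 := h98_ef b a h'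
  rw [← hef, ← hfe]
  -- first factor
  have n1 : xM a b μ * xM b a (-ν) * xM a b μ = 1 - (e * f + f * e) + μ • e - ν • f := by
    have e1 : xM a b μ = 1 + μ • e := rfl
    have e2 : xM b a (-ν) = 1 - ν • f := by
      show 1 + (-ν) • f = 1 - ν • f
      rw [neg_smul, sub_eq_add_neg]
    rw [e1, e2, h98_n_form (μ • e) (ν • f)]
    · congr 2
      rw [smul_mul_smul_comm, smul_mul_smul_comm, hμν, mul_comm ν μ, hμν, one_smul, one_smul]
    · rw [smul_mul_smul_comm, hee, smul_zero]
    · rw [smul_mul_smul_comm, smul_mul_smul_comm, hefe, hμν, one_mul]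
  have n2 : xM a b (-1) * xM b a 1 * xM a b (-1) = 1 - (e * f + f * e) - e + f := by
    have e1 : xM a b (-1 : R) = 1 + (-e) := by
      show 1 + (-1 : R) • e = 1 + (-e)
      rw [neg_smul, one_smul]
    have e2 : xM b a (1 : R) = 1 - (-f) := by
      show 1 + (1 : R) • f = 1 - (-f)
      rw [one_smul, sub_neg_eq_add]
    rw [e1, e2, h98_n_form (-e) (-f)]
    · rw [neg_mul_neg, neg_mul_neg]
      abel
    · rw [neg_mul_neg, hee]
    · rw [neg_mul_neg, mul_neg, hefe]
  rw [n1, n2]
  have hPe : (e * f + f * e) * e = e := by rw [add_mul, hefe, mul_assoc f e e, hee, mul_zero, add_zero]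
  have hPf : (e * f + f * e) * f = f := by rw [add_mul, mul_assoc e f f, hff, mul_zero, zero_add, hfef]
  have heP : e * (e * f + f * e) = e := by rw [mul_add, ← mul_assoc, hee, zero_mul, zero_add, ← mul_assoc, hefe]
  have hfP : f * (e * f + f * e) = f := by rw [mul_add, ← mul_assoc, hfef, ← mul_assoc, hff, zero_mul, add_zero]
  have hPP : (e * f + f * e) * (e * f + f * e) = e * f + f * e := by
    rw [mul_add, add_mul, add_mul, ← mul_assoc, ← mul_assoc, ← mul_assoc, ← mul_assoc, hefe, hfef,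
      mul_assoc e f f, hff, mul_zero, mul_assoc f e e, hee, mul_zero, zero_mul, zero_mul, add_zero,
      zero_add]
  rw [h98_h_form (e * f + f * e) e f (μ • e) (ν • f) hPe hPf
    (by rw [smul_mul_assoc, heP]) (by rw [smul_mul_assoc, hfP]) hPP
    (by rw [smul_mul_assoc, hee, smul_zero]) (by rw [smul_mul_assoc, hff, smul_zero])]
  rw [smul_mul_assoc, smul_mul_assoc]

end pair

/-! ### The diagonal form -/

section diag

variable {R : Type*} [CommRing R]

/-- the diagonal of `h_{ab}(μ)` -/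
def h98_dfun (a b : I8) (μ ν : R) : I8 → R :=
  fun x => if x = a ∨ x = opp b then μ else if x = b ∨ x = opp a then ν else 1

theorem h98_diag (a b : I8) (h : Valid a b) (μ ν : R) :
    1 - (Matrix.single a a 1 + Matrix.single (opp b) (opp b) 1 +
            (Matrix.single b b 1 + Matrix.single (opp a) (opp a) 1))
        + μ • (Matrix.single a a 1 + Matrix.single (opp b) (opp b) 1)
        + ν • (Matrix.single b b 1 + Matrix.single (opp a) (opp a) (1 : R)) =
      Matrix.diagonal (h98_dfun a b μ ν) := by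
  have h' := h98_valid_symm h
  ext i j
  simp only [Matrix.add_apply, Matrix.sub_apply, Matrix.smul_apply, Matrix.one_apply,
    Matrix.single_apply, Matrix.diagonal_apply, smul_eq_mul]
  by_cases hij : i = j
  · subst hij
    simp only [and_self, if_true]
    unfold h98_dfun
    by_cases h1 : i = a
    · subst h1
      have e1 : ¬ (opp b = i) := Ne.symm h.2
      have e2 : ¬ (b = i) := Ne.symm h.1
      have e3 : ¬ (opp i = i) := opp_ne i
      simp [e1, e2, e3]
    · by_cases h2 : i = opp b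
      · subst h2
        have e1 : ¬ (a = opp b) := h.2
        have e2 : ¬ (b = opp b) := (opp_ne b).symm
        have e3 : ¬ (opp a = opp b) := fun hh => h.1 (opp_injective hh)
        simp [e1, e2, e3]
      · by_cases h3 : i = b
        · subst h3
          have e1 : ¬ (a = i) := h.1
          have e2 : ¬ (opp i = i) := opp_ne i
          have e3 : ¬ (opp a = i) := Ne.symm h'.2
          simp [e1, e2, e3, h1, h2]
        · by_cases h4 : i = opp a
          · subst h4
            have e1 : ¬ (a = opp a) := (opp_ne a).symm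
            have e2 : ¬ (opp b = opp a) := fun hh => h.1 (opp_injective hh).symm
            have e3 : ¬ (b = opp a) := h'.2
            simp [e1, e2, e3, h1, h2, h3]
          · have e1 : ¬ (a = i) := Ne.symm h1
            have e2 : ¬ (opp b = i) := Ne.symm h2
            have e3 : ¬ (b = i) := Ne.symm h3
            have e4 : ¬ (opp a = i) := Ne.symm h4
            simp [e1, e2, e3, e4, h1, h2, h3, h4]
  · have hx : ∀ x : I8, ¬ (x = i ∧ x = j) := fun x hx => hij (hx.1.symm.trans hx.2)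
    simp [hij, hx]

end diag

/-! ### The module statements -/

variable {F : Type*} [Field F]

theorem dM_mul (μ ν : F) (hμ : μ ≠ 0) (hν : ν ≠ 0) : dM μ * dM ν = dM (μ * ν) := by
  unfold dM
  rw [Matrix.diagonal_mul_diagonal]
  congr 1
  funext a
  by_cases h1 : a = Sum.inl 3
  · simp [h1]
  · by_cases h2 : a = Sum.inr 3
    · simp [h2, mul_comm]
    · simp [h1, h2]

theorem dM_one : dM (1 : F) = 1 := by
  unfold dM
  rw [← Matrix.diagonal_one]
  congr 1
  funext a
  simp

theorem sM_mul_sM : (sM : Matrix I8 I8 F) * sM = 1 := by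
  ext i j
  rw [Matrix.mul_apply, Fintype.sum_sum_type]
  simp only [Fin.sum_univ_four, sM, Matrix.of_apply, Matrix.one_apply]
  rcases i with i | i <;> rcases j with j | j <;> fin_cases i <;> fin_cases j <;> simp

theorem sM_dM_sM (μ : F) (hμ : μ ≠ 0) : (sM : Matrix I8 I8 F) * dM μ * sM = dM μ⁻¹ := by
  ext i j
  unfold dM
  rw [Matrix.mul_apply, Fintype.sum_sum_type]
  simp only [Matrix.mul_diagonal, Fin.sum_univ_four, sM, Matrix.of_apply, Matrix.diagonal_apply]
  rcases i with i | i <;> rcases j with j | j <;> fin_cases i <;> fin_cases j <;> simp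

theorem h98_root_mem (a b : I8) (h : Valid a b) (t : F) (r : ↥(OG F))
    (hr : ((r : GL I8 F) : Matrix I8 I8 F) = xM a b t) : r ∈ E0 F :=
  Subgroup.subset_closure ⟨a, b, h, t, hr⟩

theorem dM_sq_mem (μ : F) (hμ : μ ≠ 0) (g : ↥(OG F))
    (hg : ((g : GL I8 F) : Matrix I8 I8 F) = dM (μ ^ 2)) : g ∈ E0 F := by
  have hμν : μ * μ⁻¹ = 1 := mul_inv_cancel₀ hμ
  have hνμ : μ⁻¹ * μ = 1 := inv_mul_cancel₀ hμ
  have v1 : Valid (Sum.inl 2) (Sum.inr 3) := by decide
  have v1' := h98_valid_symm v1
  have v2 : Valid (Sum.inl 2) (Sum.inl 3) := by decide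
  have v2' := h98_valid_symm v2
  obtain ⟨r1, hr1⟩ := exists_xO (F := F) _ _ v1 μ
  obtain ⟨r2, hr2⟩ := exists_xO (F := F) _ _ v1' (-μ⁻¹)
  obtain ⟨r3, hr3⟩ := exists_xO (F := F) _ _ v1 (-1)
  obtain ⟨r4, hr4⟩ := exists_xO (F := F) _ _ v1' 1
  obtain ⟨s1, hs1⟩ := exists_xO (F := F) _ _ v2 μ⁻¹
  obtain ⟨s2, hs2⟩ := exists_xO (F := F) _ _ v2' (-μ)
  obtain ⟨s3, hs3⟩ := exists_xO (F := F) _ _ v2 (-1)
  obtain ⟨s4, hs4⟩ := exists_xO (F := F) _ _ v2' 1
  have hp : g = r1 * r2 * r1 * (r3 * r4 * r3) * (s1 * s2 * s1 * (s3 * s4 * s3)) := by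
    apply OG_ext
    rw [hg]
    show dM (μ ^ 2) =
      ((r1 : GL I8 F) : Matrix I8 I8 F) * ((r2 : GL I8 F) : Matrix I8 I8 F) *
        ((r1 : GL I8 F) : Matrix I8 I8 F) * (((r3 : GL I8 F) : Matrix I8 I8 F) *
        ((r4 : GL I8 F) : Matrix I8 I8 F) * ((r3 : GL I8 F) : Matrix I8 I8 F)) *
      (((s1 : GL I8 F) : Matrix I8 I8 F) * ((s2 : GL I8 F) : Matrix I8 I8 F) *
        ((s1 : GL I8 F) : Matrix I8 I8 F) * (((s3 : GL I8 F) : Matrix I8 I8 F) *
        ((s4 : GL I8 F) : Matrix I8 I8 F) * ((s3 : GL I8 F) : Matrix I8 I8 F)))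
    rw [hr1, hr2, hr3, hr4, hs1, hs2, hs3, hs4, h98_h_prod _ _ v1 μ μ⁻¹ hμν,
      h98_h_prod _ _ v2 μ⁻¹ μ hνμ, h98_diag _ _ v1, h98_diag _ _ v2, Matrix.diagonal_mul_diagonal]
    unfold dM
    congr 1
    funext x
    rcases x with x | x <;> fin_cases x <;> simp [h98_dfun, opp, hμν, hνμ, pow_two]
  rw [hp]
  have m1 := h98_root_mem _ _ v1 _ r1 hr1
  have m2 := h98_root_mem _ _ v1' _ r2 hr2
  have m3 := h98_root_mem _ _ v1 _ r3 hr3
  have m4 := h98_root_mem _ _ v1' _ r4 hr4
  have n1 := h98_root_mem _ _ v2 _ s1 hs1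
  have n2 := h98_root_mem _ _ v2' _ s2 hs2
  have n3 := h98_root_mem _ _ v2 _ s3 hs3
  have n4 := h98_root_mem _ _ v2' _ s4 hs4
  exact mul_mem (mul_mem (mul_mem (mul_mem m1 m2) m1) (mul_mem (mul_mem m3 m4) m3))
    (mul_mem (mul_mem (mul_mem n1 n2) n1) (mul_mem (mul_mem n3 n4) n3))

end Cfsg.Agent.Lib.Helper98.D4Iso
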