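import Cfsg.Agent.Lib.Helper98.Fpf3

/-!
# Groups with a fixed-point-free automorphism of order three: general lemmas

Invariant subgroups, the four-element lemma, and the lemma that `|G : Z(G)| = 4` forces `G`
abelian.
-/

set_option autoImplicit false
set_option linter.unusedSimpArgs false
set_option linter.style.haveILetI false
set_option linter.unusedSectionVars false

namespace Cfsg.Agent.Lib.Helper98.Fpf64

open Subgroup
open scoped commutatorElement
open Cfsg.Agent.Lib.Helper98.Fpf3

section general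
variable {G : Type*} [Group G] [Finite G] (ρ : MulAut G) (h3 : ρ ^ 3 = 1)
  (hfp : ∀ y : G, ρ y = y → y = 1)

theorem inv_iff (K : Subgroup G) : (∀ k ∈ K, ρ k ∈ K) ↔ K.map ρ.toMonoidHom ≤ K := by
  constructor
  · rintro h _ ⟨k, hk, rfl⟩
    exact h k hk
  · intro h k hk
    exact h ⟨k, hk, rfl⟩

theorem inv_sup (K L : Subgroup G) (hK : ∀ k ∈ K, ρ k ∈ K) (hL : ∀ k ∈ L, ρ k ∈ L) :
    ∀ k ∈ K ⊔ L, ρ k ∈ K ⊔ L := by
  rw [inv_iff] at hK hL ⊢
  rw [Subgroup.map_sup]
  exact sup_le_sup hK hL

theorem inv_center : ∀ k ∈ center G, ρ k ∈ center G := by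
  intro k hk
  rw [mem_center_iff] at hk ⊢
  intro g
  have := hk (ρ.symm g)
  have h := congrArg ρ this
  simpa using h

include h3 hfp in
theorem inv_closure_pair (y : G) : ∀ k ∈ closure ({y, ρ y} : Set G), ρ k ∈ closure ({y, ρ y} : Set G) := by
  rw [inv_iff, MonoidHom.map_closure, closure_le]
  rintro _ ⟨x, hx, rfl⟩
  simp only [Set.mem_insert_iff, Set.mem_singleton_iff] at hx
  rcases hx with hx | hx
  · rw [hx]; exact subset_closure (by simp)
  · rw [hx]
    change ρ (ρ y) ∈ _
    rw [rho2_eq ρ h3 hfp]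
    exact inv_mem (mul_mem (subset_closure (by simp)) (subset_closure (by simp)))

/-- The invariant abelian subgroup generated by `y`, `ρ y` and the centre. -/
def E (y : G) : Subgroup G := closure ({y, ρ y} : Set G) ⊔ center G

include h3 hfp in
theorem E_inv (y : G) : ∀ k ∈ E ρ y, ρ k ∈ E ρ y :=
  inv_sup ρ _ _ (inv_closure_pair ρ h3 hfp y) (inv_center ρ)

theorem mem_E (y : G) : y ∈ E ρ y := mem_sup_left (subset_closure (by simp))

theorem rho_mem_E (y : G) : ρ y ∈ E ρ y := mem_sup_left (subset_closure (by simp))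

theorem center_le_E (y : G) : center G ≤ E ρ y := le_sup_right

include h3 hfp in
theorem E_le_centralizer (y : G) : E ρ y ≤ centralizer (E ρ y : Set G) := by
  have hcl : closure ({y, ρ y} : Set G) ≤ centralizer (E ρ y : Set G) := by
    rw [closure_le]
    have hpair : ({y, ρ y} : Set G) ⊆ centralizer ({y, ρ y} : Set G) := by
      intro a ha b hb
      simp only [Set.mem_insert_iff, Set.mem_singleton_iff] at ha hb
      rcases ha with rfl | rfl <;> rcases hb with rfl | rfl
      · rfl
      · exact (comm_rho ρ h3 hfp _).symm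
      · exact (comm_rho ρ h3 hfp _)
      · rfl
    intro a ha
    change a ∈ centralizer (E ρ y : Set G)
    rw [E, ← closure_eq (center G), ← Subgroup.closure_union, centralizer_closure, mem_centralizer_iff]
    intro b hb
    rcases hb with hb | hb
    · exact hpair ha b hb
    · have hb' : b ∈ center G := hb
      exact (mem_center_iff.mp hb' a).symm
  refine sup_le hcl ?_
  intro z hz
  rw [mem_centralizer_iff]
  intro b _
  exact (mem_center_iff.mp hz b)

include h3 hfp in
theorem E_comm (y : G) (a b : G) (ha : a ∈ E ρ y) (hb : b ∈ E ρ y) : a * b = b * a := by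
  have := E_le_centralizer ρ h3 hfp y ha
  rw [mem_centralizer_iff] at this
  exact (this b hb).symm

include h3 hfp in
theorem E_ne_top (y : G) (hy : y ∉ center G) : E ρ y ≠ ⊤ := by
  intro h
  apply hy
  rw [mem_center_iff]
  intro g
  exact E_comm ρ h3 hfp y g y (by rw [h]; trivial) (mem_E ρ y)

theorem center_lt_E (y : G) (hy : y ∉ center G) : center G < E ρ y := by
  refine lt_of_le_of_ne (center_le_E ρ y) ?_
  intro h
  apply hy
  rw [h]
  exact mem_E ρ y

include h3 hfp in
/-- A `ρ`-invariant subgroup of order four consists of `1, k, ρ k, ρ (ρ k)`. -/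
theorem four_elems (K : Subgroup G) (hK : ∀ k ∈ K, ρ k ∈ K) (hc : Nat.card K = 4) (k : G)
    (hk : k ∈ K) (hk1 : k ≠ 1) (x : G) (hx : x ∈ K) :
    x = 1 ∨ x = k ∨ x = ρ k ∨ x = ρ (ρ k) := by
  classical
  have hrk : ρ k ≠ k := fun h => hk1 (hfp k h)
  have hrk1 : ρ k ≠ 1 := fun h => hk1 (by simpa using h)
  have hrrk1 : ρ (ρ k) ≠ 1 := fun h => hrk1 (by simpa using h)
  have hrrk : ρ (ρ k) ≠ ρ k := fun h => hrk (ρ.injective h)
  have hrrk' : ρ (ρ k) ≠ k := by
    intro h
    apply hrk
    have := congrArg ρ h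
    rw [rho3 ρ h3] at this
    exact this.symm
  set S : Finset G := {1, k, ρ k, ρ (ρ k)} with hS
  have hcard : S.card = 4 := by
    rw [hS]
    rw [Finset.card_insert_of_notMem, Finset.card_insert_of_notMem, Finset.card_insert_of_notMem,
      Finset.card_singleton]
    · simp only [Finset.mem_singleton]; exact hrrk.symm
    · simp only [Finset.mem_insert, Finset.mem_singleton, not_or]
      exact ⟨hrk.symm, hrrk'.symm⟩
    · simp only [Finset.mem_insert, Finset.mem_singleton, not_or]
      exact ⟨hk1.symm, hrk1.symm, hrrk1.symm⟩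
  have hsub : (S : Set G) ⊆ (K : Set G) := by
    intro a ha
    rw [hS] at ha
    simp only [Finset.coe_insert, Finset.coe_singleton, Set.mem_insert_iff,
      Set.mem_singleton_iff] at ha
    rcases ha with rfl | rfl | rfl | rfl
    · exact K.one_mem
    · exact hk
    · exact hK _ hk
    · exact hK _ (hK _ hk)
  have heq : (S : Set G) = (K : Set G) := by
    apply Set.eq_of_subset_of_ncard_le hsub _ (Set.toFinite _)
    rw [Set.ncard_coe_finset, hcard, ← hc]
    exact le_of_eq (Nat.card_coe_set_eq (K : Set G)).symm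
  have hx' : x ∈ (S : Set G) := by rw [heq]; exact hx
  rw [hS] at hx'
  simpa using hx'

include h3 hfp in
/-- A `ρ`-invariant subgroup of order four has exponent two. -/
theorem sq_eq_one_of_card_four (K : Subgroup G) (hK : ∀ k ∈ K, ρ k ∈ K) (hc : Nat.card K = 4)
    (k : G) (hk : k ∈ K) : k ^ 2 = 1 := by
  by_cases hk1 : k = 1
  · rw [hk1, one_pow]
  have hpow4 : ∀ x ∈ K, x ^ 4 = 1 := by
    intro x hx
    have := pow_card_eq_one' (G := K) (x := ⟨x, hx⟩)
    rw [hc] at this
    exact congrArg Subtype.val this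
  rcases four_elems ρ h3 hfp K hK hc k hk hk1 (k ^ 2) (K.pow_mem hk 2) with h | h | h | h
  · exact h
  · exfalso; apply hk1
    have : k * k = k * 1 := by rw [← pow_two, h, mul_one]
    exact mul_left_cancel this
  · exfalso
    have h1 : ρ (ρ k) = 1 := by
      rw [← h, map_pow, ← h, ← pow_mul]
      exact hpow4 k hk
    apply hk1
    simpa using h1
  · have h1 : ρ k ^ 2 = k := by
      rw [← map_pow, h, rho3 ρ h3]
    rw [← h1, ← pow_mul]
    exact hpow4 _ (hK _ hk)

include h3 hfp in
/-- If the centre has index four, the group is abelian. -/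
theorem comm_of_card_center (hc : Nat.card G = 4 * Nat.card (center G)) (y : G) :
    y ∈ center G := by
  by_contra hy
  have hlt := center_lt_E ρ y hy
  have hne := E_ne_top ρ h3 hfp y hy
  have hmodE := card_mod_three ρ h3 (E ρ y) (E_inv ρ h3 hfp y) hfp
  have hmodZ := card_mod_three ρ h3 (center G) (inv_center ρ) hfp
  have hdvd1 : Nat.card (center G) ∣ Nat.card (E ρ y) := Subgroup.card_dvd_of_le hlt.le
  have hdvd2 : Nat.card (E ρ y) ∣ Nat.card G := Subgroup.card_subgroup_dvd_card _
  obtain ⟨m, hm⟩ := hdvd1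
  rw [hm, hc, mul_comm 4] at hdvd2
  have hZpos : 0 < Nat.card (center G) := Nat.card_pos
  have hm4 : m ∣ 4 := (Nat.mul_dvd_mul_iff_left hZpos).mp hdvd2
  have hmle : m ≤ 4 := Nat.le_of_dvd (by norm_num) hm4
  have hcases : m = 1 ∨ m = 2 ∨ m = 4 := by
    interval_cases m <;> simp_all
  rcases hcases with rfl | rfl | rfl
  · have : E ρ y = center G := by
      symm
      apply Subgroup.eq_of_le_of_card_ge hlt.le
      rw [hm, mul_one]
    exact hlt.ne this.symm
  · rw [hm] at hmodE
    omega
  · apply hne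
    rw [← Subgroup.card_eq_iff_eq_top, hm, hc, mul_comm]

end general

end Cfsg.Agent.Lib.Helper98.Fpf64
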