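import Cfsg.Agent.Lib.Helper98.TwoAux
import Cfsg.Agent.Lib.Helper98.Fpf64A

/-!
# Abelian `2`-groups of rank four with few fixed points

An abelian `2`-group with commuting automorphisms `ρ` (fixed-point-free of order three) and `t`
(an involution with at most four fixed points) which has at least 16 elements of order at most two
is elementary abelian.
-/

set_option autoImplicit false
set_option linter.unusedSimpArgs false
set_option linter.style.haveILetI false
set_option linter.unusedSectionVars false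

namespace Cfsg.Agent.Lib.Helper98.AbE16

open Subgroup
open Cfsg.Agent.Lib.Helper98.Fpf3
open Cfsg.Agent.Lib.Helper98.Fpf64
open Cfsg.Agent.Lib.Helper98.TwoAux

theorem exp_two_of_rank_four {A : Type*} [Group A] [Finite A] (hcomm : ∀ a b : A, a * b = b * a)
    (h2 : IsPGroup 2 A) (ρ t : MulAut A) (h3 : ρ ^ 3 = 1) (hfp : ∀ y : A, ρ y = y → y = 1)
    (ht2 : ∀ y, t (t y) = y) (htρ : ∀ y, t (ρ y) = ρ (t y))
    (hfix : Nat.card (fixedSub t) ≤ 4) (Ω : Subgroup A) (hΩ : ∀ a, a ∈ Ω ↔ a ^ 2 = 1)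
    (hΩ16 : 16 ≤ Nat.card Ω) : ∀ a : A, a ^ 2 = 1 := by
  classical
  have hmulpow : ∀ (a b : A) (n : ℕ), (a * b) ^ n = a ^ n * b ^ n := by
    intro a b n
    exact (Commute.mul_pow (hcomm a b) n)
  have hinv2 : ∀ a : A, a ^ 2 = 1 → a⁻¹ = a := by
    intro a ha
    exact inv_eq_of_mul_eq_one_right (by rw [← pow_two]; exact ha)
  -- the subgroup inverted by `t`
  let I : Subgroup A :=
    { carrier := {a | t a = a⁻¹}
      mul_mem' := by
        intro a b ha hb
        change t (a * b) = (a * b)⁻¹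
        rw [map_mul, ha, hb, mul_inv_rev, hcomm]
      one_mem' := by
        change t 1 = 1⁻¹
        rw [map_one, inv_one]
      inv_mem' := by
        intro a ha
        change t a⁻¹ = a⁻¹⁻¹
        rw [map_inv, ha] }
  have hI : ∀ a, a ∈ I ↔ t a = a⁻¹ := fun a => Iff.rfl
  set C : Subgroup A := fixedSub t with hC
  have hCmem : ∀ a, a ∈ C ↔ t a = a := fun a => Iff.rfl
  have hCinv : ∀ c ∈ C, ρ c ∈ C := by
    intro c hc
    rw [hCmem] at hc ⊢
    rw [htρ, hc]
  have hIinv : ∀ j ∈ I, ρ j ∈ I := by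
    intro j hj
    rw [hI] at hj ⊢
    rw [htρ, hj, map_inv]
  -- the homomorphism `a ↦ a⁻¹ t(a)`
  let φ : A →* A := MonoidHom.mk' (fun a => a⁻¹ * t a) (by
    intro a b
    simp only [map_mul, mul_inv_rev]
    calc b⁻¹ * a⁻¹ * (t a * t b) = b⁻¹ * (a⁻¹ * t a) * t b := by simp only [mul_assoc]
      _ = (a⁻¹ * t a) * b⁻¹ * t b := by rw [hcomm b⁻¹ (a⁻¹ * t a)]
      _ = a⁻¹ * t a * (b⁻¹ * t b) := by simp only [mul_assoc])
  have hφ : ∀ a, φ a = a⁻¹ * t a := fun a => rfl
  have hker : φ.ker ≤ C := by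
    intro a ha
    rw [MonoidHom.mem_ker, hφ] at ha
    rw [hCmem]
    have := eq_inv_of_mul_eq_one_right ha
    rw [this, inv_inv]
  have hφI : ∀ a, a⁻¹ * t a ∈ I := by
    intro a
    rw [hI, map_mul, map_inv, ht2, mul_inv_rev, inv_inv, hcomm]
  have hrange : φ.range ≤ I := by
    rintro _ ⟨a, rfl⟩
    rw [hφ]; exact hφI a
  have hcardA : Nat.card A = Nat.card φ.ker * Nat.card φ.range := by
    have h1 := Subgroup.card_mul_index φ.ker
    rw [Subgroup.index_ker] at h1
    exact h1.symm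
  by_cases hIexp : ∀ j ∈ I, j ^ 2 = 1
  · -- `I` has exponent two, hence `|A| ≤ 16`
    have hIC : I ≤ C := by
      intro j hj
      rw [hCmem, (hI j).mp hj, hinv2 j (hIexp j hj)]
    have h1 : Nat.card φ.ker ≤ 4 := le_trans (Subgroup.card_le_of_le hker) hfix
    have h2' : Nat.card φ.range ≤ 4 :=
      le_trans (Subgroup.card_le_of_le (le_trans hrange hIC)) hfix
    have h16 : Nat.card A ≤ 16 := by
      rw [hcardA]
      calc Nat.card φ.ker * Nat.card φ.range ≤ 4 * 4 := Nat.mul_le_mul h1 h2'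
        _ = 16 := by norm_num
    have htop : Ω = ⊤ := by
      rw [← Subgroup.card_eq_iff_eq_top]
      exact le_antisymm (Subgroup.card_le_card_group Ω) (le_trans h16 hΩ16)
    intro a
    rw [← hΩ, htop]
    trivial
  · exfalso
    push Not at hIexp
    obtain ⟨j, hjI, hj2⟩ := hIexp
    obtain ⟨k, hk⟩ := (IsPGroup.iff_orderOf.mp h2) j
    have hk2 : 2 ≤ k := by
      by_contra hlt
      push Not at hlt
      apply hj2
      have : orderOf j ∣ 2 := by
        rw [hk]
        interval_cases k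
        · norm_num
        · norm_num
      exact orderOf_dvd_iff_pow_eq_one.mp this
    obtain ⟨m, hm⟩ : ∃ m, k = m + 2 := ⟨k - 2, by omega⟩
    subst hm
    set j' := j ^ (2 ^ m) with hj'
    have hj'I : j' ∈ I := pow_mem hjI _
    have hj'4 : j' ^ 4 = 1 := by
      rw [hj', ← pow_mul]
      have : 2 ^ m * 4 = 2 ^ (m + 2) := by rw [pow_add]; norm_num
      rw [this, ← hk]
      exact pow_orderOf_eq_one j
    have hj'2 : j' ^ 2 ≠ 1 := by
      rw [hj', ← pow_mul]
      intro h
      have hd := orderOf_dvd_of_pow_eq_one h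
      rw [hk] at hd
      have e : 2 ^ m * 2 = 2 ^ (m + 1) := by rw [pow_succ]
      rw [e] at hd
      have := (Nat.pow_dvd_pow_iff_le_right (by norm_num : 1 < 2)).mp hd
      omega
    set i1 := j' ^ 2 with hi1
    have hi1sq : i1 ^ 2 = 1 := by rw [hi1, ← pow_mul]; exact hj'4
    have hi1I : i1 ∈ I := pow_mem hj'I 2
    have hi1C : i1 ∈ C := by
      rw [hCmem, (hI i1).mp hi1I, hinv2 i1 hi1sq]
    have hcardC : Nat.card C = 4 := by
      have hmod := card_mod_three ρ h3 C hCinv hfp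
      have hne : Nat.card C ≠ 1 := by
        intro h
        have hb : C = ⊥ := Subgroup.card_eq_one.mp h
        rw [hb, mem_bot] at hi1C
        exact hj'2 hi1C
      have hpos : 0 < Nat.card C := Nat.card_pos
      omega
    have hCI : C ≤ I := by
      intro c hc
      have hc2 := sq_eq_one_of_card_four ρ h3 hfp C hCinv hcardC c hc
      rw [hI, (hCmem c).mp hc, hinv2 c hc2]
    have sqI : ∀ c ∈ C, ∃ j ∈ I, j ^ 2 = c := by
      intro c hc
      rcases four_elems ρ h3 hfp C hCinv hcardC i1 hi1C hj'2 c hc with h | h | h | h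
      · exact ⟨1, I.one_mem, by rw [h, one_pow]⟩
      · exact ⟨j', hj'I, by rw [h]⟩
      · exact ⟨ρ j', hIinv _ hj'I, by rw [h, hi1]; exact (map_pow ρ j' 2).symm⟩
      · refine ⟨ρ (ρ j'), hIinv _ (hIinv _ hj'I), ?_⟩
        rw [h, hi1]
        exact ((map_pow ρ (ρ j') 2).symm.trans (congrArg ρ (map_pow ρ j' 2).symm))
    obtain ⟨w, hwΩ, hwI⟩ : ∃ w ∈ Ω, w ∉ I := by
      by_contra hcon
      push Not at hcon
      have hΩC : Ω ≤ C := by
        intro w hw
        have hwI := hcon w hw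
        rw [hCmem, (hI w).mp hwI, hinv2 w ((hΩ w).mp hw)]
      have := Subgroup.card_le_of_le hΩC
      omega
    have hw2 : w ^ 2 = 1 := (hΩ w).mp hwΩ
    set i0 := w⁻¹ * t w with hi0
    have hi0I : i0 ∈ I := hφI w
    have hi0sq : i0 ^ 2 = 1 := by
      rw [hi0, hmulpow, inv_pow, hw2, ← map_pow, hw2, map_one, inv_one, one_mul]
    have hi0C : i0 ∈ C := by
      rw [hCmem, (hI i0).mp hi0I, hinv2 i0 hi0sq]
    obtain ⟨jj, hjjI, hjj⟩ := sqI i0 hi0C
    have htw : t w = w * i0 := by rw [hi0]; group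
    have hxC : w * jj ∈ C := by
      rw [hCmem, map_mul, htw, (hI jj).mp hjjI, ← hjj, pow_two]
      group
    have hxI := hCI hxC
    apply hwI
    have : w = (w * jj) * jj⁻¹ := by group
    rw [this]
    exact mul_mem hxI (inv_mem hjjI)

end Cfsg.Agent.Lib.Helper98.AbE16
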