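import Cfsg.Agent.Lib.Helper98.TwoRhoT

/-!
# `2`-groups with commuting automorphisms `ρ` (fixed-point-free of order three) and `t`
(an involution with at most four fixed points): the classification

Such a group is trivial, elementary abelian of order 16, homocyclic of rank two, or nonabelian of
order 64.
-/

set_option autoImplicit false
set_option linter.unusedSimpArgs false
set_option linter.style.haveILetI false
set_option linter.unusedSectionVars false

namespace Cfsg.Agent.Lib.Helper98.TwoRhoT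

open Subgroup
open scoped commutatorElement
open Cfsg.Agent.Lib.Helper98.Fpf3
open Cfsg.Agent.Lib.Helper98.Fpf64
open Cfsg.Agent.Lib.Helper98.TwoAux
open Cfsg.Agent.Lib.Helper1

section classtwo
variable {T : Type*} [Group T] (hc : ∀ a b : T, ⁅a, b⁆ ∈ center T)

include hc in
theorem cmul_left (a b c : T) : ⁅a * b, c⁆ = ⁅a, c⁆ * ⁅b, c⁆ := by
  have hk : ∀ g, g * ⁅b, c⁆ = ⁅b, c⁆ * g := mem_center_iff.mp (hc b c)
  calc ⁅a * b, c⁆ = a * ⁅b, c⁆ * (c * a⁻¹ * c⁻¹) := by
        simp only [commutatorElement_def]; group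
    _ = ⁅b, c⁆ * a * (c * a⁻¹ * c⁻¹) := by rw [hk a]
    _ = ⁅b, c⁆ * ⁅a, c⁆ := by simp only [commutatorElement_def, mul_assoc]
    _ = ⁅a, c⁆ * ⁅b, c⁆ := (hk _).symm

include hc in
theorem cmul_right (a b c : T) : ⁅a, b * c⁆ = ⁅a, b⁆ * ⁅a, c⁆ := by
  have h := cmul_left hc b c a
  have h1 := congrArg (fun g => g⁻¹) h
  simp only [commutatorElement_inv, mul_inv_rev] at h1
  rw [h1]
  exact (mem_center_iff.mp (hc a b) _)

include hc in
theorem cinv_right (a b : T) : ⁅a, b⁻¹⁆ = ⁅a, b⁆⁻¹ := by
  have h := cmul_right hc a b b⁻¹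
  rw [mul_inv_cancel] at h
  have h1 : ⁅a, (1 : T)⁆ = 1 := by simp
  rw [h1] at h
  exact (inv_eq_of_mul_eq_one_right h.symm).symm

include hc in
theorem cinv_left (a b : T) : ⁅a⁻¹, b⁆ = ⁅a, b⁆⁻¹ := by
  have h := cmul_left hc a a⁻¹ b
  rw [mul_inv_cancel] at h
  have h1 : ⁅(1 : T), b⁆ = 1 := by simp
  rw [h1] at h
  exact (inv_eq_of_mul_eq_one_right h.symm).symm

end classtwo

section main
variable {T : Type*} [Group T] [Finite T] (hT2 : IsPGroup 2 T) (ρ t : MulAut T) (h3 : ρ ^ 3 = 1)
  (hfp : ∀ y : T, ρ y = y → y = 1) (ht2 : ∀ y, t (t y) = y) (htρ : ∀ y, t (ρ y) = ρ (t y))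
  (hfix : Nat.card (fixedSub t) ≤ 4)

include ht2 hfix in
theorem index_Sq_le : (Sq T).index ≤ 16 := by
  have hinv : AutInv t (Sq T) := autInv_of_forall_mem t (Sq T) (Sq_map t)
  set tq : MulAut (T ⧸ Sq T) := quotAut t (Sq T) hinv with htq
  have hX2 : ∀ w, tq (tq w) = w := by
    intro w
    induction w using QuotientGroup.induction_on with
    | H y => rw [htq, quotAut_mk, quotAut_mk, ht2]
  have h1 := card_le_fixed_sq quot_Sq_sq tq hX2 (fixedSub tq) (fun w => Iff.rfl)
  have h2 := card_fixedSub_quot_le t (Sq T) hinv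
  have h4 : Nat.card (fixedSub tq) ≤ 4 := le_trans h2 hfix
  have h5 : Nat.card (fixedSub tq) ^ 2 ≤ 4 ^ 2 := Nat.pow_le_pow_left h4 2
  rw [Subgroup.index_eq_card]
  omega

include hT2 h3 hfp ht2 hfix in
theorem index_Sq_cases : (Sq T).index = 1 ∨ (Sq T).index = 4 ∨ (Sq T).index = 16 := by
  have hle := index_Sq_le t ht2 hfix
  obtain ⟨a, ha⟩ := card_inv_pow hT2 ρ h3 hfp (Sq T) (Sq_map ρ)
  obtain ⟨b, hb⟩ := card_top_pow hT2 ρ h3 hfp
  have h1 := Subgroup.card_mul_index (Sq T)
  rw [ha, hb] at h1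
  have hab : a ≤ b := by
    have : Nat.card (Sq T) ≤ Nat.card T := Subgroup.card_le_card_group _
    rw [ha, hb] at this
    have := (Nat.pow_le_pow_iff_right (by norm_num : 1 < 2)).mp this
    omega
  have h2 : (Sq T).index = 2 ^ (2 * (b - a)) := by
    have e : (2 : ℕ) ^ (2 * b) = 2 ^ (2 * a) * 2 ^ (2 * (b - a)) := by
      rw [← pow_add]; congr 1; omega
    rw [e] at h1
    exact Nat.eq_of_mul_eq_mul_left (by positivity) h1
  rw [h2] at hle ⊢
  have h16 : (16 : ℕ) = 2 ^ 4 := by norm_num
  rw [h16] at hle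
  have := (Nat.pow_le_pow_iff_right (by norm_num : 1 < 2)).mp hle
  have hcases : b - a = 0 ∨ b - a = 1 ∨ b - a = 2 := by omega
  rcases hcases with h | h | h <;> rw [h] <;> norm_num

include hT2 in
theorem card_eq_one_of_index_one (h : (Sq T).index = 1) : Nat.card T = 1 := by
  have htop : Sq T = ⊤ := Subgroup.index_eq_one.mp h
  have h1 : (⊥ : Subgroup T) = ⊤ := eq_top_of_sup_Sq hT2 ⊥ (by rw [bot_sup_eq, htop])
  have h2 : Nat.card (⊥ : Subgroup T) = Nat.card (⊤ : Subgroup T) := by rw [h1]
  rw [Subgroup.card_bot, Subgroup.card_top] at h2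
  exact h2.symm

include hT2 h3 hfp in
theorem homocyclic_of_index_four (h : (Sq T).index = 4) :
    ∃ n : ℕ, 1 ≤ n ∧
      Nonempty (T ≃* Multiplicative (ZMod (2 ^ n)) × Multiplicative (ZMod (2 ^ n))) := by
  have hne : Sq T ≠ ⊤ := by
    intro htop
    rw [htop, Subgroup.index_top] at h
    omega
  obtain ⟨x, hx⟩ : ∃ x, x ∉ Sq T := by
    by_contra hcon
    push Not at hcon
    exact hne (eq_top_iff.mpr fun y _ => hcon y)
  have hx1 : x ≠ 1 := fun h1 => hx (h1 ▸ (Sq T).one_mem)
  set K : Subgroup T := closure {x, ρ x} with hK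
  have hxK : x ∈ K := subset_closure (by simp)
  have hL : ∀ k ∈ K ⊔ Sq T, ρ k ∈ K ⊔ Sq T :=
    inv_sup ρ _ _ (inv_closure_pair ρ h3 hfp x) (Sq_map ρ)
  have hlt : Sq T < K ⊔ Sq T := by
    refine lt_of_le_of_ne le_sup_right ?_
    intro heq
    apply hx
    rw [heq]
    exact mem_sup_left hxK
  have hcard : Nat.card T = 4 * Nat.card (Sq T) := by
    have := Subgroup.card_mul_index (Sq T)
    rw [h] at this
    omega
  have htop := eq_top_of_index_four hT2 ρ h3 hfp (Sq T) (K ⊔ Sq T) (Sq_map ρ) hL hlt hcard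
  have hKtop : K = ⊤ := eq_top_of_sup_Sq hT2 K htop
  exact Homocyclic.homocyclic hT2 ρ h3 hfp x hx1 hKtop

include hT2 h3 hfp ht2 htρ hfix in
/-- In the case of index 16, all squares are commutators' products. -/
theorem sq_mem_commutator (h : (Sq T).index = 16) (y : T) : y ^ 2 ∈ commutator T := by
  have hρinv : AutInv ρ (commutator T) := by
    rw [commutator_def]
    exact AutInv.commutator (autInv_top ρ) (autInv_top ρ)
  have htinv : AutInv t (commutator T) := by
    rw [commutator_def]
    exact AutInv.commutator (autInv_top t) (autInv_top t)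
  set ρq : MulAut (T ⧸ commutator T) := quotAut ρ (commutator T) hρinv with hρq
  set tq : MulAut (T ⧸ commutator T) := quotAut t (commutator T) htinv with htq
  have hcommq : ∀ a b : T ⧸ commutator T, a * b = b * a := by
    intro a b
    induction a using QuotientGroup.induction_on with
    | H a =>
      induction b using QuotientGroup.induction_on with
      | H b =>
        rw [← QuotientGroup.mk_mul, ← QuotientGroup.mk_mul, QuotientGroup.eq]
        have : (a * b)⁻¹ * (b * a) = ⁅b⁻¹, a⁻¹⁆ := by rw [commutatorElement_def]; group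
        rw [this, commutator_def]
        exact Subgroup.commutator_mem_commutator (mem_top _) (mem_top _)
  have h2q : IsPGroup 2 (T ⧸ commutator T) := hT2.to_quotient _
  have hq3 : ρq ^ 3 = 1 := quotAut_pow_eq_one ρ _ hρinv 3 h3
  have hqfp : ∀ w : T ⧸ commutator T, ρq w = w → w = 1 := by
    intro w hw
    induction w using QuotientGroup.induction_on with
    | H y =>
      rw [hρq, quotAut_mk] at hw
      have h1 : y⁻¹ * ρ y ∈ commutator T := QuotientGroup.eq.mp hw.symm
      have h2 := mem_of_psi_mem ρ hfp (commutator T) (fun k hk => (hρinv.mem_iff k).mpr hk) y h1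
      exact (QuotientGroup.eq_one_iff y).mpr h2
  have htq2 : ∀ w, tq (tq w) = w := by
    intro w
    induction w using QuotientGroup.induction_on with
    | H y => rw [htq, quotAut_mk, quotAut_mk, ht2]
  have htqρ : ∀ w, tq (ρq w) = ρq (tq w) := by
    intro w
    induction w using QuotientGroup.induction_on with
    | H y => rw [htq, hρq, quotAut_mk, quotAut_mk, quotAut_mk, quotAut_mk, htρ]
  have hfixq : Nat.card (fixedSub tq) ≤ 4 := le_trans (card_fixedSub_quot_le t _ htinv) hfix
  -- the subgroup of elements of order at most two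
  let Ω : Subgroup (T ⧸ commutator T) :=
    { carrier := {w | w ^ 2 = 1}
      mul_mem' := by
        intro a b ha hb
        change (a * b) ^ 2 = 1
        rw [Commute.mul_pow (hcommq a b), ha, hb, one_mul]
      one_mem' := one_pow 2
      inv_mem' := by
        intro a ha
        change a⁻¹ ^ 2 = 1
        rw [inv_pow, ha, inv_one] }
  have hΩ : ∀ w, w ∈ Ω ↔ w ^ 2 = 1 := fun w => Iff.rfl
  -- counting
  let sqh : (T ⧸ commutator T) →* (T ⧸ commutator T) := MonoidHom.mk' (fun w => w ^ 2) (by
    intro a b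
    exact Commute.mul_pow (hcommq a b) 2)
  have hker : sqh.ker ≤ Ω := fun w hw => hw
  set Sb : Subgroup (T ⧸ commutator T) := (Sq T).map (QuotientGroup.mk' (commutator T)) with hSb
  have hrange : sqh.range ≤ Sb := by
    rintro _ ⟨w, rfl⟩
    induction w using QuotientGroup.induction_on with
    | H y => exact ⟨y ^ 2, sq_mem_Sq y, rfl⟩
  have hcomle : commutator T ≤ Sq T := by
    rw [commutator_def, Subgroup.commutator_le]
    intro a _ b _
    exact commutator_mem_Sq a b
  have hcomap : Sb.comap (QuotientGroup.mk' (commutator T)) = Sq T := by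
    rw [hSb, Subgroup.comap_map_eq, QuotientGroup.ker_mk', sup_eq_left.mpr hcomle]
  have hidx : Sb.index = 16 := by
    rw [← Subgroup.index_comap_of_surjective Sb (QuotientGroup.mk'_surjective (commutator T)),
      hcomap, h]
  have hcard1 := Subgroup.card_mul_index Sb
  rw [hidx] at hcard1
  have hcard2 := Subgroup.card_mul_index sqh.ker
  rw [Subgroup.index_ker] at hcard2
  have hΩ16 : 16 ≤ Nat.card Ω := by
    have hr : Nat.card sqh.range ≤ Nat.card Sb := Subgroup.card_le_of_le hrange
    have hk : Nat.card sqh.ker ≤ Nat.card Ω := Subgroup.card_le_of_le hker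
    have hrpos : 0 < Nat.card sqh.range := Nat.card_pos
    have h16 : 16 * Nat.card sqh.range ≤ Nat.card sqh.ker * Nat.card sqh.range := by
      calc 16 * Nat.card sqh.range ≤ 16 * Nat.card Sb := Nat.mul_le_mul_left _ hr
        _ = Nat.card Sb * 16 := by ring
        _ = Nat.card sqh.ker * Nat.card sqh.range := by rw [hcard1, hcard2]
    have := Nat.le_of_mul_le_mul_right h16 hrpos
    omega
  have hexp := AbE16.exp_two_of_rank_four hcommq h2q ρq tq hq3 hqfp htq2 htqρ hfixq Ω hΩ hΩ16
  have := hexp (QuotientGroup.mk y)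
  rw [← QuotientGroup.mk_pow] at this
  exact (QuotientGroup.eq_one_iff _).mp this

end main

end Cfsg.Agent.Lib.Helper98.TwoRhoT
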