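import Cfsg.Agent.Lib.Helper98.V4Enum
import Cfsg.Agent.Lib.Helper98.TwoRhoTMain

/-!
# A bound for groups whose squares lie in a central four-group containing all involutions

If `Z` is a central subgroup of order four and exponent two of `G` which contains all squares
and all elements of order at most two, then `|G| < 256`.
-/

set_option autoImplicit false
set_option linter.unusedSimpArgs false
set_option linter.style.haveILetI false
set_option linter.unusedSectionVars false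

namespace Cfsg.Agent.Lib.Helper98.Aniso

open Subgroup
open scoped commutatorElement
open Cfsg.Agent.Lib.Helper98.TwoRhoT

section
variable {G : Type*} [Group G] [Finite G] (Z : Subgroup G) (hZc : Z ≤ center G)
  (hZ4 : Nat.card Z = 4) (hZ2 : ∀ z ∈ Z, z ^ 2 = 1) (hsq : ∀ x : G, x ^ 2 ∈ Z)
  (hinv : ∀ x : G, x ^ 2 = 1 → x ∈ Z)

include hZc hsq in
theorem comm_mem (a b : G) : ⁅a, b⁆ ∈ Z := by
  have hx : ∀ g, g * (a ^ 2)⁻¹ = (a ^ 2)⁻¹ * g :=
    mem_center_iff.mp (hZc (Z.inv_mem (hsq a)))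
  have h : ⁅a, b⁆ = (a * b) ^ 2 * (b ^ 2)⁻¹ * (a ^ 2)⁻¹ := by
    have h0 : (a * b) ^ 2 = a * b * (a * b) := pow_two _
    have h1 : (a * b) ^ 2 * (b ^ 2)⁻¹ * (a ^ 2)⁻¹ = a * b * (a * b⁻¹ * (a ^ 2)⁻¹) := by
      rw [h0]; group
    rw [h1, hx (a * b⁻¹), commutatorElement_def]
    group
  rw [h]
  exact Z.mul_mem (Z.mul_mem (hsq _) (Z.inv_mem (hsq _))) (Z.inv_mem (hsq _))

include hZc hsq in
theorem comm_center (a b : G) : ⁅a, b⁆ ∈ center G := hZc (comm_mem Z hZc hsq a b)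

include hZc hsq in
theorem sq_mul (a b : G) : (a * b) ^ 2 = a ^ 2 * b ^ 2 * ⁅b, a⁆ := by
  have hk : ∀ g, g * ⁅b, a⁆ = ⁅b, a⁆ * g := mem_center_iff.mp (comm_center Z hZc hsq b a)
  have h1 : b * a = ⁅b, a⁆ * a * b := by rw [commutatorElement_def]; group
  calc (a * b) ^ 2 = a * (b * a) * b := by rw [pow_two]; group
    _ = a * (⁅b, a⁆ * a * b) * b := by rw [h1]
    _ = a * ⁅b, a⁆ * (a * b * b) := by group
    _ = ⁅b, a⁆ * a * (a * b * b) := by rw [hk a]
    _ = ⁅b, a⁆ * (a ^ 2 * b ^ 2) := by rw [pow_two, pow_two]; group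
    _ = a ^ 2 * b ^ 2 * ⁅b, a⁆ := (hk _).symm

include hZc hZ4 hZ2 hsq hinv in
/-- The anisotropic bound. -/
theorem card_lt : Nat.card G < 256 := by
  by_contra hbig
  push Not at hbig
  have hc : ∀ a b : G, ⁅a, b⁆ ∈ center G := comm_center Z hZc hsq
  haveI : Finite Z := inferInstance
  -- an element outside `Z`
  obtain ⟨x, hx⟩ : ∃ x, x ∉ Z := by
    by_contra hcon
    push Not at hcon
    have htop : Z = ⊤ := eq_top_iff.mpr fun y _ => hcon y
    have : Nat.card Z = Nat.card G := by rw [htop, Subgroup.card_top]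
    omega
  set z1 : G := x ^ 2 with hz1
  have hz1Z : z1 ∈ Z := hsq x
  have hz11 : z1 ≠ 1 := fun h => hx (hinv x h)
  -- the centralizer of `x`
  let κ : G →* Z := MonoidHom.mk' (fun y => ⟨⁅x, y⁆, comm_mem Z hZc hsq x y⟩) (by
    intro a b
    apply Subtype.ext
    exact cmul_right hc x a b)
  have hκ : ∀ y, y ∈ κ.ker ↔ ⁅x, y⁆ = 1 := by
    intro y
    rw [MonoidHom.mem_ker]
    constructor
    · intro h; exact congrArg Subtype.val h
    · intro h; exact Subtype.ext h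
  have hCcard : 64 ≤ Nat.card κ.ker := by
    have h1 := Subgroup.card_mul_index κ.ker
    rw [Subgroup.index_ker] at h1
    have h2 : Nat.card κ.range ≤ 4 := by
      rw [← hZ4]; exact Subgroup.card_le_card_group _
    have h3 : Nat.card G ≤ Nat.card κ.ker * 4 := by
      rw [← h1]; exact Nat.mul_le_mul_left _ h2
    omega
  -- enlarging subgroups
  have hext : ∀ (X : Subgroup G) (g : G), Z ≤ X →
      Nat.card ↥(X ⊔ zpowers g) ≤ 2 * Nat.card X := by
    intro X g hZX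
    refine (GenBound.card_sup_zpowers_le X g 2 (by norm_num) ?_ (hZX (hsq g))).2
    intro k hk
    have : g * k * g⁻¹ = ⁅g, k⁆ * k := by rw [commutatorElement_def]; group
    rw [this]
    exact X.mul_mem (hZX (comm_mem Z hZc hsq g k)) hk
  have hpick : ∀ X : Subgroup G, Nat.card X < 64 → ∃ y ∈ κ.ker, y ∉ X := by
    intro X hX
    by_contra hcon
    push Not at hcon
    have : κ.ker ≤ X := fun y hy => hcon y hy
    have := Subgroup.card_le_of_le this
    omega
  set X0 : Subgroup G := Z ⊔ zpowers x with hX0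
  have hX0card : Nat.card X0 ≤ 8 := by
    have := hext Z x le_rfl
    rw [← hX0] at this
    omega
  have hZX0 : Z ≤ X0 := le_sup_left
  have hxX0 : x ∈ X0 := le_sup_right (a := Z) (mem_zpowers x)
  obtain ⟨y1, hy1C, hy1⟩ := hpick X0 (by omega)
  set X1 : Subgroup G := X0 ⊔ zpowers y1 with hX1
  have hX1card : Nat.card X1 ≤ 16 := by
    have := hext X0 y1 hZX0
    rw [← hX1] at this
    omega
  have hX01 : X0 ≤ X1 := le_sup_left
  have hy1X1 : y1 ∈ X1 := le_sup_right (a := X0) (mem_zpowers y1)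
  obtain ⟨y2, hy2C, hy2⟩ := hpick X1 (by omega)
  set X2 : Subgroup G := X1 ⊔ zpowers y2 with hX2
  have hX2card : Nat.card X2 ≤ 32 := by
    have := hext X1 y2 (hZX0.trans hX01)
    rw [← hX2] at this
    omega
  have hX12 : X1 ≤ X2 := le_sup_left
  have hy2X2 : y2 ∈ X2 := le_sup_right (a := X1) (mem_zpowers y2)
  obtain ⟨y3, hy3C, hy3⟩ := hpick X2 (by omega)
  -- squares of elements of the centralizer outside `X0`
  have hP : ∀ y ∈ κ.ker, y ∉ X0 → y ^ 2 ≠ 1 ∧ y ^ 2 ≠ z1 := by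
    intro y hyC hy
    refine ⟨fun h => hy (hZX0 (hinv y h)), ?_⟩
    intro h
    apply hy
    have h1 : (x * y) ^ 2 = 1 := by
      rw [sq_mul Z hZc hsq x y]
      have h2 : ⁅y, x⁆ = 1 := by
        have := (hκ y).mp hyC
        rw [← commutatorElement_inv, this, inv_one]
      rw [h2, mul_one, h, ← hz1]
      rw [← pow_two]
      exact hZ2 z1 hz1Z
    have h3 : x * y ∈ X0 := hZX0 (hinv _ h1)
    have : y = x⁻¹ * (x * y) := by group
    rw [this]
    exact X0.mul_mem (X0.inv_mem hxX0) h3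
  obtain ⟨hz21, hz2z1⟩ := hP y1 hy1C hy1
  set z2 : G := y1 ^ 2 with hz2
  have hz2Z : z2 ∈ Z := hsq y1
  have henum : ∀ w ∈ Z, w = 1 ∨ w = z1 ∨ w = z2 ∨ w = z1 * z2 :=
    V4Enum.four_elems Z hZ4 hZ2 z1 z2 hz1Z hz2Z hz11 hz21 (fun h => hz2z1 h.symm)
  have hcommZ : ∀ w ∈ Z, ∀ g : G, g * w = w * g := fun w hw => mem_center_iff.mp (hZc hw)
  have hz1sq : z1 * z1 = 1 := by rw [← pow_two]; exact hZ2 z1 hz1Z
  have hz2sq : z2 * z2 = 1 := by rw [← pow_two]; exact hZ2 z2 hz2Z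
  -- products of two elements outside `{1, z1}`
  have hN : ∀ w ∈ Z, ∀ w' ∈ Z, ¬ (w = 1 ∨ w = z1) → ¬ (w' = 1 ∨ w' = z1) →
      (w * w' = 1 ∨ w * w' = z1) := by
    intro w hw w' hw' hn hn'
    have h12 : z1 * z2 * z2 = z1 := by rw [mul_assoc, hz2sq, mul_one]
    have h21 : z2 * (z1 * z2) = z1 := by
      rw [← mul_assoc, hcommZ z1 hz1Z z2, mul_assoc, hz2sq, mul_one]
    have h1212 : z1 * z2 * (z1 * z2) = 1 := by
      rw [mul_assoc, h21, hz1sq]
    rcases henum w hw with h | h | h | h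
    · exact absurd (Or.inl h) hn
    · exact absurd (Or.inr h) hn
    · rcases henum w' hw' with h' | h' | h' | h'
      · exact absurd (Or.inl h') hn'
      · exact absurd (Or.inr h') hn'
      · left; rw [h, h', hz2sq]
      · right; rw [h, h', h21]
    · rcases henum w' hw' with h' | h' | h' | h'
      · exact absurd (Or.inl h') hn'
      · exact absurd (Or.inr h') hn'
      · right; rw [h, h', h12]
      · left; rw [h, h', h1212]
  have hNmul : ∀ w w' : G, (w = 1 ∨ w = z1) → (w' = 1 ∨ w' = z1) → (w * w' = 1 ∨ w * w' = z1) := by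
    intro w w' hw hw'
    rcases hw with rfl | rfl <;> rcases hw' with rfl | rfl
    · left; rw [mul_one]
    · right; rw [one_mul]
    · right; rw [mul_one]
    · left; exact hz1sq
  -- commutators of pairs
  have hpair : ∀ y ∈ κ.ker, ∀ y' ∈ κ.ker, y ∉ X0 → y' ∉ X0 → y * y' ∉ X0 →
      ¬ (⁅y', y⁆ = 1 ∨ ⁅y', y⁆ = z1) := by
    intro y hyC y' hy'C hy hy' hyy' hcon
    have h1 := sq_mul Z hZc hsq y y'
    have h2 := hN (y ^ 2) (hsq y) (y' ^ 2) (hsq y')
      (fun h => by rcases h with h | h; exacts [(hP y hyC hy).1 h, (hP y hyC hy).2 h])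
      (fun h => by rcases h with h | h; exacts [(hP y' hy'C hy').1 h, (hP y' hy'C hy').2 h])
    have h3 := hNmul _ _ h2 hcon
    rw [← h1] at h3
    have h4 := hP (y * y') (κ.ker.mul_mem hyC hy'C) hyy'
    rcases h3 with h3 | h3
    · exact h4.1 h3
    · exact h4.2 h3
  -- the memberships
  have hy2X0 : y2 ∉ X0 := fun h => hy2 (hX01 h)
  have hy3X0 : y3 ∉ X0 := fun h => hy3 (hX12 (hX01 h))
  have hy12 : y1 * y2 ∉ X0 := by
    intro h
    apply hy2
    have : y2 = y1⁻¹ * (y1 * y2) := by group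
    rw [this]
    exact X1.mul_mem (X1.inv_mem hy1X1) (hX01 h)
  have hy13 : y1 * y3 ∉ X0 := by
    intro h
    apply hy3
    have : y3 = y1⁻¹ * (y1 * y3) := by group
    rw [this]
    exact X2.mul_mem (X2.inv_mem (hX12 hy1X1)) (hX12 (hX01 h))
  have hy23 : y2 * y3 ∉ X0 := by
    intro h
    apply hy3
    have : y3 = y2⁻¹ * (y2 * y3) := by group
    rw [this]
    exact X2.mul_mem (X2.inv_mem hy2X2) (hX12 (hX01 h))
  have hy123 : y1 * (y2 * y3) ∉ X0 := by
    intro h
    apply hy3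
    have : y3 = y2⁻¹ * (y1⁻¹ * (y1 * (y2 * y3))) := by group
    rw [this]
    exact X2.mul_mem (X2.inv_mem hy2X2)
      (X2.mul_mem (X2.inv_mem (hX12 hy1X1)) (hX12 (hX01 h)))
  have ha := hpair y1 hy1C y2 hy2C hy1 hy2X0 hy12
  have hb := hpair y1 hy1C y3 hy3C hy1 hy3X0 hy13
  have hab := hpair y1 hy1C (y2 * y3) (κ.ker.mul_mem hy2C hy3C) hy1 hy23 hy123
  rw [cmul_left hc] at hab
  exact hab (hN _ (comm_mem Z hZc hsq y2 y1) _ (comm_mem Z hZc hsq y3 y1) ha hb)

end

end Cfsg.Agent.Lib.Helper98.Aniso
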