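import Mathlib

/-!
# Conjugation by a normalising element as an automorphism of a subgroup
-/

set_option autoImplicit false
set_option linter.unusedSimpArgs false

namespace Cfsg.Agent.Lib.Helper98.ConjAut

open Subgroup

variable {G : Type*} [Group G]

/-- Conjugation by an element of the normaliser, as an automorphism of the subgroup. -/
def conjAut (T : Subgroup G) (g : G) (hg : g ∈ normalizer (T : Set G)) : MulAut ↥T where
  toFun x := ⟨g * x * g⁻¹, (mem_normalizer_iff.mp hg x).mp x.2⟩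
  invFun x := ⟨g⁻¹ * x * g, (mem_normalizer_iff''.mp hg x).mp x.2⟩
  left_inv x := by
    apply Subtype.ext
    simp [mul_assoc]
  right_inv x := by
    apply Subtype.ext
    simp [mul_assoc]
  map_mul' x y := by
    apply Subtype.ext
    simp [mul_assoc]

theorem conjAut_apply (T : Subgroup G) (g : G) (hg : g ∈ normalizer (T : Set G)) (x : ↥T) :
    ((conjAut T g hg x : ↥T) : G) = g * x * g⁻¹ := rfl

theorem conjAut_pow_apply (T : Subgroup G) (g : G) (hg : g ∈ normalizer (T : Set G)) (n : ℕ)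
    (x : ↥T) : (((conjAut T g hg) ^ n) x : G) = g ^ n * x * (g ^ n)⁻¹ := by
  induction n generalizing x with
  | zero => simp
  | succ n ih =>
    rw [pow_succ, MulAut.mul_apply, ih, conjAut_apply, pow_succ]
    simp [mul_assoc]

theorem conjAut_pow_eq_one (T : Subgroup G) (g : G) (hg : g ∈ normalizer (T : Set G)) (n : ℕ)
    (hn : g ^ n = 1) : (conjAut T g hg) ^ n = 1 := by
  ext x
  rw [conjAut_pow_apply, hn]
  simp

theorem conjAut_comm (T : Subgroup G) (g h : G) (hg : g ∈ normalizer (T : Set G))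
    (hh : h ∈ normalizer (T : Set G)) (hgh : g * h = h * g) (x : ↥T) :
    conjAut T g hg (conjAut T h hh x) = conjAut T h hh (conjAut T g hg x) := by
  apply Subtype.ext
  simp only [conjAut_apply]
  have h1 : h⁻¹ * g⁻¹ = g⁻¹ * h⁻¹ := by
    rw [← mul_inv_rev, ← mul_inv_rev, hgh]
  calc g * (h * ↑x * h⁻¹) * g⁻¹ = (g * h) * ↑x * (h⁻¹ * g⁻¹) := by group
    _ = (h * g) * ↑x * (g⁻¹ * h⁻¹) := by rw [hgh, h1]
    _ = h * (g * ↑x * g⁻¹) * h⁻¹ := by group

theorem conjAut_fixed_iff (T : Subgroup G) (g : G) (hg : g ∈ normalizer (T : Set G)) (x : ↥T) :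
    conjAut T g hg x = x ↔ g * (x : G) = (x : G) * g := by
  rw [Subtype.ext_iff, conjAut_apply, mul_inv_eq_iff_eq_mul]

end Cfsg.Agent.Lib.Helper98.ConjAut
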