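import Mathlib

/-!
# F4OUT-[C-ARITH] : `t ↦ t * t ^ 2 ^ m` is bijective on the field of order `2 ^ (2 m + 1)`
(Mathlib only.)  `(2^m + 1) * (2 (2^m - 1)) = q - 2`, so `(x^(2^m+1))^(2(2^m-1)) = x⁻¹` for `x ≠ 0`.
-/

set_option autoImplicit false

namespace Cfsg.Agent.Lib.Helper98.F4Out

universe u

variable (K : Type u) [Field K] [Fintype K] (m : ℕ)

/-- the exponent identity `(2^m + 1) * (2 * (2^m - 1)) + 1 = 2^(2m+1) - 1`. -/
theorem theta_exponent : (2 ^ m + 1) * (2 * (2 ^ m - 1)) + 1 = 2 ^ (2 * m + 1) - 1 := by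
  have h1 : 1 ≤ 2 ^ m := Nat.one_le_two_pow
  obtain ⟨a, ha⟩ : ∃ a, 2 ^ m = a + 1 := ⟨2 ^ m - 1, by omega⟩
  have h2 : 2 ^ (2 * m + 1) = 2 * (2 ^ m * 2 ^ m) := by
    rw [pow_succ, two_mul, pow_add]; ring
  rw [h2, ha]
  have : a + 1 - 1 = a := by omega
  rw [this]
  have h3 : 2 * ((a + 1) * (a + 1)) = (a + 1 + 1) * (2 * a) + 1 + 1 := by ring
  rw [h3]; omega

/-- for `x ≠ 0`, `(x * x^(2^m))^(2(2^m-1)) * x = 1`. -/
theorem mul_theta_pow_mul (hK : Fintype.card K = 2 ^ (2 * m + 1)) (x : K) (hx : x ≠ 0) :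
    (x * x ^ 2 ^ m) ^ (2 * (2 ^ m - 1)) * x = 1 := by
  have h1 : x * x ^ 2 ^ m = x ^ (2 ^ m + 1) := by rw [pow_succ, mul_comm]
  rw [h1, ← pow_mul, ← pow_succ, theta_exponent, ← hK]
  exact FiniteField.pow_card_sub_one_eq_one x hx

/-- [C-ARITH] -/
theorem bijective_mul_theta (hK : Fintype.card K = 2 ^ (2 * m + 1)) :
    Function.Bijective fun t : K => t * t ^ 2 ^ m := by
  have hpos : 2 ^ m ≠ 0 := by positivity
  have hinj : Function.Injective fun t : K => t * t ^ 2 ^ m := by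
    intro x y hxy
    simp only at hxy
    by_cases hx : x = 0
    · subst hx
      rw [zero_mul] at hxy
      have := hxy.symm
      rcases mul_eq_zero.mp this with h | h
      · exact h.symm
      · exact (pow_eq_zero_iff hpos).mp h |>.symm
    · by_cases hy : y = 0
      · subst hy
        rw [zero_mul] at hxy
        rcases mul_eq_zero.mp hxy with h | h
        · exact h
        · exact (pow_eq_zero_iff hpos).mp h
      · have e1 := mul_theta_pow_mul K m hK x hx
        have e2 := mul_theta_pow_mul K m hK y hy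
        rw [hxy] at e1
        have hne : (y * y ^ 2 ^ m) ^ (2 * (2 ^ m - 1)) ≠ 0 := by
          intro h0; rw [h0, zero_mul] at e2; exact zero_ne_one e2
        exact mul_left_cancel₀ hne (e1.trans e2.symm)
  exact Finite.injective_iff_bijective.mp hinj

end Cfsg.Agent.Lib.Helper98.F4Out
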