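import Mathlib

/-!
# Fixed-point-free automorphisms of order three

Basic identities (`y * ρ y * ρ (ρ y) = 1`, `y` commutes with `ρ y`), orbit counting and the
quotient lemma, for an automorphism `ρ` with `ρ ^ 3 = 1` fixing only the identity.
-/

set_option autoImplicit false
set_option linter.unusedSimpArgs false
set_option linter.style.haveILetI false
set_option linter.unusedSectionVars false

namespace Cfsg.Agent.Lib.Helper98.Fpf3

open Subgroup
open scoped commutatorElement

section basic
variable {T : Type*} [Group T] [Finite T] (ρ : MulAut T) (h3 : ρ ^ 3 = 1)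
  (hfp : ∀ y : T, ρ y = y → y = 1)

include h3 in
theorem rho3 (y : T) : ρ (ρ (ρ y)) = y := by
  have : (ρ ^ 3) y = y := by rw [h3]; rfl
  rw [pow_succ, pow_two] at this
  exact this

include hfp in
theorem psi_injective : Function.Injective (fun y : T => y⁻¹ * ρ y) := by
  intro y z h
  have h' : y⁻¹ * ρ y = z⁻¹ * ρ z := h
  have h1 : ρ (z * y⁻¹) = z * y⁻¹ := by
    rw [map_mul, map_inv]
    have : ρ z = z * (y⁻¹ * ρ y) := by rw [h']; group
    rw [this]; group
  have h2 := hfp _ h1
  have : z = y := by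
    have := congrArg (· * y) h2
    simpa using this
  exact this.symm

include hfp in
theorem psi_surjective : Function.Surjective (fun y : T => y⁻¹ * ρ y) :=
  Finite.injective_iff_surjective.mp (psi_injective ρ hfp)

include h3 hfp in
theorem prod3 (y : T) : y * ρ y * ρ (ρ y) = 1 := by
  obtain ⟨u, hu⟩ := psi_surjective ρ hfp y
  have hu' : y = u⁻¹ * ρ u := hu.symm
  rw [hu']
  simp only [map_mul, map_inv, rho3 ρ h3]
  group

include h3 hfp in
theorem prod3' (y : T) : ρ (ρ y) * ρ y * y = 1 := by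
  have h := prod3 ρ h3 hfp y⁻¹
  simp only [map_inv] at h
  have : (ρ (ρ y) * ρ y * y)⁻¹ = 1 := by
    rw [← h]; group
  exact inv_eq_one.mp this

include h3 hfp in
theorem comm_rho (y : T) : y * ρ y = ρ y * y := by
  have h1 := prod3 ρ h3 hfp y
  have h2 := prod3' ρ h3 hfp y
  have e1 : y * ρ y = (ρ (ρ y))⁻¹ := eq_inv_of_mul_eq_one_left h1
  have e2 : ρ y * y = (ρ (ρ y))⁻¹ := by
    have : ρ (ρ y) * (ρ y * y) = 1 := by rw [← mul_assoc]; exact h2
    exact (eq_inv_of_mul_eq_one_right this)
  rw [e1, e2]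

include h3 hfp in
theorem rho2_eq (y : T) : ρ (ρ y) = (y * ρ y)⁻¹ := by
  have h1 := prod3 ρ h3 hfp y
  exact eq_inv_of_mul_eq_one_right h1

include h3 in
/-- Orbit counting. -/
theorem card_mod_three (K : Subgroup T) (hK : ∀ k ∈ K, ρ k ∈ K) (hfp : ∀ y : T, ρ y = y → y = 1) :
    Nat.card K % 3 = 1 := by
  classical
  haveI := Fintype.ofFinite K
  haveI : Fact (Nat.Prime 3) := ⟨by norm_num⟩
  let f : Function.End K := fun k => ⟨ρ k, hK k k.2⟩
  have hpow : ∀ n : ℕ, ∀ k : K, (((f ^ n) k : K) : T) = (ρ ^ n) k := by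
    intro n
    induction n with
    | zero => intro k; rw [pow_zero, pow_zero]; rfl
    | succ n ih =>
      intro k
      rw [pow_succ, pow_succ]
      change (((f ^ n) (f k) : K) : T) = _
      rw [ih (f k)]
      rfl
  have hf : f ^ 3 ^ 1 = 1 := by
    funext k
    apply Subtype.ext
    change (((f ^ 3 ^ 1) k : K) : T) = (k : T)
    rw [pow_one, hpow 3 k, h3]
    rfl
  have h1 := Equiv.Perm.card_fixedPoints_modEq (p := 3) (n := 1) hf
  have h2 : Fintype.card (Function.fixedPoints f) = 1 := by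
    rw [Fintype.card_eq_one_iff]
    refine ⟨⟨1, ?_⟩, ?_⟩
    · rw [Function.mem_fixedPoints, Function.IsFixedPt]
      apply Subtype.ext
      change ρ (1 : T) = 1
      exact map_one ρ
    · rintro ⟨k, hk⟩
      apply Subtype.ext
      rw [Function.mem_fixedPoints, Function.IsFixedPt] at hk
      have : ρ (k : T) = k := congrArg Subtype.val hk
      exact Subtype.ext (hfp _ this)
  rw [h2, ← Nat.card_eq_fintype_card] at h1
  exact h1

include hfp in
/-- Fixed-point-freeness passes to quotients (in element form). -/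
theorem mem_of_psi_mem (N : Subgroup T) (hN : ∀ n ∈ N, ρ n ∈ N) (y : T) (h : y⁻¹ * ρ y ∈ N) :
    y ∈ N := by
  let ψ : N → N := fun n => ⟨(n : T)⁻¹ * ρ n, N.mul_mem (N.inv_mem n.2) (hN n n.2)⟩
  have hinj : Function.Injective ψ := by
    intro a b hab
    have : (a : T)⁻¹ * ρ a = (b : T)⁻¹ * ρ b := congrArg Subtype.val hab
    exact Subtype.ext (psi_injective ρ hfp this)
  have hsurj : Function.Surjective ψ := Finite.injective_iff_surjective.mp hinj
  obtain ⟨n, hn⟩ := hsurj ⟨_, h⟩
  have h1 : (n : T)⁻¹ * ρ n = y⁻¹ * ρ y := congrArg Subtype.val hn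
  have h2 := psi_injective ρ hfp h1
  rw [← h2]; exact n.2

end basic

end Cfsg.Agent.Lib.Helper98.Fpf3
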