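import Cfsg.Agent.Lib.Helper98.Fpf3

/-!
# A finite group with a fixed-point-free automorphism of order three has class at most two

(Burnside, B. H. Neumann.)  We show that every element commutes with all its conjugates, establish
the semilinearity `⁅σ a, b⁆ = σ (σ ⁅a, b⁆) = ⁅a, σ b⁆` of the commutator, and deduce that all
commutators are central.
-/

set_option autoImplicit false
set_option linter.unusedSimpArgs false
set_option linter.style.haveILetI false
set_option linter.unusedSectionVars false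

namespace Cfsg.Agent.Lib.Helper98.Fpf3

open Subgroup Group
open scoped commutatorElement

section class2
variable {G : Type*} [Group G] [Finite G] (σ : MulAut G) (h3 : σ ^ 3 = 1)
  (hfp : ∀ y : G, σ y = y → y = 1)

include h3 hfp in
/-- `y` commutes with every conjugate of `σ y`. -/
theorem conj_comm_sigma (y u : G) : Commute y (u⁻¹ * σ y * u) := by
  obtain ⟨w', hw'⟩ := psi_surjective σ hfp u⁻¹
  have hw'' : w'⁻¹ * σ w' = u⁻¹ := hw'
  set w := w'⁻¹ with hw
  have hu : σ w * w⁻¹ = u := by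
    rw [hw, map_inv, inv_inv]
    have : (w'⁻¹ * σ w')⁻¹ = u := by rw [hw'', inv_inv]
    rw [← this]; group
  set τ : MulAut G := MulAut.conj w * σ * (MulAut.conj w)⁻¹ with hτ
  have hτ3 : τ ^ 3 = 1 := by
    rw [hτ, conj_pow, h3]; group
  have hτapp : ∀ g, τ g = u⁻¹ * σ g * u := by
    intro g
    rw [hτ, MulAut.mul_apply, MulAut.mul_apply, MulAut.conj_inv_apply, MulAut.conj_apply, ← hu]
    simp only [map_mul, map_inv]
    group
  have hτfp : ∀ g : G, τ g = g → g = 1 := by
    intro g hg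
    have h1 : σ (w⁻¹ * g * w) = w⁻¹ * g * w := by
      have h2 : τ g = w * σ (w⁻¹ * g * w) * w⁻¹ := by
        rw [hτ, MulAut.mul_apply, MulAut.mul_apply, MulAut.conj_inv_apply, MulAut.conj_apply]
      rw [h2] at hg
      have := congrArg (fun z => w⁻¹ * z * w) hg
      simpa [mul_assoc] using this
    have h2 := hfp _ h1
    have := congrArg (fun z => w * z * w⁻¹) h2
    simpa [mul_assoc] using this
  have := comm_rho τ hτ3 hτfp y
  rw [hτapp] at this
  exact this

include h3 hfp in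
theorem sq_pow3 : (σ ^ 2) ^ 3 = 1 := by
  rw [← pow_mul, show 2 * 3 = 3 * 2 by norm_num, pow_mul, h3, one_pow]

include h3 hfp in
theorem sq_fpf (y : G) (hy : (σ ^ 2) y = y) : y = 1 := by
  have h1 : σ (σ y) = y := by
    rw [pow_two] at hy; exact hy
  have h2 : σ y = y := by
    have := congrArg σ h1
    rw [rho3 σ h3] at this
    exact this.symm
  exact hfp y h2

include h3 hfp in
/-- `y` commutes with every conjugate of `σ (σ y)`. -/
theorem conj_comm_sigma2 (y u : G) : Commute y (u⁻¹ * σ (σ y) * u) := by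
  have := conj_comm_sigma (σ ^ 2) (sq_pow3 σ h3 hfp) (sq_fpf σ h3 hfp) y u
  rw [pow_two, MulAut.mul_apply] at this
  exact this

include h3 hfp in
/-- Every element commutes with all its conjugates. -/
theorem conj_comm (y u : G) : Commute y (u⁻¹ * y * u) := by
  have h1 := conj_comm_sigma σ h3 hfp y u
  have h2 := conj_comm_sigma2 σ h3 hfp y u
  have hy : y = (σ y * σ (σ y))⁻¹ := by
    have := prod3 σ h3 hfp y
    rw [mul_assoc] at this
    exact eq_inv_of_mul_eq_one_left this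
  have e : u⁻¹ * y * u = ((u⁻¹ * σ y * u) * (u⁻¹ * σ (σ y) * u))⁻¹ := by
    conv_lhs => rw [hy]
    group
  rw [e]
  exact (h1.mul_right h2).inv_right

/-- The orbit of `a`. -/
def Orb (a y : G) : Prop := y = a ∨ y = σ a ∨ y = σ (σ a)

include h3 hfp in
theorem orb_comm (a y y' u : G) (hy : Orb σ a y) (hy' : Orb σ a y') :
    Commute y (u⁻¹ * y' * u) := by
  have r3 := rho3 σ h3
  rcases hy with rfl | rfl | rfl <;> rcases hy' with rfl | rfl | rfl
  · exact conj_comm σ h3 hfp _ u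
  · exact conj_comm_sigma σ h3 hfp _ u
  · exact conj_comm_sigma2 σ h3 hfp _ u
  · have := conj_comm_sigma2 σ h3 hfp (σ y') u
    rwa [r3] at this
  · exact conj_comm σ h3 hfp _ u
  · exact conj_comm_sigma σ h3 hfp _ u
  · have := conj_comm_sigma σ h3 hfp (σ (σ y')) u
    rwa [r3] at this
  · have := conj_comm_sigma2 σ h3 hfp (σ (σ a)) u
    rwa [r3] at this
  · exact conj_comm σ h3 hfp _ u

/-- The normal closure of the orbit of `a`: an abelian normal subgroup. -/
def M (a : G) : Subgroup G := normalClosure {y | Orb σ a y}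

instance M_normal (a : G) : (M σ a).Normal := normalClosure_normal

theorem mem_M_conj (a y c : G) (hy : Orb σ a y) : c * y * c⁻¹ ∈ M σ a := by
  apply conjugatesOfSet_subset_normalClosure
  rw [mem_conjugatesOfSet_iff]
  exact ⟨y, hy, isConj_iff.mpr ⟨c, rfl⟩⟩

theorem self_mem_M (a : G) : a ∈ M σ a := subset_normalClosure (Or.inl rfl)

theorem sigma_mem_M (a : G) : σ a ∈ M σ a := subset_normalClosure (Or.inr (Or.inl rfl))

include h3 hfp in
theorem M_comm (a m n : G) (hm : m ∈ M σ a) (hn : n ∈ M σ a) : m * n = n * m := by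
  have hK : conjugatesOfSet {y | Orb σ a y} ⊆ centralizer (conjugatesOfSet {y | Orb σ a y}) := by
    intro p hp q hq
    rw [mem_conjugatesOfSet_iff] at hp hq
    obtain ⟨y, hy, hyp⟩ := hp
    obtain ⟨y', hy', hyq⟩ := hq
    obtain ⟨c, rfl⟩ := isConj_iff.mp hyp
    obtain ⟨d, rfl⟩ := isConj_iff.mp hyq
    have := (orb_comm σ h3 hfp a y y' (d⁻¹ * c) hy hy').eq
    have h := congrArg (fun g => c * g * c⁻¹) this
    simp only [mul_inv_rev, inv_inv] at h
    have e1 : c * (y * (c⁻¹ * d * y' * (d⁻¹ * c))) * c⁻¹ = c * y * c⁻¹ * (d * y' * d⁻¹) := by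
      group
    have e2 : c * (c⁻¹ * d * y' * (d⁻¹ * c) * y) * c⁻¹ = d * y' * d⁻¹ * (c * y * c⁻¹) := by
      group
    rw [e1, e2] at h
    exact h.symm
  have h1 : M σ a ≤ centralizer (conjugatesOfSet {y | Orb σ a y}) := by
    unfold M normalClosure
    rw [closure_le]
    exact hK
  have h2 : conjugatesOfSet {y | Orb σ a y} ⊆ centralizer (M σ a : Set G) := by
    intro p hp q hq
    exact ((h1 hq) p hp).symm
  have h3' : M σ a ≤ centralizer (M σ a : Set G) := by
    conv_lhs => unfold M normalClosure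
    rw [closure_le]
    exact h2
  exact ((h3' hm) n hn).symm

theorem comm_mem_M_left (a m y : G) (hm : m ∈ M σ a) : ⁅m, y⁆ ∈ M σ a := by
  have : ⁅m, y⁆ = m * (y * m⁻¹ * y⁻¹) := by rw [commutatorElement_def]; group
  rw [this]
  exact mul_mem hm ((M_normal σ a).conj_mem _ (inv_mem hm) y)

theorem comm_mem_M_right (a m y : G) (hm : m ∈ M σ a) : ⁅y, m⁆ ∈ M σ a := by
  have : ⁅y, m⁆ = (y * m * y⁻¹) * m⁻¹ := by rw [commutatorElement_def]
  rw [this]
  exact mul_mem ((M_normal σ a).conj_mem _ hm y) (inv_mem hm)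

include h3 hfp in
theorem comm_mul_of_mem (a m n y : G) (hm : m ∈ M σ a) (hn : n ∈ M σ a) :
    ⁅m * n, y⁆ = ⁅m, y⁆ * ⁅n, y⁆ := by
  have e : ⁅m * n, y⁆ = m * ⁅n, y⁆ * m⁻¹ * ⁅m, y⁆ := by
    simp only [commutatorElement_def]; group
  have hny := comm_mem_M_left σ a n y hn
  have hmy := comm_mem_M_left σ a m y hm
  rw [e, M_comm σ h3 hfp a m _ hm hny, mul_assoc ⁅n, y⁆, mul_inv_cancel, mul_one,
    M_comm σ h3 hfp a _ _ hny hmy]

include h3 hfp in
theorem comm_inv_of_mem (a m y : G) (hm : m ∈ M σ a) : ⁅m⁻¹, y⁆ = ⁅m, y⁆⁻¹ := by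
  have h := comm_mul_of_mem σ h3 hfp a m m⁻¹ y hm (inv_mem hm)
  rw [mul_inv_cancel] at h
  have h1 : ⁅(1 : G), y⁆ = 1 := by simp
  rw [h1] at h
  exact (inv_eq_of_mul_eq_one_right h.symm).symm

include h3 hfp in
/-- The 2-Engel property. -/
theorem engel (m y : G) : ⁅⁅m, y⁆, y⁆ = 1 := by
  rw [commutatorElement_eq_one_iff_mul_comm]
  have h1 : Commute y (m * y * m⁻¹) := by
    have := conj_comm σ h3 hfp y m⁻¹
    rwa [inv_inv] at this
  have h2 : Commute y ⁅m, y⁆ := by
    rw [commutatorElement_def]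
    exact h1.mul_right (Commute.refl y).inv_right
  exact h2.eq.symm

include h3 hfp in
theorem comm_sigma_swap (a b : G) : ⁅b, σ a⁆ = ⁅σ b, a⁆ := by
  have hab := comm_rho σ h3 hfp (a * b)
  rw [map_mul] at hab
  have hb := comm_rho σ h3 hfp b
  set p := ⁅b, σ a⁆ with hp
  set q := ⁅σ b, a⁆ with hq
  have hpM : p ∈ M σ a := comm_mem_M_right σ a (σ a) b (sigma_mem_M σ a)
  have hqM : q ∈ M σ a := comm_mem_M_right σ a a (σ b) (self_mem_M σ a)
  have e1 : b * σ a = p * σ a * b := by rw [hp, commutatorElement_def]; group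
  have e2 : σ b * a = q * a * σ b := by rw [hq, commutatorElement_def]; group
  have hL : a * b * (σ a * σ b) = a * p * σ a * (b * σ b) := by
    calc a * b * (σ a * σ b) = a * (b * σ a) * σ b := by simp only [mul_assoc]
      _ = a * (p * σ a * b) * σ b := by rw [e1]
      _ = a * p * σ a * (b * σ b) := by simp only [mul_assoc]
  have hR : σ a * σ b * (a * b) = σ a * q * a * (b * σ b) := by
    calc σ a * σ b * (a * b) = σ a * (σ b * a) * b := by simp only [mul_assoc]
      _ = σ a * (q * a * σ b) * b := by rw [e2]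
      _ = σ a * q * a * (σ b * b) := by simp only [mul_assoc]
      _ = σ a * q * a * (b * σ b) := by rw [hb]
  rw [hL, hR] at hab
  have h1 : a * p * σ a = σ a * q * a := mul_right_cancel hab
  have haM := self_mem_M σ a
  have hsM := sigma_mem_M σ a
  have c := M_comm σ h3 hfp a
  have h2 : a * p * σ a = p * (a * σ a) := by
    rw [c a p haM hpM, mul_assoc]
  have h3' : σ a * q * a = q * (a * σ a) := by
    rw [c (σ a) q hsM hqM, mul_assoc, c (σ a) a hsM haM]
  rw [h2, h3'] at h1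
  exact mul_right_cancel h1

include h3 hfp in
/-- Semilinearity of the commutator in the first variable. -/
theorem comm_sigma_left (a b : G) : ⁅σ a, b⁆ = σ (σ ⁅a, b⁆) := by
  set c := ⁅a, b⁆ with hc
  set e := ⁅σ a, b⁆ with he
  have haM := self_mem_M σ a
  have hsM := sigma_mem_M σ a
  have h1 : σ c = ⁅σ (σ a), b⁆ := by
    rw [hc, map_commutatorElement]
    exact comm_sigma_swap σ h3 hfp b (σ a)
  have h2 : ⁅σ (σ a), b⁆ = (c * e)⁻¹ := by
    rw [rho2_eq σ h3 hfp, comm_inv_of_mem σ h3 hfp a _ b (mul_mem haM hsM),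
      comm_mul_of_mem σ h3 hfp a a (σ a) b haM hsM]
  have h4 : c * e = (σ c)⁻¹ := by
    rw [h1, h2, inv_inv]
  have h5 : e = (c * σ c)⁻¹ := by
    have : e = c⁻¹ * (σ c)⁻¹ := by rw [← h4]; group
    rw [this, ← mul_inv_rev, comm_rho σ h3 hfp c]
  rw [h5, ← rho2_eq σ h3 hfp]

include h3 hfp in
/-- Semilinearity of the commutator in the second variable. -/
theorem comm_sigma_right (a b : G) : ⁅a, σ b⁆ = σ (σ ⁅a, b⁆) := by
  rw [← commutatorElement_inv (σ b) a, comm_sigma_left σ h3 hfp b a, ← map_inv, ← map_inv,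
    commutatorElement_inv]

include h3 hfp in
theorem polar (a b z : G) : ⁅⁅a, b⁆, z⁆ * ⁅⁅a, z⁆, b⁆ = 1 := by
  set c1 := ⁅a, b⁆ with hc1
  set c2 := ⁅a, z⁆ with hc2
  set d := ⁅c2, b⁆ with hd
  set e := ⁅c1, z⁆ with he
  have c1a : c1 ∈ M σ a := comm_mem_M_left σ a a b (self_mem_M σ a)
  have c1b : c1 ∈ M σ b := comm_mem_M_right σ b b a (self_mem_M σ b)
  have c2a : c2 ∈ M σ a := comm_mem_M_left σ a a z (self_mem_M σ a)
  have c2z : c2 ∈ M σ z := comm_mem_M_right σ z z a (self_mem_M σ z)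
  have da : d ∈ M σ a := comm_mem_M_left σ a c2 b c2a
  have dz : d ∈ M σ z := comm_mem_M_left σ z c2 b c2z
  have db : d ∈ M σ b := comm_mem_M_right σ b b c2 (self_mem_M σ b)
  have eb : e ∈ M σ b := comm_mem_M_left σ b c1 z c1b
  have heb : b * e = e * b := M_comm σ h3 hfp b b e (self_mem_M σ b) eb
  have hdb : b * d = d * b := M_comm σ h3 hfp b b d (self_mem_M σ b) db
  have hdz : z * d = d * z := M_comm σ h3 hfp z z d (self_mem_M σ z) dz
  -- `⁅a, b z⁆`
  have hq : ⁅a, b * z⁆ = c1 * (d⁻¹ * c2) := by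
    rw [hc1, hd, hc2]
    simp only [commutatorElement_def]; group
  have hE := engel σ h3 hfp a (b * z)
  rw [hq, comm_mul_of_mem σ h3 hfp a c1 _ (b * z) c1a (mul_mem (inv_mem da) c2a),
    comm_mul_of_mem σ h3 hfp a d⁻¹ c2 (b * z) (inv_mem da) c2a] at hE
  have G1 : ∀ x : G, ⁅x, b * z⁆ = ⁅x, b⁆ * (b * ⁅x, z⁆ * b⁻¹) := by
    intro x; simp only [commutatorElement_def]; group
  have t1 : ⁅c1, b * z⁆ = e := by
    rw [G1, hc1, engel σ h3 hfp a b, one_mul, ← hc1, ← he, heb]; group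
  have t2 : ⁅c2, b * z⁆ = d := by
    rw [G1, hc2, engel σ h3 hfp a z, ← hc2, ← hd]; group
  have t3 : ⁅d⁻¹, b * z⁆ = 1 := by
    rw [commutatorElement_eq_one_iff_mul_comm]
    have h1 : Commute d (b * z) := (Commute.mul_right (Eq.symm hdb) (Eq.symm hdz))
    exact h1.inv_left.eq
  rw [t1, t2, t3, one_mul] at hE
  exact hE

include h3 hfp in
/-- **Class at most two**: all commutators are central. -/
theorem comm_comm_eq_one (a b z : G) : ⁅⁅a, b⁆, z⁆ = 1 := by
  set τ := ⁅⁅a, b⁆, z⁆ with hτ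
  have r3 := rho3 σ h3
  have h1 : ⁅⁅a, σ b⁆, z⁆ = σ τ := by
    rw [comm_sigma_right σ h3 hfp a b, comm_sigma_left σ h3 hfp, comm_sigma_left σ h3 hfp, r3]
  have h2 : ⁅⁅a, z⁆, σ b⁆ = σ (σ ⁅⁅a, z⁆, b⁆) := comm_sigma_right σ h3 hfp _ b
  have P1 := polar σ h3 hfp a (σ b) z
  have P2 := polar σ h3 hfp a b z
  have h3' : ⁅⁅a, z⁆, b⁆ = τ⁻¹ := (inv_eq_of_mul_eq_one_right P2).symm
  rw [h1, h2, h3', map_inv, map_inv] at P1
  have h4 : σ τ = σ (σ τ) := by
    have := eq_inv_of_mul_eq_one_left P1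
    rwa [inv_inv] at this
  have h5 : τ = σ τ := σ.injective h4
  exact hfp τ h5.symm

include h3 hfp in
theorem comm_mem_center (a b : G) : ⁅a, b⁆ ∈ center G := by
  rw [mem_center_iff]
  intro g
  have := comm_comm_eq_one σ h3 hfp a b g
  rw [commutatorElement_eq_one_iff_mul_comm] at this
  exact this.symm

end class2

end Cfsg.Agent.Lib.Helper98.Fpf3
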