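import Cfsg.Agent.Lib.Helper98.Fpf64A

/-!
# Nonabelian groups of order 64 with a fixed-point-free automorphism of order three: structure

The centre `Z` has order four, `T ⧸ Z` is elementary abelian, and commutators satisfy
`⁅ρ y, v⁆ = ρ (ρ ⁅y, v⁆)`.
-/

set_option autoImplicit false
set_option linter.unusedSimpArgs false
set_option linter.style.haveILetI false
set_option linter.unusedSectionVars false

namespace Cfsg.Agent.Lib.Helper98.Fpf64

open Subgroup
open scoped commutatorElement
open Cfsg.Agent.Lib.Helper98.Fpf3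

section order64
variable {T : Type*} [Group T] [Finite T] (hT : Nat.card T = 64)
  (hna : ∃ a b : T, a * b ≠ b * a) (ρ : MulAut T) (h3 : ρ ^ 3 = 1)
  (hfp : ∀ y : T, ρ y = y → y = 1)

include hT h3 hfp in
theorem card_inv (K : Subgroup T) (hK : ∀ k ∈ K, ρ k ∈ K) :
    Nat.card K = 1 ∨ Nat.card K = 4 ∨ Nat.card K = 16 ∨ Nat.card K = 64 := by
  have hd : Nat.card K ∣ 2 ^ 6 := by
    have := Subgroup.card_subgroup_dvd_card K
    rw [hT] at this
    exact this
  obtain ⟨i, hi, hKi⟩ := (Nat.dvd_prime_pow Nat.prime_two).mp hd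
  have hmod := card_mod_three ρ h3 K hK hfp
  rw [hKi] at hmod ⊢
  interval_cases i <;> simp_all

include hT hna h3 hfp in
theorem card_center : Nat.card (center T) = 4 := by
  have hp : IsPGroup 2 T := IsPGroup.of_card (n := 6) (by rw [hT]; norm_num)
  haveI : Fact (Nat.Prime 2) := ⟨Nat.prime_two⟩
  haveI : Nontrivial T := by
    apply (Finite.one_lt_card_iff_nontrivial).mp
    rw [hT]; norm_num
  have hnt := hp.center_nontrivial
  have h1 : Nat.card (center T) ≠ 1 := by
    have := (Finite.one_lt_card_iff_nontrivial).mpr hnt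
    omega
  rcases card_inv hT ρ h3 hfp (center T) (inv_center ρ) with h | h | h | h
  · exact absurd h h1
  · exact h
  · exfalso
    obtain ⟨a, b, hab⟩ := hna
    apply hab
    have := comm_of_card_center ρ h3 hfp (by rw [hT, h]) b
    exact (mem_center_iff.mp this a)
  · exfalso
    obtain ⟨a, b, hab⟩ := hna
    apply hab
    have htop : center T = ⊤ := by
      rw [← Subgroup.card_eq_iff_eq_top, h, hT]
    have : b ∈ center T := by rw [htop]; trivial
    exact (mem_center_iff.mp this a)

include hT hna h3 hfp in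
theorem card_E (y : T) (hy : y ∉ center T) : Nat.card (E ρ y) = 16 := by
  have hZ := card_center hT hna ρ h3 hfp
  have hlt := center_lt_E ρ y hy
  have hne := E_ne_top ρ h3 hfp y hy
  rcases card_inv hT ρ h3 hfp (E ρ y) (E_inv ρ h3 hfp y) with h | h | h | h
  · exfalso
    have := Subgroup.card_le_of_le hlt.le
    omega
  · exfalso
    apply hlt.ne
    apply Subgroup.eq_of_le_of_card_ge hlt.le
    rw [h, hZ]
  · exact h
  · exfalso
    apply hne
    rw [← Subgroup.card_eq_iff_eq_top, h, hT]

/-- The automorphism induced on `T ⧸ Z(T)`. -/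
noncomputable def sig : MulAut (T ⧸ center T) :=
  QuotientGroup.congr (center T) (center T) ρ
    (Subgroup.characteristic_iff_map_eq.mp inferInstance ρ)

theorem sig_mk (y : T) : sig ρ (QuotientGroup.mk y) = QuotientGroup.mk (ρ y) :=
  QuotientGroup.congr_mk _ _ _ _ y

include h3 in
theorem sig_pow3 : sig ρ ^ 3 = 1 := by
  ext q
  induction q using QuotientGroup.induction_on with
  | H y =>
    rw [pow_succ, pow_two]
    change sig ρ (sig ρ (sig ρ (QuotientGroup.mk y))) = QuotientGroup.mk y
    rw [sig_mk, sig_mk, sig_mk, rho3 ρ h3]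

include hfp in
theorem sig_fpf (q : T ⧸ center T) (hq : sig ρ q = q) : q = 1 := by
  induction q using QuotientGroup.induction_on with
  | H y =>
    rw [sig_mk] at hq
    have h1 : y⁻¹ * ρ y ∈ center T := QuotientGroup.eq.mp hq.symm
    have h2 := mem_of_psi_mem ρ hfp (center T) (inv_center ρ) y h1
    exact (QuotientGroup.eq_one_iff y).mpr h2

include hT hna h3 hfp in
theorem sq_mem_center (y : T) : y ^ 2 ∈ center T := by
  by_cases hy : y ∈ center T
  · exact pow_mem hy 2
  have hZ := card_center hT hna ρ h3 hfp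
  have hQ : Nat.card (T ⧸ center T) = 16 := by
    have := Subgroup.card_eq_card_quotient_mul_card_subgroup (center T)
    rw [hT, hZ] at this
    omega
  set q : T ⧸ center T := QuotientGroup.mk y with hq
  have hs3 := sig_pow3 ρ h3
  have hsf := sig_fpf ρ hfp
  set K : Subgroup (T ⧸ center T) := closure {q, sig ρ q} with hK
  have hKinv := inv_closure_pair (sig ρ) hs3 hsf q
  have hqK : q ∈ K := subset_closure (by simp)
  have hmod := card_mod_three (sig ρ) hs3 K hKinv hsf
  have hd : Nat.card K ∣ 2 ^ 4 := by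
    have := Subgroup.card_subgroup_dvd_card K
    rw [hQ] at this
    exact this
  obtain ⟨i, hi, hKi⟩ := (Nat.dvd_prime_pow Nat.prime_two).mp hd
  have hcases : Nat.card K = 1 ∨ Nat.card K = 4 ∨ Nat.card K = 16 := by
    rw [hKi] at hmod ⊢
    interval_cases i <;> simp_all
  have hq2 : q ^ 2 = 1 := by
    rcases hcases with h | h | h
    · have : K = ⊥ := Subgroup.card_eq_one.mp h
      rw [this, mem_bot] at hqK
      rw [hqK, one_pow]
    · exact sq_eq_one_of_card_four (sig ρ) hs3 hsf K hKinv h q hqK
    · exfalso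
      have htop : K = ⊤ := by rw [← Subgroup.card_eq_iff_eq_top, h, hQ]
      apply E_ne_top ρ h3 hfp y hy
      have hmap : (closure ({y, ρ y} : Set T)).map (QuotientGroup.mk' (center T)) = K := by
        rw [MonoidHom.map_closure, hK]
        congr 1
        ext x
        simp only [Set.mem_image, Set.mem_insert_iff, Set.mem_singleton_iff]
        constructor
        · rintro ⟨a, ha | ha, rfl⟩
          · left; rw [ha]; rfl
          · right; rw [ha, hq, sig_mk]; rfl
        · rintro (h | h)
          · exact ⟨y, Or.inl rfl, h.symm⟩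
          · exact ⟨ρ y, Or.inr rfl, by rw [h, hq, sig_mk]; rfl⟩
      have := Subgroup.comap_map_eq (QuotientGroup.mk' (center T)) (closure ({y, ρ y} : Set T))
      rw [hmap, htop, comap_top, QuotientGroup.ker_mk'] at this
      exact this.symm
  have : ((y ^ 2 : T) : T ⧸ center T) = 1 := by
    rw [QuotientGroup.mk_pow]; exact hq2
  exact (QuotientGroup.eq_one_iff _).mp this

include hT hna h3 hfp in
theorem comm_mem_center (a b : T) : ⁅a, b⁆ ∈ center T := by
  have hs := sq_mem_center hT hna ρ h3 hfp
  set s := (a⁻¹) ^ 2 with hsdef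
  have hsb : b * s = s * b := (mem_center_iff.mp (hs a⁻¹) b)
  have : ⁅a, b⁆ = (a * b) ^ 2 * s * (b⁻¹) ^ 2 := by
    rw [commutatorElement_def]
    calc a * b * a⁻¹ * b⁻¹ = a * b * a * (s * b) * b⁻¹ * b⁻¹ := by rw [hsdef]; group
      _ = a * b * a * (b * s) * b⁻¹ * b⁻¹ := by rw [hsb]
      _ = (a * b) ^ 2 * s * (b⁻¹) ^ 2 := by simp only [pow_two, mul_assoc]
  rw [this]
  exact mul_mem (mul_mem (hs _) (hs _)) (hs _)

include hT hna h3 hfp in
theorem center_sq (z : T) (hz : z ∈ center T) : z ^ 2 = 1 :=
  sq_eq_one_of_card_four ρ h3 hfp (center T) (inv_center ρ) (card_center hT hna ρ h3 hfp) z hz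

include hT hna h3 hfp in
theorem center_elems (z : T) (hz : z ∈ center T) (hz1 : z ≠ 1) (x : T) (hx : x ∈ center T) :
    x = 1 ∨ x = z ∨ x = ρ z ∨ x = ρ (ρ z) :=
  four_elems ρ h3 hfp (center T) (inv_center ρ) (card_center hT hna ρ h3 hfp) z hz hz1 x hx

include hT hna h3 hfp in
theorem center_inv (z : T) (hz : z ∈ center T) : z⁻¹ = z :=
  inv_eq_of_mul_eq_one_right (by rw [← pow_two]; exact center_sq hT hna ρ h3 hfp z hz)

include hT hna h3 hfp in
theorem rho2_center (z : T) (hz : z ∈ center T) : ρ (ρ z) = z * ρ z := by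
  rw [rho2_eq ρ h3 hfp]
  exact center_inv hT hna ρ h3 hfp _ (mul_mem hz (inv_center ρ z hz))

end order64

end Cfsg.Agent.Lib.Helper98.Fpf64
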