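import Cfsg.Agent.Lib.Helper98.Fpf64B

/-!
# Class-two identities and the commutator identity `⁅ρ y, v⁆ = ρ (ρ ⁅y, v⁆)`
-/

set_option autoImplicit false
set_option linter.unusedSimpArgs false
set_option linter.style.haveILetI false
set_option linter.unusedSectionVars false

namespace Cfsg.Agent.Lib.Helper98.Fpf64

open Subgroup
open scoped commutatorElement
open scoped IsMulCommutative
open Cfsg.Agent.Lib.Helper98.Fpf3

/-- Class two with central squares and a centre of exponent two. -/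
structure C2 (T : Type*) [Group T] : Prop where
  comm : ∀ a b : T, ⁅a, b⁆ ∈ center T
  sq : ∀ a : T, a ^ 2 ∈ center T
  zsq : ∀ z ∈ center T, z ^ 2 = 1

section c2
variable {T : Type*} [Group T] (h : C2 T)

include h in
theorem C2.zinv (z : T) (hz : z ∈ center T) : z⁻¹ = z :=
  inv_eq_of_mul_eq_one_right (by rw [← pow_two]; exact h.zsq z hz)

include h in
theorem C2.comm_symm (a b : T) : ⁅a, b⁆ = ⁅b, a⁆ := by
  rw [← commutatorElement_inv b a, h.zinv _ (h.comm b a)]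

include h in
theorem C2.comm_mul_left (a b c : T) : ⁅a * b, c⁆ = ⁅a, c⁆ * ⁅b, c⁆ := by
  have hk : ∀ g, g * ⁅b, c⁆ = ⁅b, c⁆ * g := mem_center_iff.mp (h.comm b c)
  calc ⁅a * b, c⁆ = a * ⁅b, c⁆ * (c * a⁻¹ * c⁻¹) := by
        simp only [commutatorElement_def]; group
    _ = ⁅b, c⁆ * a * (c * a⁻¹ * c⁻¹) := by rw [hk a]
    _ = ⁅b, c⁆ * ⁅a, c⁆ := by simp only [commutatorElement_def, mul_assoc]
    _ = ⁅a, c⁆ * ⁅b, c⁆ := (hk _).symm

include h in
theorem C2.comm_mul_right (a b c : T) : ⁅a, b * c⁆ = ⁅a, b⁆ * ⁅a, c⁆ := by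
  rw [h.comm_symm a (b * c), h.comm_mul_left, h.comm_symm b a, h.comm_symm c a]

include h in
theorem C2.sq_mul (a b : T) : (a * b) ^ 2 = a ^ 2 * b ^ 2 * ⁅a, b⁆ := by
  have hk : ∀ g, g * ⁅b, a⁆ = ⁅b, a⁆ * g := mem_center_iff.mp (h.comm b a)
  have e : b * a = ⁅b, a⁆ * a * b := by simp only [commutatorElement_def]; group
  calc (a * b) ^ 2 = a * (b * a) * b := by simp only [pow_two, mul_assoc]
    _ = a * (⁅b, a⁆ * a * b) * b := by rw [← e]
    _ = a * ⁅b, a⁆ * (a * b * b) := by simp only [mul_assoc]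
    _ = ⁅b, a⁆ * a * (a * b * b) := by rw [hk a]
    _ = ⁅b, a⁆ * (a ^ 2 * b ^ 2) := by simp only [pow_two, mul_assoc]
    _ = a ^ 2 * b ^ 2 * ⁅b, a⁆ := (hk _).symm
    _ = a ^ 2 * b ^ 2 * ⁅a, b⁆ := by rw [h.comm_symm a b]

theorem comm_center_right (a z : T) (hz : z ∈ center T) : ⁅a, z⁆ = 1 := by
  rw [commutatorElement_eq_one_iff_mul_comm]
  exact (mem_center_iff.mp hz a)

theorem comm_center_left (a z : T) (hz : z ∈ center T) : ⁅z, a⁆ = 1 := by
  rw [commutatorElement_eq_one_iff_mul_comm]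
  exact (mem_center_iff.mp hz a).symm

include h in
theorem C2.comm_mul_center (a b z : T) (hz : z ∈ center T) : ⁅a, b * z⁆ = ⁅a, b⁆ := by
  rw [h.comm_mul_right, comm_center_right a z hz, mul_one]

include h in
theorem C2.sq_mul_center (a z : T) (hz : z ∈ center T) : (a * z) ^ 2 = a ^ 2 := by
  rw [h.sq_mul, comm_center_right a z hz, h.zsq z hz, mul_one, mul_one]

end c2

theorem bool_id {Z : Type*} [CommGroup Z] (h2 : ∀ z : Z, z * z = 1) {a b ra rb rc rra rrb : Z}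
    (Erc : ra * rb * rc = 1) (E2 : a * rc * rrb = 1) (Pa : a * ra * rra = 1)
    (Pb : b * rb * rrb = 1) : b = rra := by
  have e : (a * rc * rrb) * (a * ra * rra) * (b * rb * rrb) * (ra * rb * rc) =
      (b * rra) * ((a * a) * (rc * rc) * (rrb * rrb) * (ra * ra) * (rb * rb)) := by ac_rfl
  rw [E2, Pa, Pb, Erc] at e
  simp only [h2, mul_one] at e
  have h1 : b * rra = 1 := e.symm
  rw [mul_eq_one_iff_eq_inv] at h1
  rw [h1]
  exact inv_eq_of_mul_eq_one_right (h2 rra)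

section order64
variable {T : Type*} [Group T] [Finite T] (hT : Nat.card T = 64)
  (hna : ∃ a b : T, a * b ≠ b * a) (ρ : MulAut T) (h3 : ρ ^ 3 = 1)
  (hfp : ∀ y : T, ρ y = y → y = 1)

include hT hna h3 hfp in
theorem c2 : C2 T :=
  ⟨comm_mem_center hT hna ρ h3 hfp, sq_mem_center hT hna ρ h3 hfp, center_sq hT hna ρ h3 hfp⟩

include hT hna h3 hfp in
/-- The key identity: commutation is "semilinear". -/
theorem comm_rho_left (y v : T) : ⁅ρ y, v⁆ = ρ (ρ ⁅y, v⁆) := by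
  have h := c2 hT hna ρ h3 hfp
  have hi := inv_center ρ
  have h2 : ∀ z : center T, z * z = 1 := by
    intro z
    apply Subtype.ext
    have := h.zsq z z.2
    rw [pow_two] at this
    exact this
  have Erc : ρ ⁅y, v⁆ * ρ ⁅ρ y, v⁆ * ρ ⁅ρ (ρ y), v⁆ = 1 := by
    rw [← map_mul, ← map_mul, ← h.comm_mul_left, ← h.comm_mul_left, prod3 ρ h3 hfp]
    simp
  have E2 : ⁅y, v⁆ * ρ ⁅ρ (ρ y), v⁆ * ρ (ρ ⁅ρ y, v⁆) = 1 := by
    rw [map_commutatorElement, map_commutatorElement, map_commutatorElement, rho3 ρ h3,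
      ← h.comm_mul_right, ← h.comm_mul_right, prod3 ρ h3 hfp]
    simp
  have Pa := prod3 ρ h3 hfp ⁅y, v⁆
  have Pb := prod3 ρ h3 hfp ⁅ρ y, v⁆
  have ha := h.comm y v
  have hb := h.comm (ρ y) v
  have hc := h.comm (ρ (ρ y)) v
  have := bool_id h2 (a := ⟨⁅y, v⁆, ha⟩) (b := ⟨⁅ρ y, v⁆, hb⟩) (ra := ⟨ρ ⁅y, v⁆, hi _ ha⟩)
    (rb := ⟨ρ ⁅ρ y, v⁆, hi _ hb⟩) (rc := ⟨ρ ⁅ρ (ρ y), v⁆, hi _ hc⟩)
    (rra := ⟨ρ (ρ ⁅y, v⁆), hi _ (hi _ ha)⟩) (rrb := ⟨ρ (ρ ⁅ρ y, v⁆), hi _ (hi _ hb)⟩)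
    (Subtype.ext Erc) (Subtype.ext E2) (Subtype.ext Pa) (Subtype.ext Pb)
  exact congrArg Subtype.val this

include hT hna h3 hfp in
theorem comm_rho_right (y v : T) : ⁅y, ρ v⁆ = ρ (ρ ⁅y, v⁆) := by
  have h := c2 hT hna ρ h3 hfp
  rw [h.comm_symm, comm_rho_left hT hna ρ h3 hfp, h.comm_symm]

include hT hna h3 hfp in
theorem comm_rho_rho (y v : T) : ⁅ρ y, ρ v⁆ = ρ ⁅y, v⁆ := by
  rw [map_commutatorElement]

theorem mem_centralizer_E (y v : T) :
    v ∈ centralizer (E ρ y : Set T) ↔ y * v = v * y ∧ ρ y * v = v * ρ y := by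
  rw [E, ← closure_eq (center T), ← Subgroup.closure_union, centralizer_closure,
    mem_centralizer_iff]
  constructor
  · intro hv
    exact ⟨hv y (Or.inl (by simp)), hv (ρ y) (Or.inl (by simp))⟩
  · rintro ⟨h1, h2⟩ b hb
    rcases hb with hb | hb
    · simp only [Set.mem_insert_iff, Set.mem_singleton_iff] at hb
      rcases hb with rfl | rfl
      · exact h1
      · exact h2
    · have hb' : b ∈ center T := hb
      exact (mem_center_iff.mp hb' v).symm

include h3 in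
theorem inv_centralizer (K : Subgroup T) (hK : ∀ k ∈ K, ρ k ∈ K) :
    ∀ c ∈ centralizer (K : Set T), ρ c ∈ centralizer (K : Set T) := by
  intro c hc
  rw [mem_centralizer_iff] at hc ⊢
  intro k hk
  have h1 := hc (ρ (ρ k)) (hK _ (hK _ hk))
  have h2 := congrArg ρ h1
  rw [map_mul, map_mul, rho3 ρ h3] at h2
  exact h2

include hT hna h3 hfp in
theorem comm_ne_one (y v : T) (hy : y ∉ center T) (hv : v ∉ E ρ y) : ⁅y, v⁆ ≠ 1 := by
  intro h1
  have h := c2 hT hna ρ h3 hfp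
  have hvC : v ∈ centralizer (E ρ y : Set T) := by
    rw [mem_centralizer_E]
    constructor
    · exact commutatorElement_eq_one_iff_mul_comm.mp h1
    · apply commutatorElement_eq_one_iff_mul_comm.mp
      rw [comm_rho_left hT hna ρ h3 hfp, h1]
      simp
  have hle : E ρ y ≤ centralizer (E ρ y : Set T) := E_le_centralizer ρ h3 hfp y
  have hinv := inv_centralizer ρ h3 (E ρ y) (E_inv ρ h3 hfp y)
  have hE := card_E hT hna ρ h3 hfp y hy
  rcases card_inv hT ρ h3 hfp _ hinv with h' | h' | h' | h'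
  · have := Subgroup.card_le_of_le hle
    omega
  · have := Subgroup.card_le_of_le hle
    omega
  · apply hv
    have : E ρ y = centralizer (E ρ y : Set T) :=
      Subgroup.eq_of_le_of_card_ge hle (by rw [h', hE])
    rw [this]; exact hvC
  · have htop : centralizer (E ρ y : Set T) = ⊤ := by
      rw [← Subgroup.card_eq_iff_eq_top, h', hT]
    apply hy
    rw [mem_center_iff]
    intro g
    have hg : g ∈ centralizer (E ρ y : Set T) := by rw [htop]; trivial
    rw [mem_centralizer_iff] at hg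
    exact (hg y (mem_E ρ y)).symm

include hT hna h3 hfp in
theorem gen_top (y v : T) (hy : y ∉ center T) (hv : v ∉ E ρ y) : E ρ y ⊔ E ρ v = ⊤ := by
  have hinv := inv_sup ρ _ _ (E_inv ρ h3 hfp y) (E_inv ρ h3 hfp v)
  have hE := card_E hT hna ρ h3 hfp y hy
  have hle : E ρ y ≤ E ρ y ⊔ E ρ v := le_sup_left
  rcases card_inv hT ρ h3 hfp _ hinv with h' | h' | h' | h'
  · have := Subgroup.card_le_of_le hle
    omega
  · have := Subgroup.card_le_of_le hle
    omega
  · exfalso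
    apply hv
    have : E ρ y = E ρ y ⊔ E ρ v :=
      Subgroup.eq_of_le_of_card_ge hle (by rw [h', hE])
    rw [this]; exact mem_sup_right (mem_E ρ v)
  · rw [← Subgroup.card_eq_iff_eq_top, h', hT]

end order64

end Cfsg.Agent.Lib.Helper98.Fpf64
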