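import Cfsg.Agent.Lib.Helper98.Iso64

/-!
# Presentation patterns for the two groups of order 64 with a fixed-point-free
automorphism of order three
-/

set_option autoImplicit false
set_option linter.unusedSimpArgs false
set_option linter.style.haveILetI false
set_option linter.unusedSectionVars false

namespace Cfsg.Agent.Lib.Helper98.Iso64

open Subgroup
open scoped commutatorElement

/-- Four generators `g i` and two central involutions `z1 z2`, with squares and commutators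
of the generators given by exponent tables. -/
structure Pat {T : Type*} [Group T] (sqE : Fin 4 → ℕ × ℕ) (cmE : Fin 4 → Fin 4 → ℕ × ℕ)
    (g : Fin 4 → T) (z1 z2 : T) : Prop where
  z1sq : z1 ^ 2 = 1
  z2sq : z2 ^ 2 = 1
  zc : z1 * z2 = z2 * z1
  c1 : ∀ i, g i * z1 = z1 * g i
  c2 : ∀ i, g i * z2 = z2 * g i
  sq : ∀ i, g i ^ 2 = z1 ^ (sqE i).1 * z2 ^ (sqE i).2
  cm : ∀ i j, i < j → ⁅g i, g j⁆ = z1 ^ (cmE i j).1 * z2 ^ (cmE i j).2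

theorem Pat.map {T M : Type*} [Group T] [Group M] (f : T →* M) {sqE : Fin 4 → ℕ × ℕ}
    {cmE : Fin 4 → Fin 4 → ℕ × ℕ} {g : Fin 4 → T} {z1 z2 : T} (h : Pat sqE cmE g z1 z2) :
    Pat sqE cmE (fun i => f (g i)) (f z1) (f z2) where
  z1sq := by rw [← map_pow, h.z1sq, map_one]
  z2sq := by rw [← map_pow, h.z2sq, map_one]
  zc := by rw [← map_mul, h.zc, map_mul]
  c1 := fun i => by rw [← map_mul, h.c1, map_mul]
  c2 := fun i => by rw [← map_mul, h.c2, map_mul]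
  sq := fun i => by rw [← map_pow, h.sq, map_mul, map_pow, map_pow]
  cm := fun i j hij => by
    rw [← map_commutatorElement, h.cm i j hij, map_mul, map_pow, map_pow]

/-- Explicit constructor. -/
theorem Pat.of_explicit {T : Type*} [Group T] (sqE : Fin 4 → ℕ × ℕ) (cmE : Fin 4 → Fin 4 → ℕ × ℕ)
    (g0 g1 g2 g3 z1 z2 : T) (z1sq : z1 ^ 2 = 1) (z2sq : z2 ^ 2 = 1) (zc : z1 * z2 = z2 * z1)
    (c1 : ∀ x : T, x * z1 = z1 * x) (c2 : ∀ x : T, x * z2 = z2 * x)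
    (s0 : g0 ^ 2 = z1 ^ (sqE 0).1 * z2 ^ (sqE 0).2)
    (s1 : g1 ^ 2 = z1 ^ (sqE 1).1 * z2 ^ (sqE 1).2)
    (s2 : g2 ^ 2 = z1 ^ (sqE 2).1 * z2 ^ (sqE 2).2)
    (s3 : g3 ^ 2 = z1 ^ (sqE 3).1 * z2 ^ (sqE 3).2)
    (k01 : ⁅g0, g1⁆ = z1 ^ (cmE 0 1).1 * z2 ^ (cmE 0 1).2)
    (k02 : ⁅g0, g2⁆ = z1 ^ (cmE 0 2).1 * z2 ^ (cmE 0 2).2)
    (k03 : ⁅g0, g3⁆ = z1 ^ (cmE 0 3).1 * z2 ^ (cmE 0 3).2)
    (k12 : ⁅g1, g2⁆ = z1 ^ (cmE 1 2).1 * z2 ^ (cmE 1 2).2)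
    (k13 : ⁅g1, g3⁆ = z1 ^ (cmE 1 3).1 * z2 ^ (cmE 1 3).2)
    (k23 : ⁅g2, g3⁆ = z1 ^ (cmE 2 3).1 * z2 ^ (cmE 2 3).2) :
    Pat sqE cmE ![g0, g1, g2, g3] z1 z2 where
  z1sq := z1sq
  z2sq := z2sq
  zc := zc
  c1 := fun i => c1 _
  c2 := fun i => c2 _
  sq := by
    intro i
    fin_cases i
    · exact s0
    · exact s1
    · exact s2
    · exact s3
  cm := by
    intro i j hij
    fin_cases i <;> fin_cases j <;>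
      first
      | exact absurd hij (by decide)
      | exact k01
      | exact k02
      | exact k03
      | exact k12
      | exact k13
      | exact k23

theorem iso_of_pat {T M : Type*} [Group T] [Group M] [Finite T] (hcard : Nat.card M = Nat.card T)
    (hT : 64 ≤ Nat.card T) {sqE : Fin 4 → ℕ × ℕ} {cmE : Fin 4 → Fin 4 → ℕ × ℕ}
    {g : Fin 4 → T} {z1 z2 : T} {g' : Fin 4 → M} {z1' z2' : M}
    (hP : Pat sqE cmE g z1 z2) (hP' : Pat sqE cmE g' z1' z2')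
    (hgen : closure (Set.range g) ⊔ closure ({z1, z2} : Set T) = ⊤)
    (hNZ : ∀ N : Subgroup T, N.Normal → N ≠ ⊥ → z1 ∈ N ∨ z2 ∈ N ∨ z1 * z2 ∈ N)
    (h1 : z1' ≠ 1) (h2 : z2' ≠ 1) (h12 : z1' * z2' ≠ 1) : Nonempty (T ≃* M) :=
  iso_of_match hcard hT g g' z1 z2 z1' z2' hP.z1sq hP.z2sq hP.zc hP'.z1sq hP'.z2sq hP'.zc
    hP.c1 hP.c2 hP'.c1 hP'.c2 (fun i => ⟨_, _, hP.sq i, hP'.sq i⟩)
    (fun i j hij => ⟨_, _, hP.cm i j hij, hP'.cm i j hij⟩) hgen hNZ h1 h2 h12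

/-- Exponent tables for the Sylow 2-subgroup of `PSL₃(4)`. -/
def sqL : Fin 4 → ℕ × ℕ := fun _ => (0, 0)

/-- Exponent tables for the Sylow 2-subgroup of `PSL₃(4)`. -/
def cmL : Fin 4 → Fin 4 → ℕ × ℕ :=
  ![![(0, 0), (0, 0), (1, 0), (1, 1)], ![(0, 0), (0, 0), (1, 1), (0, 1)],
    ![(0, 0), (0, 0), (0, 0), (0, 0)], ![(0, 0), (0, 0), (0, 0), (0, 0)]]

/-- Exponent tables for the Sylow 2-subgroup of `PSU₃(4)`. -/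
def sqU : Fin 4 → ℕ × ℕ := ![(1, 0), (0, 1), (1, 0), (0, 1)]

/-- Exponent tables for the Sylow 2-subgroup of `PSU₃(4)`. -/
def cmU : Fin 4 → Fin 4 → ℕ × ℕ :=
  ![![(0, 0), (0, 0), (0, 1), (1, 0)], ![(0, 0), (0, 0), (1, 0), (1, 1)],
    ![(0, 0), (0, 0), (0, 0), (0, 0)], ![(0, 0), (0, 0), (0, 0), (0, 0)]]

theorem patL_of {T : Type*} [Group T] (g0 g1 g2 g3 z1 z2 : T) (z1sq : z1 ^ 2 = 1)
    (z2sq : z2 ^ 2 = 1) (zc : z1 * z2 = z2 * z1)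
    (c1 : ∀ x : T, x * z1 = z1 * x) (c2 : ∀ x : T, x * z2 = z2 * x)
    (s0 : g0 ^ 2 = 1) (s1 : g1 ^ 2 = 1) (s2 : g2 ^ 2 = 1) (s3 : g3 ^ 2 = 1)
    (k01 : ⁅g0, g1⁆ = 1) (k02 : ⁅g0, g2⁆ = z1) (k03 : ⁅g0, g3⁆ = z1 * z2)
    (k12 : ⁅g1, g2⁆ = z1 * z2) (k13 : ⁅g1, g3⁆ = z2) (k23 : ⁅g2, g3⁆ = 1) :
    Pat sqL cmL ![g0, g1, g2, g3] z1 z2 := by
  apply Pat.of_explicit sqL cmL g0 g1 g2 g3 z1 z2 z1sq z2sq zc c1 c2 <;>
    simp [sqL, cmL, s0, s1, s2, s3, k01, k02, k03, k12, k13, k23]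

theorem patU_of {T : Type*} [Group T] (g0 g1 g2 g3 z1 z2 : T) (z1sq : z1 ^ 2 = 1)
    (z2sq : z2 ^ 2 = 1) (zc : z1 * z2 = z2 * z1)
    (c1 : ∀ x : T, x * z1 = z1 * x) (c2 : ∀ x : T, x * z2 = z2 * x)
    (s0 : g0 ^ 2 = z1) (s1 : g1 ^ 2 = z2) (s2 : g2 ^ 2 = z1) (s3 : g3 ^ 2 = z2)
    (k01 : ⁅g0, g1⁆ = 1) (k02 : ⁅g0, g2⁆ = z2) (k03 : ⁅g0, g3⁆ = z1)
    (k12 : ⁅g1, g2⁆ = z1) (k13 : ⁅g1, g3⁆ = z1 * z2) (k23 : ⁅g2, g3⁆ = 1) :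
    Pat sqU cmU ![g0, g1, g2, g3] z1 z2 := by
  apply Pat.of_explicit sqU cmU g0 g1 g2 g3 z1 z2 z1sq z2sq zc c1 c2 <;>
    simp [sqU, cmU, s0, s1, s2, s3, k01, k02, k03, k12, k13, k23]

end Cfsg.Agent.Lib.Helper98.Iso64
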