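import Cfsg.Agent.Lib.Helper98.Fpf64C
import Cfsg.Agent.Lib.Helper98.Pat64
import Cfsg.Agent.Lib.Helper9.PGroupLemmas

/-!
# Nonabelian groups of order 64 with a fixed-point-free automorphism of order three:
the two presentation patterns
-/

set_option autoImplicit false
set_option linter.unusedSimpArgs false
set_option linter.style.haveILetI false
set_option linter.unusedSectionVars false

namespace Cfsg.Agent.Lib.Helper98.Fpf64

open Subgroup
open scoped commutatorElement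
open Cfsg.Agent.Lib.Helper98.Fpf3
open Cfsg.Agent.Lib.Helper98.Iso64

section order64
variable {T : Type*} [Group T] [Finite T] (hT : Nat.card T = 64)
  (hna : ∃ a b : T, a * b ≠ b * a) (ρ : MulAut T) (h3 : ρ ^ 3 = 1)
  (hfp : ∀ y : T, ρ y = y → y = 1)

include h3 hfp in
theorem exists_not_mem_E (y : T) (hy : y ∉ center T) : ∃ v, v ∉ E ρ y := by
  by_contra hcon
  push Not at hcon
  exact E_ne_top ρ h3 hfp y hy (eq_top_iff.mpr fun x _ => hcon x)

include hna in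
theorem exists_not_mem_center : ∃ y : T, y ∉ center T := by
  obtain ⟨a, b, hab⟩ := hna
  exact ⟨b, fun hb => hab (mem_center_iff.mp hb a)⟩

include hT hna h3 hfp in
theorem caseA_adjust (u : T) (hu : u ∉ center T) (hu2 : u ^ 2 = 1) :
    ∃ v, v ∉ E ρ u ∧ v ^ 2 = 1 := by
  have h := c2 hT hna ρ h3 hfp
  obtain ⟨v0, hv0⟩ := exists_not_mem_E ρ h3 hfp u hu
  set c := ⁅u, v0⁆ with hc
  have hc1 : c ≠ 1 := comm_ne_one hT hna ρ h3 hfp u v0 hu hv0
  have hcZ : c ∈ center T := h.comm _ _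
  have key : ∀ e ∈ E ρ u, e ^ 2 = 1 → ⁅e, v0⁆ = v0 ^ 2 →
      (v0 * e ∉ E ρ u ∧ (v0 * e) ^ 2 = 1) := by
    intro e he he2 hev
    constructor
    · intro hmem
      apply hv0
      have := mul_mem hmem (inv_mem he)
      simpa using this
    · rw [h.sq_mul, he2, mul_one, h.comm_symm, hev, ← pow_two]
      exact h.zsq _ (h.sq v0)
  rcases center_elems hT hna ρ h3 hfp c hcZ hc1 (v0 ^ 2) (h.sq v0) with h0 | h0 | h0 | h0
  · exact ⟨v0, hv0, h0⟩
  · exact ⟨v0 * u, key u (mem_E ρ u) hu2 (by rw [h0])⟩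
  · refine ⟨v0 * ρ (ρ u), key (ρ (ρ u)) (E_inv ρ h3 hfp u _ (rho_mem_E ρ u))
      (by rw [← map_pow, ← map_pow, hu2, map_one, map_one]) ?_⟩
    rw [comm_rho_left hT hna ρ h3 hfp, comm_rho_left hT hna ρ h3 hfp, rho3 ρ h3, h0]
  · refine ⟨v0 * ρ u, key (ρ u) (rho_mem_E ρ u) (by rw [← map_pow, hu2, map_one]) ?_⟩
    rw [comm_rho_left hT hna ρ h3 hfp, h0]

include hT hna h3 hfp in
theorem patL_caseA (u v : T) (hu2 : u ^ 2 = 1) (hv2 : v ^ 2 = 1) :
    Pat sqL cmL ![u, ρ u, v, ρ v] ⁅u, v⁆ (ρ ⁅u, v⁆) := by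
  have h := c2 hT hna ρ h3 hfp
  have hz1 : ⁅u, v⁆ ∈ center T := h.comm _ _
  have hz2 : ρ ⁅u, v⁆ ∈ center T := inv_center ρ _ hz1
  apply patL_of
  · exact h.zsq _ hz1
  · exact h.zsq _ hz2
  · exact (mem_center_iff.mp hz2 _)
  · exact fun x => mem_center_iff.mp hz1 x
  · exact fun x => mem_center_iff.mp hz2 x
  · exact hu2
  · rw [← map_pow, hu2, map_one]
  · exact hv2
  · rw [← map_pow, hv2, map_one]
  · exact commutatorElement_eq_one_iff_mul_comm.mpr (comm_rho ρ h3 hfp u)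
  · rfl
  · rw [comm_rho_right hT hna ρ h3 hfp, rho2_center hT hna ρ h3 hfp _ hz1]
  · rw [comm_rho_left hT hna ρ h3 hfp, rho2_center hT hna ρ h3 hfp _ hz1]
  · rw [map_commutatorElement]
  · exact commutatorElement_eq_one_iff_mul_comm.mpr (comm_rho ρ h3 hfp v)

include hT hna h3 hfp in
theorem caseB_sq (hB : ∀ y : T, y ^ 2 = 1 → y ∈ center T) (y : T) (hy : y ∉ center T) :
    ∃ v, v ∉ E ρ y ∧ v ^ 2 = y ^ 2 := by
  have h := c2 hT hna ρ h3 hfp
  obtain ⟨v0, hv0⟩ := exists_not_mem_E ρ h3 hfp y hy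
  have haZ : y ^ 2 ∈ center T := h.sq y
  have ha1 : y ^ 2 ≠ 1 := fun h1 => hy (hB y h1)
  have hv0Z : v0 ∉ center T := fun hz => hv0 (center_le_E ρ y hz)
  have hv01 : v0 ^ 2 ≠ 1 := fun h1 => hv0Z (hB v0 h1)
  rcases center_elems hT hna ρ h3 hfp (y ^ 2) haZ ha1 (v0 ^ 2) (h.sq v0) with h0 | h0 | h0 | h0
  · exact absurd h0 hv01
  · exact ⟨v0, hv0, h0⟩
  · refine ⟨ρ (ρ v0), ?_, ?_⟩
    · intro hmem
      apply hv0
      have := E_inv ρ h3 hfp y _ hmem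
      rwa [rho3 ρ h3] at this
    · rw [← map_pow, ← map_pow, h0, rho3 ρ h3]
  · refine ⟨ρ v0, ?_, ?_⟩
    · intro hmem
      apply hv0
      have := E_inv ρ h3 hfp y _ (E_inv ρ h3 hfp y _ hmem)
      rwa [rho3 ρ h3] at this
    · rw [← map_pow, h0, rho3 ρ h3]

include hT hna h3 hfp in
theorem caseB_comm (hB : ∀ y : T, y ^ 2 = 1 → y ∈ center T) (y : T) (hy : y ∉ center T) :
    ∃ v, v ∉ E ρ y ∧ v ^ 2 = y ^ 2 ∧ ⁅y, v⁆ = ρ (y ^ 2) := by
  have h := c2 hT hna ρ h3 hfp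
  obtain ⟨v, hv, hv2⟩ := caseB_sq hT hna ρ h3 hfp hB y hy
  have haZ : y ^ 2 ∈ center T := h.sq y
  have haZ' : ρ (y ^ 2) ∈ center T := inv_center ρ _ haZ
  have ha1 : y ^ 2 ≠ 1 := fun h1 => hy (hB y h1)
  have hc1 : ⁅y, v⁆ ≠ 1 := comm_ne_one hT hna ρ h3 hfp y v hy hv
  rcases center_elems hT hna ρ h3 hfp (y ^ 2) haZ ha1 ⁅y, v⁆ (h.comm y v) with
    h0 | h0 | h0 | h0
  · exact absurd h0 hc1
  · exfalso
    have hsq : (ρ y * v) ^ 2 = 1 := by
      rw [h.sq_mul, ← map_pow, hv2, comm_rho_left hT hna ρ h3 hfp, h0,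
        mem_center_iff.mp haZ (ρ (y ^ 2))]
      exact prod3 ρ h3 hfp (y ^ 2)
    have hmemZ := hB _ hsq
    apply hv
    have : v = (ρ y)⁻¹ * (ρ y * v) := by group
    rw [this]
    exact mul_mem (inv_mem (rho_mem_E ρ y)) (center_le_E ρ y hmemZ)
  · exact ⟨v, hv, hv2, h0⟩
  · refine ⟨ρ v * y, ?_, ?_, ?_⟩
    · intro hmem
      apply hv
      have h1 : ρ v ∈ E ρ y := by
        have := mul_mem hmem (inv_mem (mem_E ρ y))
        simpa using this
      have := E_inv ρ h3 hfp y _ (E_inv ρ h3 hfp y _ h1)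
      rwa [rho3 ρ h3] at this
    · rw [h.sq_mul, ← map_pow, hv2, h.comm_symm, comm_rho_right hT hna ρ h3 hfp, h0, rho3 ρ h3,
        mem_center_iff.mp haZ (ρ (y ^ 2)), mul_assoc, ← pow_two, h.zsq _ haZ', mul_one]
    · rw [h.comm_mul_right, commutatorElement_self, mul_one, comm_rho_right hT hna ρ h3 hfp, h0,
        rho3 ρ h3]

include hT hna h3 hfp in
theorem patU_caseB (y v : T) (hv2 : v ^ 2 = y ^ 2) (hc : ⁅y, v⁆ = ρ (y ^ 2)) :
    Pat sqU cmU ![y, ρ y, v, ρ v] (y ^ 2) (ρ (y ^ 2)) := by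
  have h := c2 hT hna ρ h3 hfp
  have hz1 : y ^ 2 ∈ center T := h.sq y
  have hz2 : ρ (y ^ 2) ∈ center T := inv_center ρ _ hz1
  apply patU_of
  · exact h.zsq _ hz1
  · exact h.zsq _ hz2
  · exact (mem_center_iff.mp hz2 _)
  · exact fun x => mem_center_iff.mp hz1 x
  · exact fun x => mem_center_iff.mp hz2 x
  · rfl
  · rw [← map_pow]
  · exact hv2
  · rw [← map_pow, hv2]
  · exact commutatorElement_eq_one_iff_mul_comm.mpr (comm_rho ρ h3 hfp y)
  · exact hc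
  · rw [comm_rho_right hT hna ρ h3 hfp, hc, rho3 ρ h3]
  · rw [comm_rho_left hT hna ρ h3 hfp, hc, rho3 ρ h3]
  · rw [← map_commutatorElement, hc, rho2_center hT hna ρ h3 hfp _ hz1]
  · exact commutatorElement_eq_one_iff_mul_comm.mpr (comm_rho ρ h3 hfp v)

include hT hna h3 hfp in
theorem exists_pat : ∃ (u v z1 : T), u ∉ center T ∧ v ∉ E ρ u ∧ z1 ∈ center T ∧ z1 ≠ 1 ∧
    (Pat sqL cmL ![u, ρ u, v, ρ v] z1 (ρ z1) ∨ Pat sqU cmU ![u, ρ u, v, ρ v] z1 (ρ z1)) := by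
  have h := c2 hT hna ρ h3 hfp
  by_cases hA : ∃ u : T, u ∉ center T ∧ u ^ 2 = 1
  · obtain ⟨u, hu, hu2⟩ := hA
    obtain ⟨v, hv, hv2⟩ := caseA_adjust hT hna ρ h3 hfp u hu hu2
    exact ⟨u, v, ⁅u, v⁆, hu, hv, h.comm _ _, comm_ne_one hT hna ρ h3 hfp u v hu hv,
      Or.inl (patL_caseA hT hna ρ h3 hfp u v hu2 hv2)⟩
  · push Not at hA
    have hB : ∀ y : T, y ^ 2 = 1 → y ∈ center T := fun y hy => by
      by_contra hn
      exact hA y hn hy
    obtain ⟨y, hy⟩ := exists_not_mem_center hna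
    obtain ⟨v, hv, hv2, hc⟩ := caseB_comm hT hna ρ h3 hfp hB y hy
    exact ⟨y, v, y ^ 2, hy, hv, h.sq y, fun h1 => hy (hB y h1),
      Or.inr (patU_caseB hT hna ρ h3 hfp y v hv2 hc)⟩

include hT hna h3 hfp in
theorem gen_of (u v z1 : T) (hu : u ∉ center T) (hv : v ∉ E ρ u) (hz1 : z1 ∈ center T)
    (hz11 : z1 ≠ 1) :
    closure (Set.range ![u, ρ u, v, ρ v]) ⊔ closure ({z1, ρ z1} : Set T) = ⊤ := by
  rw [eq_top_iff, ← gen_top hT hna ρ h3 hfp u v hu hv]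
  have hZ : center T ≤ closure ({z1, ρ z1} : Set T) := by
    intro x hx
    rcases center_elems hT hna ρ h3 hfp z1 hz1 hz11 x hx with rfl | rfl | rfl | rfl
    · exact one_mem _
    · exact subset_closure (by simp)
    · exact subset_closure (by simp)
    · rw [rho2_center hT hna ρ h3 hfp z1 hz1]
      exact mul_mem (subset_closure (by simp)) (subset_closure (by simp))
  apply sup_le
  · apply sup_le
    · apply le_sup_of_le_left
      apply Subgroup.closure_mono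
      rintro x (rfl | rfl)
      · exact ⟨0, rfl⟩
      · exact ⟨1, rfl⟩
    · exact le_sup_of_le_right hZ
  · apply sup_le
    · apply le_sup_of_le_left
      apply Subgroup.closure_mono
      rintro x (rfl | rfl)
      · exact ⟨2, rfl⟩
      · exact ⟨3, rfl⟩
    · exact le_sup_of_le_right hZ

include hT hna h3 hfp in
theorem nz_of (z1 : T) (hz1 : z1 ∈ center T) (hz11 : z1 ≠ 1) (N : Subgroup T) (hN : N.Normal)
    (hNb : N ≠ ⊥) : z1 ∈ N ∨ ρ z1 ∈ N ∨ z1 * ρ z1 ∈ N := by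
  have hp : IsPGroup 2 T := IsPGroup.of_card (n := 6) (by rw [hT]; norm_num)
  haveI : Fact (Nat.Prime 2) := ⟨Nat.prime_two⟩
  obtain ⟨z, hzN, hz1', hzc⟩ :=
    Cfsg.Agent.Lib.Helper9.exists_ne_one_mem_center_of_normal hp N hNb
  rcases center_elems hT hna ρ h3 hfp z1 hz1 hz11 z hzc with h0 | h0 | h0 | h0
  · exact absurd h0 hz1'
  · left; rw [← h0]; exact hzN
  · right; left; rw [← h0]; exact hzN
  · right; right; rw [← rho2_center hT hna ρ h3 hfp z1 hz1, ← h0]; exact hzN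

include hT hna h3 hfp in
/-- Main theorem: `T` is isomorphic to one of two models, given by presentation patterns. -/
theorem iso_models {ML MU : Type*} [Group ML] [Group MU] (hML : Nat.card ML = 64)
    (hMU : Nat.card MU = 64) {gL : Fin 4 → ML} {a1 a2 : ML} (hPL : Pat sqL cmL gL a1 a2)
    (ha1 : a1 ≠ 1) (ha2 : a2 ≠ 1) (ha12 : a1 * a2 ≠ 1) {gU : Fin 4 → MU} {b1 b2 : MU}
    (hPU : Pat sqU cmU gU b1 b2) (hb1 : b1 ≠ 1) (hb2 : b2 ≠ 1) (hb12 : b1 * b2 ≠ 1) :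
    Nonempty (T ≃* ML) ∨ Nonempty (T ≃* MU) := by
  obtain ⟨u, v, z1, hu, hv, hz1, hz11, hP⟩ := exists_pat hT hna ρ h3 hfp
  have hgen := gen_of hT hna ρ h3 hfp u v z1 hu hv hz1 hz11
  have hnz := nz_of hT hna ρ h3 hfp z1 hz1 hz11
  rcases hP with hP | hP
  · left
    exact iso_of_pat (by rw [hML, hT]) (by rw [hT]) hP hPL hgen hnz ha1 ha2 ha12
  · right
    exact iso_of_pat (by rw [hMU, hT]) (by rw [hT]) hP hPU hgen hnz hb1 hb2 hb12

end order64

end Cfsg.Agent.Lib.Helper98.Fpf64
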