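import Cfsg.Agent.Lib.Helper98.U34Model
import Cfsg.Agent.Lib.Helper98.PSL3Fusion
import Cfsg.Agent.Lib.Helper98.Pat64

/-!
# The Sylow 2-subgroup of `PSL₃(4)` as the group of upper unitriangular matrices
-/

set_option autoImplicit false
set_option linter.unusedSimpArgs false
set_option linter.style.haveILetI false
set_option linter.unusedSectionVars false

namespace Cfsg.Agent.Lib.Helper98.UT4

open Subgroup
open scoped commutatorElement
open Cfsg.Agent.Lib.Helper98.U34
open Cfsg.Agent.Lib.Helper98.Iso64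

/-- A general transfer lemma: an injective image of full `p`-power order is isomorphic to every
Sylow `p`-subgroup. -/
theorem sylow_iso_of_injective {M G : Type*} [Group M] [Group G] [Finite G] (f : M →* G)
    (hf : Function.Injective f) {p n : ℕ} [Fact p.Prime] (hM : Nat.card M = p ^ n)
    (hS : ∀ Q : Sylow p G, Nat.card Q = p ^ n) (P : Sylow p G) : Nonempty (M ≃* P) := by
  let e₁ := MonoidHom.ofInjective hf
  have hR : Nat.card f.range = p ^ n := by
    rw [← Nat.card_congr e₁.toEquiv]; exact hM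
  have hR2 : IsPGroup p f.range := IsPGroup.of_card hR
  obtain ⟨Q, hQ⟩ := hR2.exists_le_sylow
  have hRQ : f.range = (Q : Subgroup G) :=
    Subgroup.eq_of_le_of_card_ge hQ (by rw [hS Q, hR])
  let e₂ := MulEquiv.subgroupCongr hRQ
  let e₃ := Sylow.equiv Q P
  exact ⟨e₁.trans (e₂.trans e₃)⟩

section model
variable {F : Type*} [Field F]

/-- Upper unitriangular `3 × 3` matrices, by their entries. -/
@[ext] structure UT (F : Type*) [Field F] where
  a : F
  b : F
  c : F

instance : Mul (UT F) := ⟨fun x y => ⟨x.a + y.a, x.b + y.b + x.a * y.c, x.c + y.c⟩⟩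
instance : One (UT F) := ⟨⟨0, 0, 0⟩⟩
instance : Inv (UT F) := ⟨fun x => ⟨-x.a, -x.b + x.a * x.c, -x.c⟩⟩

theorem mul_a (x y : UT F) : (x * y).a = x.a + y.a := rfl
theorem mul_b (x y : UT F) : (x * y).b = x.b + y.b + x.a * y.c := rfl
theorem mul_c (x y : UT F) : (x * y).c = x.c + y.c := rfl
theorem one_a : (1 : UT F).a = 0 := rfl
theorem one_b : (1 : UT F).b = 0 := rfl
theorem one_c : (1 : UT F).c = 0 := rfl
theorem inv_a (x : UT F) : (x⁻¹).a = -x.a := rfl
theorem inv_b (x : UT F) : (x⁻¹).b = -x.b + x.a * x.c := rfl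
theorem inv_c (x : UT F) : (x⁻¹).c = -x.c := rfl

instance : Group (UT F) :=
  Group.ofLeftAxioms
    (by
      intro x y z
      apply UT.ext
      · simp only [mul_a]; ring
      · simp only [mul_a, mul_b, mul_c]; ring
      · simp only [mul_c]; ring)
    (by
      intro x
      apply UT.ext
      · simp only [mul_a, one_a]; ring
      · simp only [mul_b, one_a, one_b]; ring
      · simp only [mul_c, one_c]; ring)
    (by
      intro x
      apply UT.ext
      · simp only [mul_a, inv_a, one_a]; ring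
      · simp only [mul_b, inv_a, inv_b, one_b]; ring
      · simp only [mul_c, inv_c, one_c]; ring)

theorem sq_eq (x : UT F) : x ^ 2 = ⟨x.a + x.a, x.b + x.b + x.a * x.c, x.c + x.c⟩ := by
  rw [pow_two]; rfl

theorem comm_eq (x y : UT F) : ⁅x, y⁆ = ⟨0, x.a * y.c - y.a * x.c, 0⟩ := by
  rw [commutatorElement_def]
  apply UT.ext
  · simp only [mul_a, inv_a]; ring
  · simp only [mul_a, mul_b, mul_c, inv_a, inv_b, inv_c]; ring
  · simp only [mul_c, inv_c]; ring

/-- The equivalence with triples. -/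
def equivProd : UT F ≃ F × F × F where
  toFun x := (x.a, x.b, x.c)
  invFun t := ⟨t.1, t.2.1, t.2.2⟩
  left_inv _ := rfl
  right_inv _ := rfl

theorem card_UT [Fintype F] (hF : Fintype.card F = 4) : Nat.card (UT F) = 64 := by
  rw [Nat.card_congr equivProd, Nat.card_prod, Nat.card_prod, Nat.card_eq_fintype_card, hF]

end model

section embed
variable {F : Type*} [Field F] [Fintype F]

/-- The matrix of an element. -/
noncomputable def toSL : UT F →* Matrix.SpecialLinearGroup (Fin 3) F where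
  toFun x := ⟨Um x.a x.b x.c, L5 _ _ _⟩
  map_one' := by
    apply Subtype.ext
    change Um (0 : F) 0 0 = 1
    ext i j
    fin_cases i <;> fin_cases j <;> simp [Um]
  map_mul' x y := by
    apply Subtype.ext
    change Um _ _ _ = Um _ _ _ * Um _ _ _
    rw [L6]
    rfl

theorem toSL_coe (x : UT F) : (toSL x).1 = Um x.a x.b x.c := rfl

theorem toPSL_injective : Function.Injective
    ((QuotientGroup.mk' (center (Matrix.SpecialLinearGroup (Fin 3) F))).comp (toSL (F := F))) := by
  rw [injective_iff_map_eq_one]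
  intro x hx
  rw [MonoidHom.comp_apply, QuotientGroup.mk'_apply, QuotientGroup.eq_one_iff,
    Matrix.SpecialLinearGroup.mem_center_iff] at hx
  obtain ⟨r, _, hr⟩ := hx
  have h01 := congrFun (congrFun hr 0) 1
  have h02 := congrFun (congrFun hr 0) 2
  have h12 := congrFun (congrFun hr 1) 2
  rw [toSL_coe] at h01 h02 h12
  simp [Um] at h01 h02 h12
  apply UT.ext
  · rw [← h01]; rfl
  · rw [← h02]; rfl
  · rw [← h12]; rfl

theorem sylow_card (hF : Fintype.card F = 4)
    (Q : Sylow 2 (Matrix.ProjectiveSpecialLinearGroup (Fin 3) F)) : Nat.card Q = 2 ^ 6 := by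
  have : Fact (Nat.Prime 2) := ⟨Nat.prime_two⟩
  have hmul := Cfsg.Agent.Lib.Helper98.PSL3Fusion.card_PSL3_mul (F := F)
  have hodd := Cfsg.Agent.Lib.Helper98.PSL3Fusion.odd_card_center (F := F)
  rw [Cfsg.Agent.Lib.Helper98.PSL3Fusion.card_GL2, hF] at hmul
  obtain ⟨k, hk⟩ := IsPGroup.iff_card.mp Q.isPGroup'
  have hidx : ¬ 2 ∣ (Q : Subgroup (Matrix.ProjectiveSpecialLinearGroup (Fin 3) F)).index :=
    Q.not_dvd_index
  have hci : Nat.card Q * (Q : Subgroup (Matrix.ProjectiveSpecialLinearGroup (Fin 3) F)).index =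
      Nat.card (Matrix.ProjectiveSpecialLinearGroup (Fin 3) F) := Subgroup.card_mul_index _
  rw [← hci, hk] at hmul
  set idx := (Q : Subgroup (Matrix.ProjectiveSpecialLinearGroup (Fin 3) F)).index with hidxdef
  set z := Nat.card (center (Matrix.SpecialLinearGroup (Fin 3) F)) with hz
  obtain ⟨m, hm⟩ := hodd
  have hidx' : idx % 2 = 1 := by omega
  norm_num at hmul
  have hprod : (idx * z) % 2 = 1 := by
    rw [Nat.mul_mod, hidx', hm]; omega
  have hmul' : 2 ^ k * (idx * z) = 60480 := by rw [← hmul]; ring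
  have hk6 : k ≤ 6 := by
    by_contra h
    push Not at h
    have h1 : 2 ^ 7 ∣ 2 ^ k := pow_dvd_pow 2 h
    have h2 : 2 ^ 7 ∣ 60480 := dvd_trans h1 ⟨_, hmul'.symm⟩
    norm_num at h2
  rw [hk]
  interval_cases k <;> first | rfl | (exfalso; omega)

/-- The unitriangular group is isomorphic to every Sylow 2-subgroup of `PSL₃(4)`. -/
theorem iso_sylow (hF : Fintype.card F = 4)
    (P : Sylow 2 (Matrix.ProjectiveSpecialLinearGroup (Fin 3) F)) :
    Nonempty (UT F ≃* ↥(P : Subgroup (Matrix.ProjectiveSpecialLinearGroup (Fin 3) F))) := by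
  have : Fact (Nat.Prime 2) := ⟨Nat.prime_two⟩
  exact sylow_iso_of_injective _ toPSL_injective (by rw [card_UT hF]; norm_num)
    (sylow_card hF) P

theorem two_eq_zero4 (hF : Fintype.card F = 4) : (2 : F) = 0 := by
  have hp : ringChar F = 2 := by
    haveI : Fact (Nat.Prime 2) := ⟨Nat.prime_two⟩
    have h4 : Fintype.card F = 2 ^ 2 := by rw [hF]; norm_num
    obtain ⟨n, hpr, hn⟩ := FiniteField.card F (ringChar F)
    rw [h4] at hn
    have : ringChar F ∣ 2 ^ 2 := by rw [hn]; exact dvd_pow_self _ n.ne_zero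
    exact (Nat.prime_dvd_prime_iff_eq hpr Nat.prime_two).mp (hpr.dvd_of_dvd_pow this)
  haveI : CharP F 2 := hp ▸ ringChar.charP F
  exact_mod_cast CharP.cast_eq_zero F 2

theorem exists_omega4 (hF : Fintype.card F = 4) : ∃ w : F, w ≠ 0 ∧ w ^ 2 = w + 1 := by
  classical
  have h2 : (2 : F) = 0 := two_eq_zero4 hF
  obtain ⟨x, hx0, hx1⟩ : ∃ x : F, x ≠ 0 ∧ x ≠ 1 := by
    by_contra hcon
    push Not at hcon
    have hsub : (Finset.univ : Finset F) ⊆ {0, 1} := by
      intro x _
      by_cases hx : x = 0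
      · simp [hx]
      · simp [hcon x hx]
    have := Finset.card_le_card hsub
    rw [Finset.card_univ, hF] at this
    have h2 : ({0, 1} : Finset F).card ≤ 2 := Finset.card_le_two
    omega
  refine ⟨x, hx0, ?_⟩
  have h3 : x ^ 3 = 1 := by
    have := FiniteField.pow_card_sub_one_eq_one x hx0
    rwa [hF] at this
  have hfac : (x - 1) * (x ^ 2 + x + 1) = 0 := by
    have : (x - 1) * (x ^ 2 + x + 1) = x ^ 3 - 1 := by ring
    rw [this, h3, sub_self]
  rcases mul_eq_zero.mp hfac with h | h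
  · exact absurd (sub_eq_zero.mp h) hx1
  · have : x ^ 2 = x + 1 - 2 * (x + 1) := by linear_combination h
    rw [this, h2]; ring

theorem patL_UT (hF : Fintype.card F = 4) (w : F) (hw : w ^ 2 = w + 1) :
    Pat sqL cmL ![(⟨1, 0, 0⟩ : UT F), ⟨w, 0, 0⟩, ⟨0, 0, 1⟩, ⟨0, 0, w⟩] ⟨0, 1, 0⟩ ⟨0, w ^ 2, 0⟩ := by
  have h2 : (2 : F) = 0 := two_eq_zero4 hF
  apply patL_of
  · rw [sq_eq]; apply UT.ext <;> simp only [one_a, one_b, one_c] <;> grind
  · rw [sq_eq]; apply UT.ext <;> simp only [one_a, one_b, one_c] <;> grind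
  · apply UT.ext <;> simp only [mul_a, mul_b, mul_c] <;> ring
  · intro x; apply UT.ext <;> simp only [mul_a, mul_b, mul_c] <;> ring
  · intro x; apply UT.ext <;> simp only [mul_a, mul_b, mul_c] <;> ring
  · rw [sq_eq]; apply UT.ext <;> simp only [one_a, one_b, one_c] <;> grind
  · rw [sq_eq]; apply UT.ext <;> simp only [one_a, one_b, one_c] <;> grind
  · rw [sq_eq]; apply UT.ext <;> simp only [one_a, one_b, one_c] <;> grind
  · rw [sq_eq]; apply UT.ext <;> simp only [one_a, one_b, one_c] <;> grind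
  · rw [comm_eq]; apply UT.ext <;> simp only [one_a, one_b, one_c] <;> ring
  · rw [comm_eq]; apply UT.ext <;> simp only [one_a, one_b, one_c] <;> ring
  · rw [comm_eq]; apply UT.ext <;> simp only [mul_a, mul_b, mul_c] <;> grind
  · rw [comm_eq]; apply UT.ext <;> simp only [mul_a, mul_b, mul_c] <;> grind
  · rw [comm_eq]; apply UT.ext <;> simp only [one_a, one_b, one_c] <;> ring
  · rw [comm_eq]; apply UT.ext <;> simp only [one_a, one_b, one_c] <;> ring

theorem patL_UT_ne (hF : Fintype.card F = 4) (w : F) (hw0 : w ≠ 0) (hw : w ^ 2 = w + 1) :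
    (⟨0, 1, 0⟩ : UT F) ≠ 1 ∧ (⟨0, w ^ 2, 0⟩ : UT F) ≠ 1 ∧
      (⟨0, 1, 0⟩ : UT F) * ⟨0, w ^ 2, 0⟩ ≠ 1 := by
  have h2 : (2 : F) = 0 := two_eq_zero4 hF
  refine ⟨?_, ?_, ?_⟩
  · intro h
    have := congrArg UT.b h
    simp [one_b] at this
  · intro h
    have := congrArg UT.b h
    simp [one_b] at this
    exact hw0 this
  · intro h
    have := congrArg UT.b h
    simp only [mul_b, one_b] at this
    apply hw0
    linear_combination this - hw - h2

end embed

end Cfsg.Agent.Lib.Helper98.UT4
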