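import Cfsg.Agent.Lib.Helper98.U320Model
import Cfsg.Agent.Lib.Helper98.UT4Model

/-!
# The Sylow 2-subgroup of `PSU₃(4)`: presentation pattern
-/

set_option autoImplicit false
set_option linter.unusedSimpArgs false
set_option linter.style.haveILetI false
set_option linter.unusedSectionVars false
set_option linter.unnecessarySeqFocus false

namespace Cfsg.Agent.Lib.Helper98.ParPat

open Subgroup
open scoped commutatorElement
open Cfsg.Agent.Lib.Helper98.U34
open Cfsg.Agent.Lib.Helper98.U320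
open Cfsg.Agent.Lib.Helper98.Iso64

section par
variable {F : Type*} [Field F] [Fintype F] {hF : Fintype.card F = 16}

theorem sq_a (x : Par hF) : (x ^ 2).a = 0 := by
  have := charP_two hF
  rw [pow_two, mul_a]; grind

theorem sq_b (x : Par hF) : (x ^ 2).b = x.a * x.a ^ 4 := by
  have := charP_two hF
  rw [pow_two, mul_b]; grind

theorem comm_a (x y : Par hF) : ⁅x, y⁆.a = 0 := by
  have := charP_two hF
  rw [commutatorElement_def]
  simp only [mul_a, inv_a]; grind

theorem comm_b (x y : Par hF) : ⁅x, y⁆.b = x.a * y.a ^ 4 + y.a * x.a ^ 4 := by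
  have := charP_two hF
  have h1 := x.h
  have h2 := y.h
  rw [commutatorElement_def]
  simp only [mul_a, mul_b, inv_a, inv_b]; grind

/-- A central element with prescribed second coordinate in the fixed field. -/
def zc (hF : Fintype.card F = 16) (k : F) (hk : k ^ 4 = k) : Par hF :=
  ⟨0, k, by have := charP_two hF; grind⟩

theorem iso_sylow (hF : Fintype.card F = 16) (P : Sylow 2 (Cfsg.PSU 3 F 4)) :
    Nonempty (Par hF ≃* ↥(P : Subgroup (Cfsg.PSU 3 F 4))) := by
  have : Fact (Nat.Prime 2) := ⟨Nat.prime_two⟩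
  obtain ⟨w, hw0, hw⟩ := exists_omega hF
  have hcard := card_PSU hF
  have hfin : Finite (Cfsg.PSU 3 F 4) := Nat.finite_of_card_ne_zero (by rw [hcard]; norm_num)
  have hΨ : Function.Injective
      ((QuotientGroup.mk' (Subgroup.center (SU 3 F 4))).comp (Phi hF w hw)) :=
    (mk_injective hF).comp (Phi_injective hF w hw)
  exact Cfsg.Agent.Lib.Helper98.UT4.sylow_iso_of_injective (p := 2) (n := 6) _ hΨ
    (by rw [card_par]; norm_num) (fun Q => by rw [U34.sylow_card hF Q]; norm_num) P

end par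

section pat
variable {F : Type*} [Field F] [Fintype F] (hF : Fintype.card F = 16)
variable (l θ : F) (hl5 : l ^ 5 = 1) (hsum : 1 + l + l ^ 2 + l ^ 3 + l ^ 4 = 0)
  (hθ : θ + θ ^ 4 = 1)

include hF hl5 hsum in
theorem om_fix : (l ^ 2 + l ^ 3) ^ 4 = l ^ 2 + l ^ 3 := by
  have := charP_two hF
  grind

include hF hl5 hsum in
theorem om_sq_fix : ((l ^ 2 + l ^ 3) ^ 2) ^ 4 = (l ^ 2 + l ^ 3) ^ 2 := by
  have := charP_two hF
  grind

theorem one_fix : (1 : F) ^ 4 = 1 := one_pow 4

include hl5 hsum in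
theorem patU_Par :
    Pat sqU cmU ![lift hF θ hθ 1, lift hF θ hθ (l ^ 2 + l ^ 3), lift hF θ hθ l,
      lift hF θ hθ ((l ^ 2 + l ^ 3) * l)] (zc hF 1 one_fix)
      (zc hF ((l ^ 2 + l ^ 3) ^ 2) (om_sq_fix hF l hl5 hsum)) := by
  have := charP_two hF
  apply patU_of
  · apply Par.ext
    · rw [sq_a]; rfl
    · rw [sq_b]; simp only [zc, one_b]; grind
  · apply Par.ext
    · rw [sq_a]; rfl
    · rw [sq_b]; simp only [zc, one_b]; grind
  · exact z_comm hF _ _ rfl
  · intro x; exact (z_comm hF _ _ rfl).symm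
  · intro x; exact (z_comm hF _ _ rfl).symm
  · apply Par.ext
    · rw [sq_a]; rfl
    · rw [sq_b]; simp only [zc, lift]; grind
  · apply Par.ext
    · rw [sq_a]; rfl
    · rw [sq_b]; simp only [zc, lift]; grind
  · apply Par.ext
    · rw [sq_a]; rfl
    · rw [sq_b]; simp only [zc, lift]; grind
  · apply Par.ext
    · rw [sq_a]; rfl
    · rw [sq_b]; simp only [zc, lift]; grind
  · apply Par.ext
    · rw [comm_a]; rfl
    · rw [comm_b]; simp only [zc, lift, one_b]; grind
  · apply Par.ext
    · rw [comm_a]; rfl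
    · rw [comm_b]; simp only [zc, lift]; grind
  · apply Par.ext
    · rw [comm_a]; rfl
    · rw [comm_b]; simp only [zc, lift]; grind
  · apply Par.ext
    · rw [comm_a]; rfl
    · rw [comm_b]; simp only [zc, lift]; grind
  · apply Par.ext
    · rw [comm_a, mul_a]; simp only [zc]; grind
    · rw [comm_b, mul_b]; simp only [zc, lift]; grind
  · apply Par.ext
    · rw [comm_a]; rfl
    · rw [comm_b]; simp only [zc, lift, one_b]; grind

include hF hl5 in
theorem om_ne_zero (hl1 : l ≠ 1) : l ^ 2 + l ^ 3 ≠ 0 := by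
  have := charP_two hF
  intro h
  have h1 : l ^ 2 * (1 + l) = 0 := by linear_combination h
  rcases mul_eq_zero.mp h1 with h2 | h2
  · have h0 : l = 0 := pow_eq_zero_iff (two_ne_zero) |>.mp h2
    rw [h0] at hl5
    simp at hl5
  · apply hl1
    grind

include hl5 hsum in
theorem patU_Par_ne (hl1 : l ≠ 1) :
    zc hF 1 one_fix ≠ 1 ∧ zc hF ((l ^ 2 + l ^ 3) ^ 2) (om_sq_fix hF l hl5 hsum) ≠ 1 ∧
      zc hF 1 one_fix * zc hF ((l ^ 2 + l ^ 3) ^ 2) (om_sq_fix hF l hl5 hsum) ≠ 1 := by
  have := charP_two hF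
  have hom := om_ne_zero hF l hl5 hl1
  refine ⟨?_, ?_, ?_⟩
  · intro h
    have := congrArg Par.b h
    simp [zc, one_b] at this
  · intro h
    have := congrArg Par.b h
    simp only [zc, one_b] at this
    exact hom (pow_eq_zero_iff (two_ne_zero) |>.mp this)
  · intro h
    have := congrArg Par.b h
    simp only [zc, mul_b, one_b] at this
    apply hom
    grind

end pat

end Cfsg.Agent.Lib.Helper98.ParPat
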