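import Cfsg.Agent.Lib.Helper98.Fpf64D
import Cfsg.Agent.Lib.Helper98.ParPat

/-!
# Nonabelian groups of order 64 with a fixed-point-free automorphism of order three

Such a group is isomorphic to a Sylow 2-subgroup of `PSL₃(4)` or of `PSU₃(4)`.
-/

set_option autoImplicit false
set_option linter.unusedSimpArgs false
set_option linter.style.haveILetI false
set_option linter.unusedSectionVars false

namespace Cfsg.Agent.Lib.Helper98.Fpf64

open Subgroup
open scoped commutatorElement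
open Cfsg.Agent.Lib.Helper98.Iso64

/-- For fixed fields with 4 and 16 elements. -/
theorem classification_fields {T : Type*} [Group T] [Finite T] (hT : Nat.card T = 64)
    (hna : ∃ a b : T, a * b ≠ b * a) (ρ : MulAut T) (h3 : ρ ^ 3 = 1)
    (hfp : ∀ y : T, ρ y = y → y = 1)
    {F4 : Type*} [Field F4] [Fintype F4] (hF4 : Fintype.card F4 = 4)
    {F16 : Type*} [Field F16] [Fintype F16] (hF16 : Fintype.card F16 = 16) :
    (∀ P : Sylow 2 (Matrix.ProjectiveSpecialLinearGroup (Fin 3) F4),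
        Nonempty (T ≃* ↥(P : Subgroup (Matrix.ProjectiveSpecialLinearGroup (Fin 3) F4)))) ∨
      (∀ P : Sylow 2 (Cfsg.PSU 3 F16 4),
        Nonempty (T ≃* ↥(P : Subgroup (Cfsg.PSU 3 F16 4)))) := by
  obtain ⟨w, hw0, hw⟩ := UT4.exists_omega4 hF4
  obtain ⟨l, hl5, hl1, hsum⟩ := U320.exists_fifth_root hF16
  obtain ⟨θ, hθ⟩ := U34.exists_theta hF16
  have hL := UT4.patL_UT hF4 w hw
  obtain ⟨hL1, hL2, hL12⟩ := UT4.patL_UT_ne hF4 w hw0 hw
  have hU := ParPat.patU_Par hF16 l θ hl5 hsum hθ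
  obtain ⟨hU1, hU2, hU12⟩ := ParPat.patU_Par_ne hF16 l hl5 hsum hl1
  rcases iso_models hT hna ρ h3 hfp (UT4.card_UT hF4) (U34.card_par (hF := hF16)) hL hL1 hL2 hL12
    hU hU1 hU2 hU12 with ⟨⟨e⟩⟩ | ⟨⟨e⟩⟩
  · left
    intro P
    obtain ⟨e'⟩ := UT4.iso_sylow hF4 P
    exact ⟨e.trans e'⟩
  · right
    intro P
    obtain ⟨e'⟩ := ParPat.iso_sylow hF16 P
    exact ⟨e.trans e'⟩

/-- A nonabelian group of order 64 with a fixed-point-free automorphism of order three is
isomorphic to a Sylow 2-subgroup of `PSL₃(4)` or of `PSU₃(4)`. -/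
theorem classification {T : Type*} [Group T] [Finite T] (hT : Nat.card T = 64)
    (hna : ∃ a b : T, a * b ≠ b * a) (ρ : MulAut T) (h3 : ρ ^ 3 = 1)
    (hfp : ∀ y : T, ρ y = y → y = 1) :
    (∃ (F : Type) (_ : Field F) (_ : Fintype F), Fintype.card F = 4 ∧
      ∀ P : Sylow 2 (Matrix.ProjectiveSpecialLinearGroup (Fin 3) F),
        Nonempty (T ≃* ↥(P : Subgroup (Matrix.ProjectiveSpecialLinearGroup (Fin 3) F)))) ∨
    (∃ (F : Type) (_ : Field F) (_ : Fintype F), Fintype.card F = 16 ∧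
      ∀ P : Sylow 2 (Cfsg.PSU 3 F 4), Nonempty (T ≃* ↥(P : Subgroup (Cfsg.PSU 3 F 4)))) := by
  classical
  have : Fact (Nat.Prime 2) := ⟨Nat.prime_two⟩
  letI i4 : Fintype (GaloisField 2 2) := Fintype.ofFinite _
  letI i16 : Fintype (GaloisField 2 4) := Fintype.ofFinite _
  have hF4 : Fintype.card (GaloisField 2 2) = 4 := by
    rw [← Nat.card_eq_fintype_card, GaloisField.card 2 2 (by norm_num)]
    norm_num
  have hF16 : Fintype.card (GaloisField 2 4) = 16 := by
    rw [← Nat.card_eq_fintype_card, GaloisField.card 2 4 (by norm_num)]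
    norm_num
  rcases classification_fields hT hna ρ h3 hfp hF4 hF16 with h | h
  · left
    exact ⟨GaloisField 2 2, inferInstance, i4, hF4, h⟩
  · right
    exact ⟨GaloisField 2 4, inferInstance, i16, hF16, h⟩

end Cfsg.Agent.Lib.Helper98.Fpf64
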