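import Cfsg.Agent.Lib.Helper36.DihedralEight
import Cfsg.Agent.Lib.Helper35.QuaternionRecog

/-!
# Nonabelian groups of order eight are dihedral or quaternion
-/

set_option autoImplicit false
set_option linter.unusedSimpArgs false
set_option linter.style.haveILetI false
set_option linter.unusedSectionVars false

namespace Cfsg.Agent.Lib.Helper98.Order8

open Subgroup

theorem pow_cases_of_mem_zpowers {G : Type*} [Group G] (a g : G) (ha : orderOf a = 4)
    (hg : g ∈ zpowers a) : g = 1 ∨ g = a ∨ g = a ^ 2 ∨ g = a ^ 3 := by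
  obtain ⟨k, rfl⟩ := Subgroup.mem_zpowers_iff.mp hg
  have h := zpow_mod_orderOf a k
  rw [ha] at h
  have h0 : 0 ≤ k % 4 := Int.emod_nonneg k (by norm_num)
  have h4 : k % 4 < 4 := Int.emod_lt_of_pos k (by norm_num)
  rw [← h]
  obtain ⟨m, hm⟩ := Int.eq_ofNat_of_zero_le h0
  have hm4 : m < 4 := by omega
  have e : a ^ (k % ((4 : ℕ) : ℤ)) = a ^ m := by
    have : (k % ((4 : ℕ) : ℤ)) = (m : ℤ) := by exact_mod_cast hm
    rw [this, zpow_natCast]
  rw [e]
  interval_cases m
  · left; simp
  · right; left; simp
  · right; right; left; rfl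
  · right; right; right; rfl

/-- A nonabelian group of order eight is dihedral or quaternion. -/
theorem dihedral_or_quaternion {G : Type*} [Group G] (hcard : Nat.card G = 8)
    (hna : ∃ a b : G, a * b ≠ b * a) :
    Nonempty (G ≃* DihedralGroup 4) ∨ Nonempty (G ≃* QuaternionGroup 2) := by
  have hfin : Finite G := Nat.finite_of_card_ne_zero (by rw [hcard]; norm_num)
  by_cases hD : ∃ x y : G, x * x = 1 ∧ x * y ≠ y * x
  · obtain ⟨x, y, hx, hxy⟩ := hD
    exact Or.inl (Cfsg.Agent.Lib.Helper36.nonempty_mulEquiv_dihedral_four hcard x y hx hxy)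
  right
  push Not at hD
  obtain ⟨a, b, hab⟩ := hna
  have hord4 : ∀ g h : G, g * h ≠ h * g → orderOf g = 4 := by
    intro g h hgh
    rcases Cfsg.Agent.Lib.Helper36.orderOf_cases_of_card_eight hcard g with h1 | h1 | h1 | h1
    · exfalso
      rw [orderOf_eq_one_iff] at h1
      apply hgh
      rw [h1, one_mul, mul_one]
    · exfalso
      have : g * g = 1 := by
        have := pow_orderOf_eq_one g
        rwa [h1, pow_two] at this
      exact hgh (hD g h this)
    · exact h1
    · exact absurd h1 (Cfsg.Agent.Lib.Helper36.orderOf_ne_eight hcard g h hgh g)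
  have ha4 : orderOf a = 4 := hord4 a b hab
  have hb4 : orderOf b = 4 := hord4 b a (fun h => hab h.symm)
  have hA : Nat.card (zpowers a) = 4 := by rw [Nat.card_zpowers, ha4]
  have hidx : (zpowers a).index = 2 := by
    have := Subgroup.card_mul_index (zpowers a)
    rw [hA, hcard] at this
    omega
  haveI hnorm : (zpowers a).Normal := Subgroup.normal_of_index_eq_two hidx
  have hpow4 : a ^ 4 = 1 := by rw [← ha4]; exact pow_orderOf_eq_one a
  have hbA : b ∉ zpowers a := by
    intro h
    obtain ⟨k, hk⟩ := Subgroup.mem_zpowers_iff.mp h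
    apply hab
    rw [← hk]
    exact ((Commute.refl a).zpow_right k).eq
  have ha2 : a ^ 2 ≠ 1 := by
    intro h
    have := orderOf_dvd_of_pow_eq_one h
    rw [ha4] at this
    norm_num at this
  have hb2 : b ^ 2 ≠ 1 := by
    intro h
    have := orderOf_dvd_of_pow_eq_one h
    rw [hb4] at this
    norm_num at this
  -- conjugation
  have hconjmem : b * a * b⁻¹ ∈ zpowers a := hnorm.conj_mem a (mem_zpowers a) b
  have hconj : b * a * b⁻¹ = a⁻¹ := by
    rcases pow_cases_of_mem_zpowers a _ ha4 hconjmem with h | h | h | h
    · exfalso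
      have : a = 1 := by
        have := congrArg (fun g => b⁻¹ * g * b) h
        simpa [mul_assoc] using this
      rw [this] at ha2
      simp at ha2
    · exfalso
      apply hab
      have := congrArg (fun g => g * b) h
      simpa [mul_assoc] using this.symm
    · exfalso
      apply ha2
      have h1 : (b * a * b⁻¹) ^ 2 = b * a ^ 2 * b⁻¹ := by
        rw [pow_two, pow_two]; group
      have h2 : b * a ^ 2 * b⁻¹ = 1 := by
        rw [← h1, h, ← pow_mul]; exact hpow4
      have := congrArg (fun g => b⁻¹ * g * b) h2
      simpa [mul_assoc] using this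
    · rw [h]
      symm
      apply inv_eq_of_mul_eq_one_right
      rw [← pow_succ', hpow4]
  -- the square of b
  have hsqmem : b * b ∈ zpowers a := Subgroup.mul_self_mem_of_index_two hidx b
  have hsq : b * b = a ^ 2 := by
    rcases pow_cases_of_mem_zpowers a _ ha4 hsqmem with h | h | h | h
    · exfalso; apply hb2; rw [pow_two]; exact h
    · exfalso
      apply hab
      rw [← h]; simp only [mul_assoc]
    · exact h
    · exfalso
      apply hab
      have ha' : a = (b * b)⁻¹ := by
        rw [h]
        symm
        apply inv_eq_of_mul_eq_one_left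
        rw [← pow_succ', hpow4]
      rw [ha']
      group
  have hall : ∀ y : G, y ∈ zpowers a ∨ b⁻¹ * y ∈ zpowers a := by
    intro y
    by_cases hy : y ∈ zpowers a
    · exact Or.inl hy
    · right
      rw [Subgroup.mul_mem_iff_of_index_two hidx]
      constructor
      · intro h; exact absurd (inv_mem_iff.mp h) hbA
      · intro h; exact absurd h hy
  exact Cfsg.Agent.Lib.Helper35.nonempty_mulEquiv_quaternionGroup 2 a b (by rw [ha4]) hsq hconj hbA
    hall

end Cfsg.Agent.Lib.Helper98.Order8
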