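import Cfsg.Agent.Lib.Helper98.Fpf64D
import Cfsg.Agent.Lib.Helper98.Order8

/-!
# The fixed points of an involutory automorphism inverting `ρ`

`T` nonabelian of order 64 with a fixed-point-free automorphism `ρ` of order three and an
automorphism `x` with `x² = 1`, `x ρ = ρ² x`.  Then the fixed-point subgroup of `x` is nonabelian of
order eight.
-/

set_option autoImplicit false
set_option linter.unusedSimpArgs false
set_option linter.style.haveILetI false
set_option linter.unusedSectionVars false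

namespace Cfsg.Agent.Lib.Helper98.Fpf64

open Subgroup
open scoped commutatorElement
open Cfsg.Agent.Lib.Helper98.Fpf3

/-- In a finite group of exponent two, an involutory automorphism fixes at least `√|W|` elements. -/
theorem card_le_fixed_sq {W : Type*} [Group W] [Finite W] (hexp : ∀ w : W, w ^ 2 = 1)
    (X : MulAut W) (hX2 : ∀ w, X (X w) = w) (F : Subgroup W) (hF : ∀ w, w ∈ F ↔ X w = w) :
    Nat.card W ≤ Nat.card F ^ 2 := by
  have hinv : ∀ w : W, w⁻¹ = w := fun w =>
    inv_eq_of_mul_eq_one_right (by rw [← pow_two]; exact hexp w)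
  have hcomm : ∀ a b : W, a * b = b * a := by
    intro a b
    have h1 := hinv (a * b)
    rw [mul_inv_rev, hinv a, hinv b] at h1
    exact h1.symm
  let ψ : W →* W := MonoidHom.mk' (fun w => w * X w) (by
    intro a b
    simp only [map_mul]
    calc a * b * (X a * X b) = a * (b * X a) * X b := by simp only [mul_assoc]
      _ = a * (X a * b) * X b := by rw [hcomm b (X a)]
      _ = a * X a * (b * X b) := by simp only [mul_assoc])
  have hψ : ∀ w, ψ w = w * X w := fun w => rfl
  have hker : ψ.ker ≤ F := by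
    intro w hw
    rw [MonoidHom.mem_ker, hψ] at hw
    rw [hF]
    have := eq_inv_of_mul_eq_one_right hw
    rw [this, hinv]
  have hrange : ψ.range ≤ F := by
    rintro _ ⟨w, rfl⟩
    rw [hF, hψ, map_mul, hX2, hcomm]
  have h1 := Subgroup.card_mul_index ψ.ker
  rw [Subgroup.index_ker] at h1
  rw [← h1, pow_two]
  exact Nat.mul_le_mul (Subgroup.card_le_of_le hker) (Subgroup.card_le_of_le hrange)

section xaction
variable {T : Type*} [Group T] [Finite T] (hT : Nat.card T = 64)
  (hna : ∃ a b : T, a * b ≠ b * a) (ρ : MulAut T) (h3 : ρ ^ 3 = 1)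
  (hfp : ∀ y : T, ρ y = y → y = 1)
  (x : MulAut T) (hx2 : ∀ t, x (x t) = t) (hxr : ∀ t, x (ρ t) = ρ (ρ (x t)))
  (C : Subgroup T) (hC : ∀ y : T, y ∈ C ↔ x y = y)

include hfp hxr in
theorem fix_rho_fix (c : T) (hc : x c = c) (hrc : x (ρ c) = ρ c) : c = 1 := by
  rw [hxr, hc] at hrc
  have h1 : ρ c = c := ρ.injective hrc
  exact hfp c h1

include hfp hxr hC in
theorem card_inf_sq_le (K : Subgroup T) (hK : ∀ k ∈ K, ρ k ∈ K) :
    Nat.card (C ⊓ K : Subgroup T) ^ 2 ≤ Nat.card K := by
  let f : (C ⊓ K : Subgroup T) × (C ⊓ K : Subgroup T) → K := fun p =>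
    ⟨(p.1 : T) * ρ (p.2 : T), K.mul_mem p.1.2.2 (hK _ p.2.2.2)⟩
  have hinj : Function.Injective f := by
    rintro ⟨a, b⟩ ⟨a', b'⟩ hab
    have h : (a : T) * ρ (b : T) = (a' : T) * ρ (b' : T) := congrArg Subtype.val hab
    have haC : x (a : T) = a := (hC _).mp a.2.1
    have ha'C : x (a' : T) = a' := (hC _).mp a'.2.1
    have hbC : x (b : T) = b := (hC _).mp b.2.1
    have hb'C : x (b' : T) = b' := (hC _).mp b'.2.1
    set c : T := (b' : T) * (b : T)⁻¹ with hc
    have hcC : x c = c := by rw [hc, map_mul, map_inv, hbC, hb'C]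
    have hρc : ρ c = (a' : T)⁻¹ * (a : T) := by
      rw [hc, map_mul, map_inv]
      have : ρ (b' : T) = (a' : T)⁻¹ * ((a : T) * ρ (b : T)) := by rw [h]; group
      rw [this]; group
    have hρcC : x (ρ c) = ρ c := by rw [hρc, map_mul, map_inv, haC, ha'C]
    have hc1 := fix_rho_fix ρ hfp x hxr c hcC hρcC
    have hbb : (b' : T) = b := by
      have := congrArg (· * (b : T)) hc1
      simpa [hc] using this
    have haa : (a : T) = a' := by
      rw [hbb] at h
      exact mul_right_cancel h
    exact Prod.ext (Subtype.ext haa) (Subtype.ext hbb.symm)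
  have := Nat.card_le_card_of_injective f hinj
  rw [Nat.card_prod, ← pow_two] at this
  exact this

include hT hna h3 hfp hx2 in
theorem exists_z0 : ∃ z0 ∈ center T, z0 ≠ 1 ∧ x z0 = z0 := by
  have hZ := card_center hT hna ρ h3 hfp
  have hnt : Nontrivial (center T) := by
    apply (Finite.one_lt_card_iff_nontrivial).mp
    rw [hZ]; norm_num
  obtain ⟨⟨z, hz⟩, hz1⟩ := exists_ne (1 : center T)
  have hz1' : z ≠ 1 := fun h => hz1 (Subtype.ext h)
  have hxz : x z ∈ center T := inv_center x z hz
  by_cases hb : z * x z = 1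
  · refine ⟨z, hz, hz1', ?_⟩
    have := eq_inv_of_mul_eq_one_right hb
    rw [this, center_inv hT hna ρ h3 hfp z hz]
  · refine ⟨z * x z, mul_mem hz hxz, hb, ?_⟩
    rw [map_mul, hx2]
    exact (mem_center_iff.mp hz (x z))

include hT hna h3 hfp hx2 hxr in
theorem fixed_center (z0 : T) (hz0 : z0 ∈ center T) (hz01 : z0 ≠ 1) (hxz0 : x z0 = z0) (ζ : T)
    (hζ : ζ ∈ center T) (hxζ : x ζ = ζ) : ζ = 1 ∨ ζ = z0 := by
  rcases center_elems hT hna ρ h3 hfp z0 hz0 hz01 ζ hζ with h | h | h | h
  · exact Or.inl h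
  · exact Or.inr h
  · exfalso
    rw [h] at hxζ
    exact hz01 (fix_rho_fix ρ hfp x hxr z0 hxz0 hxζ)
  · exfalso
    rw [h] at hxζ
    have h1 : x (ρ z0) = ρ (ρ z0) := by rw [hxr, hxz0]
    have h2 : x (ρ (ρ z0)) = ρ z0 := by rw [← h1, hx2]
    rw [h2] at hxζ
    have h4 : z0 = ρ z0 := ρ.injective hxζ
    exact hz01 (hfp z0 h4.symm)

include hT hna h3 hfp hx2 hxr hC in
theorem eight_le_card_C : 8 ≤ Nat.card C := by
  have hc2 := c2 hT hna ρ h3 hfp
  obtain ⟨z0, hz0, hz01, hxz0⟩ := exists_z0 hT hna ρ h3 hfp x hx2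
  have hZ := card_center hT hna ρ h3 hfp
  have hQ : Nat.card (T ⧸ center T) = 16 := by
    have := Subgroup.card_eq_card_quotient_mul_card_subgroup (center T)
    rw [hT, hZ] at this
    omega
  -- the fixed points on the quotient
  have hexp : ∀ w : T ⧸ center T, w ^ 2 = 1 := by
    intro w
    induction w using QuotientGroup.induction_on with
    | H y =>
      rw [← QuotientGroup.mk_pow]
      exact (QuotientGroup.eq_one_iff _).mpr (hc2.sq y)
  have hX2 : ∀ w, sig x (sig x w) = w := by
    intro w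
    induction w using QuotientGroup.induction_on with
    | H y => rw [sig_mk, sig_mk, hx2]
  let F : Subgroup (T ⧸ center T) :=
    { carrier := {w | sig x w = w}
      mul_mem' := by
        intro a b ha hb
        change sig x (a * b) = a * b
        rw [map_mul, ha, hb]
      one_mem' := map_one _
      inv_mem' := by
        intro a ha
        change sig x a⁻¹ = a⁻¹
        rw [map_inv, ha] }
  have hF : ∀ w, w ∈ F ↔ sig x w = w := fun w => Iff.rfl
  have h16 := card_le_fixed_sq hexp (sig x) hX2 F hF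
  rw [hQ] at h16
  have hF4 : 4 ≤ Nat.card F := by
    by_contra hlt
    push Not at hlt
    have : Nat.card F ≤ 3 := by omega
    have : Nat.card F ^ 2 ≤ 3 ^ 2 := Nat.pow_le_pow_left this 2
    omega
  -- the restriction of the quotient map to `C`
  let f : C →* T ⧸ center T := (QuotientGroup.mk' (center T)).comp C.subtype
  have hf : ∀ c : C, f c = QuotientGroup.mk (c : T) := fun c => rfl
  have hrange : F ≤ f.range := by
    intro w hw
    induction w using QuotientGroup.induction_on with
    | H t =>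
      rw [hF, sig_mk] at hw
      have hζ : t⁻¹ * x t ∈ center T := QuotientGroup.eq.mp hw.symm
      have hxζ : x (t⁻¹ * x t) = t⁻¹ * x t := by
        rw [map_mul, map_inv, hx2]
        have := center_inv hT hna ρ h3 hfp _ hζ
        rw [mul_inv_rev, inv_inv] at this
        exact this
      rcases fixed_center hT hna ρ h3 hfp x hx2 hxr z0 hz0 hz01 hxz0 _ hζ hxζ with h | h
      · have htC : t ∈ C := by
          rw [hC]
          have := congrArg (t * ·) h
          simpa using this
        exact ⟨⟨t, htC⟩, rfl⟩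
      · have hxt : x t = t * z0 := by
          have := congrArg (t * ·) h
          simpa using this
        have hρz : ρ z0 ∈ center T := inv_center ρ _ hz0
        have h1 : x (ρ z0) = z0 * ρ z0 := by
          rw [hxr, hxz0, rho2_center hT hna ρ h3 hfp z0 hz0]
        have htC : t * ρ z0 ∈ C := by
          rw [hC, map_mul, hxt, h1]
          have hz2 : z0 * z0 = 1 := by
            rw [← pow_two]; exact center_sq hT hna ρ h3 hfp z0 hz0
          calc t * z0 * (z0 * ρ z0) = t * (z0 * z0) * ρ z0 := by simp only [mul_assoc]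
            _ = t * ρ z0 := by rw [hz2, mul_one]
        refine ⟨⟨t * ρ z0, htC⟩, ?_⟩
        rw [hf]
        change ((t * ρ z0 : T) : T ⧸ center T) = (t : T ⧸ center T)
        rw [QuotientGroup.eq]
        have : (t * ρ z0)⁻¹ * t = (ρ z0)⁻¹ := by group
        rw [this]
        exact inv_mem hρz
  have hker : 2 ≤ Nat.card f.ker := by
    have hz0C : z0 ∈ C := (hC z0).mpr hxz0
    have hmem : (⟨z0, hz0C⟩ : C) ∈ f.ker := by
      rw [MonoidHom.mem_ker, hf]
      exact (QuotientGroup.eq_one_iff _).mpr hz0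
    have hnt : Nontrivial f.ker :=
      ⟨⟨⟨⟨z0, hz0C⟩, hmem⟩, 1, fun h => hz01 (congrArg (fun k : f.ker => ((k : C) : T)) h)⟩⟩
    exact (Finite.one_lt_card_iff_nontrivial).mpr hnt
  have h1 := Subgroup.card_mul_index f.ker
  rw [Subgroup.index_ker] at h1
  have h2 := Subgroup.card_le_of_le hrange
  calc 8 = 2 * 4 := by norm_num
    _ ≤ Nat.card f.ker * Nat.card f.range := Nat.mul_le_mul hker (le_trans hF4 h2)
    _ = Nat.card C := h1

include hT hna h3 hfp hx2 hxr hC in
theorem card_C : Nat.card C = 8 := by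
  have h8 := eight_le_card_C hT hna ρ h3 hfp x hx2 hxr C hC
  have hle := card_inf_sq_le ρ hfp x hxr C hC ⊤ (fun k _ => mem_top _)
  rw [inf_top_eq, Subgroup.card_top, hT] at hle
  have : Nat.card C ≤ 8 := by
    by_contra hgt
    push Not at hgt
    have : 9 ^ 2 ≤ Nat.card C ^ 2 := Nat.pow_le_pow_left hgt 2
    omega
  omega

include hT hna h3 hfp hx2 hxr hC in
theorem C_nonabelian : ∃ a b : C, a * b ≠ b * a := by
  have hcard := card_C hT hna ρ h3 hfp x hx2 hxr C hC
  have hZ := card_center hT hna ρ h3 hfp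
  obtain ⟨c1, hc1C, hc1Z⟩ : ∃ c1 ∈ C, c1 ∉ center T := by
    by_contra hcon
    push Not at hcon
    have : C ≤ center T := fun c hc => hcon c hc
    have := Subgroup.card_le_of_le this
    omega
  have hE := card_E hT hna ρ h3 hfp c1 hc1Z
  have hle := card_inf_sq_le ρ hfp x hxr C hC (E ρ c1) (E_inv ρ h3 hfp c1)
  rw [hE] at hle
  have h4 : Nat.card (C ⊓ E ρ c1 : Subgroup T) ≤ 4 := by
    by_contra hgt
    push Not at hgt
    have : 5 ^ 2 ≤ Nat.card (C ⊓ E ρ c1 : Subgroup T) ^ 2 := Nat.pow_le_pow_left hgt 2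
    omega
  obtain ⟨c2, hc2C, hc2E⟩ : ∃ c2 ∈ C, c2 ∉ E ρ c1 := by
    by_contra hcon
    push Not at hcon
    have : C ⊓ E ρ c1 = C := inf_eq_left.mpr (fun c hc => hcon c hc)
    rw [this, hcard] at h4
    omega
  have hne := comm_ne_one hT hna ρ h3 hfp c1 c2 hc1Z hc2E
  refine ⟨⟨c1, hc1C⟩, ⟨c2, hc2C⟩, ?_⟩
  intro h
  apply hne
  rw [commutatorElement_eq_one_iff_mul_comm]
  exact congrArg Subtype.val h

include hT hna h3 hfp hx2 hxr hC in
/-- The fixed points of `x` form a dihedral or quaternion group of order eight. -/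
theorem C_dihedral_or_quaternion :
    Nonempty (↥C ≃* DihedralGroup 4) ∨ Nonempty (↥C ≃* QuaternionGroup 2) :=
  Order8.dihedral_or_quaternion (card_C hT hna ρ h3 hfp x hx2 hxr C hC)
    (C_nonabelian hT hna ρ h3 hfp x hx2 hxr C hC)

end xaction

end Cfsg.Agent.Lib.Helper98.Fpf64
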