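import Cfsg.Agent.S5160
import Cfsg.Agent.Lib.Helper98.FusionCentralConj

/-!
# Simplicity criterion for group fusion systems without the radical hypothesis

The proof of S5160 (helper87) never uses the `IsRadical` conjunct of its hypothesis (b).  Here is the
variant without it, together with the "central elements conjugate to a generating set" criterion
in that generality.
-/

set_option autoImplicit false

namespace Cfsg.Agent.Lib.Helper98.FusionNoRadical

open Cfsg Cfsg.FusionSystem Cfsg.Agent.Lib.Helper85 Cfsg.Agent.Lib.Helper87 Cfsg.Agent.Lib.Helper88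

/-- Variant of S5160 where `R` runs over the fully normalized centric subgroups. -/
theorem isSimple_of_hb {G : Type*} [Group G] [Finite G] (p : ℕ) [Fact p.Prime] (S : Sylow p G)
    (hS1 : (S : Subgroup G) ≠ ⊥)
    (ha : ∀ T : Subgroup G, (Cfsg.groupFusionSystem (S : Subgroup G)).StronglyClosed T →
      T = ⊥ ∨ T = (S : Subgroup G))
    (hb : Cfsg.autInducedBy ⊤ (S : Subgroup G) ≤ ⨆ (R : Subgroup G)
      (_ : (Cfsg.groupFusionSystem (S : Subgroup G)).IsFullyNormalized R ∧
        (Cfsg.groupFusionSystem (S : Subgroup G)).IsCentric R),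
      Cfsg.autInducedBy (Subgroup.closure {g : G | g ∈ Subgroup.normalizer (R : Set G) ∧
        ∃ k : ℕ, orderOf g = p ^ k}) (S : Subgroup G)) :
    (Cfsg.groupFusionSystem (S : Subgroup G)).IsSimple p := by
  have hS : IsPGroup p (S : Subgroup G) := S.isPGroup'
  have hF : (Cfsg.groupFusionSystem (S : Subgroup G)).IsSaturated p :=
    Cfsg.Agent.Lib.Helper85.groupFusionSystem_isSaturated S
  refine ⟨hF, hS1, ?_⟩
  intro T E hE
  obtain ⟨⟨hEsat, -, hEinv⟩, -⟩ := hE
  have hTsc : (Cfsg.groupFusionSystem (S : Subgroup G)).StronglyClosed T := hEinv.2.1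
  rcases ha T hTsc with h | h
  · exact Or.inl h
  · right
    subst h
    refine ⟨rfl, fun P => ?_⟩
    have hEF : E.IsSubsystemOf (Cfsg.groupFusionSystem (S : Subgroup G)) := hEinv.1
    have hSI : Invariance.SIProp E (Cfsg.groupFusionSystem (S : Subgroup G)) :=
      (Invariance.invariant_iff_strong p hS _ hF E hEF hTsc).1 hEinv
    have hfrat := hEinv.2.2.2
    have hkey : (Cfsg.groupFusionSystem (S : Subgroup G)).autGroup (S : Subgroup G) ≤
        E.autGroup (S : Subgroup G) := by
      have h1 : (Cfsg.groupFusionSystem (S : Subgroup G)).autGroup (S : Subgroup G) ≤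
          Cfsg.autInducedBy ⊤ (S : Subgroup G) := by
        intro α hα
        have h2 := (Cfsg.Agent.Lib.Helper87.mem_autGroup_iff _ le_rfl).1 hα
        obtain ⟨-, -, g, hg⟩ := h2
        exact mem_autInducedBy_iff.2 ⟨g, Subgroup.mem_top g, fun x => hg x⟩
      refine (h1.trans hb).trans ?_
      refine iSup_le fun R => iSup_le fun hR => ?_
      obtain ⟨hRfn, hRc⟩ := hR
      have hRS : R ≤ (S : Subgroup G) := hRc.1
      have hRa := (fullyAutomized_receptive_of_fullyNormalized _ hS hF hRfn).1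
      have hsub : ∀ g ∈ Subgroup.closure {g : G | g ∈ Subgroup.normalizer (R : Set G) ∧
          ∃ k : ℕ, orderOf g = p ^ k},
          ∃ β ∈ E.autGroup R, ∀ x : R, ((β x : R) : G) = g * (x : G) * g⁻¹ := by
        intro g hg
        induction hg using Subgroup.closure_induction with
        | mem g hg =>
          obtain ⟨hgN, k, hk⟩ := hg
          refine ⟨conjAut R g hgN, ?_, fun x => rfl⟩
          have hγF : conjAut R g hgN ∈ (Cfsg.groupFusionSystem (S : Subgroup G)).autGroup R := by
            rw [Cfsg.Agent.Lib.Helper87.mem_autGroup_iff _ hRS]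
            exact ⟨hRS, fun x => hRS (conjAut R g hgN x).2, g, fun x => rfl⟩
          have hpow : conjAut R g hgN ^ p ^ k = 1 := by
            ext x
            rw [conj_pow_apply (g := g) (fun y => rfl), ← hk, pow_orderOf_eq_one]
            simp
          exact Cfsg.Agent.S5160.pElement_mem_autGroup E _ hSI hRa hγF hpow
        | one => exact ⟨1, Subgroup.one_mem _, fun x => by simp⟩
        | mul a b _ _ iha ihb =>
          obtain ⟨β₁, hβ₁, h₁⟩ := iha
          obtain ⟨β₂, hβ₂, h₂⟩ := ihb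
          refine ⟨β₁ * β₂, Subgroup.mul_mem _ hβ₁ hβ₂, fun x => ?_⟩
          rw [MulAut.mul_apply, h₁, h₂]
          simp [mul_assoc]
        | inv a _ iha =>
          obtain ⟨β₁, hβ₁, h₁⟩ := iha
          refine ⟨β₁⁻¹, Subgroup.inv_mem _ hβ₁, fun x => ?_⟩
          have := h₁ (β₁⁻¹ x)
          rw [MulAut.apply_inv_self] at this
          rw [this]
          simp [mul_assoc]
      intro α hα
      obtain ⟨g, hg, hgα⟩ := mem_autInducedBy_iff.1 hα
      obtain ⟨β, hβ, hβg⟩ := hsub g hg
      rw [Cfsg.Agent.Lib.Helper87.mem_autGroup_iff E le_rfl]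
      have hψF : (S : Subgroup G).subtype.comp (α : (S : Subgroup G) ≃* (S : Subgroup G)).toMonoidHom ∈
          (Cfsg.groupFusionSystem (S : Subgroup G)).Hom (S : Subgroup G) :=
        ⟨le_rfl, fun x => (α x).2, g, fun x => hgα x⟩
      refine mem_of_restrict_centric_mem _ E hS hF hEsat hEF hRS hRc hψF ?_
      have hβE := (Cfsg.Agent.Lib.Helper87.mem_autGroup_iff E hRS).1 hβ
      refine hom_of_eq_on E rfl hβE (fun x hx _ => ?_)
      show ((α ⟨x, hRS hx⟩ : (S : Subgroup G)) : G) = ((β ⟨x, hx⟩ : R) : G)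
      rw [hgα, hβg]
    apply Set.Subset.antisymm (hEF P)
    intro φ hφ
    have hPS : P ≤ (S : Subgroup G) := hom_le _ hφ
    obtain ⟨α, hα, φ₀, hφ₀, hφeq⟩ := hfrat P hPS φ hφ
    have hαE := (Cfsg.Agent.Lib.Helper87.mem_autGroup_iff E le_rfl).1 (hkey hα)
    exact comp_mem' E hφ₀ hαE (fun x => hom_map_mem E hφ₀ x) (fun x => hφeq x _)


/-- The "no proper nontrivial strongly closed subgroup" half of the central-conjugacy criterion. -/
theorem ha_of_central_conj {G : Type*} [Group G] [Finite G] (p : ℕ) [Fact p.Prime] (S : Sylow p G)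
    (X : Set G) (hXS : X ⊆ (S : Subgroup G))
    (hgen : ∀ T : Subgroup G, T ≤ (S : Subgroup G) → FusionCyclicQuot.FusClosed T (S : Subgroup G) →
      X ⊆ T → (S : Subgroup G) ≤ T)
    (hX : ∀ z ∈ (S : Subgroup G), (∀ s ∈ (S : Subgroup G), s * z = z * s) → orderOf z = p →
      ∀ x ∈ X, IsConj z x) :
    ∀ T : Subgroup G, (Cfsg.groupFusionSystem (S : Subgroup G)).StronglyClosed T →
      T = ⊥ ∨ T = (S : Subgroup G) := by
  have hSp : IsPGroup p (S : Subgroup G) := S.isPGroup'
  intro T hT
  have hTS : T ≤ (S : Subgroup G) := hT.1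
  have hfc := FusionCyclicQuot.fusClosed_of_stronglyClosed hT
  by_cases hTbot : T = ⊥
  · exact Or.inl hTbot
  right
  apply le_antisymm hTS
  have hnorm : (T.subgroupOf (S : Subgroup G)).Normal := by
    constructor
    intro n hn g
    rw [Subgroup.mem_subgroupOf] at hn ⊢
    exact hfc _ hn (g : G) ((S : Subgroup G).mul_mem ((S : Subgroup G).mul_mem g.2 n.2)
      ((S : Subgroup G).inv_mem g.2))
  have hne : T.subgroupOf (S : Subgroup G) ≠ ⊥ := by
    intro h
    rw [Subgroup.subgroupOf_eq_bot, disjoint_iff, inf_eq_left.2 hTS] at h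
    exact hTbot h
  obtain ⟨z, hzT, hzo, hzc⟩ := FusionCentralConj.exists_central_of_normal p hSp
    (T.subgroupOf (S : Subgroup G)) hne
  rw [Subgroup.mem_subgroupOf] at hzT
  have hzo' : orderOf (z : G) = p := by rw [Subgroup.orderOf_coe]; exact hzo
  have hzc' : ∀ s ∈ (S : Subgroup G), s * (z : G) = (z : G) * s := by
    intro s hs
    exact congrArg Subtype.val (hzc ⟨s, hs⟩)
  apply hgen T hTS hfc
  intro x hx
  obtain ⟨g, hg⟩ := isConj_iff.1 (hX (z : G) z.2 hzc' hzo' x hx)
  have := hfc (z : G) hzT g (by rw [hg]; exact hXS hx)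
  rwa [hg] at this

/-- A subgroup of `S` normal in `S` is fully normalized in `F_S(G)`. -/
theorem isFullyNormalized_of_normal {G : Type*} [Group G] [Finite G] {S R : Subgroup G} (hRS : R ≤ S)
    (hn : S ≤ Subgroup.normalizer (R : Set G)) : (Cfsg.groupFusionSystem S).IsFullyNormalized R := by
  refine ⟨hRS, fun R' _ => ?_⟩
  have h1 : Cfsg.FusionSystem.normalizerIn S R = S := by
    unfold Cfsg.FusionSystem.normalizerIn
    exact inf_eq_left.2 hn
  rw [h1]
  exact Subgroup.card_le_of_le (by unfold Cfsg.FusionSystem.normalizerIn; exact inf_le_left)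

/-- A subgroup of `S` containing its centralizer in `G` is centric in `F_S(G)`. -/
theorem isCentric_of_centralizer_le {G : Type*} [Group G] {S R : Subgroup G} (hRS : R ≤ S)
    (hc : ∀ g : G, (∀ r ∈ R, g * r = r * g) → g ∈ R) : (Cfsg.groupFusionSystem S).IsCentric R := by
  refine ⟨hRS, ?_⟩
  rintro R' ⟨ψ, ⟨-, -, g, hg⟩, rfl⟩
  intro x hx
  have hx2 : x ∈ Subgroup.centralizer ((ψ.range : Subgroup G) : Set G) := hx.2
  rw [Subgroup.mem_centralizer_iff] at hx2
  have h1 : g⁻¹ * x * g ∈ R := by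
    apply hc
    intro r hr
    have h2 := hx2 (ψ ⟨r, hr⟩) ⟨⟨r, hr⟩, rfl⟩
    rw [hg] at h2
    simp only at h2
    calc g⁻¹ * x * g * r = g⁻¹ * (x * (g * r * g⁻¹)) * g := by group
      _ = g⁻¹ * ((g * r * g⁻¹) * x) * g := by rw [h2]
      _ = r * (g⁻¹ * x * g) := by group
  refine ⟨⟨g⁻¹ * x * g, h1⟩, ?_⟩
  rw [hg]
  simp only
  group

/-- **Criterion with one auxiliary subgroup `R`.** `R ⊴ S` self-centralizing in `G`, and `N_G(S)` inside the
subgroup generated by the `p`-elements of `N_G(R)`. -/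
theorem isSimple_of_normalizer_le {G : Type*} [Group G] [Finite G] (p : ℕ) [Fact p.Prime] (S : Sylow p G)
    (hS1 : (S : Subgroup G) ≠ ⊥)
    (ha : ∀ T : Subgroup G, (Cfsg.groupFusionSystem (S : Subgroup G)).StronglyClosed T →
      T = ⊥ ∨ T = (S : Subgroup G))
    (R : Subgroup G) (hRS : R ≤ (S : Subgroup G))
    (hn : (S : Subgroup G) ≤ Subgroup.normalizer (R : Set G))
    (hc : ∀ g : G, (∀ r ∈ R, g * r = r * g) → g ∈ R)
    (hN : Subgroup.normalizer (((S : Subgroup G)) : Set G) ≤
      Subgroup.closure {g : G | g ∈ Subgroup.normalizer (R : Set G) ∧ ∃ k : ℕ, orderOf g = p ^ k}) :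
    (Cfsg.groupFusionSystem (S : Subgroup G)).IsSimple p := by
  apply isSimple_of_hb p S hS1 ha
  refine le_trans ?_ (le_iSup₂ (f := fun (R : Subgroup G)
    (_ : (Cfsg.groupFusionSystem (S : Subgroup G)).IsFullyNormalized R ∧
      (Cfsg.groupFusionSystem (S : Subgroup G)).IsCentric R) =>
    Cfsg.autInducedBy (Subgroup.closure {g : G | g ∈ Subgroup.normalizer (R : Set G) ∧
      ∃ k : ℕ, orderOf g = p ^ k}) (S : Subgroup G)) R
    ⟨isFullyNormalized_of_normal hRS hn, isCentric_of_centralizer_le hRS hc⟩)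
  intro α hα
  obtain ⟨g, -, hg⟩ := mem_autInducedBy_iff.1 hα
  have hgN : g ∈ Subgroup.normalizer (((S : Subgroup G)) : Set G) :=
    FusionSelfNorm.mem_normalizer_of_induces α hg
  exact mem_autInducedBy_iff.2 ⟨g, hN hgN, hg⟩

end Cfsg.Agent.Lib.Helper98.FusionNoRadical
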