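import Cfsg.Agent.Lib.Helper98.PSL3Fusion
import Cfsg.Agent.Lib.Helper20.CentInv

/-!
# Groups with quasi-dihedral or wreathed Sylow 2-subgroups and no subgroup of index 2 have a simple 2-fusion system
-/

set_option autoImplicit false

namespace Cfsg.Agent.Lib.Helper98.FusionQDWr

open Cfsg

variable {G : Type*} [Group G] [Finite G]

/-- In a finite group with quasi-dihedral or wreathed Sylow 2-subgroups and no subgroup of index 2 all involutions are
conjugate (from helper20's `CentInv`). -/
theorem isConj_involutions (S : Sylow 2 G)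
    (hS : IsQuasiDihedral (S : Subgroup G) ∨ IsWreathed (S : Subgroup G))
    (hG : ∀ H : Subgroup G, H.index ≠ 2) (s t : G) (hs : orderOf s = 2) (ht : orderOf t = 2) :
    IsConj s t := by
  rcases hS with hS | hS
  · obtain ⟨n, xs, ys, d⟩ := Cfsg.Agent.Lib.Helper20.QD.exists_data hS
    exact (Cfsg.Agent.Lib.Helper20.CI.isConj_Z_of_no_index_two S d hG s hs).symm.trans
      (Cfsg.Agent.Lib.Helper20.CI.isConj_Z_of_no_index_two S d hG t ht)
  · obtain ⟨n, xs, ys, zs, h⟩ := Cfsg.Agent.Lib.Helper38.exists_isWr hS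
    have h1 := Cfsg.Agent.Lib.Helper20.CI.rU_six_of_no_index_two S h hG
    have h2 := Cfsg.Agent.Lib.Helper20.CI.rV_six_of_no_index_two S h hG
    exact (Cfsg.Agent.Lib.Helper20.CI.isConj_e_of_six_six S h h1 h2 s hs).symm.trans
      (Cfsg.Agent.Lib.Helper20.CI.isConj_e_of_six_six S h h1 h2 t ht)

/-- **Theorem.** A finite group with quasi-dihedral or wreathed Sylow 2-subgroups and no subgroup of index 2 has a
simple 2-fusion system. -/
theorem isSimple_of_qd_or_wreathed (S : Sylow 2 G)
    (hS : IsQuasiDihedral (S : Subgroup G) ∨ IsWreathed (S : Subgroup G))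
    (hG : ∀ H : Subgroup G, H.index ≠ 2) :
    (groupFusionSystem (S : Subgroup G)).IsSimple 2 := by
  obtain ⟨h16, x, hx, hgen⟩ := PSL3Fusion.exists_gen (S : Subgroup G) hS
  have hS1 : (S : Subgroup G) ≠ ⊥ := by
    intro h
    rw [h, Subgroup.card_bot] at h16
    omega
  exact FusionCyclicQuot.isSimple_of_cyclic_quot S hS1 hG (isConj_involutions S hS hG) x hx hgen
    (FusionCyclicQuot.aut_eq_of_forall (OddAut.exists_inner_of_qd_or_wreathed S hS))

end Cfsg.Agent.Lib.Helper98.FusionQDWr
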