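import Mathlib
import Cfsg.Agent.Lib.Helper76.GOut.QFDefs
import Cfsg.Agent.Lib.Helper65.GOutQFRad
import Cfsg.Agent.Lib.Helper47.GOutQFK
import Cfsg.Agent.Lib.Helper98.GOutQFInv
import Cfsg.Agent.Lib.Helper47.GOutQFT

/-! # GOUT-[QF-SURJ] (project GOUT = S3066, coordinator helper76)

Consequences of `|k| = |[V,g]| = |L|` when `R` has an involution acting nontrivially.
-/

set_option autoImplicit false
set_option linter.unusedSectionVars false
set_option linter.unusedVariables false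

namespace Cfsg.Agent.Lib.Helper76.GOut

variable {V : Type*} [AddCommGroup V] [Module (ZMod 2) V] [Finite V]
variable {R : Type*} [Group R]

theorem finite_inv_h98 (ρ : R →* (V ≃ₗ[ZMod 2] V)) : Finite {q : V → ZMod 2 // IsInv ρ q} :=
  Subtype.finite

theorem finite_comm_h98 (ρ : R →* (V ≃ₗ[ZMod 2] V)) : Finite (Comm ρ) := by
  have : Finite (Module.End (ZMod 2) V) :=
    Finite.of_injective (fun f : Module.End (ZMod 2) V => (f : V → V)) DFunLike.coe_injective
  exact Subtype.finite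

/-- `|L| ≤ |k| ≤ |[V,g]| ≤ |L|`. -/
theorem card_eq_of_involution_h98 {ρ : R →* (V ≃ₗ[ZMod 2] V)} (h : Hyp ρ)
    (g : R) (hg : g * g = 1) (hg1 : ρ g ≠ 1) :
    Nat.card (Comm ρ) = Nat.card {q : V → ZMod 2 // IsInv ρ q} ∧
      Nat.card (commRange ρ g) = Nat.card (Comm ρ) := by
  have h1 := card_comm_le_card_commRange h g hg1
  have h2 := card_commRange_le_card_inv h g hg
  have h3 := card_inv_le h
  omega

omit [Finite V] in
/-- Two invariant forms with the same polar form are equal. -/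
theorem eq_of_polar_eq_h98 [Finite V] {ρ : R →* (V ≃ₗ[ZMod 2] V)} (h : Hyp ρ) {q q' : V → ZMod 2}
    (hq : IsInv ρ q) (hq' : IsInv ρ q') (hp : ∀ u v : V, polar q u v = polar q' u v) : q = q' := by
  have hz := eq_zero_of_polar_eq_zero h (IsInv.add hq hq') (by
    intro u v
    have := hp u v
    unfold polar at this ⊢
    have h2 : ∀ a b c a' b' c' : ZMod 2, a + b + c = a' + b' + c' →
        a + a' + (b + b') + (c + c') = 0 := by decide
    exact h2 _ _ _ _ _ _ this)
  funext v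
  have := hz v
  have h2 : ∀ a b : ZMod 2, a + b = 0 → a = b := by decide
  exact h2 _ _ this

/-- If `R` has an involution acting nontrivially, every `a ∈ k` comes from an invariant form. -/
theorem exists_inv_of_comm {ρ : R →* (V ≃ₗ[ZMod 2] V)} (h : Hyp ρ)
    (hinv : ∃ g : R, g * g = 1 ∧ ρ g ≠ 1) {q₀ : V → ZMod 2}
    (hq₀ : IsInv ρ q₀) (hq₀0 : ∃ v : V, q₀ v ≠ 0) {a : Module.End (ZMod 2) V} (ha : a ∈ Comm ρ) :
    ∃ q : V → ZMod 2, IsInv ρ q ∧ ∀ u v : V, polar q u v = polar q₀ (a u) v := by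
  obtain ⟨g, hg, hg1⟩ := hinv
  have hcard := (card_eq_of_involution_h98 h g hg hg1).1
  have := finite_inv_h98 ρ
  have := finite_comm_h98 ρ
  let Φ : {q : V → ZMod 2 // IsInv ρ q} → Comm ρ := fun q =>
    ⟨(exists_comm_polar h hq₀ hq₀0 q.2).choose, (exists_comm_polar h hq₀ hq₀0 q.2).choose_spec.1⟩
  have hΦ : ∀ q : {q : V → ZMod 2 // IsInv ρ q}, ∀ u v : V,
      polar q.1 u v = polar q₀ ((Φ q).1 u) v :=
    fun q => (exists_comm_polar h hq₀ hq₀0 q.2).choose_spec.2
  have hinj : Function.Injective Φ := by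
    intro q q' hqq
    apply Subtype.ext
    apply eq_of_polar_eq_h98 h q.2 q'.2
    intro u v
    rw [hΦ q, hΦ q', hqq]
  have hbij := hinj.bijective_of_nat_card_le hcard.le
  obtain ⟨q, hq⟩ := hbij.2 ⟨a, ha⟩
  refine ⟨q.1, q.2, ?_⟩
  intro u v
  rw [hΦ q, hq]

/-- ... hence every `a ∈ k` is self-adjoint for every invariant form. -/
theorem polar_comm_apply {ρ : R →* (V ≃ₗ[ZMod 2] V)} (h : Hyp ρ)
    (hinv : ∃ g : R, g * g = 1 ∧ ρ g ≠ 1) {q : V → ZMod 2}
    (hq : IsInv ρ q) {a : Module.End (ZMod 2) V} (ha : a ∈ Comm ρ) (u v : V) :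
    polar q (a u) v = polar q u (a v) := by
  by_cases hq0 : ∃ v : V, q v ≠ 0
  · obtain ⟨q', hq', hp⟩ := exists_inv_of_comm h hinv hq hq0 ha
    rw [← hp u v, polar_comm q' u v, hp v u, polar_comm]
  · simp only [not_exists, not_not] at hq0
    unfold polar
    rw [hq0, hq0, hq0, hq0, hq0, hq0]

/-- `[V, g]` is a `k`-line: generated over `k` by any nonzero element. -/
theorem commRange_eq_comm_smul {ρ : R →* (V ≃ₗ[ZMod 2] V)} (h : Hyp ρ)
    (g : R) (hg : g * g = 1) (hg1 : ρ g ≠ 1) (v : V) (hv : v ∈ commRange ρ g) (hv0 : v ≠ 0)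
    (w : V) (hw : w ∈ commRange ρ g) : ∃ a ∈ Comm ρ, w = a v := by
  have hcard := (card_eq_of_involution_h98 h g hg hg1).2
  have := finite_comm_h98 ρ
  have : Finite (commRange ρ g) := Subtype.finite
  let Ψ : Comm ρ → commRange ρ g := fun a =>
    ⟨a.1 v, comm_apply_mem_commRange_h98 a.2 g v hv⟩
  have hinj : Function.Injective Ψ := by
    intro a b hab
    apply Subtype.ext
    apply comm_apply_injective_h98 h.irr hv0 a.2 b.2
    exact congrArg Subtype.val hab
  have hbij := hinj.bijective_of_nat_card_le hcard.le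
  obtain ⟨a, ha⟩ := hbij.2 ⟨w, hw⟩
  exact ⟨a.1, a.2, (congrArg Subtype.val ha).symm⟩

end Cfsg.Agent.Lib.Helper76.GOut
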