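import Mathlib
import Cfsg.Agent.Lib.Helper76.GOut.QFDefs
import Cfsg.Agent.Lib.Helper65.GOutQFRad
import Cfsg.Agent.Lib.Helper47.GOutQFK
import Cfsg.Agent.Lib.Helper98.GOutQFInv
import Cfsg.Agent.Lib.Helper98.GOutQFSurj
import Cfsg.Agent.Lib.Helper47.GOutQFSurj

/-! # GOUT-[QF-V4] (project GOUT = S3066, coordinator helper76)

No Klein four-group: two commuting involutions acting nontrivially act in the same way.

Route (a variant of the sheet's, with less counting): `t_i = ρ g_i`, `N_i = 1 + t_i`, `I_i = range N_i`.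
1. `t_1` fixes `I_2` pointwise and `t_2` fixes `I_1` pointwise (`Aniso` + isotropy of `I_2`).
2. `W = I_1 + I_2` is totally isotropic for every invariant polar form, so every invariant form is additive
   on `W`, so `|W| ≤ |L| = |I_1|`, hence `I_2 ≤ I_1` (and symmetrically).
3. `N` is self-adjoint for an invariant polar form, so `fix(t) = I^⊥` (nondegeneracy): `fix t_1 = fix t_2`.
4. For `u` not fixed: `N_2 u = a N_1 u`, `a ∈ k`; comparing `q (a v)` computed with `g_2` and with [QF-TW]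
   for all invariant `q` (and their twists `q ∘ c`) gives `a + a² = 0`, so `a = 1`.
-/

set_option autoImplicit false
set_option linter.unusedSectionVars false
set_option linter.unusedVariables false

namespace Cfsg.Agent.Lib.Helper76.GOut

variable {V : Type*} [AddCommGroup V] [Module (ZMod 2) V] [Finite V]
variable {R : Type*} [Group R]

omit [Finite V] in
theorem eq_of_add_eq_zero_h98 {u v : V} (h : u + v = 0) : u = v := by
  have h1 : u = -v := eq_neg_iff_add_eq_zero.2 h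
  rw [h1, neg_eq_iff_add_eq_zero]
  exact add_self' v

omit [Finite V] in
theorem add_add_cancel_h98 (u v : V) : u + (u + v) = v := by
  rw [← add_assoc, add_self', zero_add]

omit [Finite V] in
theorem end_add_self_h98 (x : Module.End (ZMod 2) V) : x + x = 0 := by
  ext v
  simp only [LinearMap.add_apply, LinearMap.zero_apply]
  exact add_self' _

/-- A submodule on which every invariant form is additive has at most `|L|` elements. -/
theorem card_le_card_inv_of_additive_h98 {ρ : R →* (V ≃ₗ[ZMod 2] V)} (h : Hyp ρ)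
    (W : Submodule (ZMod 2) V)
    (hW : ∀ q : V → ZMod 2, IsInv ρ q → ∀ w ∈ W, ∀ w' ∈ W, q (w + w') = q w + q w') :
    Nat.card W ≤ Nat.card {q : V → ZMod 2 // IsInv ρ q} := by
  have hL : Nat.card {q : V → ZMod 2 // IsInv ρ q} = Nat.card (invForms_h98 ρ) := rfl
  rw [hL, ← card_dual_h98 (invForms_h98 ρ)]
  let ev : W → Module.Dual (ZMod 2) (invForms_h98 ρ) := fun v =>
    { toFun := fun q => q.1 v.1
      map_add' := fun q q' => rfl
      map_smul' := fun c q => rfl }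
  have : Finite (Module.Dual (ZMod 2) (invForms_h98 ρ)) :=
    Finite.of_injective (fun f => (f : invForms_h98 ρ → ZMod 2)) DFunLike.coe_injective
  apply Nat.card_le_card_of_injective ev
  intro v v' hvv
  have hq : ∀ q : V → ZMod 2, IsInv ρ q → q v.1 = q v'.1 := by
    intro q hq
    have := LinearMap.congr_fun hvv (⟨q, hq⟩ : invForms_h98 ρ)
    exact this
  apply Subtype.ext
  by_contra hne
  have hne0 : v.1 + v'.1 ≠ 0 := fun h0 => hne (eq_of_add_eq_zero_h98 h0)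
  obtain ⟨q, hqi, hqv⟩ := h.aniso _ hne0
  apply hqv
  rw [hW q hqi _ v.2 _ v'.2, hq q hqi]
  exact zmod2_add_self _

omit [Finite V] in
/-- Step 1: `g₁` fixes `[V, g₂]` pointwise, for commuting `g₁`, `g₂` with `g₂` an involution. -/
theorem apply_eq_of_mem_commRange_of_commute_h98 {ρ : R →* (V ≃ₗ[ZMod 2] V)} (han : Aniso ρ)
    (g₁ g₂ : R) (h₂ : g₂ * g₂ = 1) (hc : g₁ * g₂ = g₂ * g₁) (w : V) (hw : w ∈ commRange ρ g₂) :
    ρ g₁ w = w := by
  by_contra hne
  have hne0 : w + ρ g₁ w ≠ 0 := fun h0 => hne (eq_of_add_eq_zero_h98 h0).symm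
  obtain ⟨q, hq, hqv⟩ := han _ hne0
  apply hqv
  rw [hq.map_add_apply g₁ w]
  apply polar_fixed_commRange hq g₂ h₂ w (apply_eq_of_mem_commRange_h98 g₂ h₂ w hw)
  obtain ⟨u, rfl⟩ := mem_commRange_iff_h98.1 hw
  have hcu : ρ g₁ (ρ g₂ u) = ρ g₂ (ρ g₁ u) := by
    have e1 : ρ g₁ (ρ g₂ u) = (ρ g₁ * ρ g₂) u := rfl
    have e2 : ρ g₂ (ρ g₁ u) = (ρ g₂ * ρ g₁) u := rfl
    rw [e1, e2, ← map_mul, ← map_mul, hc]
  rw [map_add, hcu]
  exact add_apply_mem_commRange_h98 ρ g₂ (ρ g₁ u)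

/-- Step 2: `[V, g₂] ≤ [V, g₁]` for commuting involutions (`g₁` acting nontrivially). -/
theorem commRange_le_of_commute_h98 {ρ : R →* (V ≃ₗ[ZMod 2] V)} (h : Hyp ρ)
    (g₁ g₂ : R) (h₁ : g₁ * g₁ = 1) (h₂ : g₂ * g₂ = 1) (hc : g₁ * g₂ = g₂ * g₁)
    (h₁1 : ρ g₁ ≠ 1) : commRange ρ g₂ ≤ commRange ρ g₁ := by
  set W : Submodule (ZMod 2) V := commRange ρ g₁ ⊔ commRange ρ g₂ with hWdef
  have hiso : ∀ q : V → ZMod 2, IsInv ρ q → ∀ w ∈ W, ∀ w' ∈ W, polar q w w' = 0 := by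
    intro q hq w hw w' hw'
    obtain ⟨x₁, hx₁, x₂, hx₂, rfl⟩ := Submodule.mem_sup.1 hw
    obtain ⟨y₁, hy₁, y₂, hy₂, rfl⟩ := Submodule.mem_sup.1 hw'
    have f11 : ρ g₁ x₁ = x₁ := apply_eq_of_mem_commRange_h98 g₁ h₁ x₁ hx₁
    have f22 : ρ g₂ x₂ = x₂ := apply_eq_of_mem_commRange_h98 g₂ h₂ x₂ hx₂
    have f12 : ρ g₁ x₂ = x₂ :=
      apply_eq_of_mem_commRange_of_commute_h98 h.aniso g₁ g₂ h₂ hc x₂ hx₂
    have f21 : ρ g₂ x₁ = x₁ :=
      apply_eq_of_mem_commRange_of_commute_h98 h.aniso g₂ g₁ h₁ hc.symm x₁ hx₁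
    rw [hq.1.polar_add_left, hq.1.polar_add_right, hq.1.polar_add_right,
      polar_fixed_commRange hq g₁ h₁ x₁ f11 y₁ hy₁, polar_fixed_commRange hq g₂ h₂ x₁ f21 y₂ hy₂,
      polar_fixed_commRange hq g₁ h₁ x₂ f12 y₁ hy₁, polar_fixed_commRange hq g₂ h₂ x₂ f22 y₂ hy₂]
    simp
  have hadd : ∀ q : V → ZMod 2, IsInv ρ q → ∀ w ∈ W, ∀ w' ∈ W, q (w + w') = q w + q w' := by
    intro q hq w hw w' hw'
    rw [hq.1.map_add, hiso q hq w hw w' hw', add_zero]
  have hcW := card_le_card_inv_of_additive_h98 h W hadd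
  have hcard := card_eq_of_involution_h98 h g₁ h₁ h₁1
  have hle : Nat.card W ≤ Nat.card (commRange ρ g₁) := by omega
  have hsub : (commRange ρ g₁ : Set V) ⊆ (W : Set V) := fun x hx =>
    (le_sup_left : commRange ρ g₁ ≤ W) hx
  have hfin : (W : Set V).Finite := Set.toFinite _
  have heq : (commRange ρ g₁ : Set V) = (W : Set V) := by
    apply Set.eq_of_subset_of_ncard_le hsub _ hfin
    rw [← Nat.card_coe_set_eq, ← Nat.card_coe_set_eq]
    exact hle
  intro x hx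
  have hxW : x ∈ (W : Set V) := (le_sup_right : commRange ρ g₂ ≤ W) hx
  rw [← heq] at hxW
  exact hxW

omit [Finite V] in
/-- `N = 1 + ρ g` is self-adjoint for every invariant polar form (`g` an involution). -/
theorem polar_add_apply_left_h98 {ρ : R →* (V ≃ₗ[ZMod 2] V)} {q : V → ZMod 2} (hq : IsInv ρ q)
    (g : R) (hg : g * g = 1) (x y : V) : polar q (x + ρ g x) y = polar q x (y + ρ g y) := by
  rw [hq.1.polar_add_left, hq.1.polar_add_right]
  have h2 : ρ g (ρ g y) = y := by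
    have : ρ g (ρ g y) = (ρ g * ρ g) y := rfl
    rw [this, ← map_mul, hg, map_one]; rfl
  have : polar q (ρ g x) y = polar q x (ρ g y) := by
    conv_lhs => rw [← h2]
    exact hq.polar_map g x (ρ g y)
  rw [this]

/-- Step 3: a vector orthogonal to `[V, g]` for a nonzero invariant form is fixed by `g`. -/
theorem apply_eq_of_orth_commRange_h98 {ρ : R →* (V ≃ₗ[ZMod 2] V)} (h : Hyp ρ) {q₀ : V → ZMod 2}
    (hq₀ : IsInv ρ q₀) (hq₀0 : ∃ v : V, q₀ v ≠ 0) (g : R) (hg : g * g = 1) (x : V)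
    (hx : ∀ w ∈ commRange ρ g, polar q₀ x w = 0) : ρ g x = x := by
  by_contra hne
  have hne0 : x + ρ g x ≠ 0 := fun h0 => hne (eq_of_add_eq_zero_h98 h0).symm
  obtain ⟨y, hy⟩ := polar_nondeg h hq₀ hq₀0 _ hne0
  apply hy
  rw [polar_add_apply_left_h98 hq₀ g hg]
  exact hx _ (add_apply_mem_commRange_h98 ρ g y)

omit [Finite V] in
theorem comm_mul_ne_zero_h98 {ρ : R →* (V ≃ₗ[ZMod 2] V)} (hirr : Irr ρ)
    {a b : Module.End (ZMod 2) V} (ha : a ∈ Comm ρ) (ha0 : a ≠ 0) (hb0 : b ≠ 0) : a * b ≠ 0 := by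
  intro hab
  apply hb0
  ext x
  have h1 : a (b x) = 0 := by
    have := LinearMap.congr_fun hab x
    simpa using this
  have hinj := comm_injective_h98 hirr ha ha0
  apply hinj
  rw [h1]
  simp

/-- In the finite field `k` of characteristic two: for `b ≠ 0` there is `c` with `c² b = 1`. -/
theorem exists_sq_mul_eq_one_h98 {ρ : R →* (V ≃ₗ[ZMod 2] V)} (h : Hyp ρ)
    {b : Module.End (ZMod 2) V} (hb : b ∈ Comm ρ) (hb0 : b ≠ 0) :
    ∃ c ∈ Comm ρ, (c * c) * b = 1 := by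
  have := finite_comm_h98 ρ
  let f : Comm ρ → Comm ρ := fun c => ⟨c.1 * c.1 * b, mul_mem_comm (mul_mem_comm c.2 c.2) hb⟩
  have hinj : Function.Injective f := by
    intro c d hcd
    have e : c.1 * c.1 * b = d.1 * d.1 * b := congrArg Subtype.val hcd
    have hcomm : c.1 * d.1 = d.1 * c.1 := comm_mul_comm h c.2 d.2
    have hsq : (c.1 + d.1) * (c.1 + d.1) = c.1 * c.1 + d.1 * d.1 := by
      have : (c.1 + d.1) * (c.1 + d.1) = c.1 * c.1 + (c.1 * d.1 + d.1 * c.1) + d.1 * d.1 := by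
        noncomm_ring
      rw [this, ← hcomm, end_add_self_h98, add_zero]
    have hz : (c.1 + d.1) * (c.1 + d.1) * b = 0 := by
      rw [hsq, add_mul, e]
      exact end_add_self_h98 _
    have hcd0 : c.1 + d.1 = 0 := by
      by_contra hne
      have hmem : c.1 + d.1 ∈ Comm ρ := add_mem_comm c.2 d.2
      have h1 : (c.1 + d.1) * (c.1 + d.1) ≠ 0 := comm_mul_ne_zero_h98 h.irr hmem hne hne
      exact comm_mul_ne_zero_h98 h.irr (mul_mem_comm hmem hmem) h1 hb0 hz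
    apply Subtype.ext
    have h1 : c.1 = -d.1 := eq_neg_iff_add_eq_zero.2 hcd0
    rw [h1, neg_eq_iff_add_eq_zero]
    exact end_add_self_h98 _
  obtain ⟨c, hc⟩ := (Finite.injective_iff_surjective.1 hinj) ⟨1, one_mem_comm ρ⟩
  exact ⟨c.1, c.2, congrArg Subtype.val hc⟩

/-- Step 4. -/
theorem add_apply_eq_of_ne_h98 {ρ : R →* (V ≃ₗ[ZMod 2] V)} (h : Hyp ρ)
    (g₁ g₂ : R) (h₁ : g₁ * g₁ = 1) (h₂ : g₂ * g₂ = 1) (h₁1 : ρ g₁ ≠ 1)
    (hI : commRange ρ g₂ ≤ commRange ρ g₁) (u : V) (hu₁ : u + ρ g₁ u ≠ 0)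
    (hu₂ : u + ρ g₂ u ≠ 0) : u + ρ g₂ u = u + ρ g₁ u := by
  have hinv : ∃ g : R, g * g = 1 ∧ ρ g ≠ 1 := ⟨g₁, h₁, h₁1⟩
  have hvI : u + ρ g₁ u ∈ commRange ρ g₁ := add_apply_mem_commRange_h98 ρ g₁ u
  have hwI : u + ρ g₂ u ∈ commRange ρ g₁ := hI (add_apply_mem_commRange_h98 ρ g₂ u)
  obtain ⟨a, ha, hwa⟩ := commRange_eq_comm_smul h g₁ h₁ h₁1 _ hvI hu₁ _ hwI
  -- `polar q u (g u) = polar q u (u + g u)`
  have hpol : ∀ q : V → ZMod 2, IsInv ρ q → ∀ g : R,
      q (u + ρ g u) = polar q u (u + ρ g u) := by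
    intro q hq g
    calc q (u + ρ g u) = polar q u (ρ g u) := hq.map_add_apply g u
      _ = polar q u (u + (u + ρ g u)) := by rw [add_add_cancel_h98]
      _ = polar q u (u + ρ g u) := by rw [hq.1.polar_add_right, hq.1.polar_self, zero_add]
  -- the key identity for every invariant form
  have key : ∀ q : V → ZMod 2, IsInv ρ q → polar q u ((a + a * a) (u + ρ g₁ u)) = 0 := by
    intro q hq
    have e1 : q (a (u + ρ g₁ u)) = polar q u (a (u + ρ g₁ u)) := by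
      rw [← hwa]; exact hpol q hq g₂
    have e2 : q (a (u + ρ g₁ u)) = polar q u ((a * a) (u + ρ g₁ u)) :=
      map_comm_apply_commRange h hq ha g₁ h₁ h₁1 u
    rw [LinearMap.add_apply, hq.1.polar_add_right, ← e1, ← e2]
    exact zmod2_add_self _
  have hb : a + a * a ∈ Comm ρ := add_mem_comm ha (mul_mem_comm ha ha)
  have hb0 : a + a * a = 0 := by
    by_contra hb0
    obtain ⟨c, hc, hcb⟩ := exists_sq_mul_eq_one_h98 h hb hb0
    obtain ⟨q, hq, hqv⟩ := h.aniso _ hu₁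
    apply hqv
    obtain ⟨hq', hpol'⟩ := isInv_comp_comm h hinv hq hc
    have k1 := key _ hq'
    rw [hpol'] at k1
    have : (c * c) ((a + a * a) (u + ρ g₁ u)) = u + ρ g₁ u := by
      have : (c * c) ((a + a * a) (u + ρ g₁ u)) = ((c * c) * (a + a * a)) (u + ρ g₁ u) := rfl
      rw [this, hcb]; rfl
    rw [this] at k1
    rw [hpol q hq g₁]
    exact k1
  -- `a (1 + a) = 0`, so `a = 0` or `a = 1`
  have hfac : a * (1 + a) = 0 := by rw [mul_add, mul_one]; exact hb0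
  by_cases ha0 : a = 0
  · exfalso
    apply hu₂
    rw [hwa, ha0]; rfl
  · have h1a : 1 + a = 0 := by
      by_contra hne
      exact comm_mul_ne_zero_h98 h.irr ha ha0 hne hfac
    have ha1 : a = 1 := (eq_of_add_eq_zero_h98' h1a).symm
    rw [hwa, ha1]; rfl
where
  eq_of_add_eq_zero_h98' {x y : Module.End (ZMod 2) V} (hxy : x + y = 0) : x = y := by
    have h1 : x = -y := eq_neg_iff_add_eq_zero.2 hxy
    rw [h1, neg_eq_iff_add_eq_zero]
    exact end_add_self_h98 y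

/-- No Klein four-group: two commuting involutions acting nontrivially act in the same way. -/
theorem eq_of_commute_involutions {ρ : R →* (V ≃ₗ[ZMod 2] V)} (h : Hyp ρ)
    (g₁ g₂ : R) (h₁ : g₁ * g₁ = 1) (h₂ : g₂ * g₂ = 1) (hc : g₁ * g₂ = g₂ * g₁)
    (h₁1 : ρ g₁ ≠ 1) (h₂1 : ρ g₂ ≠ 1) : ρ g₁ = ρ g₂ := by
  have hI21 := commRange_le_of_commute_h98 h g₁ g₂ h₁ h₂ hc h₁1
  have hI12 := commRange_le_of_commute_h98 h g₂ g₁ h₂ h₁ hc.symm h₂1
  have hnt : Nontrivial V := by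
    have : 1 < Nat.card V := by have := h.card; omega
    exact (Finite.one_lt_card_iff_nontrivial).1 this
  obtain ⟨v₀, hv₀⟩ := exists_ne (0 : V)
  obtain ⟨q₀, hq₀, hq₀v⟩ := h.aniso v₀ hv₀
  have hq₀0 : ∃ v : V, q₀ v ≠ 0 := ⟨v₀, hq₀v⟩
  ext u
  by_cases hu₁ : u + ρ g₁ u = 0
  · have f1 : ρ g₁ u = u := (eq_of_add_eq_zero_h98 hu₁).symm
    have f2 : ρ g₂ u = u := apply_eq_of_orth_commRange_h98 h hq₀ hq₀0 g₂ h₂ u
      (fun w hw => polar_fixed_commRange hq₀ g₁ h₁ u f1 w (hI21 hw))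
    rw [f1, f2]
  · by_cases hu₂ : u + ρ g₂ u = 0
    · exfalso
      apply hu₁
      have f2 : ρ g₂ u = u := (eq_of_add_eq_zero_h98 hu₂).symm
      have f1 : ρ g₁ u = u := apply_eq_of_orth_commRange_h98 h hq₀ hq₀0 g₁ h₁ u
        (fun w hw => polar_fixed_commRange hq₀ g₂ h₂ u f2 w (hI12 hw))
      rw [f1]; exact add_self' u
    · have := add_apply_eq_of_ne_h98 h g₁ g₂ h₁ h₂ h₁1 hI21 u hu₁ hu₂
      exact (add_left_cancel this).symm

end Cfsg.Agent.Lib.Helper76.GOut
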