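import Mathlib

/-!
# Order bounds for groups given by generators, and a Goursat-style homomorphism constructor

* `card_sup_zpowers_le` : if `g` normalises the finite subgroup `K` and `g ^ m ∈ K`, then
  `|K ⊔ ⟨g⟩| ≤ m * |K|`.
* `card_closure_list_le` : a subgroup generated by `D0` and a list of `d` elements which commute with
  `D0` and whose squares and mutual commutators lie in `D0` has order at most `2 ^ d * |D0|`.
* `exists_hom_of_card_le` : a subgroup `D ≤ G × M` projecting onto `G` with `|D| ≤ |G|` is the graph of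
  a homomorphism `G →* M`.
-/

set_option autoImplicit false
set_option linter.unusedSimpArgs false
set_option linter.style.haveILetI false

namespace Cfsg.Agent.Lib.Helper98.GenBound

open Subgroup
open scoped commutatorElement

theorem card_sup_zpowers_le {H : Type*} [Group H] (K : Subgroup H) [Finite K] (g : H) (m : ℕ)
    (hm : 0 < m) (hnorm : ∀ k ∈ K, g * k * g⁻¹ ∈ K) (hpow : g ^ m ∈ K) :
    Finite ↥(K ⊔ zpowers g) ∧ Nat.card ↥(K ⊔ zpowers g) ≤ m * Nat.card K := by
  classical
  have hgN : g ∈ normalizer (K : Set H) := Subgroup.mem_normalizer_fintype hnorm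
  have hzN : ∀ n : ℤ, ∀ k ∈ K, g ^ n * k * (g ^ n)⁻¹ ∈ K := by
    intro n k hk
    have h1 : g ^ n ∈ normalizer (K : Set H) := Subgroup.zpow_mem _ hgN n
    exact (Subgroup.mem_normalizer_iff.mp h1 k).mp hk
  let L' : Subgroup H :=
    { carrier := {h | ∃ n : ℤ, ∃ k ∈ K, h = g ^ n * k}
      mul_mem' := by
        rintro a b ⟨n, k, hk, rfl⟩ ⟨l, k', hk', rfl⟩
        refine ⟨n + l, (g ^ l)⁻¹ * k * g ^ l * k', ?_, ?_⟩
        · have h1 := hzN (-l) k hk
          simp only [zpow_neg, inv_inv] at h1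
          exact K.mul_mem h1 hk'
        · rw [zpow_add]; group
      one_mem' := ⟨0, 1, K.one_mem, by simp⟩
      inv_mem' := by
        rintro a ⟨n, k, hk, rfl⟩
        refine ⟨-n, g ^ n * k⁻¹ * (g ^ n)⁻¹, hzN n _ (K.inv_mem hk), ?_⟩
        group }
  have hle : K ⊔ zpowers g ≤ L' := by
    apply sup_le
    · intro k hk
      exact ⟨0, k, hk, by simp⟩
    · rw [zpowers_le]
      exact ⟨1, 1, K.one_mem, by simp⟩
  let f : Fin m × K → L' := fun p => ⟨g ^ (p.1 : ℕ) * (p.2 : H), ⟨(p.1 : ℕ), p.2, p.2.2, by simp⟩⟩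
  have hf : Function.Surjective f := by
    rintro ⟨h, n, k, hk, rfl⟩
    have hmz : (0 : ℤ) < (m : ℤ) := by exact_mod_cast hm
    have h0 : 0 ≤ n % (m : ℤ) := Int.emod_nonneg _ (ne_of_gt hmz)
    have h1 : n % (m : ℤ) < m := Int.emod_lt_of_pos _ hmz
    have h2 : (n % (m : ℤ)).toNat < m := by omega
    have h3 : ((g ^ (m : ℤ)) ^ (n / (m : ℤ))) ∈ K := by
      apply Subgroup.zpow_mem
      rw [zpow_natCast]; exact hpow
    refine ⟨(⟨(n % (m : ℤ)).toNat, h2⟩, ⟨(g ^ (m : ℤ)) ^ (n / (m : ℤ)) * k, K.mul_mem h3 hk⟩), ?_⟩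
    apply Subtype.ext
    change g ^ ((n % (m : ℤ)).toNat) * ((g ^ (m : ℤ)) ^ (n / (m : ℤ)) * k) = g ^ n * k
    have h4 : g ^ ((n % (m : ℤ)).toNat) = g ^ (n % (m : ℤ)) := by
      rw [← zpow_natCast]; congr 1; omega
    rw [h4, ← zpow_mul, ← mul_assoc, ← zpow_add, Int.emod_add_mul_ediv]
  haveI : Finite L' := Finite.of_surjective f hf
  have hcard : Nat.card L' ≤ m * Nat.card K := by
    have := Nat.card_le_card_of_surjective f hf
    simpa [Nat.card_prod] using this
  have hinj : Function.Injective (Subgroup.inclusion hle) := Subgroup.inclusion_injective hle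
  refine ⟨Finite.of_injective _ hinj, ?_⟩
  exact le_trans (Nat.card_le_card_of_injective _ hinj) hcard

theorem card_closure_list_le {H : Type*} [Group H] (D0 : Subgroup H) [Finite D0] (l : List H)
    (hc : ∀ y ∈ l, ∀ z ∈ D0, y * z = z * y)
    (hsq : ∀ y ∈ l, y ^ 2 ∈ D0)
    (hcomm : ∀ y ∈ l, ∀ y' ∈ l, ⁅y, y'⁆ ∈ D0) :
    Finite ↥(closure {y | y ∈ l} ⊔ D0) ∧
      Nat.card ↥(closure {y | y ∈ l} ⊔ D0) ≤ 2 ^ l.length * Nat.card D0 := by
  induction l with
  | nil =>
    have h : closure {y : H | y ∈ ([] : List H)} ⊔ D0 = D0 := by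
      simp
    rw [h]
    exact ⟨inferInstance, by simp⟩
  | cons y l ih =>
    have ih' := ih (fun y' hy' => hc y' (List.mem_cons_of_mem _ hy'))
      (fun y' hy' => hsq y' (List.mem_cons_of_mem _ hy'))
      (fun y' hy' y'' hy'' => hcomm y' (List.mem_cons_of_mem _ hy') y'' (List.mem_cons_of_mem _ hy''))
    obtain ⟨hfin, hcard⟩ := ih'
    set K := closure {y | y ∈ l} ⊔ D0 with hK
    have hD0K : D0 ≤ K := le_sup_right
    have heq : closure {y' | y' ∈ y :: l} ⊔ D0 = K ⊔ zpowers y := by
      have h1 : {y' | y' ∈ y :: l} = {y} ∪ {y' | y' ∈ l} := by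
        ext z; simp
      rw [h1, Subgroup.closure_union, ← Subgroup.zpowers_eq_closure, hK]
      rw [sup_assoc, sup_comm]
    have hnorm : ∀ k ∈ K, y * k * y⁻¹ ∈ K := by
      have h1 : K ≤ K.comap (MulAut.conj y).toMonoidHom := by
        rw [hK]
        apply sup_le
        · rw [closure_le]
          intro s hs
          have hs' : s ∈ l := hs
          change y * s * y⁻¹ ∈ K
          have h2 : ⁅y, s⁆ ∈ K :=
            hD0K (hcomm y List.mem_cons_self s (List.mem_cons_of_mem _ hs'))
          have h3 : s ∈ K := le_sup_left (a := closure {y | y ∈ l}) (subset_closure hs)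
          have h4 : y * s * y⁻¹ = ⁅y, s⁆ * s := by
            rw [commutatorElement_def]; group
          rw [h4]
          exact K.mul_mem h2 h3
        · intro z hz
          change y * z * y⁻¹ ∈ K
          rw [hc y List.mem_cons_self z hz]
          simp only [mul_inv_cancel_right]
          exact hD0K hz
      intro k hk
      exact h1 hk
    have hpow : y ^ 2 ∈ K := hD0K (hsq y List.mem_cons_self)
    obtain ⟨hfin2, hcard2⟩ := card_sup_zpowers_le K y 2 (by norm_num) hnorm hpow
    rw [heq]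
    refine ⟨hfin2, le_trans hcard2 ?_⟩
    rw [List.length_cons, pow_succ]
    calc 2 * Nat.card K ≤ 2 * (2 ^ l.length * Nat.card D0) := Nat.mul_le_mul_left 2 hcard
      _ = 2 ^ l.length * 2 * Nat.card D0 := by ring

/-- A subgroup of `G × M` which projects onto `G` and has at most `|G|` elements is the graph of a
homomorphism. -/
theorem exists_hom_of_card_le {G M : Type*} [Group G] [Group M] (D : Subgroup (G × M)) [Finite D]
    (h1 : ∀ g : G, ∃ m : M, (g, m) ∈ D) (hcard : Nat.card D ≤ Nat.card G) :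
    ∃ f : G →* M, ∀ g : G, ∀ m : M, (g, m) ∈ D ↔ m = f g := by
  let π1 : D →* G := (MonoidHom.fst G M).comp D.subtype
  have hsurj : Function.Surjective π1 := by
    intro g
    obtain ⟨m, hm⟩ := h1 g
    exact ⟨⟨(g, m), hm⟩, rfl⟩
  have hbij : Function.Bijective π1 := hsurj.bijective_of_nat_card_le hcard
  let e : D ≃* G := MulEquiv.ofBijective π1 hbij
  refine ⟨((MonoidHom.snd G M).comp D.subtype).comp e.symm.toMonoidHom, ?_⟩
  intro g m
  have h2 : π1 (e.symm g) = g := e.apply_symm_apply g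
  have h3 : ((e.symm g : D) : G × M) = (g, ((e.symm g : D) : G × M).2) := by
    apply Prod.ext
    · exact h2
    · rfl
  constructor
  · intro hm
    have h4 : e.symm g = ⟨(g, m), hm⟩ := by
      apply hbij.1
      rw [h2]
      rfl
    change m = ((e.symm g : D) : G × M).2
    rw [h4]
  · intro hm
    have h5 : m = ((e.symm g : D) : G × M).2 := hm
    rw [h5, ← h3]
    exact (e.symm g).2

end Cfsg.Agent.Lib.Helper98.GenBound
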