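import Cfsg.Agent.Lib.Helper98.Fpf3

/-!
# Two-generated abelian `2`-groups with a fixed-point-free automorphism of order three are
homocyclic
-/

set_option autoImplicit false
set_option linter.unusedSimpArgs false
set_option linter.style.haveILetI false
set_option linter.unusedSectionVars false

namespace Cfsg.Agent.Lib.Helper98.Homocyclic

open Subgroup
open Cfsg.Agent.Lib.Helper98.Fpf3

/-- The homomorphism `ZMod M → G`, `k ↦ x ^ k`. -/
noncomputable def powHom {G : Type*} [Group G] (x : G) (M : ℕ) (hx : x ^ M = 1) :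
    Multiplicative (ZMod M) →* G :=
  AddMonoidHom.toMultiplicativeLeft (ZMod.lift M ⟨zmultiplesHom (Additive G) (Additive.ofMul x), by
    change (M : ℤ) • Additive.ofMul x = 0
    rw [natCast_zsmul]
    change Additive.ofMul (x ^ M) = 0
    rw [hx]; rfl⟩)

theorem powHom_intCast {G : Type*} [Group G] (x : G) (M : ℕ) (hx : x ^ M = 1) (k : ℤ) :
    powHom x M hx (Multiplicative.ofAdd (k : ZMod M)) = x ^ k := by
  change Additive.toMul (ZMod.lift M _ (k : ZMod M)) = x ^ k
  rw [ZMod.lift_coe]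
  rfl

theorem powHom_exists {G : Type*} [Group G] (x : G) (M : ℕ) (hx : x ^ M = 1)
    (a : Multiplicative (ZMod M)) :
    ∃ k : ℤ, a = Multiplicative.ofAdd (k : ZMod M) ∧ powHom x M hx a = x ^ k := by
  obtain ⟨k, hk⟩ := ZMod.intCast_surjective (Multiplicative.toAdd a)
  refine ⟨k, ?_, ?_⟩
  · rw [hk]; rfl
  · have : a = Multiplicative.ofAdd (k : ZMod M) := by rw [hk]; rfl
    rw [this, powHom_intCast]

theorem powHom_mem_zpowers {G : Type*} [Group G] (x : G) (M : ℕ) (hx : x ^ M = 1)
    (a : Multiplicative (ZMod M)) : powHom x M hx a ∈ zpowers x := by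
  obtain ⟨k, _, hk⟩ := powHom_exists x M hx a
  rw [hk]
  exact zpow_mem (mem_zpowers x) k

theorem powHom_injective {G : Type*} [Group G] (x : G) (M : ℕ) (hx : x ^ M = 1)
    (hord : orderOf x = M) : Function.Injective (powHom x M hx) := by
  rw [injective_iff_map_eq_one]
  intro a ha
  obtain ⟨k, hk, hk'⟩ := powHom_exists x M hx a
  rw [hk'] at ha
  have : (orderOf x : ℤ) ∣ k := orderOf_dvd_iff_zpow_eq_one.2 ha
  rw [hord] at this
  rw [hk]
  have h0 : (k : ZMod M) = 0 := (ZMod.intCast_zmod_eq_zero_iff_dvd k M).2 this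
  rw [h0]; rfl

/-- The involutions of a cyclic group of order `2 ^ (n + 1)`. -/
theorem involution_of_mem_zpowers {G : Type*} [Group G] (x : G) (n : ℕ)
    (hord : orderOf x = 2 ^ (n + 1)) (h : G) (hh : h ∈ zpowers x) (h2 : h ^ 2 = 1) (h1 : h ≠ 1) :
    h = x ^ (2 ^ n) := by
  classical
  have hfin : IsOfFinOrder x := by
    rw [← orderOf_pos_iff, hord]; positivity
  rw [hfin.mem_zpowers_iff_mem_range_orderOf, Finset.mem_image] at hh
  obtain ⟨k, hk, rfl⟩ := hh
  rw [Finset.mem_range, hord] at hk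
  have hk2 : (x ^ k) ^ 2 = 1 := h2
  rw [← pow_mul] at hk2
  have hd := orderOf_dvd_of_pow_eq_one hk2
  rw [hord, pow_succ] at hd
  have hd' : 2 ^ n ∣ k := by
    have : 2 ^ n * 2 ∣ k * 2 := hd
    exact (Nat.mul_dvd_mul_iff_right (by norm_num)).mp this
  obtain ⟨c, rfl⟩ := hd'
  have hc : c < 2 := by
    rw [pow_succ] at hk
    by_contra hge
    push Not at hge
    have : 2 ^ n * 2 ≤ 2 ^ n * c := Nat.mul_le_mul_left _ hge
    omega
  interval_cases c
  · exfalso; apply h1; simp
  · rw [mul_one]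

theorem homocyclic {T : Type*} [Group T] [Finite T] (hT : IsPGroup 2 T) (ρ : MulAut T)
    (h3 : ρ ^ 3 = 1) (hfp : ∀ y : T, ρ y = y → y = 1) (x : T) (hx1 : x ≠ 1)
    (hgen : closure ({x, ρ x} : Set T) = ⊤) :
    ∃ n : ℕ, 1 ≤ n ∧
      Nonempty (T ≃* Multiplicative (ZMod (2 ^ n)) × Multiplicative (ZMod (2 ^ n))) := by
  classical
  set y := ρ x with hy
  have hxy : x * y = y * x := comm_rho ρ h3 hfp x
  obtain ⟨k, hk⟩ := (IsPGroup.iff_orderOf.mp hT) x
  have hk0 : k ≠ 0 := by
    intro h0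
    rw [h0, pow_zero, orderOf_eq_one_iff] at hk
    exact hx1 hk
  obtain ⟨n, rfl⟩ := Nat.exists_eq_succ_of_ne_zero hk0
  have hky : orderOf y = 2 ^ (n + 1) := by
    rw [hy, ← hk]
    exact MulEquiv.orderOf_eq ρ x
  set N := 2 ^ (n + 1) with hN
  have hxN : x ^ N = 1 := by rw [← hk]; exact pow_orderOf_eq_one x
  have hyN : y ^ N = 1 := by rw [← hky]; exact pow_orderOf_eq_one y
  -- the involutions
  set i := x ^ (2 ^ n) with hi
  have hi1 : i ≠ 1 := by
    intro h
    have hd := orderOf_dvd_of_pow_eq_one h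
    rw [hk] at hd
    have := (Nat.pow_dvd_pow_iff_le_right (by norm_num : 1 < 2)).mp hd
    omega
  have hρi : ρ i = y ^ (2 ^ n) := by rw [hi, map_pow]
  -- trivial intersection
  have hint : zpowers x ⊓ zpowers y = ⊥ := by
    rw [eq_bot_iff]
    intro g hg
    rw [mem_bot]
    by_contra hg1
    obtain ⟨m, hm⟩ := (IsPGroup.iff_orderOf.mp hT) g
    have hm0 : m ≠ 0 := by
      intro h0
      rw [h0, pow_zero, orderOf_eq_one_iff] at hm
      exact hg1 hm
    obtain ⟨m', rfl⟩ := Nat.exists_eq_succ_of_ne_zero hm0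
    set g' := g ^ (2 ^ m') with hg'
    have hg'2 : g' ^ 2 = 1 := by
      rw [hg', ← pow_mul, ← pow_succ, ← hm]
      exact pow_orderOf_eq_one g
    have hg'1 : g' ≠ 1 := by
      intro h
      have hd := orderOf_dvd_of_pow_eq_one h
      rw [hm] at hd
      have := (Nat.pow_dvd_pow_iff_le_right (by norm_num : 1 < 2)).mp hd
      omega
    have hgx : g' ∈ zpowers x := pow_mem hg.1 _
    have hgy : g' ∈ zpowers y := pow_mem hg.2 _
    have e1 := involution_of_mem_zpowers x n hk g' hgx hg'2 hg'1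
    have e2 := involution_of_mem_zpowers y n hky g' hgy hg'2 hg'1
    rw [← hρi, e1] at e2
    exact hi1 (hfp i e2.symm)
  -- the homomorphism
  have hcomm : ∀ a b : Multiplicative (ZMod N), Commute (powHom x N hxN a) (powHom y N hyN b) := by
    intro a b
    obtain ⟨ka, _, hka⟩ := powHom_exists x N hxN a
    obtain ⟨kb, _, hkb⟩ := powHom_exists y N hyN b
    rw [hka, hkb]
    have : Commute x y := hxy
    exact (this.zpow_left ka).zpow_right kb
  set f := MonoidHom.noncommCoprod (powHom x N hxN) (powHom y N hyN) hcomm with hf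
  have hfapp : ∀ p, f p = powHom x N hxN p.1 * powHom y N hyN p.2 := fun p => rfl
  have hinj : Function.Injective f := by
    rw [injective_iff_map_eq_one]
    intro p hp
    rw [hfapp] at hp
    have h1 : powHom x N hxN p.1 ∈ zpowers x ⊓ zpowers y := by
      refine Subgroup.mem_inf.mpr ⟨powHom_mem_zpowers x N hxN _, ?_⟩
      have : powHom x N hxN p.1 = (powHom y N hyN p.2)⁻¹ := eq_inv_of_mul_eq_one_left hp
      rw [this]
      exact inv_mem (powHom_mem_zpowers y N hyN _)
    rw [hint, mem_bot] at h1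
    rw [h1, one_mul] at hp
    have e1 := powHom_injective x N hxN hk (h1.trans (map_one _).symm)
    have e2 := powHom_injective y N hyN hky (hp.trans (map_one _).symm)
    exact Prod.ext e1 e2
  have hsurj : Function.Surjective f := by
    rw [← MonoidHom.range_eq_top, eq_top_iff, ← hgen, closure_le]
    intro g hg
    simp only [Set.mem_insert_iff, Set.mem_singleton_iff] at hg
    rcases hg with rfl | rfl
    · refine ⟨(Multiplicative.ofAdd ((1 : ℤ) : ZMod N), 1), ?_⟩
      rw [hfapp]
      change powHom g N hxN (Multiplicative.ofAdd ((1 : ℤ) : ZMod N)) * powHom y N hyN 1 = g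
      rw [powHom_intCast, map_one, zpow_one, mul_one]
    · refine ⟨(1, Multiplicative.ofAdd ((1 : ℤ) : ZMod N)), ?_⟩
      rw [hfapp]
      change powHom x N hxN 1 * powHom y N hyN (Multiplicative.ofAdd ((1 : ℤ) : ZMod N)) = y
      rw [powHom_intCast, map_one, zpow_one, one_mul]
  exact ⟨n + 1, by omega, ⟨(MulEquiv.ofBijective f ⟨hinj, hsurj⟩).symm⟩⟩

end Cfsg.Agent.Lib.Helper98.Homocyclic
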