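import Mathlib
import Cfsg.Agent.Lib.Helper98.GenBound

/-!
# Recognising a class-two 2-group from four generators and a central four-group

`iso_of_match` : two groups of the same order `≥ 64` carrying four generators modulo a central
four-group `{1, z1, z2, z1 z2}` with matching squares and commutators are isomorphic.
-/

set_option autoImplicit false
set_option linter.unusedSimpArgs false
set_option linter.style.haveILetI false

namespace Cfsg.Agent.Lib.Helper98.Iso64

open Subgroup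
open scoped commutatorElement

/-- `a` and `a'` are given by the same word `z1 ^ e1 * z2 ^ e2`. -/
def Match {T M : Type*} [Group T] [Group M] (z1 z2 : T) (z1' z2' : M) (a : T) (a' : M) : Prop :=
  ∃ e1 e2 : ℕ, a = z1 ^ e1 * z2 ^ e2 ∧ a' = z1' ^ e1 * z2' ^ e2

theorem iso_of_match {T M : Type*} [Group T] [Group M] [Finite T] (hcard : Nat.card M = Nat.card T)
    (hT : 64 ≤ Nat.card T) (g : Fin 4 → T) (g' : Fin 4 → M) (z1 z2 : T) (z1' z2' : M)
    (hz1 : z1 ^ 2 = 1) (hz2 : z2 ^ 2 = 1) (hz12 : z1 * z2 = z2 * z1)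
    (hz1' : z1' ^ 2 = 1) (hz2' : z2' ^ 2 = 1) (hz12' : z1' * z2' = z2' * z1')
    (hc1 : ∀ i, g i * z1 = z1 * g i) (hc2 : ∀ i, g i * z2 = z2 * g i)
    (hc1' : ∀ i, g' i * z1' = z1' * g' i) (hc2' : ∀ i, g' i * z2' = z2' * g' i)
    (hsq : ∀ i, Match z1 z2 z1' z2' (g i ^ 2) (g' i ^ 2))
    (hcm : ∀ i j, i < j → Match z1 z2 z1' z2' ⁅g i, g j⁆ ⁅g' i, g' j⁆)
    (hgen : closure (Set.range g) ⊔ closure ({z1, z2} : Set T) = ⊤)
    (hNZ : ∀ N : Subgroup T, N.Normal → N ≠ ⊥ → z1 ∈ N ∨ z2 ∈ N ∨ z1 * z2 ∈ N)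
    (h1 : z1' ≠ 1) (h2 : z2' ≠ 1) (h12 : z1' * z2' ≠ 1) : Nonempty (T ≃* M) := by
  classical
  haveI : Finite M := Nat.finite_of_card_ne_zero (by rw [hcard]; omega)
  set ζ1 : T × M := (z1, z1') with hζ1
  set ζ2 : T × M := (z2, z2') with hζ2
  let γ : Fin 4 → T × M := fun i => (g i, g' i)
  -- the central part
  have hD0 := GenBound.card_closure_list_le (⊥ : Subgroup (T × M)) [ζ1, ζ2]
    (by intro y _ z hz; rw [mem_bot] at hz; subst hz; simp)
    (by
      intro y hy
      simp only [List.mem_cons, List.not_mem_nil, or_false] at hy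
      rcases hy with rfl | rfl
      · rw [mem_bot]; exact Prod.ext hz1 hz1'
      · rw [mem_bot]; exact Prod.ext hz2 hz2')
    (by
      intro y hy y' hy'
      simp only [List.mem_cons, List.not_mem_nil, or_false] at hy hy'
      rw [mem_bot, commutatorElement_eq_one_iff_mul_comm]
      rcases hy with rfl | rfl <;> rcases hy' with rfl | rfl
      · rfl
      · exact Prod.ext hz12 hz12'
      · exact Prod.ext hz12.symm hz12'.symm
      · rfl)
  set D0 : Subgroup (T × M) := closure {y | y ∈ [ζ1, ζ2]} with hD0def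
  have hD0eq : closure {y | y ∈ [ζ1, ζ2]} ⊔ (⊥ : Subgroup (T × M)) = D0 := by rw [sup_bot_eq]
  rw [hD0eq] at hD0
  obtain ⟨hD0fin, hD0card⟩ := hD0
  have hD0card' : Nat.card D0 ≤ 4 := le_trans hD0card (by simp)
  have hζ1D0 : ζ1 ∈ D0 := subset_closure (by simp)
  have hζ2D0 : ζ2 ∈ D0 := subset_closure (by simp)
  have hmatch : ∀ (a : T) (a' : M), Match z1 z2 z1' z2' a a' → ((a, a') : T × M) ∈ D0 := by
    rintro a a' ⟨e1, e2, rfl, rfl⟩
    have : ((z1 ^ e1 * z2 ^ e2, z1' ^ e1 * z2' ^ e2) : T × M) = ζ1 ^ e1 * ζ2 ^ e2 := by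
      simp [hζ1, hζ2]
    rw [this]
    exact mul_mem (pow_mem hζ1D0 e1) (pow_mem hζ2D0 e2)
  have hD0comm : ∀ i, ∀ z ∈ D0, γ i * z = z * γ i := by
    intro i
    have h : D0 ≤ centralizer {γ i} := by
      rw [hD0def, closure_le]
      intro y hy
      simp only [Set.mem_ofPred_eq, List.mem_cons, List.not_mem_nil, or_false] at hy
      rw [SetLike.mem_coe, mem_centralizer_iff]
      intro w hw
      rw [Set.mem_singleton_iff] at hw
      subst hw
      rcases hy with rfl | rfl
      · exact Prod.ext (hc1 i) (hc1' i)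
      · exact Prod.ext (hc2 i) (hc2' i)
    intro z hz
    exact (mem_centralizer_iff.mp (h hz)) (γ i) rfl
  set l : List (T × M) := [γ 0, γ 1, γ 2, γ 3] with hl
  have hmem : ∀ y ∈ l, ∃ i, y = γ i := by
    intro y hy
    simp only [hl, List.mem_cons, List.not_mem_nil, or_false] at hy
    rcases hy with rfl | rfl | rfl | rfl
    exacts [⟨0, rfl⟩, ⟨1, rfl⟩, ⟨2, rfl⟩, ⟨3, rfl⟩]
  have hγmem : ∀ i, γ i ∈ l := by
    intro i
    fin_cases i <;> simp [hl]
  have hcommD0 : ∀ i j, ⁅γ i, γ j⁆ ∈ D0 := by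
    intro i j
    have key : ∀ i j, i < j → ⁅γ i, γ j⁆ ∈ D0 := by
      intro i j hij
      have : ⁅γ i, γ j⁆ = ((⁅g i, g j⁆, ⁅g' i, g' j⁆) : T × M) := rfl
      rw [this]
      exact hmatch _ _ (hcm i j hij)
    rcases lt_trichotomy i j with h | h | h
    · exact key i j h
    · subst h; rw [commutatorElement_self]; exact one_mem _
    · rw [← commutatorElement_inv]; exact inv_mem (key j i h)
  have hD := GenBound.card_closure_list_le D0 l
    (by
      intro y hy z hz
      obtain ⟨i, rfl⟩ := hmem y hy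
      exact hD0comm i z hz)
    (by
      intro y hy
      obtain ⟨i, rfl⟩ := hmem y hy
      have : γ i ^ 2 = ((g i ^ 2, g' i ^ 2) : T × M) := rfl
      rw [this]
      exact hmatch _ _ (hsq i))
    (by
      intro y hy y' hy'
      obtain ⟨i, rfl⟩ := hmem y hy
      obtain ⟨j, rfl⟩ := hmem y' hy'
      exact hcommD0 i j)
  set D : Subgroup (T × M) := closure {y | y ∈ l} ⊔ D0 with hDdef
  obtain ⟨hDfin, hDcard⟩ := hD
  have hDcard' : Nat.card D ≤ Nat.card T := by
    calc Nat.card D ≤ 2 ^ l.length * Nat.card D0 := hDcard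
      _ ≤ 2 ^ 4 * 4 := by
        have : l.length = 4 := by simp [hl]
        rw [this]
        exact Nat.mul_le_mul_left _ hD0card'
      _ ≤ Nat.card T := by omega
  have hγD : ∀ i, γ i ∈ D := fun i =>
    le_sup_left (a := closure {y | y ∈ l}) (subset_closure (hγmem i))
  have hD0D : D0 ≤ D := le_sup_right
  have hproj : ∀ t : T, ∃ m : M, (t, m) ∈ D := by
    have h3 : (⊤ : Subgroup T) ≤ D.map (MonoidHom.fst T M) := by
      rw [← hgen]
      apply sup_le
      · rw [closure_le]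
        rintro _ ⟨i, rfl⟩
        exact ⟨γ i, hγD i, rfl⟩
      · rw [closure_le]
        intro y hy
        rcases hy with rfl | hy
        · exact ⟨ζ1, hD0D hζ1D0, rfl⟩
        · rw [Set.mem_singleton_iff] at hy
          subst hy
          exact ⟨ζ2, hD0D hζ2D0, rfl⟩
    intro t
    obtain ⟨⟨t', m⟩, htm, rfl⟩ := h3 (mem_top t)
    exact ⟨m, htm⟩
  obtain ⟨f, hf⟩ := GenBound.exists_hom_of_card_le D hproj hDcard'
  have hfz1 : f z1 = z1' := ((hf z1 z1').mp (hD0D hζ1D0)).symm
  have hfz2 : f z2 = z2' := ((hf z2 z2').mp (hD0D hζ2D0)).symm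
  have hker : f.ker = ⊥ := by
    by_contra hne
    rcases hNZ f.ker inferInstance hne with hc | hc | hc
    · rw [MonoidHom.mem_ker, hfz1] at hc; exact h1 hc
    · rw [MonoidHom.mem_ker, hfz2] at hc; exact h2 hc
    · rw [MonoidHom.mem_ker, map_mul, hfz1, hfz2] at hc; exact h12 hc
  have hinj : Function.Injective f := (MonoidHom.ker_eq_bot_iff f).mp hker
  have hbij : Function.Bijective f := hinj.bijective_of_nat_card_le (by rw [hcard])
  exact ⟨MulEquiv.ofBijective f hbij⟩

end Cfsg.Agent.Lib.Helper98.Iso64
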