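import Cfsg.Agent.Lib.Helper98.FusionQDWr
import Cfsg.Agent.S2060
import Cfsg.Agent.S1603
import Cfsg.Agent.S0418
import Cfsg.Agent.S0387
import Cfsg.Agent.S1217

/-!
# The 2-fusion system of the Mathieu group `M₁₁` is simple
-/

set_option autoImplicit false

namespace Cfsg.Agent.Lib.Helper98.M11Fusion

open Cfsg Cfsg.Agent.Lib.Helper7 Cfsg.Agent.S5522 Cfsg.Agent.S2060
open scoped Pointwise

/-! ### `M₁₁` is sharply 4-transitive on eleven points, hence simple -/

/-- Extend a 4-tuple of the eleven points by the fixed point `0`. -/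
noncomputable def ext5 (x : Fin 4 ↪ ↥pts) : Fin 5 ↪ GolayPt :=
  ⟨Fin.cons (pt 0) (fun i => ((x i : ↥pts) : GolayPt)), by
    rw [Fin.cons_injective_iff]
    constructor
    · rintro ⟨i, hi⟩
      exact (x i).2.2 hi
    · intro i j hij
      exact x.injective (Subtype.ext hij)⟩

theorem ext5_zero (x : Fin 4 ↪ ↥pts) : ext5 x 0 = pt 0 := rfl

theorem ext5_succ (x : Fin 4 ↪ ↥pts) (i : Fin 4) : ext5 x i.succ = ((x i : ↥pts) : GolayPt) := rfl

theorem ext5_mem (x : Fin 4 ↪ ↥pts) (i : Fin 5) : ext5 x i ∈ D := by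
  refine Fin.cases ?_ (fun j => ?_) i
  · rw [ext5_zero, mem_setOf]; decide
  · rw [ext5_succ]; exact (x j).2.1

theorem exists_map4 (x y : Fin 4 ↪ ↥pts) : ∃ g : ↥Spor.M11, g • x = y := by
  obtain ⟨k, ⟨hk, hmap⟩, -⟩ := existsUnique_stabM24_map dsq_mem_dodecads (ext5 x) (ext5 y)
    (ext5_mem x) (ext5_mem y)
  have h0 : k (pt 0) = pt 0 := hmap 0
  refine ⟨⟨k, mem_M11_iff.mpr ⟨hk, h0⟩⟩, ?_⟩
  apply DFunLike.ext
  intro i
  apply Subtype.ext
  have := hmap i.succ
  rw [ext5_succ, ext5_succ] at this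
  exact this

theorem stabilizer_eq_bot (x : Fin 4 ↪ ↥pts) : MulAction.stabilizer ↥Spor.M11 x = ⊥ := by
  rw [eq_bot_iff]
  intro g hg
  rw [MulAction.mem_stabilizer_iff] at hg
  rw [Subgroup.mem_bot]
  obtain ⟨k, -, huniq⟩ := existsUnique_stabM24_map dsq_mem_dodecads (ext5 x) (ext5 x)
    (ext5_mem x) (ext5_mem x)
  obtain ⟨hgD, hg0⟩ := mem_M11_iff.mp g.2
  have h1 : (g : Equiv.Perm GolayPt) = k := by
    apply huniq
    refine ⟨hgD, fun i => ?_⟩
    refine Fin.cases ?_ (fun j => ?_) i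
    · exact hg0
    · rw [ext5_succ]
      have := congrArg (fun e : Fin 4 ↪ ↥pts => ((e j : ↥pts) : GolayPt)) hg
      exact this
  have h2 : (1 : Equiv.Perm GolayPt) = k := huniq 1 ⟨(stabM24 D).one_mem, fun i => rfl⟩
  exact Subtype.ext (h1.trans h2.symm)

theorem isSimpleGroup_M11 : IsSimpleGroup ↥Spor.M11 := by
  classical
  have : Fintype ↥pts := Fintype.ofFinite _
  have hc : Fintype.card ↥pts = 11 := by rw [← Nat.card_eq_fintype_card, card_pts]
  have : MulAction.IsMultiplyPretransitive ↥Spor.M11 ↥pts 4 := ⟨exists_map4⟩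
  exact (Cfsg.Agent.S0418.simple_of_sharp4 (H := ↥Spor.M11) (β := ↥pts) hc stabilizer_eq_bot).1

/-! ### The Sylow 2-subgroups of `M₁₁` are quasi-dihedral -/

/-- The version of `M₁₁` inside `M₂₄` used by `S1603`. -/
abbrev M11' : Subgroup ↥M24 := MulAction.stabilizer ↥M24 D ⊓ MulAction.stabilizer ↥M24 (pt 0)

/-- The inclusion of `M11'` into `Spor.M11`. -/
def incl : ↥M11' →* ↥Spor.M11 :=
  ((M24.subtype).comp (M11'.subtype)).codRestrict Spor.M11 (fun x => by
    rw [mem_M11_iff, mem_stabM24]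
    exact ⟨⟨x.1.2, x.2.1⟩, x.2.2⟩)

theorem incl_injective : Function.Injective incl := by
  intro a b h
  have : (a.1.1 : Equiv.Perm GolayPt) = b.1.1 := congrArg (fun z : ↥Spor.M11 => (z : Equiv.Perm GolayPt)) h
  exact Subtype.ext (Subtype.ext this)

theorem factorization_7920 : (7920 : ℕ).factorization 2 = 4 := by
  have h : (7920 : ℕ) = 2 ^ 4 * 495 := by norm_num
  rw [h, Nat.factorization_mul (by norm_num) (by norm_num), Nat.Prime.factorization_pow Nat.prime_two]
  simp [Nat.factorization_eq_zero_of_not_dvd (show ¬ 2 ∣ 495 by norm_num)]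

theorem factorization_48 : (48 : ℕ).factorization 2 = 4 := by
  have h : (48 : ℕ) = 2 ^ 4 * 3 := by norm_num
  rw [h, Nat.factorization_mul (by norm_num) (by norm_num), Nat.Prime.factorization_pow Nat.prime_two]
  simp [Nat.factorization_eq_zero_of_not_dvd (show ¬ 2 ∣ 3 by norm_num)]

instance : Fact (Nat.Prime 3) := ⟨Nat.prime_three⟩

theorem card_GL23 : Nat.card (GL (Fin 2) (ZMod 3)) = 48 := by
  rw [PSL3Fusion.card_GL2, ZMod.card]
  norm_num

theorem sylow_isQuasiDihedral (S : Sylow 2 ↥Spor.M11) : IsQuasiDihedral (S : Subgroup ↥Spor.M11) := by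
  have : Fact (Nat.Prime 2) := ⟨Nat.prime_two⟩
  have h0D : pt 0 ∈ D := by rw [mem_setOf]; decide
  have hcard' : Nat.card ↥M11' = 7920 := Cfsg.Agent.S0387.result D dsq_mem_dodecads (pt 0) h0D
  have : Finite ↥M11' := Nat.finite_of_card_ne_zero (by rw [hcard']; norm_num)
  obtain ⟨x, hx⟩ := exists_prime_orderOf_dvd_card' (G := ↥M11') 2 (by rw [hcard']; norm_num)
  obtain ⟨e⟩ := Cfsg.Agent.S1603.result D dsq_mem_dodecads (pt 0) h0D x hx
  let P : Sylow 2 (GL (Fin 2) (ZMod 3)) := default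
  have hP : IsQuasiDihedral (P : Subgroup (GL (Fin 2) (ZMod 3))) :=
    (Cfsg.Agent.S1217.result P).1 (by rw [ZMod.card])
  let ψ : (P : Subgroup (GL (Fin 2) (ZMod 3))) →* ↥Spor.M11 :=
    incl.comp ((Subgroup.centralizer ({x} : Set ↥M11')).subtype.comp
      (e.symm.toMonoidHom.comp (P : Subgroup (GL (Fin 2) (ZMod 3))).subtype))
  have hinj : Function.Injective ψ := by
    intro a b hab
    have h1 := incl_injective hab
    have h2 := Subtype.val_injective h1
    have h3 := e.symm.injective h2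
    exact Subtype.val_injective h3
  have hcard : Nat.card ψ.range = 2 ^ (Nat.card ↥Spor.M11).factorization 2 := by
    rw [← Nat.card_congr (MonoidHom.ofInjective hinj).toEquiv, P.card_eq_multiplicity, card_GL23,
      card_M11, factorization_7920, factorization_48]
  let S₀ : Sylow 2 ↥Spor.M11 := Sylow.ofCard ψ.range hcard
  have e1 : (P : Subgroup (GL (Fin 2) (ZMod 3))) ≃* (S₀ : Subgroup ↥Spor.M11) := MonoidHom.ofInjective hinj
  exact PSL3Fusion.isQuasiDihedral_of_equiv (e1.trans (Sylow.equiv S₀ S)) hP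

/-- The 2-fusion system of `M₁₁` is simple. -/
theorem m11_fusion_isSimple (S : Sylow 2 ↥Spor.M11) :
    (Cfsg.groupFusionSystem (S : Subgroup ↥Spor.M11)).IsSimple 2 := by
  have : Fact (Nat.Prime 2) := ⟨Nat.prime_two⟩
  have : Finite ↥Spor.M11 := Nat.finite_of_card_ne_zero (by rw [card_M11]; norm_num)
  have hshape : IsQuasiDihedral (S : Subgroup ↥Spor.M11) ∨ IsWreathed (S : Subgroup ↥Spor.M11) :=
    Or.inl (sylow_isQuasiDihedral S)
  obtain ⟨h16, -⟩ := PSL3Fusion.exists_gen (S : Subgroup ↥Spor.M11) hshape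
  have hG : ∀ H : Subgroup ↥Spor.M11, H.index ≠ 2 := by
    intro H hH
    have hsimple : IsSimpleGroup ↥Spor.M11 := isSimpleGroup_M11
    have hn : H.Normal := Subgroup.normal_of_index_eq_two hH
    rcases hn.eq_bot_or_eq_top with h | h
    · rw [h, Subgroup.index_bot] at hH
      have := Subgroup.card_le_card_group (S : Subgroup ↥Spor.M11)
      omega
    · rw [h, Subgroup.index_top] at hH
      omega
  exact FusionQDWr.isSimple_of_qd_or_wreathed S hshape hG

end Cfsg.Agent.Lib.Helper98.M11Fusion
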