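import Cfsg.Prelude.Def_Blocks
import Cfsg.Agent.Lib.Helper74.RealCount
import Cfsg.Agent.Lib.Helper3.ColOrth
import Cfsg.Agent.Lib.Helper81.IrrTwist
import Cfsg.Agent.Lib.Helper79.Integrality

/-!
# Project M22B, module [DEG] (general form)

A group of order `443520` with twelve classes, one of them not real, and eight real-valued
irreducible characters of degrees `1 21 55 99 154 210 231 385` has all its irreducible character
degrees with `2`-part at most `8`.
-/

set_option autoImplicit false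
set_option linter.unusedVariables false
set_option linter.style.haveILetI false

namespace Cfsg.Agent.Lib.Helper98.M22BDeg
open Cfsg
open scoped ComplexConjugate

/-- The divisors of `443520` up to `401`. -/
def divs : List ℕ := [1, 2, 3, 4, 5, 6, 7, 8, 9, 10, 11, 12, 14, 15, 16, 18, 20, 21, 22, 24, 28, 30,
  32, 33, 35, 36, 40, 42, 44, 45, 48, 55, 56, 60, 63, 64, 66, 70, 72, 77, 80, 84, 88, 90, 96, 99, 105,
  110, 112, 120, 126, 128, 132, 140, 144, 154, 160, 165, 168, 176, 180, 192, 198, 210, 220, 224, 231,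
  240, 252, 264, 280, 288, 308, 315, 320, 330, 336, 352, 360, 384, 385, 396]

theorem divs_eq : divs = (List.range 402).filter fun d => 443520 % d == 0 := by decide +kernel

/-- Integer square root by bisection with fuel (its output is re-checked inside `chk`). -/
def sq (r : ℕ) : ℕ → ℕ → ℕ → ℕ
  | 0, lo, _ => lo
  | f + 1, lo, hi =>
    let m := (lo + hi + 1) / 2
    if m * m ≤ r then sq r f m hi else sq r f lo (m - 1)

/-- The finite check. -/
def chk : Bool := divs.all fun a => divs.all fun b =>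
  if 2 * a * a + b * b ≤ 160850 then
    (sq (160850 - (2 * a * a + b * b)) 9 0 401 * sq (160850 - (2 * a * a + b * b)) 9 0 401 ≤
        160850 - (2 * a * a + b * b) &&
      160850 - (2 * a * a + b * b) < (sq (160850 - (2 * a * a + b * b)) 9 0 401 + 1) *
        (sq (160850 - (2 * a * a + b * b)) 9 0 401 + 1)) &&
    (!(sq (160850 - (2 * a * a + b * b)) 9 0 401 * sq (160850 - (2 * a * a + b * b)) 9 0 401 ==
          160850 - (2 * a * a + b * b) &&
        443520 % sq (160850 - (2 * a * a + b * b)) 9 0 401 == 0) ||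
      (a % 16 != 0 && b % 16 != 0 && sq (160850 - (2 * a * a + b * b)) 9 0 401 % 16 != 0))
  else true

theorem chk_ok : chk = true := by decide +kernel

theorem mem_divs {a : ℕ} (ha : a ∣ 443520) (hle : a ≤ 401) : a ∈ divs := by
  rw [divs_eq, List.mem_filter, List.mem_range]
  refine ⟨by omega, ?_⟩
  have := Nat.mod_eq_zero_of_dvd ha
  simp [this]

theorem arith {a b c : ℕ} (ha : a ∣ 443520) (hb : b ∣ 443520) (hc : c ∣ 443520)
    (h : 2 * a * a + b * b + c * c = 160850) : ¬ 16 ∣ a ∧ ¬ 16 ∣ b ∧ ¬ 16 ∣ c := by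
  have ha' : a ≤ 401 := by nlinarith
  have hb' : b ≤ 401 := by nlinarith
  have h0 := chk_ok
  unfold chk at h0
  rw [List.all_eq_true] at h0
  have h1 := h0 a (mem_divs ha ha')
  rw [List.all_eq_true] at h1
  have h2 := h1 b (mem_divs hb hb')
  have hs : 2 * a * a + b * b ≤ 160850 := by omega
  have hr : 160850 - (2 * a * a + b * b) = c * c := by omega
  rw [if_pos hs, hr] at h2
  generalize sq (c * c) 9 0 401 = c' at h2
  simp only [Bool.and_eq_true, decide_eq_true_eq, Bool.or_eq_true, Bool.not_eq_true',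
    Bool.and_eq_false_imp, beq_iff_eq, beq_eq_false_iff_ne, ne_eq, bne_iff_ne] at h2
  obtain ⟨⟨h4, h5⟩, h6⟩ := h2
  have hcc : c' = c := by
    have h7 : c' ≤ c := by
      by_contra hlt
      push Not at hlt
      nlinarith
    have h8 : c < c' + 1 := by
      by_contra hlt
      push Not at hlt
      nlinarith
    omega
  subst hcc
  rcases h6 with h6 | ⟨⟨h6, h7⟩, h8⟩
  · exact absurd (Nat.mod_eq_zero_of_dvd hc) (h6 rfl)
  · exact ⟨fun hd => h6 (Nat.mod_eq_zero_of_dvd hd), fun hd => h7 (Nat.mod_eq_zero_of_dvd hd),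
      fun hd => h8 (Nat.mod_eq_zero_of_dvd hd)⟩

theorem fact_le {n : ℕ} (hn : n ≠ 0) (h : ¬ 16 ∣ n) : n.factorization 2 ≤ 3 := by
  by_contra hlt
  push Not at hlt
  exact h ((Nat.Prime.pow_dvd_iff_le_factorization Nat.prime_two hn).2 hlt)

/-- The degrees of the eight known characters. -/
def degs (r : ℕ) : ℕ := ([1, 21, 55, 99, 154, 210, 231, 385] : List ℕ).getD r 0

theorem degs_inj : ∀ r s : Fin 8, degs r = degs s → r = s := by decide

theorem degs_ok : ∀ r : Fin 8, degs r ≠ 0 ∧ ¬ 16 ∣ degs r := by decide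

theorem sum_degs : ∑ r : Fin 8, degs r ^ 2 = 282670 := by decide

/-- **[DEG], general form.** -/
theorem degree_two_part_general {G : Type} [Group G] [Finite G] (hG : Nat.card G = 443520)
    (hk : Nat.card (ConjClasses G) = 12) (hnr : ∃ g : G, ¬ IsConj g g⁻¹)
    (f : ℕ → G → ℂ) (hirr : ∀ r < 8, IsIrrCharacter G (f r))
    (hdeg : ∀ r < 8, f r 1 = ((degs r : ℕ) : ℂ))
    (hreal : ∀ r < 8, ∀ g, (f r g).im = 0) (χ : IrrCharacter G) :
    (charDegree (χ : G → ℂ)).factorization 2 ≤ 3 := by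
  classical
  haveI : Fintype G := Fintype.ofFinite G
  haveI : Fintype (IrrCharacter G) := Fintype.ofFinite _
  haveI : Fintype (ConjClasses G) := Fintype.ofFinite _
  have hone := Cfsg.Agent.Lib.Helper79.irr_apply_one_eq_charDegree (G := G)
  have hpos := Cfsg.Agent.Lib.Helper79.irr_charDegree_pos (G := G)
  have hdvd : ∀ ψ : IrrCharacter G, charDegree (ψ : G → ℂ) ∣ 443520 := fun ψ => by
    have := Cfsg.Agent.Lib.Helper79.irr_charDegree_dvd_card ψ
    rwa [hG] at this
  -- number of irreducible characters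
  have hcard : Fintype.card (IrrCharacter G) = 12 := by
    rw [← Nat.card_eq_fintype_card, Cfsg.Agent.Lib.Helper3.card_irrCharacter, hk]
  -- the eight known characters
  let e : Fin 8 → IrrCharacter G := fun r => ⟨f r, hirr r r.2⟩
  have hde : ∀ r : Fin 8, charDegree ((e r : IrrCharacter G) : G → ℂ) = degs r := fun r => by
    have h1 := hone (e r)
    have h2 : ((e r : IrrCharacter G) : G → ℂ) 1 = ((degs r : ℕ) : ℂ) := hdeg r r.2
    rw [h2] at h1
    exact (Nat.cast_injective h1).symm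
  have he : Function.Injective e := fun r s hrs => by
    apply degs_inj
    rw [← hde r, ← hde s, hrs]
  -- a non-real irreducible character
  have hex : ∃ χ0 : IrrCharacter G, ¬ ∀ g : G, ((χ0 : G → ℂ) g).im = 0 := by
    by_contra hall
    push Not at hall
    have h1 := Cfsg.Agent.Lib.Helper74.card_real_irr_eq_card_real_classes (G := G)
    have h2 : Nat.card {χ : Cfsg.IrrCharacter G // ∀ g : G, ((χ : G → ℂ) g).im = 0} = 12 := by
      rw [Nat.card_congr (Equiv.subtypeUnivEquiv hall), Nat.card_eq_fintype_card, hcard]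
    obtain ⟨g0, hg0⟩ := hnr
    have h3 : Nat.card {C : ConjClasses G // ∀ g : G, ConjClasses.mk g = C → IsConj g g⁻¹} < 12 := by
      rw [Nat.card_eq_fintype_card, ← hk, Nat.card_eq_fintype_card]
      exact Fintype.card_subtype_lt (x := ConjClasses.mk g0) fun h => hg0 (h g0 rfl)
    omega
  obtain ⟨χ0, hχ0⟩ := hex
  let χ0' : IrrCharacter G :=
    ⟨fun g => conj ((χ0 : G → ℂ) g), Cfsg.Agent.Lib.Helper81.isIrrCharacter_conj χ0.2⟩
  have hne : χ0' ≠ χ0 := fun h => hχ0 fun g => by
    have h1 : conj ((χ0 : G → ℂ) g) = (χ0 : G → ℂ) g := congrFun (congrArg Subtype.val h) g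
    exact Complex.conj_eq_iff_im.1 h1
  have hreal_e : ∀ r : Fin 8, ∀ g, (((e r : IrrCharacter G) : G → ℂ) g).im = 0 :=
    fun r g => hreal r r.2 g
  have h0e : ∀ r : Fin 8, e r ≠ χ0 := fun r h => hχ0 (h ▸ hreal_e r)
  have h0e' : ∀ r : Fin 8, e r ≠ χ0' := fun r h => hχ0 fun g => by
    have h1 : ((e r : IrrCharacter G) : G → ℂ) g = conj ((χ0 : G → ℂ) g) :=
      congrFun (congrArg Subtype.val h) g
    have h2 := hreal_e r g
    rw [h1, Complex.conj_im, neg_eq_zero] at h2
    exact h2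
  have hdeg0' : charDegree ((χ0' : IrrCharacter G) : G → ℂ) = charDegree ((χ0 : IrrCharacter G) : G → ℂ) := by
    have h1 := hone χ0'
    have h2 : ((χ0' : IrrCharacter G) : G → ℂ) 1 = conj ((χ0 : G → ℂ) 1) := rfl
    rw [h2, hone χ0, Complex.conj_natCast] at h1
    exact (Nat.cast_injective h1).symm
  -- sum of squares of the degrees
  have hsum : ∑ ψ : IrrCharacter G, charDegree (ψ : G → ℂ) ^ 2 = 443520 := by
    have h1 := Cfsg.Agent.Lib.Helper3.sum_sq_degrees (G := G)
    rw [hG] at h1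
    have h2 : ∑ ψ : IrrCharacter G, (ψ : G → ℂ) 1 ^ 2 =
        ((∑ ψ : IrrCharacter G, charDegree (ψ : G → ℂ) ^ 2 : ℕ) : ℂ) := by
      push_cast
      exact Finset.sum_congr rfl fun ψ _ => by rw [hone ψ]
    rw [h2] at h1
    exact_mod_cast h1
  -- split the sum
  set A : Finset (IrrCharacter G) := Finset.univ.image e with hA
  have hAcard : A.card = 8 := by
    rw [hA, Finset.card_image_of_injective _ he, Finset.card_univ, Fintype.card_fin]
  have hAsum : ∑ ψ ∈ A, charDegree (ψ : G → ℂ) ^ 2 = 282670 := by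
    rw [hA, Finset.sum_image fun r _ s _ h => he h, ← sum_degs]
    exact Finset.sum_congr rfl fun r _ => by rw [hde r]
  have hSsum : ∑ ψ ∈ Aᶜ, charDegree (ψ : G → ℂ) ^ 2 = 160850 := by
    have := Finset.sum_compl_add_sum A fun ψ : IrrCharacter G => charDegree (ψ : G → ℂ) ^ 2
    omega
  have hScard : Aᶜ.card = 4 := by
    rw [Finset.card_compl, hcard, hAcard]
  have hmemS : ∀ ψ : IrrCharacter G, ψ ∈ Aᶜ ↔ ∀ r : Fin 8, e r ≠ ψ := fun ψ => by
    rw [Finset.mem_compl, hA, Finset.mem_image]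
    constructor
    · intro h r hr
      exact h ⟨r, Finset.mem_univ _, hr⟩
    · rintro h ⟨r, _, hr⟩
      exact h r hr
  have h0S : χ0 ∈ Aᶜ := (hmemS χ0).2 h0e
  have h0S' : χ0' ∈ (Aᶜ).erase χ0 := Finset.mem_erase.2 ⟨hne, (hmemS χ0').2 h0e'⟩
  have hTcard : (((Aᶜ).erase χ0).erase χ0').card = 2 := by
    rw [Finset.card_erase_of_mem h0S', Finset.card_erase_of_mem h0S, hScard]
  obtain ⟨ψ1, ψ2, hψ12, hT⟩ := Finset.card_eq_two.1 hTcard
  have hsum4 : 2 * charDegree (χ0 : G → ℂ) * charDegree (χ0 : G → ℂ) +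
      charDegree (ψ1 : G → ℂ) * charDegree (ψ1 : G → ℂ) +
      charDegree (ψ2 : G → ℂ) * charDegree (ψ2 : G → ℂ) = 160850 := by
    have h1 := Finset.add_sum_erase _ (fun ψ : IrrCharacter G => charDegree (ψ : G → ℂ) ^ 2) h0S
    have h2 := Finset.add_sum_erase _ (fun ψ : IrrCharacter G => charDegree (ψ : G → ℂ) ^ 2) h0S'
    rw [hT, Finset.sum_pair hψ12] at h2
    simp only [hdeg0'] at h2
    rw [hSsum] at h1
    nlinarith
  obtain ⟨ha, hb, hc⟩ := arith (hdvd χ0) (hdvd ψ1) (hdvd ψ2) hsum4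
  -- conclusion
  apply fact_le (hpos χ).ne'
  by_cases hχA : χ ∈ A
  · obtain ⟨r, _, rfl⟩ := Finset.mem_image.1 hχA
    rw [hde r]
    exact (degs_ok r).2
  · have hχS : χ ∈ Aᶜ := Finset.mem_compl.2 hχA
    by_cases h1 : χ = χ0
    · rw [h1]; exact ha
    by_cases h2 : χ = χ0'
    · rw [h2, hdeg0']; exact ha
    have hχT : χ ∈ ((Aᶜ).erase χ0).erase χ0' :=
      Finset.mem_erase.2 ⟨h2, Finset.mem_erase.2 ⟨h1, hχS⟩⟩
    rw [hT, Finset.mem_insert, Finset.mem_singleton] at hχT
    rcases hχT with h | h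
    · rw [h]; exact hb
    · rw [h]; exact hc

end Cfsg.Agent.Lib.Helper98.M22BDeg
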