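import Cfsg.Agent.Lib.Helper98.M22BDeg
import Cfsg.Agent.Lib.Helper62.M22BChiFam
import Cfsg.Agent.Lib.Helper9.M22BCN

/-!
# Project M22B, module [DEG] in `_of` form

`degree_two_part_of`: the statement of [DEG] with the exact skeleton statements of [IRR8]
(`isIrr_chiFam`), [VAL] (`chiFam_repG`), [COUNT-b] (`repG_not_isConj`) and [COUNT-c] (`isConj_repG`)
as hypotheses.  [NR11] (`s11_not_conj_inv`, helper9) and `card_M22` (helper92) are on main and
are used directly.
-/

set_option autoImplicit false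
set_option linter.unusedVariables false

namespace Cfsg.Agent.Lib.Helper29.M22B
open Cfsg Cfsg.Agent.Lib.Helper7 Cfsg.Agent.Lib.Helper92 Cfsg.Agent.Lib.Helper92.SylM22

theorem h98_chiTab_zero : ∀ r : Fin 8, chiTab r 0 = (Cfsg.Agent.Lib.Helper98.M22BDeg.degs r : ℤ) := by
  decide

theorem h98_chiFam_im (r : ℕ) (hr : r < 8) (g : G) : (chiFam r g).im = 0 := by
  interval_cases r <;>
    simp [chiFam, chi21, chi55, chi99, chi154, chi210, chi231, chi385, p231, pi24, pi77, pi176,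
      pi330, pi616]

theorem h98_card_conjClasses
    (hcov : ∀ g : G, ∃ i < 12, IsConj g (repG i))
    (hnc : ∀ {i j : ℕ}, i < 12 → j < 12 → i ≠ j → ¬ IsConj (repG i) (repG j)) :
    Nat.card (ConjClasses G) = 12 := by
  have hb : Function.Bijective (fun i : Fin 12 => ConjClasses.mk (repG i)) := by
    constructor
    · intro i j hij
      by_contra hne
      exact hnc i.2 j.2 (fun h => hne (Fin.ext h)) (ConjClasses.mk_eq_mk_iff_isConj.1 hij)
    · intro C
      obtain ⟨g, rfl⟩ := ConjClasses.exists_rep C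
      obtain ⟨i, hi, hgi⟩ := hcov g
      exact ⟨⟨i, hi⟩, (ConjClasses.mk_eq_mk_iff_isConj.2 hgi).symm⟩
  rw [← Nat.card_eq_of_bijective _ hb, Nat.card_fin]

theorem h98_exists_not_real : ∃ g : G, ¬ IsConj g g⁻¹ := by
  refine ⟨⟨s11P, s11_mem⟩, fun h => ?_⟩
  obtain ⟨c, hc⟩ := isConj_iff.1 h
  have := congrArg Subtype.val hc
  exact s11_not_conj_inv c.1 c.2 this

/-- [DEG] in `_of` form. -/
theorem degree_two_part_of
    (hirr : ∀ r : ℕ, r < 8 → IsIrrCharacter G (chiFam r))
    (hval : ∀ r : ℕ, r < 8 → ∀ i : ℕ, i < 12 → chiFam r (repG i) = ((chiTab r i : ℤ) : ℂ))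
    (hnc : ∀ {i j : ℕ}, i < 12 → j < 12 → i ≠ j → ¬ IsConj (repG i) (repG j))
    (hcov : ∀ g : G, ∃ i < 12, IsConj g (repG i))
    (χ : IrrCharacter G) : (charDegree (χ : G → ℂ)).factorization 2 ≤ 3 := by
  refine Cfsg.Agent.Lib.Helper98.M22BDeg.degree_two_part_general card_M22
    (h98_card_conjClasses hcov hnc) h98_exists_not_real chiFam hirr ?_ h98_chiFam_im χ
  intro r hr
  have h1 := hval r hr 0 (by norm_num)
  have h2 : repG 0 = 1 := rfl
  rw [h2, h98_chiTab_zero ⟨r, hr⟩] at h1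
  rw [h1]
  push_cast
  rfl

end Cfsg.Agent.Lib.Helper29.M22B
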