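import Cfsg.Agent.Lib.Helper98.M24FusionData
import Cfsg.Agent.Lib.Helper98.FusionCentralConj
import Cfsg.Agent.Lib.Helper98.OddAutTwoGroups
import Cfsg.Agent.S2882
import Cfsg.Agent.S5394
import Cfsg.Agent.S5607

/-!
# The 2-fusion system of the Mathieu group `M₂₄` is simple
-/

set_option autoImplicit false

namespace Cfsg.Agent.Lib.Helper98.M24Fusion

open Cfsg Cfsg.Agent.Lib.Helper7 Cfsg.Agent.Lib.Helper27 Cfsg.Agent.Lib.Helper48
open scoped Pointwise

/-! ### The Sylow 2-subgroup `borel` is generated by its involutions with a fixed point -/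

/-- involutions of `borel` with a fixed point -/
def X2A : Set (Equiv.Perm GolayPt) := {g | g ∈ Helper48.borel ∧ orderOf g = 2 ∧ ∃ p, g p = p}

theorem invT_eq : slpT invProg invIdx = invT := by decide +kernel

/-- table check for membership in `X2A` -/
def invOK (t : List ℕ) : Bool :=
  borelOK t && (compT t t == idT) && ((List.range 24).any fun i => t.getD i 0 != i) &&
    ((List.range 24).any fun i => t.getD i 0 == i)

theorem pt_injOn {i j : ℕ} (hi : i < 24) (hj : j < 24) (h : pt i = pt j) : i = j := by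
  have := congrArg idx h
  rwa [idx_pt hi, idx_pt hj] at this

theorem mem_X2A_of_invOK {s : Equiv.Perm GolayPt} {t : List ℕ} (hm : Matches s t) (hs : s ∈ M24)
    (h : invOK t = true) : s ∈ X2A := by
  simp only [invOK, Bool.and_eq_true, beq_iff_eq, List.any_eq_true, List.mem_range, bne_iff_ne] at h
  obtain ⟨⟨⟨hb, hsq⟩, i, hi, hne⟩, j, hj, hfix⟩ := h
  have hss : s * s = 1 := by
    apply eq_one_of_matches_idT
    rw [← hsq]
    exact matches_mul hm hm
  have hs1 : s ≠ 1 := by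
    intro h1
    have h2 := hm (pt i)
    rw [h1, Equiv.Perm.one_apply, idx_pt hi] at h2
    exact hne h2.symm
  refine ⟨mem_borel_of_borelOK hm hs hb, ?_, pt j, matches_apply hm hj hj hfix⟩
  exact orderOf_eq_prime (by rw [pow_two]; exact hss) hs1

theorem exists_of_forall₂_mem_right {α β : Type*} {R : α → β → Prop} {l1 : List α} {l2 : List β}
    (h : List.Forall₂ R l1 l2) {b : β} (hb : b ∈ l2) : ∃ a ∈ l1, R a b := by
  induction h with
  | nil => exact absurd hb List.not_mem_nil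
  | cons hab _ ih =>
    rcases List.mem_cons.1 hb with rfl | hb'
    · exact ⟨_, List.mem_cons_self, hab⟩
    · obtain ⟨a, ha, hR⟩ := ih hb'
      exact ⟨a, List.mem_cons_of_mem _ ha, hR⟩

theorem invT_all_ok : invT.all invOK = true := by decide +kernel

/-- An involution of `X2A` moving `b` to `i` and fixing the points of `fx`. -/
theorem exists_inv (b i : ℕ) (hb : b < 24) (hi : i < 24) (fx : List ℕ) (hfx : ∀ j ∈ fx, j < 24)
    (h : invT.any (fun t => t.getD b 0 == i && fx.all fun j => t.getD j 0 == j) = true) :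
    ∃ u ∈ X2A, u (pt b) = pt i ∧ ∀ j ∈ fx, u (pt j) = pt j := by
  simp only [List.any_eq_true, Bool.and_eq_true, beq_iff_eq, List.all_eq_true] at h
  obtain ⟨t, ht, htb, htf⟩ := h
  have hM := slp_match invProg invIdx
  rw [invT_eq] at hM
  obtain ⟨g, hg, hgt⟩ := exists_of_forall₂_mem_right hM ht
  have hgM : g ∈ M24 := slpP_mem_M24 invProg invIdx g hg
  have hok : invOK t = true := List.all_eq_true.1 invT_all_ok t ht
  exact ⟨g, mem_X2A_of_invOK hgt hgM hok, matches_apply hgt hb hi htb,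
    fun j hj => matches_apply hgt (hfx j hj) (hfx j hj) (htf j hj)⟩

/-- An element of `borel` fixing `∞`, `3` and `1` fixes the octad pointwise. -/
theorem mem_fixM24_of_fixes {s : Equiv.Perm GolayPt} (hs : s ∈ Helper48.borel) (h23 : s (pt 23) = pt 23)
    (h3 : s (pt 3) = pt 3) (h1 : s (pt 1) = pt 1) : s ∈ fixM24 (setOf octO) := by
  have hM : s ∈ M24 := borel_le_M24 hs
  have h0 : s (pt 0) = pt 0 :=
    fix_partner hs (i := 23) (j := 0) (by decide) (by decide) (by decide) (by decide) h23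
  have h2 : s (pt 2) = pt 2 :=
    fix_partner hs (i := 1) (j := 2) (by decide) (by decide) (by decide) (by decide) h1
  have hfix5 : ∀ j < 5, s (bp j) = bp j := by
    intro j hj
    interval_cases j
    · exact h23
    · exact h0
    · exact h1
    · exact h2
    · exact h3
  have hok := orbitOK_of_fixes hM (i := 5) (by decide) hfix5
  set q := idx (s (bp 5)) with hq
  obtain ⟨hmem, hmap, hinv⟩ := octStabElem_spec (idx_lt (s (bp 5))) hok
  rw [← hq] at hmap
  have hpq : pt q = s (bp 5) := by rw [hq, pt_idx]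
  set e := octStabElem q with he
  have heM : e ∈ M24 := (mem_fixM24.1 hmem).1
  have heb : e ∈ Helper48.borel := borelA_le_borel (borelAE_le_borelA (fixM24_le_borelAE hmem))
  have hG6 : e * s ∈ Gst 6 := by
    rw [mem_Gst]
    refine ⟨M24.mul_mem heM hM, fun j hj => ?_⟩
    by_cases hj5 : j < 5
    · rw [Equiv.Perm.mul_apply, hfix5 j hj5]
      exact (mem_fixM24.1 hmem).2 _ (bp_mem_setOf_octO (by omega) (by omega))
    · have : j = 5 := by omega
      subst this
      rw [Equiv.Perm.mul_apply, ← hpq, hmap]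
      rfl
  have h3' : (e * s) ^ 3 = 1 := by
    have := pow_card_eq_one' (G := ↥(Gst 6)) (x := ⟨e * s, hG6⟩)
    rw [card_Gst_6] at this
    exact congrArg Subtype.val this
  have h16 : (e * s) ^ 2 ^ 4 = 1 := pow_sixteen_of_mem_borel (Helper48.borel.mul_mem heb hs)
  have hone : e * s = 1 :=
    Cfsg.Agent.Lib.Helper98.OddAut.eq_one_of_pow_odd_of_pow_two _ 3 4 (by decide) h3' h16
  have : s = e := by
    calc s = (e * e) * s := by rw [hinv, one_mul]
      _ = e * (e * s) := by rw [mul_assoc]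
      _ = e := by rw [hone, mul_one]
  rw [this]
  exact hmem

theorem borel_le_closure : Helper48.borel ≤ Subgroup.closure X2A := by
  intro g hg
  set U := Subgroup.closure X2A with hU
  have hUb : U ≤ Helper48.borel := (Subgroup.closure_le _).2 (fun x hx => hx.1)
  -- Stage 1
  have hO := kO_eq_of_mem_borel hg (pt 23)
  have h23 : kO (pt 23) = 0 := by decide
  rw [h23] at hO
  obtain ⟨u1, hu1, hu1m⟩ : ∃ u ∈ U, u (pt 23) = g (pt 23) := by
    have key : ∀ i < 24, kOL.getD i 9 = 0 → i = 23 ∨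
        invT.any (fun t => t.getD 23 0 == i && ([] : List ℕ).all fun j => t.getD j 0 == j) = true := by
      decide
    rcases key _ (idx_lt _) hO with h | h
    · refine ⟨1, U.one_mem, ?_⟩
      rw [Equiv.Perm.one_apply, ← pt_idx (g (pt 23)), h]
    · obtain ⟨u, hu, hum, -⟩ := exists_inv 23 _ (by decide) (idx_lt _) [] (by simp) h
      exact ⟨u, Subgroup.subset_closure hu, by rw [hum, pt_idx]⟩
  have hg1A : u1⁻¹ * g ∈ borelA := mem_borelA.2
    ⟨Helper48.borel.mul_mem (Helper48.borel.inv_mem (hUb hu1)) hg, by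
      rw [Equiv.Perm.mul_apply, Equiv.Perm.inv_eq_iff_eq, hu1m]⟩
  -- Stage 2
  have hA := kA_eq_of_mem_borelA hg1A (pt 3)
  have hk3 : kA (pt 3) = 2 := by decide
  rw [hk3] at hA
  obtain ⟨u2, hu2, hu2A, hu2m⟩ : ∃ u ∈ U, u ∈ borelA ∧ u (pt 3) = (u1⁻¹ * g) (pt 3) := by
    have key : ∀ i < 24, kAL.getD i 9 = 2 → i = 3 ∨
        invT.any (fun t => t.getD 3 0 == i && ([23] : List ℕ).all fun j => t.getD j 0 == j) = true := by
      decide
    rcases key _ (idx_lt _) hA with h | h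
    · refine ⟨1, U.one_mem, borelA.one_mem, ?_⟩
      rw [Equiv.Perm.one_apply, ← pt_idx ((u1⁻¹ * g) (pt 3)), h]
    · obtain ⟨u, hu, hum, huf⟩ := exists_inv 3 _ (by decide) (idx_lt _) [23] (by simp) h
      exact ⟨u, Subgroup.subset_closure hu, mem_borelA.2 ⟨hu.1, huf 23 (by simp)⟩,
        by rw [hum, pt_idx]⟩
  have hg2AE : u2⁻¹ * (u1⁻¹ * g) ∈ borelAE := by
    have hA' : u2⁻¹ * (u1⁻¹ * g) ∈ borelA := borelA.mul_mem (borelA.inv_mem hu2A) hg1A
    obtain ⟨hb, h23'⟩ := mem_borelA.1 hA'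
    exact mem_borelAE.2 ⟨hb, h23', by rw [Equiv.Perm.mul_apply, Equiv.Perm.inv_eq_iff_eq, hu2m]⟩
  -- Stage 3
  have hA1 := kA_eq_of_mem_borelA (borelAE_le_borelA hg2AE) (pt 1)
  have hk1 : kA (pt 1) = 1 := by decide
  rw [hk1] at hA1
  obtain ⟨u3, hu3, hu3AE, hu3m⟩ : ∃ u ∈ U, u ∈ borelAE ∧
      u (pt 1) = (u2⁻¹ * (u1⁻¹ * g)) (pt 1) := by
    have key : ∀ i < 24, kAL.getD i 9 = 1 → i = 1 ∨
        invT.any (fun t => t.getD 1 0 == i && ([23, 3] : List ℕ).all fun j => t.getD j 0 == j) = true := by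
      decide
    rcases key _ (idx_lt _) hA1 with h | h
    · refine ⟨1, U.one_mem, borelAE.one_mem, ?_⟩
      rw [Equiv.Perm.one_apply, ← pt_idx ((u2⁻¹ * (u1⁻¹ * g)) (pt 1)), h]
    · obtain ⟨u, hu, hum, huf⟩ := exists_inv 1 _ (by decide) (idx_lt _) [23, 3] (by simp) h
      exact ⟨u, Subgroup.subset_closure hu,
        mem_borelAE.2 ⟨hu.1, huf 23 (by simp), huf 3 (by simp)⟩, by rw [hum, pt_idx]⟩
  -- Stage 4
  have hg3AE : u3⁻¹ * (u2⁻¹ * (u1⁻¹ * g)) ∈ borelAE := borelAE.mul_mem (borelAE.inv_mem hu3AE) hg2AE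
  obtain ⟨hb3, h23', h3'⟩ := mem_borelAE.1 hg3AE
  have h1' : (u3⁻¹ * (u2⁻¹ * (u1⁻¹ * g))) (pt 1) = pt 1 := by
    rw [Equiv.Perm.mul_apply, Equiv.Perm.inv_eq_iff_eq, hu3m]
  have hfixO := mem_fixM24_of_fixes hb3 h23' h3' h1'
  have hg3U : u3⁻¹ * (u2⁻¹ * (u1⁻¹ * g)) ∈ U := by
    by_cases hone : u3⁻¹ * (u2⁻¹ * (u1⁻¹ * g)) = 1
    · rw [hone]; exact U.one_mem
    · apply Subgroup.subset_closure
      refine ⟨hb3, ?_, pt 23, h23'⟩
      exact orderOf_eq_prime (by rw [pow_two]; exact mul_self_of_mem_fixM24_octO hfixO) hone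
  have : g = u1 * (u2 * (u3 * (u3⁻¹ * (u2⁻¹ * (u1⁻¹ * g))))) := by group
  rw [this]
  exact U.mul_mem hu1 (U.mul_mem hu2 (U.mul_mem hu3 hg3U))

/-! ### Sylow 2-subgroups of `M24` -/

/-- involutions with a fixed point inside a subgroup of `M24` -/
def XS (S : Subgroup ↥M24) : Set ↥M24 := {x | x ∈ S ∧ orderOf x = 2 ∧ ∃ p, (x : Equiv.Perm GolayPt) p = p}

theorem B'_le_closure : Cfsg.Agent.S2882.B' ≤ Subgroup.closure (XS Cfsg.Agent.S2882.B') := by
  intro x hx
  have hx' : (x : Equiv.Perm GolayPt) ∈ Helper48.borel := Subgroup.mem_subgroupOf.1 hx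
  have h := borel_le_closure hx'
  have key : ∀ y (_ : y ∈ Subgroup.closure X2A), ∃ hy : y ∈ M24,
      (⟨y, hy⟩ : ↥M24) ∈ Subgroup.closure (XS Cfsg.Agent.S2882.B') := by
    intro y hy
    induction hy using Subgroup.closure_induction with
    | mem y hy =>
      refine ⟨borel_le_M24 hy.1, Subgroup.subset_closure ⟨Subgroup.mem_subgroupOf.2 hy.1, ?_, hy.2.2⟩⟩
      rw [← Subgroup.orderOf_coe]
      exact hy.2.1
    | one => exact ⟨M24.one_mem, Subgroup.one_mem _⟩
    | mul a b _ _ iha ihb =>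
      obtain ⟨ha, ha'⟩ := iha
      obtain ⟨hb, hb'⟩ := ihb
      exact ⟨M24.mul_mem ha hb, Subgroup.mul_mem _ ha' hb'⟩
    | inv a _ iha =>
      obtain ⟨ha, ha'⟩ := iha
      exact ⟨M24.inv_mem ha, Subgroup.inv_mem _ ha'⟩
  obtain ⟨_, hy⟩ := key _ h
  exact hy

theorem factorization_card_M24 : (244823040 : ℕ).factorization 2 = 10 := by
  have h : (244823040 : ℕ) = 2 ^ 10 * 239085 := by norm_num
  rw [h, Nat.factorization_mul (by norm_num) (by norm_num), Nat.Prime.factorization_pow Nat.prime_two]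
  simp [Nat.factorization_eq_zero_of_not_dvd (show ¬ 2 ∣ 239085 by norm_num)]

instance : Finite ↥M24 := Nat.finite_of_card_ne_zero (by rw [card_M24]; norm_num)

theorem card_sylow (S : Sylow 2 ↥M24) : Nat.card (S : Subgroup ↥M24) = 1024 := by
  have : Fact (Nat.Prime 2) := ⟨Nat.prime_two⟩
  rw [S.card_eq_multiplicity, card_M24, factorization_card_M24]
  norm_num

/-- A central involution of a Sylow 2-subgroup of `M24` has a fixed point. -/
theorem exists_fixed_of_central (S : Sylow 2 ↥M24) (z : ↥M24) (hz : orderOf z = 2)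
    (hc : ∀ s ∈ (S : Subgroup ↥M24), s * z = z * s) : ∃ p, (z : Equiv.Perm GolayPt) p = p := by
  by_contra hcon
  push Not at hcon
  have hz' : orderOf (z : Equiv.Perm GolayPt) = 2 := by rw [Subgroup.orderOf_coe]; exact hz
  obtain ⟨hcard, -, -⟩ := Cfsg.Agent.S5607.result (z : Equiv.Perm GolayPt) z.2 hz' hcon
  let e : ↥(Subgroup.centralizer ({z} : Set ↥M24)) ≃
      {c : Equiv.Perm GolayPt // c ∈ M24 ∧ c * (z : Equiv.Perm GolayPt) = (z : Equiv.Perm GolayPt) * c} :=
    { toFun := fun c => ⟨(c : ↥M24), (c : ↥M24).2, by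
        have := Subgroup.mem_centralizer_singleton_iff.1 c.2
        exact congrArg Subtype.val this⟩
      invFun := fun c => ⟨⟨c.1, c.2.1⟩, Subgroup.mem_centralizer_singleton_iff.2 (Subtype.ext c.2.2)⟩
      left_inv := fun c => rfl
      right_inv := fun c => rfl }
  have hC : Nat.card ↥(Subgroup.centralizer ({z} : Set ↥M24)) = 7680 := by
    rw [Nat.card_congr e, hcard]
  have hle : (S : Subgroup ↥M24) ≤ Subgroup.centralizer ({z} : Set ↥M24) := by
    intro s hs
    exact Subgroup.mem_centralizer_singleton_iff.2 (hc s hs)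
  have := Subgroup.card_dvd_of_le hle
  rw [card_sylow S, hC] at this
  norm_num at this

/-- Every Sylow 2-subgroup of `M24` is generated by its involutions with a fixed point. -/
theorem sylow_le_closure (S : Sylow 2 ↥M24) :
    (S : Subgroup ↥M24) ≤ Subgroup.closure (XS (S : Subgroup ↥M24)) := by
  have : Fact (Nat.Prime 2) := ⟨Nat.prime_two⟩
  obtain ⟨P, hP⟩ := Cfsg.Agent.S2882.isPGroup_B'.exists_le_sylow
  have hBP : Cfsg.Agent.S2882.B' = (P : Subgroup ↥M24) :=
    Cfsg.Agent.S2882.eq_sylow_of_normalizer_eq Cfsg.Agent.S2882.normalizer_B' P hP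
  obtain ⟨g, rfl⟩ := MulAction.exists_smul_eq ↥M24 P S
  intro x hx
  rw [Sylow.coe_subgroup_smul, Subgroup.mem_pointwise_smul_iff_inv_smul_mem] at hx
  have hx' : g⁻¹ * x * g ∈ Cfsg.Agent.S2882.B' := by
    rw [hBP]
    simpa [MulAut.smul_def, mul_assoc] using hx
  have h := B'_le_closure hx'
  have key : ∀ y (_ : y ∈ Subgroup.closure (XS Cfsg.Agent.S2882.B')),
      g * y * g⁻¹ ∈ Subgroup.closure (XS ((g • P : Sylow 2 ↥M24) : Subgroup ↥M24)) := by
    intro y hy
    induction hy using Subgroup.closure_induction with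
    | mem y hy =>
      apply Subgroup.subset_closure
      obtain ⟨hyB, hyo, p, hp⟩ := hy
      refine ⟨?_, ?_, (g : Equiv.Perm GolayPt) p, ?_⟩
      · rw [Sylow.coe_subgroup_smul, Subgroup.mem_pointwise_smul_iff_inv_smul_mem, ← hBP]
        simpa [MulAut.smul_def, mul_assoc] using hyB
      · rw [← hyo, ← MulEquiv.orderOf_eq (MulAut.conj g) y, MulAut.conj_apply]
      · show ((g * y * g⁻¹ : ↥M24) : Equiv.Perm GolayPt) ((g : Equiv.Perm GolayPt) p) = _
        rw [Subgroup.coe_mul, Subgroup.coe_mul, Subgroup.coe_inv, Equiv.Perm.mul_apply,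
          Equiv.Perm.mul_apply]
        simp [hp]
    | one => simp
    | mul a b _ _ iha ihb =>
      have : g * (a * b) * g⁻¹ = (g * a * g⁻¹) * (g * b * g⁻¹) := by group
      rw [this]
      exact Subgroup.mul_mem _ iha ihb
    | inv a _ iha =>
      have : g * a⁻¹ * g⁻¹ = (g * a * g⁻¹)⁻¹ := by group
      rw [this]
      exact Subgroup.inv_mem _ iha
  have := key _ h
  have h2 : g * (g⁻¹ * x * g) * g⁻¹ = x := by group
  rwa [h2] at this

/-- The 2-fusion system of `M₂₄` is simple. -/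
theorem m24_fusion_isSimple (S : Sylow 2 ↥M24) :
    (Cfsg.groupFusionSystem (S : Subgroup ↥M24)).IsSimple 2 := by
  have : Fact (Nat.Prime 2) := ⟨Nat.prime_two⟩
  have hS1 : (S : Subgroup ↥M24) ≠ ⊥ := by
    intro h
    have := card_sylow S
    rw [h, Subgroup.card_bot] at this
    omega
  have hAut := FusionSelfNorm.autInducedBy_top_eq_of_selfNormalizing (Cfsg.Agent.S2882.result S)
  refine FusionCentralConj.isSimple_of_central_conj 2 S hS1 hAut (XS (S : Subgroup ↥M24))
    (fun x hx => hx.1) (sylow_le_closure S) ?_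
  intro z _ hzc hzo x hx
  obtain ⟨p, hp⟩ := exists_fixed_of_central S z hzo hzc
  obtain ⟨-, hxo, q, hq⟩ := hx
  have hzo' : orderOf (z : Equiv.Perm GolayPt) = 2 := by rw [Subgroup.orderOf_coe]; exact hzo
  have hxo' : orderOf (x : Equiv.Perm GolayPt) = 2 := by rw [Subgroup.orderOf_coe]; exact hxo
  obtain ⟨k, hk, hkz⟩ := Cfsg.Agent.S5394.result.2.2.2 (z : Equiv.Perm GolayPt) z.2
    (x : Equiv.Perm GolayPt) x.2 hzo' hxo'
    ⟨fun h => absurd hp (h p), fun h => absurd hq (h q)⟩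
  rw [isConj_iff]
  exact ⟨⟨k, hk⟩, Subtype.ext hkz⟩

end Cfsg.Agent.Lib.Helper98.M24Fusion
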