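import Cfsg.Agent.Lib.Helper48.M24Borel

/-!
# Data: eleven involutions with fixed points in the Sylow 2-subgroup `borel` of `M24`

Extension of helper48's straight-line program `borelProg`. AUTO-GENERATED (Python); everything is re-checked in Lean.
-/

set_option autoImplicit false

namespace Cfsg.Agent.Lib.Helper98.M24Fusion

open Cfsg.Agent.Lib.Helper48

/-- the extra steps appended to `borelProg` -/
def invExtra : List (ℕ × ℕ) :=
  [
   (291, 279), (279, 294), (279, 267), (291, 296), (279, 297), (273, 273), (279, 299), (285, 267),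
   (279, 301), (293, 302), (279, 273), (273, 304), (273, 291), (285, 306), (279, 307), (267, 279),
   (279, 309), (267, 279), (279, 311), (291, 312), (285, 267), (267, 314), (289, 315)]

/-- the extended straight-line program -/
def invProg : List (ℕ × ℕ) := borelProg ++ invExtra

/-- stack positions of the eleven involutions -/
def invIdx : List ℕ := [267, 295, 298, 300, 303, 305, 308, 310, 291, 313, 316]

/-- their tables -/
def invT : List (List ℕ) :=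
  [[23, 2, 1, 3, 16, 5, 19, 21, 18, 9, 10, 12, 11, 22, 14, 15, 4, 17, 8, 6, 20, 7, 13, 0],
   [2, 23, 0, 3, 13, 5, 6, 7, 18, 20, 15, 12, 11, 4, 14, 10, 22, 17, 8, 19, 9, 21, 16, 1],
   [1, 0, 23, 3, 22, 5, 19, 21, 8, 20, 15, 11, 12, 16, 14, 10, 13, 17, 18, 6, 9, 7, 4, 2],
   [5, 14, 17, 23, 12, 0, 6, 7, 16, 9, 10, 22, 4, 18, 1, 15, 8, 2, 13, 19, 20, 21, 11, 3],
   [3, 17, 14, 0, 18, 23, 6, 7, 22, 9, 10, 16, 13, 12, 2, 15, 11, 1, 4, 19, 20, 21, 8, 5],
   [17, 3, 5, 1, 4, 2, 20, 15, 8, 21, 19, 11, 12, 13, 23, 7, 16, 0, 18, 10, 6, 9, 22, 14],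
   [14, 3, 5, 1, 4, 2, 19, 7, 8, 9, 20, 11, 18, 13, 0, 15, 22, 23, 12, 6, 10, 21, 16, 17],
   [0, 1, 2, 5, 22, 3, 19, 21, 12, 9, 10, 18, 8, 16, 17, 15, 13, 14, 11, 6, 20, 7, 4, 23],
   [0, 1, 2, 14, 22, 17, 6, 7, 11, 20, 15, 8, 18, 16, 3, 10, 13, 5, 12, 19, 9, 21, 4, 23],
   [0, 1, 2, 17, 4, 14, 19, 21, 18, 20, 15, 12, 11, 13, 5, 10, 16, 3, 8, 6, 9, 7, 22, 23],
   [0, 2, 1, 3, 18, 5, 6, 21, 16, 9, 20, 22, 13, 12, 17, 15, 8, 14, 4, 19, 10, 7, 11, 23]]

end Cfsg.Agent.Lib.Helper98.M24Fusion
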