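import Mathlib

set_option autoImplicit false
set_option linter.unusedSectionVars false
set_option linter.unusedVariables false

/-!
# Involutions compatible with the norm form of a quadratic extension (characteristic 2)

`F` is a finite field of characteristic 2 with an involutive ring endomorphism `σ` whose fixed
field `K` satisfies `|K|² = |F|`.  If additive maps `g` on `F` and `h` on `K` satisfy
`g² = 1`, `h² = 1` and `N (g a) = h (N a)` for the norm `N a = a σ(a)`, then `h = 1`.
-/

namespace Cfsg.Agent.Lib.Helper98.NormInvol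

section
variable {F : Type*} [Field F] [Fintype F] [CharP F 2]
variable (σ : F →+* F)

theorem add_self' (x : F) : x + x = 0 := CharTwo.add_self_eq_zero x

theorem eq_of_add_eq_zero' {x y : F} (h : x + y = 0) : x = y := by
  have := add_self' y
  grind

theorem sq_inj' {x y : F} (h : x ^ 2 = y ^ 2) : x = y := by
  have h1 : (x + y) ^ 2 = 0 := by
    have := add_self' (x * y)
    have := add_self' (y ^ 2)
    grind
  exact eq_of_add_eq_zero' (pow_eq_zero_iff (by norm_num) |>.mp h1)

theorem exists_sqrt (u : F) : ∃ c : F, c ^ 2 = u := by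
  have hinj : Function.Injective (fun c : F => c ^ 2) := fun x y h => sq_inj' h
  exact (Finite.injective_iff_surjective.mp hinj) u

theorem fixed_of_sq_fixed {c : F} (h : σ (c ^ 2) = c ^ 2) : σ c = c := by
  rw [map_pow] at h
  exact sq_inj' h

theorem T_eq_zero_iff (hσ : ∀ x, σ (σ x) = x) {a b : F} (ha : a ≠ 0) : a * σ b + b * σ a = 0 ↔ σ (b / a) = b / a := by
  have hsa : σ a ≠ 0 := by
    intro h0
    apply ha
    have := hσ a
    rw [h0, map_zero] at this
    exact this.symm
  rw [map_div₀, div_eq_div_iff hsa ha]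
  constructor
  · intro h
    have := add_self' (b * σ a)
    grind
  · intro h
    have := add_self' (b * σ a)
    grind

/-- Every Artin–Schreier equation over the fixed field of an involutive "automorphism" `γ` of the
finite field `K = Fix σ` is solvable in `K`. -/
theorem root_exists (γ : F → F) (γ_add : ∀ x y, γ (x + y) = γ x + γ y)
    (γ_K : ∀ c, σ c = c → σ (γ c) = γ c)
    (γ_mul : ∀ c c', σ c = c → σ c' = c' → γ (c * c') = γ c * γ c')
    (γ_one : γ 1 = 1) (γ_inv : ∀ c, σ c = c → γ (γ c) = c)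
    (c₀ : F) (hc₀ : σ c₀ = c₀) (hγc₀ : γ c₀ ≠ c₀)
    (A B : F) (hA : σ A = A) (hB : σ B = B) (hγA : γ A = A) (hγB : γ B = B) (hA0 : A ≠ 0) :
    ∃ c, σ c = c ∧ A * c ^ 2 + c + B = 0 := by
  have γ_zero : γ 0 = 0 := by
    have := γ_add 0 0
    rw [add_zero] at this
    exact left_eq_add.mp this
  -- the fixed field of γ inside K, as an additive subgroup
  let K₀ : AddSubgroup F :=
    { carrier := {c | σ c = c ∧ γ c = c}
      zero_mem' := ⟨map_zero σ, γ_zero⟩
      add_mem' := by
        rintro x y ⟨hx1, hx2⟩ ⟨hy1, hy2⟩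
        exact ⟨by rw [map_add, hx1, hy1], by rw [γ_add, hx2, hy2]⟩
      neg_mem' := by
        rintro x ⟨hx1, hx2⟩
        rw [CharTwo.neg_eq]
        exact ⟨hx1, hx2⟩ }
  have memK₀ : ∀ c, c ∈ K₀ ↔ (σ c = c ∧ γ c = c) := fun c => Iff.rfl
  -- γ commutes with inversion on K
  have γ_inv' : ∀ x, σ x = x → x ≠ 0 → γ x⁻¹ = (γ x)⁻¹ := by
    intro x hx hx0
    have h1 : σ x⁻¹ = x⁻¹ := by rw [map_inv₀, hx]
    have h3 := γ_mul x x⁻¹ hx h1
    rw [mul_inv_cancel₀ hx0, γ_one] at h3
    exact (eq_inv_of_mul_eq_one_right h3.symm)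
  -- an element δ with γ δ = δ + 1
  set δ₀ := c₀ + γ c₀ with hδ₀
  have hδ₀0 : δ₀ ≠ 0 := by
    intro h0
    exact hγc₀ (eq_of_add_eq_zero' h0).symm
  have hδ₀σ : σ δ₀ = δ₀ := by rw [hδ₀, map_add, hc₀, γ_K c₀ hc₀]
  have hδ₀γ : γ δ₀ = δ₀ := by rw [hδ₀, γ_add, γ_inv c₀ hc₀, add_comm]
  set δ := c₀ * δ₀⁻¹ with hδ
  have hδ₀iσ : σ δ₀⁻¹ = δ₀⁻¹ := by rw [map_inv₀, hδ₀σ]
  have hδσ : σ δ = δ := by rw [hδ, map_mul, hc₀, hδ₀iσ]
  have hδγ : γ δ = δ + 1 := by
    rw [hδ, γ_mul c₀ δ₀⁻¹ hc₀ hδ₀iσ, γ_inv' δ₀ hδ₀σ hδ₀0, hδ₀γ]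
    have h1 : c₀ * δ₀⁻¹ + γ c₀ * δ₀⁻¹ = 1 := by
      rw [← add_mul, ← hδ₀, mul_inv_cancel₀ hδ₀0]
    have := add_self' (c₀ * δ₀⁻¹)
    grind
  set d := δ ^ 2 + δ with hd
  have hdσ : σ d = d := by rw [hd, map_add, map_pow, hδσ]
  have hdγ : γ d = d := by
    rw [hd, γ_add, pow_two, γ_mul δ δ hδσ hδσ, hδγ]
    have := add_self' δ
    have := add_self' (1 : F)
    grind
  have hdK₀ : d ∈ K₀ := ⟨hdσ, hdγ⟩
  -- the Artin–Schreier map on K₀
  have hmap : ∀ y : K₀, (y.1 ^ 2 + y.1) ∈ K₀ := by
    intro y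
    obtain ⟨hy1, hy2⟩ := y.2
    refine ⟨by rw [map_add, map_pow, hy1], ?_⟩
    rw [γ_add, pow_two, γ_mul y.1 y.1 hy1 hy1, hy2]
  let wp : K₀ →+ K₀ := AddMonoidHom.mk' (fun y => ⟨y.1 ^ 2 + y.1, hmap y⟩) (by
    intro x y
    apply Subtype.ext
    change (x.1 + y.1) ^ 2 + (x.1 + y.1) = (x.1 ^ 2 + x.1) + (y.1 ^ 2 + y.1)
    have := add_self' (x.1 * y.1)
    grind)
  have hwp : ∀ y : K₀, (wp y).1 = y.1 ^ 2 + y.1 := fun y => rfl
  have h1K₀ : (1 : F) ∈ K₀ := ⟨map_one σ, γ_one⟩
  have hker : Nat.card wp.ker = 2 := by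
    rw [Nat.card_eq_two_iff]
    refine ⟨⟨0, wp.ker.zero_mem⟩, ⟨⟨1, h1K₀⟩, ?_⟩, ?_, ?_⟩
    · rw [AddMonoidHom.mem_ker]
      apply Subtype.ext
      rw [hwp]
      change (1 : F) ^ 2 + 1 = 0
      have := add_self' (1 : F)
      grind
    · intro h
      have h1 := congrArg (fun z : wp.ker => (z.1.1 : F)) h
      simp only at h1
      exact zero_ne_one h1
    · apply Set.eq_univ_of_forall
      rintro ⟨⟨y, hyK⟩, hy⟩
      rw [AddMonoidHom.mem_ker] at hy
      have h1 := congrArg Subtype.val hy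
      rw [hwp] at h1
      change y ^ 2 + y = 0 at h1
      have h3 : y * (y + 1) = 0 := by grind
      rcases mul_eq_zero.mp h3 with h4 | h4
      · left
        apply Subtype.ext; apply Subtype.ext
        exact h4
      · right
        apply Subtype.ext; apply Subtype.ext
        exact eq_of_add_eq_zero' h4
  have hidx : wp.range.index = 2 := by
    have h1 := AddSubgroup.card_mul_index wp.ker
    rw [AddSubgroup.index_ker, hker] at h1
    have h3 := AddSubgroup.card_mul_index wp.range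
    have hpos : 0 < Nat.card wp.range := Nat.card_pos
    have : Nat.card wp.range * wp.range.index = Nat.card wp.range * 2 := by
      rw [h3, ← h1, mul_comm]
    exact Nat.eq_of_mul_eq_mul_left hpos this
  -- d is not in the range
  have hdR : (⟨d, hdK₀⟩ : K₀) ∉ wp.range := by
    rintro ⟨⟨y, hy1, hy2⟩, hy⟩
    have h1 := congrArg Subtype.val hy
    rw [hwp] at h1
    change y ^ 2 + y = δ ^ 2 + δ at h1
    have h3 : (y + δ) * (y + δ + 1) = 0 := by
      have := add_self' (y * δ)
      have := add_self' δ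
      have := add_self' (δ ^ 2)
      grind
    have hne : γ δ ≠ δ := by
      rw [hδγ]
      intro h
      have : (1 : F) = 0 := by
        have := add_self' δ
        grind
      exact one_ne_zero this
    rcases mul_eq_zero.mp h3 with h4 | h4
    · have : y = δ := eq_of_add_eq_zero' h4
      exact hne (this ▸ hy2)
    · have h5 : y + 1 = δ := by
        apply eq_of_add_eq_zero'
        rw [← h4]; ring
      apply hne
      rw [← h5, γ_add, hy2, γ_one]
  obtain ⟨a₀, ha₀⟩ := AddSubgroup.index_eq_two_iff.mp hidx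
  have ha₀R : a₀ ∉ wp.range := by
    have := ha₀ 0
    rw [zero_add] at this
    rcases this with ⟨_, h⟩ | ⟨_, h⟩
    · exact absurd wp.range.zero_mem h
    · exact h
  have hcos : ∀ b : K₀, b ∉ wp.range → b + a₀ ∈ wp.range := by
    intro b hb
    rcases ha₀ b with ⟨h, _⟩ | ⟨h, _⟩
    · exact h
    · exact absurd h hb
  have hda₀ := hcos _ hdR
  -- now solve y² + y = A * B
  have hAB : A * B ∈ K₀ := ⟨by rw [map_mul, hA, hB], by rw [γ_mul A B hA hB, hγA, hγB]⟩
  have key : ∃ y, σ y = y ∧ y ^ 2 + y = A * B := by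
    by_cases hw : (⟨A * B, hAB⟩ : K₀) ∈ wp.range
    · obtain ⟨⟨y, hy1, hy2⟩, hy⟩ := hw
      refine ⟨y, hy1, ?_⟩
      have h1 := congrArg Subtype.val hy
      rw [hwp] at h1
      exact h1
    · have h1 := hcos _ hw
      have h3 := wp.range.add_mem h1 hda₀
      have h4 : (⟨A * B, hAB⟩ : K₀) + a₀ + ((⟨d, hdK₀⟩ : K₀) + a₀) = ⟨A * B + d, K₀.add_mem hAB hdK₀⟩ := by
        apply Subtype.ext
        change A * B + a₀.1 + (d + a₀.1) = A * B + d
        have := add_self' a₀.1
        grind
      rw [h4] at h3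
      obtain ⟨⟨y, hy1, hy2⟩, hy⟩ := h3
      have h5 := congrArg Subtype.val hy
      rw [hwp] at h5
      change y ^ 2 + y = A * B + (δ ^ 2 + δ) at h5
      refine ⟨y + δ, by rw [map_add, hy1, hδσ], ?_⟩
      have := add_self' (y * δ)
      have := add_self' δ
      have := add_self' (δ ^ 2)
      grind
  obtain ⟨y, hy1, hy2⟩ := key
  refine ⟨y / A, by rw [map_div₀, hy1, hA], ?_⟩
  have h1 : A * (y / A) ^ 2 + y / A + B = (y ^ 2 + y + A * B) / A := by
    field_simp
  rw [h1, hy2, add_self', zero_div]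

end

section main
variable {F : Type*} [Field F] [Fintype F] [CharP F 2]
variable (σ : F →+* F)

theorem norm_eq_zero' (hσ : ∀ x, σ (σ x) = x) {a : F} (h : a * σ a = 0) : a = 0 := by
  rcases mul_eq_zero.mp h with h1 | h1
  · exact h1
  · have := hσ a
    rw [h1, map_zero] at this
    exact this.symm

/-- Case 1: the fixed space of `g` is a single `K`-line. -/
theorem main_case1 (hσ : ∀ x, σ (σ x) = x) (q : ℕ)
    (hK : Nat.card {c : F // σ c = c} = q)
    (g h : F → F) (hN : ∀ a, g a * σ (g a) = h (a * σ a))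
    (W : AddSubgroup F) (hW : ∀ b, b ∈ W ↔ g b = b) (hWq : q ≤ Nat.card W)
    (a : F) (ha0 : a ≠ 0) (haW : a ∈ W)
    (hall : ∀ a' ∈ W, a * σ a' + a' * σ a = 0) :
    ∀ c, σ c = c → h c = c := by
  let L : AddSubgroup F :=
    { carrier := {b | σ (b / a) = b / a}
      zero_mem' := by simp
      add_mem' := by
        intro x y hx hy
        change σ (_ / a) = _ / a at hx hy ⊢
        rw [add_div, map_add, hx, hy]
      neg_mem' := by
        intro x hx
        rw [CharTwo.neg_eq]
        exact hx }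
  have memL : ∀ b, b ∈ L ↔ σ (b / a) = b / a := fun b => Iff.rfl
  have hWL : W ≤ L := by
    intro b hb
    exact (T_eq_zero_iff σ hσ ha0).mp (hall b hb)
  have hLcard : Nat.card L = q := by
    rw [← hK]
    apply Nat.card_congr
    refine
      { toFun := fun b => ⟨b.1 / a, b.2⟩
        invFun := fun c => ⟨c.1 * a, by
          rw [memL, mul_div_cancel_right₀ _ ha0]; exact c.2⟩
        left_inv := ?_
        right_inv := ?_ }
    · intro b
      apply Subtype.ext
      exact div_mul_cancel₀ _ ha0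
    · intro c
      apply Subtype.ext
      exact mul_div_cancel_right₀ _ ha0
  have hWL' : W = L := AddSubgroup.eq_of_le_of_card_ge hWL (by rw [hLcard]; exact hWq)
  have hfix : ∀ c, σ c = c → g (c * a) = c * a := by
    intro c hc
    rw [← hW, hWL', memL, mul_div_cancel_right₀ _ ha0]
    exact hc
  intro u hu
  have hNa0 : a * σ a ≠ 0 := fun h0 => ha0 (norm_eq_zero' σ hσ h0)
  have hNaK : σ (a * σ a) = a * σ a := by rw [map_mul, hσ, mul_comm]
  obtain ⟨c, hc⟩ := exists_sqrt (u / (a * σ a))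
  have hcK : σ c = c := by
    apply fixed_of_sq_fixed σ
    rw [hc, map_div₀, hu, hNaK]
  have h1 : (c * a) * σ (c * a) = u := by
    rw [map_mul, hcK]
    have : c ^ 2 * (a * σ a) = u := by rw [hc, div_mul_cancel₀ _ hNa0]
    rw [← this]; ring
  have h3 := hN (c * a)
  rw [hfix c hcK, h1] at h3
  exact h3.symm

/-- Case 2: the fixed space of `g` contains two `K`-independent vectors. -/
theorem main_case2 (hσ : ∀ x, σ (σ x) = x)
    (g h : F → F) (g_add : ∀ a b, g (a + b) = g a + g b) (g_inv : ∀ a, g (g a) = a)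
    (h_zero : h 0 = 0)
    (hN : ∀ a, g a * σ (g a) = h (a * σ a))
    (hT : ∀ a b, g a * σ (g b) + g b * σ (g a) = h (a * σ b + b * σ a))
    (a a' : F) (ha : g a = a) (ha' : g a' = a')
    (he : a * σ a' + a' * σ a ≠ 0) :
    ∀ c, σ c = c → h c = c := by
  set e := a * σ a' + a' * σ a with he_def
  have ha0 : a ≠ 0 := by
    intro h0
    apply he
    rw [he_def, h0]; simp
  have ha'0 : a' ≠ 0 := by
    intro h0
    apply he
    rw [he_def, h0]; simp
  have heK : σ e = e := by
    rw [he_def, map_add, map_mul, map_mul, hσ, hσ]; ring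
  have hNaK : ∀ x : F, σ (x * σ x) = x * σ x := by
    intro x
    rw [map_mul, hσ, mul_comm]
  -- g preserves the K-lines through a and a'
  have hline : ∀ x : F, x ≠ 0 → g x = x → ∀ c, σ c = c → σ (g (c * x) / x) = g (c * x) / x := by
    intro x hx0 hgx c hc
    apply (T_eq_zero_iff σ hσ hx0).mp
    have h1 := hT x (c * x)
    rw [hgx] at h1
    rw [h1]
    have : x * σ (c * x) + c * x * σ x = 0 := by
      rw [map_mul, hc]
      have := add_self' (c * x * σ x)
      grind
    rw [this, h_zero]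
  let γ : F → F := fun c => g (c * a) / a
  let γ' : F → F := fun c => g (c * a') / a'
  have hγ : ∀ c, γ c * a = g (c * a) := fun c => div_mul_cancel₀ _ ha0
  have hγ' : ∀ c, γ' c * a' = g (c * a') := fun c => div_mul_cancel₀ _ ha'0
  have γ_K : ∀ c, σ c = c → σ (γ c) = γ c := hline a ha0 ha
  have γ'_K : ∀ c, σ c = c → σ (γ' c) = γ' c := hline a' ha'0 ha'
  have γ_add : ∀ x y, γ (x + y) = γ x + γ y := by
    intro x y
    change g ((x + y) * a) / a = g (x * a) / a + g (y * a) / a
    rw [add_mul, g_add, add_div]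
  have γ_one : γ 1 = 1 := by
    change g (1 * a) / a = 1
    rw [one_mul, ha, div_self ha0]
  have γ'_one : γ' 1 = 1 := by
    change g (1 * a') / a' = 1
    rw [one_mul, ha', div_self ha'0]
  have γ_inv : ∀ c, γ (γ c) = c := by
    intro c
    change g (γ c * a) / a = c
    rw [hγ, g_inv, mul_div_cancel_right₀ _ ha0]
  -- the key product formula
  have hprod : ∀ c c', σ c = c → σ c' = c' → h (c * c' * e) = γ c * γ' c' * e := by
    intro c c' hc hc'
    have h1 := hT (c * a) (c' * a')
    rw [← hγ, ← hγ'] at h1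
    rw [map_mul, map_mul, map_mul, map_mul, hc, hc', γ_K c hc, γ'_K c' hc'] at h1
    have h3 : c * a * (c' * σ a') + c' * a' * (c * σ a) = c * c' * e := by rw [he_def]; ring
    rw [h3] at h1
    rw [← h1, he_def]; ring
  have h_e1 : ∀ c, σ c = c → h (c * e) = γ c * e := by
    intro c hc
    have := hprod c 1 hc (map_one σ)
    rw [γ'_one, mul_one, mul_one] at this
    exact this
  have h_e2 : ∀ c, σ c = c → h (c * e) = γ' c * e := by
    intro c hc
    have := hprod 1 c (map_one σ) hc
    rw [γ_one, one_mul, one_mul] at this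
    exact this
  have hγγ' : ∀ c, σ c = c → γ' c = γ c := by
    intro c hc
    have := (h_e2 c hc).symm.trans (h_e1 c hc)
    exact mul_right_cancel₀ he this
  have γ_mul : ∀ c c', σ c = c → σ c' = c' → γ (c * c') = γ c * γ c' := by
    intro c c' hc hc'
    have h1 := hprod c c' hc hc'
    rw [h_e1 (c * c') (by rw [map_mul, hc, hc']), hγγ' c' hc'] at h1
    exact mul_right_cancel₀ he h1
  have h_eq : ∀ u, σ u = u → h u = γ (u / e) * e := by
    intro u hu
    have := h_e1 (u / e) (by rw [map_div₀, hu, heK])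
    rw [div_mul_cancel₀ _ he] at this
    exact this
  intro u hu
  by_cases hγid : ∀ c, σ c = c → γ c = c
  · rw [h_eq u hu, hγid _ (by rw [map_div₀, hu, heK]), div_mul_cancel₀ _ he]
  · exfalso
    push Not at hγid
    obtain ⟨c₀, hc₀, hγc₀⟩ := hγid
    have hAfix : ∀ x : F, g x = x → γ (x * σ x / e) = x * σ x / e := by
      intro x hx
      have h1 := hN x
      rw [hx, h_eq _ (hNaK x)] at h1
      have : γ (x * σ x / e) * e = (x * σ x / e) * e := by
        rw [← h1, div_mul_cancel₀ _ he]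
      exact mul_right_cancel₀ he this
    have hA0 : a * σ a / e ≠ 0 := by
      apply div_ne_zero _ he
      intro h0
      exact ha0 (norm_eq_zero' σ hσ h0)
    obtain ⟨c, hcK, hc⟩ := root_exists σ γ γ_add γ_K γ_mul γ_one (fun c _ => γ_inv c) c₀ hc₀ hγc₀
      (a * σ a / e) (a' * σ a' / e) (by rw [map_div₀, hNaK, heK]) (by rw [map_div₀, hNaK, heK])
      (hAfix a ha) (hAfix a' ha') hA0
    have h1 : (c * a + a') * σ (c * a + a') = e * (a * σ a / e * c ^ 2 + c + a' * σ a' / e) := by
      rw [map_add, map_mul, hcK]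
      field_simp
      rw [he_def]; ring
    rw [hc, mul_zero] at h1
    have h3 := norm_eq_zero' σ hσ h1
    have h4 : a' = c * a := (eq_of_add_eq_zero' h3).symm
    apply he
    rw [he_def, h4, map_mul, hcK]
    have := add_self' (c * a * σ a)
    grind

/-- Main theorem. -/
theorem main (hσ : ∀ x, σ (σ x) = x) (q : ℕ) (hq : Nat.card F = q ^ 2)
    (hK : Nat.card {c : F // σ c = c} = q)
    (g h : F → F) (g_add : ∀ a b, g (a + b) = g a + g b) (g_inv : ∀ a, g (g a) = a)
    (h_add : ∀ u v, h (u + v) = h u + h v)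
    (hN : ∀ a, g a * σ (g a) = h (a * σ a)) :
    ∀ c, σ c = c → h c = c := by
  have h_zero : h 0 = 0 := by
    have := h_add 0 0
    rw [add_zero] at this
    exact left_eq_add.mp this
  have hT : ∀ a b, g a * σ (g b) + g b * σ (g a) = h (a * σ b + b * σ a) := by
    intro a b
    have h1 := hN (a + b)
    have h2 := hN a
    have h3 := hN b
    rw [g_add, map_add, map_add] at h1
    have h4 : (a + b) * (σ a + σ b) = a * σ a + b * σ b + (a * σ b + b * σ a) := by ring
    rw [h4, h_add, h_add, ← h2, ← h3] at h1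
    linear_combination h1
  let φ : F →+ F := AddMonoidHom.mk' (fun b => g b + b) (by
    intro x y
    simp only [g_add]; ring)
  have hφ : ∀ b, φ b = g b + b := fun b => rfl
  have memW : ∀ b, b ∈ φ.ker ↔ g b = b := by
    intro b
    rw [AddMonoidHom.mem_ker, hφ]
    constructor
    · exact fun h0 => eq_of_add_eq_zero' h0
    · intro h0
      rw [h0]; exact add_self' b
  have hrk : φ.range ≤ φ.ker := by
    rintro _ ⟨b, rfl⟩
    rw [memW, hφ, g_add, g_inv, add_comm]
  have hWq : q ≤ Nat.card φ.ker := by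
    have h1 := AddSubgroup.card_mul_index φ.ker
    rw [AddSubgroup.index_ker] at h1
    have h2 : Nat.card φ.range ≤ Nat.card φ.ker := AddSubgroup.card_le_of_le hrk
    have h3 : q ^ 2 ≤ Nat.card φ.ker ^ 2 := by
      rw [← hq, ← h1, pow_two]
      exact Nat.mul_le_mul_left _ h2
    exact (Nat.pow_le_pow_iff_left (by norm_num)).mp h3
  have hq2 : 2 ≤ q := by
    have h1 : 1 < Nat.card F := Finite.one_lt_card
    rw [hq] at h1
    by_contra hlt
    have : q ≤ 1 := by omega
    have : q ^ 2 ≤ 1 ^ 2 := Nat.pow_le_pow_left this 2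
    omega
  obtain ⟨a, haW, ha0⟩ : ∃ a ∈ φ.ker, a ≠ 0 := by
    by_contra hno
    push Not at hno
    have : φ.ker = ⊥ := (AddSubgroup.eq_bot_iff_forall _).mpr hno
    rw [this, AddSubgroup.card_bot] at hWq
    omega
  by_cases hall : ∀ a' ∈ φ.ker, a * σ a' + a' * σ a = 0
  · exact main_case1 σ hσ q hK g h hN φ.ker memW hWq a ha0 haW hall
  · push Not at hall
    obtain ⟨a', ha'W, he⟩ := hall
    exact main_case2 σ hσ g h g_add g_inv h_zero hN hT a a' ((memW a).mp haW)
      ((memW a').mp ha'W) he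

end main

end Cfsg.Agent.Lib.Helper98.NormInvol
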