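import Mathlib

/-!
# OC-[ABEL] (project OC = S2924, helper22): pairwise commuting odd-order subgroups generate an
odd-order subgroup (helper98)
-/

set_option autoImplicit false

namespace Cfsg.Agent.Lib.Helper98.OC

/-- the join of elementwise commuting subgroups is commutative -/
theorem iSup_commute {X : Type*} [Group X] {ι : Type*} (T : ι → Subgroup X)
    (hcomm : ∀ i j, ∀ s ∈ T i, ∀ t ∈ T j, s * t = t * s) :
    ∀ a ∈ ⨆ i, T i, ∀ b ∈ ⨆ i, T i, a * b = b * a := by
  have h1 : ∀ i, ∀ s ∈ T i, (⨆ j, T j) ≤ Subgroup.centralizer ({s} : Set X) := by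
    intro i s hs
    apply iSup_le
    intro j t ht
    rw [Subgroup.mem_centralizer_iff]
    intro x hx
    rw [Set.mem_singleton_iff] at hx
    subst hx
    exact hcomm i j x hs t ht
  have h2 : ∀ b ∈ ⨆ j, T j, (⨆ i, T i) ≤ Subgroup.centralizer ({b} : Set X) := by
    intro b hb
    apply iSup_le
    intro i s hs
    rw [Subgroup.mem_centralizer_iff]
    intro x hx
    rw [Set.mem_singleton_iff] at hx
    subst hx
    have := h1 i s hs hb
    rw [Subgroup.mem_centralizer_iff] at this
    exact (this s (Set.mem_singleton s)).symm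
  intro a ha b hb
  have := h2 b hb ha
  rw [Subgroup.mem_centralizer_iff] at this
  exact (this b (Set.mem_singleton b)).symm

/-- [ABEL] -/
theorem odd_card_iSup_of_commute {X : Type*} [Group X] [Finite X] {ι : Type*} (T : ι → Subgroup X)
    (hodd : ∀ i, Odd (Nat.card (T i)))
    (hcomm : ∀ i j, ∀ s ∈ T i, ∀ t ∈ T j, s * t = t * s) : Odd (Nat.card ↥(⨆ i, T i)) := by
  have hW := iSup_commute T hcomm
  set W : Subgroup X := ⨆ i, T i with hWdef
  -- the odd part of `|X|`
  set m : ℕ := ordCompl[2] (Nat.card X) with hm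
  have hcard0 : Nat.card X ≠ 0 := Nat.card_pos.ne'
  have hmodd : Nat.Coprime 2 m := Nat.coprime_ordCompl Nat.prime_two hcard0
  have hdecomp : ordProj[2] (Nat.card X) * m = Nat.card X := Nat.ordProj_mul_ordCompl_eq_self _ _
  -- every element of `T i` is killed by `m`
  have hkill : ∀ i, ∀ t ∈ T i, t ^ m = 1 := by
    intro i t ht
    rw [← orderOf_dvd_iff_pow_eq_one]
    have h1 : orderOf t ∣ Nat.card (T i) := Subgroup.orderOf_dvd_natCard _ ht
    have h2 : Nat.card (T i) ∣ Nat.card X := Subgroup.card_subgroup_dvd_card _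
    have h3 : Nat.card (T i) ∣ ordProj[2] (Nat.card X) * m := by rw [hdecomp]; exact h2
    have h4 : Nat.Coprime (Nat.card (T i)) (ordProj[2] (Nat.card X)) := by
      apply Nat.Coprime.pow_right
      exact Nat.coprime_two_right.mpr (hodd i)
    exact h1.trans (h4.dvd_of_dvd_mul_left h3)
  -- the subgroup of elements of `W` killed by `m`
  let S : Subgroup X :=
    { carrier := {x | x ∈ W ∧ x ^ m = 1}
      one_mem' := ⟨W.one_mem, one_pow m⟩
      mul_mem' := by
        rintro a b ⟨ha, ham⟩ ⟨hb, hbm⟩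
        refine ⟨W.mul_mem ha hb, ?_⟩
        have hc : Commute a b := hW a ha b hb
        rw [hc.mul_pow, ham, hbm, one_mul]
      inv_mem' := by
        rintro a ⟨ha, ham⟩
        exact ⟨W.inv_mem ha, by rw [inv_pow, ham, inv_one]⟩ }
  have hWS : W ≤ S := by
    apply iSup_le
    intro i t ht
    exact ⟨Subgroup.mem_iSup_of_mem i ht, hkill i t ht⟩
  by_contra hcon
  rw [Nat.not_odd_iff_even] at hcon
  haveI : Fact (Nat.Prime 2) := ⟨Nat.prime_two⟩
  obtain ⟨w, hw⟩ := exists_prime_orderOf_dvd_card' (G := ↥W) 2 hcon.two_dvd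
  have h1 : ((w : ↥W) : X) ^ m = 1 := (hWS w.2).2
  have h2 : orderOf ((w : ↥W) : X) ∣ m := orderOf_dvd_of_pow_eq_one h1
  rw [Subgroup.orderOf_coe, hw] at h2
  have h3 : (2 : ℕ) ∣ Nat.gcd 2 m := Nat.dvd_gcd dvd_rfl h2
  rw [hmodd] at h3
  omega

end Cfsg.Agent.Lib.Helper98.OC
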