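import Mathlib
import Cfsg.Prelude.Def_Local
import Cfsg.Prelude.Def_Balance
import Cfsg.Agent.Lib.Helper31.CharPLocals
import Cfsg.Agent.Lib.Helper22.PConstrained

/-!
# OC-[CONSTR-Z] (project OC = S2924, helper22): `F*(K) = O_2(K)` implies `K` is 2-constrained with
trivial odd core (helper98)
-/

set_option autoImplicit false
set_option linter.style.haveILetI false

namespace Cfsg.Agent.Lib.Helper98.OC

open Cfsg

/-- `F*(K) = O_p(K)` forces `E(K) = 1` -/
theorem layer_eq_bot_of_fstar {p : ℕ} [Fact p.Prime] {K : Type*} [Group K] [Finite K]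
    (h : generalizedFittingSubgroup K = pCore p K) : layer K = ⊥ := by
  have hp : IsPGroup p (pCore p K) := Cfsg.Agent.Lib.Helper1.pCore_isPGroup p
  have h1 : layer K ≤ pCore p K := by rw [← h]; exact le_sup_left
  have hsolvO : Group.IsSolvable (pCore p K) := by
    haveI := hp.isNilpotent
    infer_instance
  have hsolv : Group.IsSolvable (layer K) :=
    Group.isSolvable_of_isSolvable_injective (Subgroup.inclusion_injective h1)
  have hperf : Group.IsPerfect (layer K) :=
    Subgroup.isPerfect_iff.mpr Cfsg.Agent.Lib.Helper22.layer_commutator_self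
  by_contra hne
  have hnt : Nontrivial (layer K) := (Subgroup.nontrivial_iff_ne_bot _).mpr hne
  exact Group.IsPerfect.not_isSolvable (layer K) hsolv

/-- [CONSTR-Z] -/
theorem constrained_of_fstar {K : Type*} [Group K] [Finite K]
    (h : generalizedFittingSubgroup K = pCore 2 K) :
    IsPConstrained 2 K ∧ pPrimeCore 2 K = ⊥ := by
  haveI : Fact (Nat.Prime 2) := ⟨Nat.prime_two⟩
  have hC := Cfsg.Agent.Lib.Helper31.centralizer_le_of_generalizedFittingSubgroup_eq_pCore h
  have hp : IsPGroup 2 (pCore 2 K) := Cfsg.Agent.Lib.Helper1.pCore_isPGroup 2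
  -- `E(K) = 1`
  have hlayer : layer K = ⊥ := layer_eq_bot_of_fstar h
  -- `O(K) = 1`
  have hO : pPrimeCore 2 K = ⊥ := by
    have hn1 : (pPrimeCore 2 K).Normal := Cfsg.Agent.Lib.Helper1.pPrimeCore_normal 2
    have hn2 : (pCore 2 K).Normal := Cfsg.Agent.Lib.Helper1.pCore_normal 2
    have hcop : (Nat.card (pPrimeCore 2 K)).Coprime (Nat.card (pCore 2 K)) := by
      obtain ⟨n, hn⟩ := IsPGroup.iff_card.mp hp
      rw [hn]
      exact Nat.Coprime.pow_right _ (Cfsg.Agent.Lib.Helper1.pPrimeCore_card_coprime 2)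
    have hd : Disjoint (pPrimeCore 2 K) (pCore 2 K) :=
      Subgroup.disjoint_of_coprime_natCard hcop
    have hcent : pPrimeCore 2 K ≤ Subgroup.centralizer (pCore 2 K : Set K) := by
      intro x hx
      rw [Subgroup.mem_centralizer_iff]
      intro y hy
      exact (Subgroup.commute_of_normal_of_disjoint _ _ hn1 hn2 hd x y hx hy).eq.symm
    rw [eq_bot_iff]
    exact hd le_rfl (hcent.trans hC)
  refine ⟨?_, hO⟩
  rw [Cfsg.Agent.Lib.Helper22.isPConstrained_iff_layer_quotient_eq_bot]
  -- `K ≃* K ⧸ O(K)`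
  have hbij : Function.Bijective (QuotientGroup.mk' (pPrimeCore 2 K)) := by
    refine ⟨?_, QuotientGroup.mk'_surjective _⟩
    rw [← MonoidHom.ker_eq_bot_iff, QuotientGroup.ker_mk', hO]
  let e : K ≃* K ⧸ pPrimeCore 2 K := MulEquiv.ofBijective (QuotientGroup.mk' (pPrimeCore 2 K)) hbij
  have h1 : (layer (K ⧸ pPrimeCore 2 K)).map e.symm.toMonoidHom ≤ layer K :=
    Cfsg.Agent.Lib.Helper22.layer_map_le_of_surjective (f := e.symm.toMonoidHom) e.symm.surjective
  rw [hlayer, le_bot_iff] at h1
  exact (Subgroup.map_eq_bot_iff_of_injective _ e.symm.injective).mp h1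

end Cfsg.Agent.Lib.Helper98.OC
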