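import Mathlib
import Cfsg.Prelude.Def_Local
import Cfsg.Prelude.Def_Balance
import Cfsg.Agent.Lib.Helper31.CharPLocals
import Cfsg.Agent.Lib.Helper22.ComponentsMap
import Cfsg.Agent.Lib.Helper98.OCConstrZ

/-!
# OC-[CHAR2] (project OC = S2924, helper22): if `C(z)` has characteristic 2 then
`C_{C(c)}(z)` has no components, for an involution `c` commuting with `z` (helper98)
-/

set_option autoImplicit false
set_option linter.style.haveILetI false

namespace Cfsg.Agent.Lib.Helper98.OC

open Cfsg Cfsg.Agent.Lib.Helper31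

/-- [CHAR2] -/
theorem layer_centralizer_eq_bot {X : Type*} [Group X] [Finite X] (c z : X) (hc : c ^ 2 = 1)
    (hK : generalizedFittingSubgroup ↥(Subgroup.centralizer ({z} : Set X)) =
      pCore 2 ↥(Subgroup.centralizer ({z} : Set X)))
    (hzc : z ∈ Subgroup.centralizer ({c} : Set X)) :
    layer ↥(Subgroup.centralizer
      ({(⟨z, hzc⟩ : ↥(Subgroup.centralizer ({c} : Set X)))} :
        Set ↥(Subgroup.centralizer ({c} : Set X)))) = ⊥ := by
  haveI : Fact (Nat.Prime 2) := ⟨Nat.prime_two⟩
  have hcz : c * z = z * c := Subgroup.mem_centralizer_iff.mp hzc c rfl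
  -- `C(z)` has characteristic two
  have hM : CharP 2 (Subgroup.centralizer ({z} : Set X)) :=
    charP_iff_generalizedFittingSubgroup_eq.mpr hK
  have hVM : Subgroup.zpowers c ≤ Subgroup.centralizer ({z} : Set X) := by
    rw [Subgroup.zpowers_le]
    rw [Subgroup.mem_centralizer_iff]
    intro x hx
    rw [Set.mem_singleton_iff] at hx
    subst hx
    exact hcz.symm
  have hV : IsPGroup 2 (Subgroup.zpowers c) := by
    rcases (Nat.dvd_prime Nat.prime_two).mp (orderOf_dvd_of_pow_eq_one hc) with h | h
    · exact IsPGroup.of_card (n := 0) (by rw [Nat.card_zpowers, h, pow_zero])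
    · exact IsPGroup.of_card (n := 1) (by rw [Nat.card_zpowers, h, pow_one])
  have hD : CharP 2 (Subgroup.centralizer ({z} : Set X) ⊓
      Subgroup.centralizer (Subgroup.zpowers c : Set X)) := charP_inf_centralizer hM hVM hV
  set D : Subgroup X := Subgroup.centralizer ({z} : Set X) ⊓
      Subgroup.centralizer (Subgroup.zpowers c : Set X) with hDdef
  have hlayerD : layer ↥D = ⊥ :=
    layer_eq_bot_of_fstar (p := 2) (charP_iff_generalizedFittingSubgroup_eq.mp hD)
  -- the isomorphism
  set T := Subgroup.centralizer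
      ({(⟨z, hzc⟩ : ↥(Subgroup.centralizer ({c} : Set X)))} :
        Set ↥(Subgroup.centralizer ({c} : Set X))) with hT
  have hmemD : ∀ x : ↥T, ((x : ↥(Subgroup.centralizer ({c} : Set X))) : X) ∈ D := by
    intro x
    refine ⟨?_, ?_⟩
    · show ((x : ↥(Subgroup.centralizer ({c} : Set X))) : X) ∈ Subgroup.centralizer ({z} : Set X)
      rw [Subgroup.mem_centralizer_iff]
      intro y hy
      rw [Set.mem_singleton_iff] at hy
      subst hy
      have := Subgroup.mem_centralizer_iff.mp x.2 ⟨y, hzc⟩ rfl
      exact congrArg Subtype.val this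
    · show ((x : ↥(Subgroup.centralizer ({c} : Set X))) : X) ∈
        Subgroup.centralizer (Subgroup.zpowers c : Set X)
      have hxc : c * ((x : ↥(Subgroup.centralizer ({c} : Set X))) : X) =
          ((x : ↥(Subgroup.centralizer ({c} : Set X))) : X) * c :=
        Subgroup.mem_centralizer_iff.mp x.1.2 c rfl
      rw [Subgroup.mem_centralizer_iff]
      intro y hy
      obtain ⟨n, rfl⟩ := Subgroup.mem_zpowers_iff.mp hy
      exact ((Commute.zpow_left (show Commute c _ from hxc) n)).eq
  let f : ↥T →* ↥D :=
    { toFun := fun x => ⟨((x : ↥(Subgroup.centralizer ({c} : Set X))) : X), hmemD x⟩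
      map_one' := rfl
      map_mul' := fun a b => rfl }
  have hfinj : Function.Injective f := by
    intro a b hab
    have : ((a : ↥(Subgroup.centralizer ({c} : Set X))) : X) =
        ((b : ↥(Subgroup.centralizer ({c} : Set X))) : X) :=
      congrArg (fun d : ↥D => (d : X)) hab
    exact Subtype.ext (Subtype.ext this)
  have hfsurj : Function.Surjective f := by
    rintro ⟨d, hd1, hd2⟩
    have hdc : d ∈ Subgroup.centralizer ({c} : Set X) := by
      rw [Subgroup.mem_centralizer_iff]
      intro y hy
      rw [Set.mem_singleton_iff] at hy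
      subst hy
      exact Subgroup.mem_centralizer_iff.mp hd2 y (Subgroup.mem_zpowers y)
    have hdT : (⟨d, hdc⟩ : ↥(Subgroup.centralizer ({c} : Set X))) ∈ T := by
      rw [hT, Subgroup.mem_centralizer_iff]
      intro y hy
      rw [Set.mem_singleton_iff] at hy
      subst hy
      apply Subtype.ext
      exact Subgroup.mem_centralizer_iff.mp hd1 z rfl
    exact ⟨⟨⟨d, hdc⟩, hdT⟩, rfl⟩
  have h1 : (layer ↥T).map f ≤ layer ↥D :=
    Cfsg.Agent.Lib.Helper22.layer_map_le_of_surjective hfsurj
  rw [hlayerD, le_bot_iff] at h1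
  exact (Subgroup.map_eq_bot_iff_of_injective _ hfinj).mp h1

end Cfsg.Agent.Lib.Helper98.OC
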