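import Mathlib
import Cfsg.Prelude.Def_Local
import Cfsg.Prelude.Def_Balance
import Cfsg.Agent.Lib.Helper87.GoldGen
import Cfsg.Agent.Lib.Helper22.GoldDefs
import Cfsg.Agent.Lib.Helper22.OCBal

/-!
# OC-[COMM] (project OC = S2924, helper22): the odd cores `O(C(y))`, `y ∈ Y#`, commute pairwise
(helper98)
-/

set_option autoImplicit false
set_option linter.style.haveILetI false

namespace Cfsg.Agent.Lib.Helper98.OC

open Cfsg Cfsg.Agent.Lib.Helper22.Gold

/-- two families of elementwise commuting subgroups have elementwise commuting joins -/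
theorem iSup_commute_iSup {X : Type*} [Group X] {ι κ : Sort*} (S : ι → Subgroup X)
    (T : κ → Subgroup X) (hcomm : ∀ i j, ∀ s ∈ S i, ∀ t ∈ T j, s * t = t * s) :
    ∀ s ∈ ⨆ i, S i, ∀ t ∈ ⨆ j, T j, s * t = t * s := by
  have h1 : ∀ j, ∀ t ∈ T j, (⨆ i, S i) ≤ Subgroup.centralizer ({t} : Set X) := by
    intro j t ht
    apply iSup_le
    intro i s hs
    rw [Subgroup.mem_centralizer_iff]
    intro x hx
    rw [Set.mem_singleton_iff] at hx
    subst hx
    exact (hcomm i j s hs x ht).symm
  have h2 : ∀ s ∈ ⨆ i, S i, (⨆ j, T j) ≤ Subgroup.centralizer ({s} : Set X) := by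
    intro s hs
    apply iSup_le
    intro j t ht
    rw [Subgroup.mem_centralizer_iff]
    intro x hx
    rw [Set.mem_singleton_iff] at hx
    subst hx
    have := h1 j t ht hs
    rw [Subgroup.mem_centralizer_iff] at this
    exact (this t (Set.mem_singleton t)).symm
  intro s hs t ht
  have := h2 s hs ht
  rw [Subgroup.mem_centralizer_iff] at this
  exact this s (Set.mem_singleton s)

/-- in an elementary abelian 2-group, a subgroup with cyclic quotient has index at most two:
elementwise form -/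
theorem cycQuot_mem_or {X : Type*} [Group X] {Y K : Subgroup X}
    (hcomm : ∀ a ∈ Y, ∀ b ∈ Y, a * b = b * a) (hexp : ∀ a ∈ Y, a * a = 1)
    (hK : CycQuot Y K) : ∃ a ∈ Y, ∀ y ∈ Y, y ∈ K ∨ y * a ∈ K := by
  obtain ⟨hKY, a, haY, hle⟩ := hK
  refine ⟨a, haY, ?_⟩
  have hai : a⁻¹ = a := inv_eq_of_mul_eq_one_right (hexp a haY)
  let S : Subgroup X :=
    { carrier := {x | x ∈ Y ∧ (x ∈ K ∨ x * a ∈ K)}
      one_mem' := ⟨Y.one_mem, Or.inl K.one_mem⟩
      mul_mem' := by
        rintro x y ⟨hxY, hx⟩ ⟨hyY, hy⟩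
        refine ⟨Y.mul_mem hxY hyY, ?_⟩
        rcases hx with hx | hx <;> rcases hy with hy | hy
        · exact Or.inl (K.mul_mem hx hy)
        · right
          have : x * y * a = x * (y * a) := by group
          rw [this]
          exact K.mul_mem hx hy
        · right
          have : x * y * a = (x * a) * y := by
            have h1 : y * a = a * y := hcomm y hyY a haY
            calc x * y * a = x * (y * a) := by group
              _ = x * (a * y) := by rw [h1]
              _ = (x * a) * y := by group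
          rw [this]
          exact K.mul_mem hx hy
        · left
          have : x * y = (x * a) * (y * a) := by
            have h1 : y * a = a * y := hcomm y hyY a haY
            calc x * y = x * (a * a) * y := by rw [hexp a haY, mul_one]
              _ = (x * a) * (a * y) := by group
              _ = (x * a) * (y * a) := by rw [h1]
          rw [this]
          exact K.mul_mem hx hy
      inv_mem' := by
        rintro x ⟨hxY, hx⟩
        refine ⟨Y.inv_mem hxY, ?_⟩
        rcases hx with hx | hx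
        · exact Or.inl (K.inv_mem hx)
        · right
          have h1 : x * a = a * x := hcomm x hxY a haY
          have : x⁻¹ * a = (x * a)⁻¹ := by
            rw [h1, mul_inv_rev, hai]
          rw [this]
          exact K.inv_mem hx }
  have hKS : K ≤ S := fun x hx => ⟨hKY hx, Or.inl hx⟩
  have haS : Subgroup.zpowers a ≤ S := by
    rw [Subgroup.zpowers_le]
    refine ⟨haY, Or.inr ?_⟩
    rw [hexp a haY]
    exact K.one_mem
  have hYS : Y ≤ S := hle.trans (sup_le hKS haS)
  intro y hy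
  exact (hYS hy).2

/-- [COMM] -/
theorem cpc_commute {X : Type*} [Group X] [Finite X] (Y : Subgroup X)
    (hY : IsElementaryAbelian 2 Y) (h8 : 8 ≤ Nat.card ↥Y)
    (hbal : ∀ y ∈ Y, y ≠ 1 → ∀ c ∈ Y, c ≠ 1 →
      centralizerPPrimeCore 2 y ⊓ Subgroup.centralizer {c} ≤ centralizerPPrimeCore 2 c)
    (hab : ∀ c ∈ Y, c ≠ 1 → ∀ s ∈ centralizerPPrimeCore 2 c, ∀ t ∈ centralizerPPrimeCore 2 c,
      s * t = t * s) :
    ∀ y ∈ Y, y ≠ 1 → ∀ y' ∈ Y, y' ≠ 1 → ∀ s ∈ centralizerPPrimeCore 2 y,
      ∀ t ∈ centralizerPPrimeCore 2 y', s * t = t * s := by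
  classical
  obtain ⟨hYc, hYe⟩ := hY
  have hcomm : ∀ a ∈ Y, ∀ b ∈ Y, a * b = b * a := by
    intro a ha b hb
    have := mul_comm' (⟨a, ha⟩ : Y) ⟨b, hb⟩
    exact congrArg Subtype.val this
  have hexp : ∀ a ∈ Y, a * a = 1 := by
    intro a ha
    rw [← pow_two]
    exact hYe a ha
  -- the GOLD hypotheses
  have hyp : ∀ y ∈ Y, Hyp Y (centralizerPPrimeCore 2 y) := by
    intro y hy
    refine ⟨?_, hcomm, ?_, ?_⟩
    · intro g
      refine ⟨1, ?_⟩
      apply Subtype.ext
      rw [pow_one]
      exact hYe g.1 g.2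
    · exact Nat.coprime_two_right.mp (Cfsg.Agent.Lib.Helper22.OC.cpc_card 2 y)
    · refine le_trans ?_ (Cfsg.Agent.Lib.Helper22.OC.cpc_normalizer 2 y)
      intro a ha
      rw [Subgroup.mem_centralizer_iff]
      intro x hx
      rw [Set.mem_singleton_iff] at hx
      subst hx
      exact hcomm x hy a ha
  -- two subgroups of `Y` with cyclic quotient meet nontrivially
  have hmeet : ∀ K K' : Subgroup X, CycQuot Y K → CycQuot Y K' → ∃ c ∈ Y, c ≠ 1 ∧ c ∈ K ∧ c ∈ K' := by
    intro K K' hK hK'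
    obtain ⟨a, haY, hKa⟩ := cycQuot_mem_or hcomm hexp hK
    obtain ⟨a', haY', hKa'⟩ := cycQuot_mem_or hcomm hexp hK'
    letI : Fintype ↥Y := Fintype.ofFinite _
    have hcard : Fintype.card (Bool × Bool) < Fintype.card ↥Y := by
      rw [← Nat.card_eq_fintype_card (α := ↥Y)]
      simp only [Fintype.card_prod, Fintype.card_bool]
      omega
    obtain ⟨y1, y2, hne, heq⟩ := Fintype.exists_ne_map_eq_of_card_lt
      (fun y : ↥Y => (decide ((y : X) ∈ K), decide ((y : X) ∈ K'))) hcard
    have heq1 : ((y1 : X) ∈ K ↔ (y2 : X) ∈ K) := by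
      have := congrArg Prod.fst heq
      simpa using this
    have heq2 : ((y1 : X) ∈ K' ↔ (y2 : X) ∈ K') := by
      have := congrArg Prod.snd heq
      simpa using this
    refine ⟨(y1 : X) * (y2 : X)⁻¹, Y.mul_mem y1.2 (Y.inv_mem y2.2), ?_, ?_, ?_⟩
    · intro h1
      apply hne
      apply Subtype.ext
      exact mul_inv_eq_one.mp h1
    · by_cases h1 : (y1 : X) ∈ K
      · exact K.mul_mem h1 (K.inv_mem (heq1.mp h1))
      · have h2 : (y2 : X) ∉ K := fun h => h1 (heq1.mpr h)
        have h3 := (hKa y1 y1.2).resolve_left h1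
        have h4 := (hKa y2 y2.2).resolve_left h2
        have : (y1 : X) * (y2 : X)⁻¹ = ((y1 : X) * a) * ((y2 : X) * a)⁻¹ := by group
        rw [this]
        exact K.mul_mem h3 (K.inv_mem h4)
    · by_cases h1 : (y1 : X) ∈ K'
      · exact K'.mul_mem h1 (K'.inv_mem (heq2.mp h1))
      · have h2 : (y2 : X) ∉ K' := fun h => h1 (heq2.mpr h)
        have h3 := (hKa' y1 y1.2).resolve_left h1
        have h4 := (hKa' y2 y2.2).resolve_left h2
        have : (y1 : X) * (y2 : X)⁻¹ = ((y1 : X) * a') * ((y2 : X) * a')⁻¹ := by group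
        rw [this]
        exact K'.mul_mem h3 (K'.inv_mem h4)
  intro y hy hy1 y' hy' hy'1 s hs t ht
  have e1 := Cfsg.Agent.Lib.Helper87.Gold.gen_fix (hyp y hy)
  have e2 := Cfsg.Agent.Lib.Helper87.Gold.gen_fix (hyp y' hy')
  rw [e1] at hs
  rw [e2] at ht
  refine iSup_commute_iSup
    (fun K : {K : Subgroup X // CycQuot Y K} =>
      centralizerPPrimeCore 2 y ⊓ Subgroup.centralizer ((K : Subgroup X) : Set X))
    (fun K : {K : Subgroup X // CycQuot Y K} =>
      centralizerPPrimeCore 2 y' ⊓ Subgroup.centralizer ((K : Subgroup X) : Set X))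
    ?_ s hs t ht
  rintro ⟨K, hK⟩ ⟨K', hK'⟩ s' hs' t' ht'
  obtain ⟨c, hcY, hc1, hcK, hcK'⟩ := hmeet K K' hK hK'
  have hs'' : s' ∈ centralizerPPrimeCore 2 c := by
    apply hbal y hy hy1 c hcY hc1
    refine ⟨hs'.1, ?_⟩
    show s' ∈ Subgroup.centralizer ({c} : Set X)
    rw [Subgroup.mem_centralizer_iff]
    intro x hx
    rw [Set.mem_singleton_iff] at hx
    subst hx
    exact Subgroup.mem_centralizer_iff.mp hs'.2 x hcK
  have ht'' : t' ∈ centralizerPPrimeCore 2 c := by
    apply hbal y' hy' hy'1 c hcY hc1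
    refine ⟨ht'.1, ?_⟩
    show t' ∈ Subgroup.centralizer ({c} : Set X)
    rw [Subgroup.mem_centralizer_iff]
    intro x hx
    rw [Set.mem_singleton_iff] at hx
    subst hx
    exact Subgroup.mem_centralizer_iff.mp ht'.2 x hcK'
  exact hab c hcY hc1 s' hs'' t' ht''

end Cfsg.Agent.Lib.Helper98.OC
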