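import Mathlib

/-!
# OC-[INV] (project OC = S2924, helper22): a fixed-point-free involution inverts (helper98)
-/

set_option autoImplicit false

namespace Cfsg.Agent.Lib.Helper98.OC

/-- [INV] -/
theorem inverts_of_fpf {X : Type*} [Group X] [Finite X] (z : X) (hz : z ^ 2 = 1) (T : Subgroup X)
    (hT : Odd (Nat.card T)) (hzT : z ∈ Subgroup.normalizer (T : Set X))
    (hfix : T ⊓ Subgroup.centralizer ({z} : Set X) = ⊥) :
    (∀ t ∈ T, z * t * z⁻¹ = t⁻¹) ∧ ∀ s ∈ T, ∀ t ∈ T, s * t = t * s := by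
  have hzz : z * z = 1 := by rw [← pow_two]; exact hz
  have hzi : z⁻¹ = z := inv_eq_of_mul_eq_one_right hzz
  have hconj : ∀ v ∈ T, z * v * z⁻¹ ∈ T := fun v hv => (Subgroup.mem_normalizer_iff.mp hzT v).mp hv
  let φ : T →* T :=
    { toFun := fun v => ⟨z * v * z⁻¹, hconj v v.2⟩
      map_one' := by apply Subtype.ext; simp
      map_mul' := by intro a b; apply Subtype.ext; simp [mul_assoc] }
  have hφ : MonoidHom.FixedPointFree φ := by
    intro v hv
    have h1 : z * (v : X) * z⁻¹ = v := congrArg Subtype.val hv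
    have h2 : (v : X) ∈ T ⊓ Subgroup.centralizer ({z} : Set X) := by
      refine ⟨v.2, ?_⟩
      show (v : X) ∈ Subgroup.centralizer ({z} : Set X)
      rw [Subgroup.mem_centralizer_iff]
      intro x hx
      rw [Set.mem_singleton_iff] at hx
      subst hx
      calc x * (v : X) = (x * (v : X) * x⁻¹) * x := by group
        _ = (v : X) * x := by rw [h1]
    rw [hfix] at h2
    exact Subtype.ext (Subgroup.mem_bot.mp h2)
  have hinv : Function.Involutive φ := by
    intro v
    apply Subtype.ext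
    show z * (z * (v : X) * z⁻¹) * z⁻¹ = v
    rw [hzi]
    calc z * (z * (v : X) * z) * z = (z * z) * (v : X) * (z * z) := by group
      _ = v := by rw [hzz]; simp
  have key := hφ.coe_eq_inv_of_involutive hinv
  have hI : ∀ t ∈ T, z * t * z⁻¹ = t⁻¹ := by
    intro v hv
    have := congrFun key ⟨v, hv⟩
    exact congrArg Subtype.val this
  refine ⟨hI, ?_⟩
  intro a ha b hb
  have h1 : z * (a * b) * z⁻¹ = (a * b)⁻¹ := hI _ (T.mul_mem ha hb)
  have h2 : z * (a * b) * z⁻¹ = a⁻¹ * b⁻¹ := by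
    calc z * (a * b) * z⁻¹ = (z * a * z⁻¹) * (z * b * z⁻¹) := by group
      _ = a⁻¹ * b⁻¹ := by rw [hI a ha, hI b hb]
  have h3 : (a * b)⁻¹ = a⁻¹ * b⁻¹ := by rw [← h1, h2]
  have h4 : a * b = (a⁻¹ * b⁻¹)⁻¹ := by rw [← h3, inv_inv]
  rw [h4]
  group

end Cfsg.Agent.Lib.Helper98.OC
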