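import Mathlib
import Cfsg.Prelude.Def_Local
import Cfsg.Prelude.Def_Balance

/-!
# OC-[NORM] (project OC = S2924, helper22): `N(Y)` normalizes the join of the `O(C(y))` (helper98)
-/

set_option autoImplicit false

namespace Cfsg.Agent.Lib.Helper98.OC

open Cfsg

variable {X : Type*} [Group X]

/-- an isomorphism maps the `p'`-core into the `p'`-core -/
theorem pPrimeCore_map_equiv_le {G G' : Type*} [Group G] [Group G'] (p : ℕ) (e : G ≃* G') :
    (pPrimeCore p G).map e.toMonoidHom ≤ pPrimeCore p G' := by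
  unfold pPrimeCore
  rw [Subgroup.map_le_iff_le_comap]
  apply sSup_le
  rintro N ⟨hN, hc⟩
  rw [← Subgroup.map_le_iff_le_comap]
  refine le_sSup ⟨hN.map e.toMonoidHom e.surjective, ?_⟩
  have : Nat.card (N.map e.toMonoidHom) = Nat.card N :=
    Subgroup.card_map_of_injective (f := e.toMonoidHom) e.injective
  rwa [this]

/-- conjugation by `g` as an isomorphism `C(y) ≃* C(g y g⁻¹)` -/
def centConj (g y : X) : ↥(Subgroup.centralizer ({y} : Set X)) ≃*
    ↥(Subgroup.centralizer ({g * y * g⁻¹} : Set X)) where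
  toFun c := ⟨g * c * g⁻¹, by
    rw [Subgroup.mem_centralizer_iff]
    intro x hx
    rw [Set.mem_singleton_iff] at hx
    subst hx
    have h1 : y * (c : X) = (c : X) * y := Subgroup.mem_centralizer_iff.mp c.2 y rfl
    calc g * y * g⁻¹ * (g * (c : X) * g⁻¹) = g * (y * (c : X)) * g⁻¹ := by group
      _ = g * ((c : X) * y) * g⁻¹ := by rw [h1]
      _ = g * (c : X) * g⁻¹ * (g * y * g⁻¹) := by group⟩
  invFun c := ⟨g⁻¹ * c * g, by
    rw [Subgroup.mem_centralizer_iff]
    intro x hx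
    rw [Set.mem_singleton_iff] at hx
    subst hx
    have h1 : (g * x * g⁻¹) * (c : X) = (c : X) * (g * x * g⁻¹) :=
      Subgroup.mem_centralizer_iff.mp c.2 _ rfl
    calc x * (g⁻¹ * (c : X) * g) = g⁻¹ * ((g * x * g⁻¹) * (c : X)) * g := by group
      _ = g⁻¹ * ((c : X) * (g * x * g⁻¹)) * g := by rw [h1]
      _ = g⁻¹ * (c : X) * g * x := by group⟩
  left_inv c := by
    apply Subtype.ext
    show g⁻¹ * (g * (c : X) * g⁻¹) * g = c
    group
  right_inv c := by
    apply Subtype.ext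
    show g * (g⁻¹ * (c : X) * g) * g⁻¹ = c
    group
  map_mul' a b := by
    apply Subtype.ext
    show g * ((a : X) * (b : X)) * g⁻¹ = g * (a : X) * g⁻¹ * (g * (b : X) * g⁻¹)
    group

theorem centConj_coe (g y : X) (c : ↥(Subgroup.centralizer ({y} : Set X))) :
    ((centConj g y c : ↥(Subgroup.centralizer ({g * y * g⁻¹} : Set X))) : X) = g * c * g⁻¹ := rfl

/-- conjugation transports `O_{p'}(C(y))` to `O_{p'}(C(g y g⁻¹))` -/
theorem conj_mem_cpc (p : ℕ) (g y : X) {t : X} (ht : t ∈ centralizerPPrimeCore p y) :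
    g * t * g⁻¹ ∈ centralizerPPrimeCore p (g * y * g⁻¹) := by
  obtain ⟨t', ht', rfl⟩ := ht
  refine ⟨centConj g y t', ?_, rfl⟩
  apply pPrimeCore_map_equiv_le p (centConj g y)
  exact ⟨t', ht', rfl⟩

/-- [NORM] -/
theorem normalizer_le_normalizer_iSup_cpc {X : Type*} [Group X] (Y : Subgroup X) :
    Subgroup.normalizer (Y : Set X) ≤ Subgroup.normalizer
      ((⨆ y : {y : X // y ∈ Y ∧ y ≠ 1}, centralizerPPrimeCore 2 (y : X) : Subgroup X) : Set X) := by
  set W : Subgroup X := ⨆ y : {y : X // y ∈ Y ∧ y ≠ 1}, centralizerPPrimeCore 2 (y : X) with hW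
  have key : ∀ g ∈ Subgroup.normalizer (Y : Set X), ∀ h ∈ W, g * h * g⁻¹ ∈ W := by
    intro g hg
    have hle : W ≤ W.comap (MulAut.conj g).toMonoidHom := by
      apply iSup_le
      rintro ⟨y, hyY, hy1⟩ t ht
      rw [Subgroup.mem_comap]
      show g * t * g⁻¹ ∈ W
      have hy' : g * y * g⁻¹ ∈ Y := (Subgroup.mem_normalizer_iff.mp hg y).mp hyY
      have hy'1 : g * y * g⁻¹ ≠ 1 := by
        intro h1
        apply hy1
        have : y = g⁻¹ * (g * y * g⁻¹) * g := by group
        rw [this, h1]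
        group
      exact Subgroup.mem_iSup_of_mem (⟨g * y * g⁻¹, hy', hy'1⟩ : {y : X // y ∈ Y ∧ y ≠ 1})
        (conj_mem_cpc 2 g y ht)
    intro h hh
    exact hle hh
  intro g hg
  rw [Subgroup.mem_normalizer_iff]
  intro h
  constructor
  · exact key g hg h
  · intro hh
    have := key g⁻¹ (Subgroup.inv_mem _ hg) _ hh
    have e : g⁻¹ * (g * h * g⁻¹) * g⁻¹⁻¹ = h := by group
    rwa [e] at this

end Cfsg.Agent.Lib.Helper98.OC
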