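import Mathlib

/-!
# Orbits of length nine

A permutation of order dividing nine whose cube has no fixed points acts on a set whose size is
divisible by nine.  Consequently, a finite group with an automorphism `σ`, `σ ^ 9 = 1`, such that
`σ ^ 3` is fixed-point-free, has order congruent to one modulo nine.
-/

set_option autoImplicit false
set_option linter.unusedSimpArgs false
set_option linter.style.haveILetI false

namespace Cfsg.Agent.Lib.Helper98.OrbitNine

theorem nine_dvd_card {X : Type*} [Fintype X] [DecidableEq X] (π : Equiv.Perm X) (h9 : π ^ 9 = 1)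
    (hfp : ∀ x, (π ^ 3) x ≠ x) : 9 ∣ Fintype.card X := by
  have hsupp : π.support = Finset.univ := by
    ext x
    simp only [Equiv.Perm.mem_support, Finset.mem_univ, iff_true]
    intro hx
    apply hfp x
    rw [pow_succ, pow_succ, pow_one, Equiv.Perm.mul_apply, Equiv.Perm.mul_apply, hx, hx, hx]
  have hall : ∀ n ∈ π.cycleType, n = 9 := by
    intro n hn
    have hdvd : n ∣ 9 := (Equiv.Perm.dvd_of_mem_cycleType hn).trans (orderOf_dvd_of_pow_eq_one h9)
    have h2 := Equiv.Perm.two_le_of_mem_cycleType hn
    have hle : n ≤ 9 := Nat.le_of_dvd (by norm_num) hdvd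
    have h39 : n = 3 ∨ n = 9 := by
      interval_cases n <;> simp_all
    rcases h39 with rfl | rfl
    · exfalso
      obtain ⟨c, τ, rfl, hdisj, hc, hcard⟩ := Equiv.Perm.mem_cycleType_iff.mp hn
      obtain ⟨x, hx⟩ := hc.nonempty_support
      apply hfp x
      have hcomm : Commute c τ := hdisj.commute
      rw [hcomm.mul_pow, Equiv.Perm.mul_apply]
      have hτx : τ x = x := by
        have := hdisj x
        rcases this with h | h
        · exact absurd h (Equiv.Perm.mem_support.mp hx)
        · exact h
      have hτ3 : (τ ^ 3) x = x := by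
        rw [pow_succ, pow_succ, pow_one, Equiv.Perm.mul_apply, Equiv.Perm.mul_apply, hτx, hτx, hτx]
      rw [hτ3]
      have hc3 : c ^ 3 = 1 := by
        rw [← hcard, ← hc.orderOf]
        exact pow_orderOf_eq_one c
      rw [hc3]
      rfl
    · rfl
  have hsum := Equiv.Perm.sum_cycleType π
  rw [hsupp, Finset.card_univ, Multiset.eq_replicate_card.mpr hall, Multiset.sum_replicate] at hsum
  exact ⟨_, by rw [← hsum, smul_eq_mul, mul_comm]⟩

theorem card_mod_nine {M : Type*} [Group M] [Finite M] (σ : MulAut M) (h9 : σ ^ 9 = 1)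
    (hfp : ∀ m : M, (σ ^ 3) m = m → m = 1) : Nat.card M % 9 = 1 := by
  classical
  haveI : Fintype M := Fintype.ofFinite M
  let π : Equiv.Perm {m : M // m ≠ 1} :=
    σ.toEquiv.subtypeEquiv (fun m => (MulEquiv.map_ne_one_iff σ).symm)
  have hπ : ∀ (n : ℕ) (x : {m : M // m ≠ 1}), (((π ^ n) x : {m : M // m ≠ 1}) : M) = (σ ^ n) x := by
    intro n
    induction n with
    | zero => intro x; rfl
    | succ n ih =>
      intro x
      rw [pow_succ, pow_succ, Equiv.Perm.mul_apply, MulAut.mul_apply, ih]
      rfl
  have h9' : π ^ 9 = 1 := by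
    ext x
    rw [hπ, h9]
    rfl
  have hfp' : ∀ x, (π ^ 3) x ≠ x := by
    intro x hx
    apply x.2
    apply hfp
    rw [← hπ, hx]
  have hdvd := nine_dvd_card π h9' hfp'
  have hcard : Fintype.card {m : M // m ≠ 1} = Fintype.card M - 1 := by
    rw [Fintype.card_subtype_compl (fun m : M => m = 1), Fintype.card_subtype_eq]
  rw [hcard] at hdvd
  have hpos : 0 < Fintype.card M := Fintype.card_pos
  rw [Nat.card_eq_fintype_card]
  omega

end Cfsg.Agent.Lib.Helper98.OrbitNine
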