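import Cfsg.Agent.Lib.Helper98.FusionQDWr
import Cfsg.Agent.Lib.Helper5.UnitaryCenter
import Cfsg.Agent.S1218
import Cfsg.Agent.S0277
import Cfsg.Agent.S0280
import Cfsg.Agent.S0283

/-!
# The 2-fusion system of `PSU₃(q)`, `q` odd, is simple
-/

set_option autoImplicit false

namespace Cfsg.Agent.Lib.Helper98.PSU3Fusion

open Cfsg Matrix

variable {F : Type*} [Field F] [Fintype F] {q : ℕ}

/-- `diag(det A⁻¹, A)` is unitary when `A` is. -/
theorem thetaMat_preserves (hF : Fintype.card F = q ^ 2) (A : GU 2 F q) (u v : Fin 3 → F) :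
    hermForm 3 F q (Cfsg.Agent.S1219.thetaMat (A.1.1) *ᵥ u) (Cfsg.Agent.S1219.thetaMat A.1.1 *ᵥ v) =
      hermForm 3 F q u v := by
  have h := Cfsg.Agent.Lib.Helper5.GU_preserves A ![u 1, u 2] ![v 1, v 2]
  have hd : A.1.1.det ^ (q + 1) = 1 :=
    Cfsg.Agent.Lib.Helper5.det_norm_of_isUnitaryMat hF
      ((Cfsg.Agent.Lib.Helper5.isUnitaryMat_iff_preserves hF _).mpr (Cfsg.Agent.Lib.Helper5.GU_preserves A))
  have hd' : (A.1.1.det)⁻¹ * ((A.1.1.det)⁻¹) ^ q = 1 := by
    rw [← pow_succ', inv_pow, hd, inv_one]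
  simp only [hermForm, Fin.sum_univ_three, Fin.sum_univ_two, Cfsg.Agent.S1219.thetaMat, mulVec, dotProduct,
    Matrix.cons_val_zero, Matrix.cons_val_one, Matrix.of_apply, Matrix.cons_val', Matrix.cons_val_fin_one,
    Matrix.cons_val] at h ⊢
  simp only [zero_mul, zero_add, add_zero] at h ⊢
  rw [mul_pow]
  linear_combination h + (u 0 * v 0 ^ q) * hd'

/-- The block embedding `GU₂(q) → SU₃(q)`, `A ↦ diag(det A⁻¹, A)`. -/
noncomputable def thetaU (hF : Fintype.card F = q ^ 2) : GU 2 F q →* SU 3 F q :=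
  (Cfsg.Agent.S1219.theta.comp (GU 2 F q).subtype).codRestrict (SU 3 F q)
    (fun A => thetaMat_preserves hF A)

theorem thetaU_injective (hF : Fintype.card F = q ^ 2) : Function.Injective (thetaU hF) := by
  intro A B h
  have h1 : Cfsg.Agent.S1219.thetaMat (A.1.1) = Cfsg.Agent.S1219.thetaMat (B.1.1) := by
    have := congrArg (fun x : SU 3 F q => (x.1.1 : Matrix (Fin 3) (Fin 3) F)) h
    exact this
  apply Subtype.ext
  apply Units.ext
  ext i j
  fin_cases i <;> fin_cases j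
  · exact congrFun (congrFun h1 1) 1
  · exact congrFun (congrFun h1 1) 2
  · exact congrFun (congrFun h1 2) 1
  · exact congrFun (congrFun h1 2) 2

/-- The composite `GU₂(q) → SU₃(q) → PSU₃(q)`. -/
noncomputable def psiU (hF : Fintype.card F = q ^ 2) : GU 2 F q →* PSU 3 F q :=
  (QuotientGroup.mk' (Subgroup.center (SU 3 F q))).comp (thetaU hF)

theorem pow_three_of_mem_ker (hF : Fintype.card F = q ^ 2) (x : GU 2 F q) (hx : psiU hF x = 1) :
    x ^ 3 = 1 := by
  have h1 : thetaU hF x ∈ Subgroup.center (SU 3 F q) := by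
    have : (QuotientGroup.mk' (Subgroup.center (SU 3 F q))) (thetaU hF x) = 1 := hx
    rwa [QuotientGroup.mk'_apply, QuotientGroup.eq_one_iff] at this
  have h2 : (thetaU hF x) ^ Nat.card (Subgroup.center (SU 3 F q)) = 1 := by
    have := pow_card_eq_one' (G := Subgroup.center (SU 3 F q)) (x := ⟨thetaU hF x, h1⟩)
    exact congrArg Subtype.val this
  rw [Cfsg.Agent.Lib.Helper5.card_center_SU hF (by norm_num : 1 ≤ 3)] at h2
  have h3 : (thetaU hF x) ^ 3 = 1 := by
    obtain ⟨k, hk⟩ := Nat.gcd_dvd_left 3 (q + 1)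
    have : (thetaU hF x) ^ (Nat.gcd 3 (q + 1) * k) = 1 := by rw [pow_mul, h2, one_pow]
    rwa [← hk] at this
  apply thetaU_injective hF
  rw [map_pow, h3, map_one]

/-! ### Orders -/

theorem card_GU2 (hF : Fintype.card F = q ^ 2) :
    Nat.card (GU 2 F q) = q * ((q + 1) * (q ^ 2 - 1)) := by
  rw [Cfsg.Agent.S0277.result hF 2]
  simp [Finset.prod_range_succ]

theorem card_PSU3 (hF : Fintype.card F = q ^ 2) :
    Nat.gcd 3 (q + 1) * ((q + 1) * Nat.card (PSU 3 F q)) = q ^ 3 * ((q + 1) * (q ^ 2 - 1) * (q ^ 3 + 1)) := by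
  rw [Cfsg.Agent.S0280.result hF 3 (by norm_num)]
  simp [Finset.prod_range_succ]

/-- `gcd(3,q+1) · |PSU₃(q)| = |GU₂(q)| · q²(q²-q+1)`. -/
theorem card_PSU3_mul (hF : Fintype.card F = q ^ 2) :
    Nat.gcd 3 (q + 1) * Nat.card (PSU 3 F q) = Nat.card (GU 2 F q) * (q ^ 2 * (q ^ 2 - q + 1)) := by
  have h1 := card_PSU3 hF
  rw [card_GU2 hF]
  have hq2 := Cfsg.Agent.Lib.Helper5.two_le_of_card_eq_sq hF
  have hq1 : 1 ≤ q := by omega
  have e4 : 1 ≤ q ^ 2 := Nat.one_le_pow _ _ hq1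
  have e5 : q ≤ q ^ 2 := by calc q = q ^ 1 := (pow_one q).symm
    _ ≤ q ^ 2 := Nat.pow_le_pow_right hq1 (by norm_num)
  have hpos : 0 < q + 1 := by omega
  apply Nat.eq_of_mul_eq_mul_left hpos
  have h1' : (q + 1) * (Nat.gcd 3 (q + 1) * Nat.card (PSU 3 F q)) =
      q ^ 3 * ((q + 1) * (q ^ 2 - 1) * (q ^ 3 + 1)) := by rw [← h1]; ring
  rw [h1']
  zify [e4, e5]
  ring

theorem factorization_two_eq (hF : Fintype.card F = q ^ 2) (hodd : q % 2 = 1) :
    (Nat.card (PSU 3 F q)).factorization 2 = (Nat.card (GU 2 F q)).factorization 2 := by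
  have h := card_PSU3_mul hF
  have hq2 := Cfsg.Agent.Lib.Helper5.two_le_of_card_eq_sq hF
  have hq1 : 1 ≤ q := by omega
  have e5 : q ≤ q ^ 2 := by calc q = q ^ 1 := (pow_one q).symm
    _ ≤ q ^ 2 := Nat.pow_le_pow_right hq1 (by norm_num)
  have hz : Odd (Nat.gcd 3 (q + 1)) := by
    have h3 : Nat.gcd 3 (q + 1) ∣ 3 := Nat.gcd_dvd_left _ _
    rcases (Nat.dvd_prime Nat.prime_three).1 h3 with h | h <;> rw [h] <;> decide
  have hq : Odd q := Nat.odd_iff.2 hodd
  have hc : Odd (q ^ 2 * (q ^ 2 - q + 1)) := by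
    apply Odd.mul (hq.pow)
    have : Even (q ^ 2 - q) := by
      rw [pow_two]
      exact Nat.Odd.sub_odd (hq.mul hq) hq
    exact this.add_one
  have hP : Nat.card (PSU 3 F q) ≠ 0 := Nat.card_pos.ne'
  have hG : Nat.card (GU 2 F q) ≠ 0 := Nat.card_pos.ne'
  have hz0 : Nat.gcd 3 (q + 1) ≠ 0 := by
    intro h0; rw [h0] at hz; exact (Nat.not_odd_iff_even.2 (by decide)) hz
  have hc0 : q ^ 2 * (q ^ 2 - q + 1) ≠ 0 := by
    intro h0; rw [h0] at hc; exact (Nat.not_odd_iff_even.2 (by decide)) hc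
  have hz2 : (Nat.gcd 3 (q + 1)).factorization 2 = 0 :=
    Nat.factorization_eq_zero_of_not_dvd (fun hd => by
      rw [← even_iff_two_dvd] at hd; exact (Nat.not_odd_iff_even.2 hd) hz)
  have hc2 : (q ^ 2 * (q ^ 2 - q + 1)).factorization 2 = 0 :=
    Nat.factorization_eq_zero_of_not_dvd (fun hd => by
      rw [← even_iff_two_dvd] at hd; exact (Nat.not_odd_iff_even.2 hd) hc)
  have h' := congrArg (fun n => n.factorization 2) h
  simp only [Nat.factorization_mul hz0 hP, Nat.factorization_mul hG hc0, Finsupp.add_apply] at h'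
  rw [hz2, hc2] at h'
  simpa using h'

/-! ### The Sylow 2-subgroups of `PSU₃(q)` -/

/-- A Sylow 2-subgroup of `PSU₃(q)`, `q` odd, is isomorphic to a Sylow 2-subgroup of `GU₂(q)`. -/
theorem exists_sylow_equiv (hF : Fintype.card F = q ^ 2) (hodd : q % 2 = 1) (S : Sylow 2 (PSU 3 F q))
    (P : Sylow 2 (GU 2 F q)) : Nonempty ((P : Subgroup (GU 2 F q)) ≃* (S : Subgroup (PSU 3 F q))) := by
  have : Fact (Nat.Prime 2) := ⟨Nat.prime_two⟩
  let ψ : (P : Subgroup (GU 2 F q)) →* PSU 3 F q := (psiU hF).comp (P : Subgroup (GU 2 F q)).subtype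
  have hinj : Function.Injective ψ := by
    rw [injective_iff_map_eq_one]
    intro x hx
    have h1 : (x : GU 2 F q) ^ 3 = 1 := pow_three_of_mem_ker hF x hx
    obtain ⟨k, hk⟩ := P.isPGroup' x
    have h2 : (x : GU 2 F q) ^ 2 ^ k = 1 := congrArg Subtype.val hk
    have := Cfsg.Agent.Lib.Helper98.OddAut.eq_one_of_pow_odd_of_pow_two _ _ k (by decide : Odd 3) h1 h2
    exact Subtype.ext this
  have hcard : Nat.card ψ.range = 2 ^ (Nat.card (PSU 3 F q)).factorization 2 := by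
    rw [← Nat.card_congr (MonoidHom.ofInjective hinj).toEquiv, P.card_eq_multiplicity,
      factorization_two_eq hF hodd]
  let S₀ : Sylow 2 (PSU 3 F q) := Sylow.ofCard ψ.range hcard
  have e1 : (P : Subgroup (GU 2 F q)) ≃* (S₀ : Subgroup (PSU 3 F q)) := MonoidHom.ofInjective hinj
  exact ⟨e1.trans (Sylow.equiv S₀ S)⟩

theorem sylow_shape (hF : Fintype.card F = q ^ 2) (hodd : q % 2 = 1) (S : Sylow 2 (PSU 3 F q)) :
    IsQuasiDihedral (S : Subgroup (PSU 3 F q)) ∨ IsWreathed (S : Subgroup (PSU 3 F q)) := by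
  have : Fact (Nat.Prime 2) := ⟨Nat.prime_two⟩
  let P : Sylow 2 (GU 2 F q) := default
  obtain ⟨e⟩ := exists_sylow_equiv hF hodd S P
  have h := Cfsg.Agent.S1218.result q hF (Nat.odd_iff.2 hodd) P
  have h4 : q % 4 = 1 ∨ q % 4 = 3 := by omega
  rcases h4 with h4 | h4
  · exact Or.inl (PSL3Fusion.isQuasiDihedral_of_equiv e (h.1 h4))
  · exact Or.inr (PSL3Fusion.isWreathed_of_equiv e (h.2 h4))

/-- The 2-fusion system of `PSU₃(q)`, `q` odd, is simple. -/
theorem psu3_fusion_isSimple (hF : Fintype.card F = q ^ 2) (hodd : q % 2 = 1) (S : Sylow 2 (PSU 3 F q)) :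
    (Cfsg.groupFusionSystem (S : Subgroup (PSU 3 F q))).IsSimple 2 := by
  have : Fact (Nat.Prime 2) := ⟨Nat.prime_two⟩
  have hshape := sylow_shape hF hodd S
  obtain ⟨h16, -⟩ := PSL3Fusion.exists_gen (S : Subgroup (PSU 3 F q)) hshape
  have hG : ∀ H : Subgroup (PSU 3 F q), H.index ≠ 2 := by
    intro H hH
    have hsimple : IsSimpleGroup (PSU 3 F q) :=
      Cfsg.Agent.S0283.result hF 3 le_rfl (by rintro ⟨-, h2⟩; omega)
    have hn : H.Normal := Subgroup.normal_of_index_eq_two hH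
    rcases hn.eq_bot_or_eq_top with h | h
    · rw [h, Subgroup.index_bot] at hH
      have := Subgroup.card_le_card_group (S : Subgroup (PSU 3 F q))
      omega
    · rw [h, Subgroup.index_top] at hH
      omega
  exact FusionQDWr.isSimple_of_qd_or_wreathed S hshape hG

end Cfsg.Agent.Lib.Helper98.PSU3Fusion
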