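import Cfsg.Agent.Lib.Helper98.SL2Q8
import Cfsg.Agent.Lib.Helper5.SpSylow

set_option autoImplicit false
set_option linter.unusedSectionVars false
set_option linter.unusedVariables false

namespace Cfsg.Agent.Lib.Helper98.SL2Q8

open Cfsg Cfsg.Agent.Lib.Helper41 Cfsg.Agent.Lib.Helper98.SL2Quat Cfsg.Agent.Lib.Helper5

variable {F : Type*} [Field F]

local notation "SL2" => Matrix.SpecialLinearGroup (Fin 2) F
local notation "M2" => Matrix (Fin 2) (Fin 2) F

theorem pv_two_mul_odd {m : ℕ} (hm : m % 2 = 1) : padicValNat 2 (2 * m) = 1 := by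
  have hm0 : m ≠ 0 := by omega
  rw [padicValNat.mul (by norm_num) hm0, padicValNat.self (by norm_num),
    padicValNat.eq_zero_of_not_dvd (by omega)]

theorem pv_four_mul_odd {m : ℕ} (hm : m % 2 = 1) : padicValNat 2 (4 * m) = 2 := by
  have hm0 : m ≠ 0 := by omega
  have e : 4 * m = 2 * (2 * m) := by ring
  rw [e, padicValNat.mul (by norm_num) (by omega), padicValNat.self (by norm_num), pv_two_mul_odd hm]

theorem cq_eq_three {q : ℕ} (h : q % 8 = 3 ∨ q % 8 = 5) : cq q = 3 := by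
  unfold cq
  rcases h with h | h
  · obtain ⟨m, hm⟩ : ∃ m, q = 8 * m + 3 := ⟨q / 8, by omega⟩
    have e1 : q + 1 = 4 * (2 * m + 1) := by omega
    have e2 : q - 1 = 2 * (4 * m + 1) := by omega
    rw [e1, e2, pv_four_mul_odd (by omega), pv_two_mul_odd (by omega)]
  · obtain ⟨m, hm⟩ : ∃ m, q = 8 * m + 5 := ⟨q / 8, by omega⟩
    have e1 : q + 1 = 2 * (4 * m + 3) := by omega
    have e2 : q - 1 = 4 * (2 * m + 1) := by omega
    rw [e1, e2, pv_four_mul_odd (by omega), pv_two_mul_odd (by omega)]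

variable [Fintype F]

/-- In case `q ≡ ±3 mod 8` a Sylow `2`-subgroup of `SL₂(q)` is quaternion of order `8`. -/
theorem exists_iso (hodd : Fintype.card F % 2 = 1)
    (h8 : Fintype.card F % 8 = 3 ∨ Fintype.card F % 8 = 5) (Q : Sylow 2 SL2) :
    ∃ (hz : (negOne : SL2) ∈ (Q : Subgroup SL2)) (e : (Q : Subgroup SL2) ≃* QuaternionGroup 2),
      e ⟨negOne, hz⟩ = QuaternionGroup.a 2 := by
  have h2 := PSL2Fusion.two_ne_zero_of_odd_card hodd
  have hodd' : Odd (Fintype.card F) := Nat.odd_iff.2 hodd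
  obtain ⟨k, hk, ⟨e⟩⟩ := Cfsg.Agent.S0261.result hodd' Q
  have hQ : Nat.card (Q : Subgroup SL2) = 2 ^ 3 := by
    rw [Sylow.card_eq_multiplicity, ← Nat.card_congr (spOneEquivSL2 (F := F)).toEquiv,
      factorization_card_sp hodd' 1, cq_eq_three h8]
    simp [s2]
  have hk1 : k = 1 := by
    haveI : NeZero (2 ^ k) := ⟨by positivity⟩
    have h1 : Nat.card (Q : Subgroup SL2) = 4 * 2 ^ k := by
      rw [Nat.card_congr e.toEquiv, Nat.card_eq_fintype_card, QuaternionGroup.card]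
    rw [hQ] at h1
    have h3 : 2 ^ k = 2 ^ 1 := by omega
    exact Nat.pow_right_injective (le_refl 2) h3
  subst hk1
  have e' : (Q : Subgroup SL2) ≃* QuaternionGroup 2 := e
  have hz : ((e'.symm (QuaternionGroup.a 2) : (Q : Subgroup SL2)) : SL2) = negOne := by
    apply eq_negOne_of_sq h2
    · rw [← Subgroup.coe_mul, ← map_mul]
      have : (QuaternionGroup.a 2 : QuaternionGroup 2) * QuaternionGroup.a 2 = 1 := by decide
      rw [this, map_one, Subgroup.coe_one]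
    · intro h
      have h1 : e'.symm (QuaternionGroup.a 2) = 1 := Subtype.ext h
      rw [MulEquiv.map_eq_one_iff] at h1
      revert h1
      decide
  have hzmem : (negOne : SL2) ∈ (Q : Subgroup SL2) := by
    rw [← hz]; exact (e'.symm _).2
  refine ⟨hzmem, e', ?_⟩
  have : (⟨negOne, hzmem⟩ : (Q : Subgroup SL2)) = e'.symm (QuaternionGroup.a 2) :=
    Subtype.ext hz.symm
  rw [this, MulEquiv.apply_symm_apply]



theorem q8_conj : ∀ y z : QuaternionGroup 2, y * z * y⁻¹ = z ∨ y * z * y⁻¹ = QuaternionGroup.a 2 * z := by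
  decide

theorem q8_inv : ∀ y : QuaternionGroup 2, y⁻¹ = y ∨ y⁻¹ = QuaternionGroup.a 2 * y := by decide

set_option maxRecDepth 100000 in
theorem q8_gen : ∀ y₁ y₂ : QuaternionGroup 2, y₁ * y₂ ≠ y₂ * y₁ →
    ∀ y : QuaternionGroup 2, ∃ m : Fin 4, ∃ n : Fin 2, y = y₁ ^ (m : ℕ) * y₂ ^ (n : ℕ) := by decide

/-- The data used in case B. -/
structure Q8Data (Q : Subgroup SL2) (c : SL2) (B : M2) : Prop where
  hN : ∀ a : SL2, (∀ x ∈ Q, a * x * a⁻¹ ∈ Q) → ∃ n : ℕ, ∃ q ∈ Q, a = c ^ n * q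
  hcQ : ∀ x ∈ Q, c * x * c⁻¹ ∈ Q
  hc3 : c ^ 3 = 1
  hE1 : ∀ a ∈ Q, ∀ x ∈ Q, a * x * a⁻¹ = x ∨ a * x * a⁻¹ = negOne * x
  hE2 : ∀ y ∈ Q, y⁻¹ = y ∨ y⁻¹ = negOne * y
  hE3 : ∀ b : SL2, (∀ x ∈ Q, b * x * b⁻¹ = x ∨ b * x * b⁻¹ = negOne * x) → b ∈ Q
  hB : 2 * B.det = 1
  hB1 : ∀ x ∈ Q, ∃ x' ∈ Q, B * (x : M2) = (x' : M2) * B
  hB3 : ∃ u ∈ Q, u * u = negOne ∧ (2 : F) • (B * B) = (u : M2)
  hB4 : ∃ v ∈ Q, B * (c : M2) = ((v * c⁻¹ : SL2) : M2) * B

theorem exists_ab (hodd : Fintype.card F % 2 = 1) : ∃ a b : F, a * a + b * b = -1 := by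
  open Polynomial in
  obtain ⟨a, b, hab⟩ : ∃ a b, (X ^ 2 : F[X]).eval a + (X ^ 2 - C (-1 : F) : F[X]).eval b = 0 :=
    FiniteField.exists_root_sum_quadratic (degree_X_pow 2) (degree_X_pow_sub_C (by decide) _) hodd
  refine ⟨a, b, ?_⟩
  simp only [Polynomial.eval_C, Polynomial.eval_X, Polynomial.eval_pow, Polynomial.eval_sub] at hab
  linear_combination hab

/-- A Sylow `2`-subgroup containing `i` and `j`. -/
theorem exists_sylow_ij (a b : F) (hab : a * a + b * b = -1) :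
    ∃ Q : Sylow 2 SL2, iQ a b hab ∈ (Q : Subgroup SL2) ∧ (jQ : SL2) ∈ (Q : Subgroup SL2) := by
  have hp : ∀ x : SL2, x ^ 4 = 1 → IsPGroup 2 (Subgroup.zpowers x) := by
    intro x hx
    rintro ⟨g, hg⟩
    obtain ⟨m, rfl⟩ := Subgroup.mem_zpowers_iff.1 hg
    refine ⟨2, Subtype.ext ?_⟩
    show (x ^ m) ^ 2 ^ 2 = 1
    rw [← zpow_natCast, ← zpow_mul, mul_comm, zpow_mul, zpow_natCast]
    norm_num
    rw [hx, one_zpow]
  have hI4 : iQ a b hab ^ 4 = 1 := by
    have : iQ a b hab ^ 4 = (iQ a b hab * iQ a b hab) * (iQ a b hab * iQ a b hab) := by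
      simp only [pow_succ, pow_zero, one_mul, mul_assoc]
    rw [this, iQ_sq, negOne_mul_self]
  have hJ4 : (jQ : SL2) ^ 4 = 1 := by
    have : (jQ : SL2) ^ 4 = (jQ * jQ) * (jQ * jQ) := by
      simp only [pow_succ, pow_zero, one_mul, mul_assoc]
    rw [this, jQ_sq, negOne_mul_self]
  have hnorm : Subgroup.zpowers (jQ : SL2) ≤ Subgroup.normalizer (Subgroup.zpowers (iQ a b hab) : Set SL2) := by
    rw [Subgroup.zpowers_le]
    apply Subgroup.mem_normalizer_fintype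
    intro n hn
    obtain ⟨m, rfl⟩ := Subgroup.mem_zpowers_iff.1 hn
    have : jQ * iQ a b hab ^ m * jQ⁻¹ = (jQ * iQ a b hab * jQ⁻¹) ^ m := by
      rw [conj_zpow]
    rw [SetLike.mem_coe, this, jQ_iQ a b hab]
    have h3 : negOne * (iQ a b hab * jQ) * jQ⁻¹ = (iQ a b hab)⁻¹ := by
      rw [mul_assoc, mul_inv_cancel_right]
      apply eq_inv_of_mul_eq_one_left
      rw [mul_assoc, iQ_sq, negOne_mul_self]
    rw [h3, inv_zpow]
    exact Subgroup.inv_mem _ (Subgroup.zpow_mem_zpowers _ _)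
  have hP : IsPGroup 2 (Subgroup.zpowers (jQ : SL2) ⊔ Subgroup.zpowers (iQ a b hab) : Subgroup SL2) :=
    IsPGroup.to_sup_of_normal_right' (hp _ hJ4) (hp _ hI4) hnorm
  obtain ⟨Q, hQ⟩ := hP.exists_le_sylow
  exact ⟨Q, hQ (le_sup_right (a := Subgroup.zpowers (jQ : SL2)) (Subgroup.mem_zpowers _)),
    hQ (le_sup_left (b := Subgroup.zpowers (iQ a b hab)) (Subgroup.mem_zpowers _))⟩



theorem exists_q8Data (hodd : Fintype.card F % 2 = 1)
    (h8 : Fintype.card F % 8 = 3 ∨ Fintype.card F % 8 = 5) :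
    ∃ (Q : Sylow 2 SL2) (c : SL2) (B : M2), Q8Data (Q : Subgroup SL2) c B := by
  have h2 := PSL2Fusion.two_ne_zero_of_odd_card hodd
  have hodd' : Odd (Fintype.card F) := Nat.odd_iff.2 hodd
  obtain ⟨a, b, hab⟩ := exists_ab hodd
  have hh : 2 * (2 : F)⁻¹ = 1 := mul_inv_cancel₀ h2
  obtain ⟨Q, hIQ, hJQ⟩ := exists_sylow_ij a b hab
  obtain ⟨hz, e, hez⟩ := exists_iso hodd h8 Q
  obtain ⟨I, hI⟩ : ∃ I : SL2, I = iQ a b hab := ⟨_, rfl⟩
  obtain ⟨J, hJ⟩ : ∃ J : SL2, J = jQ := ⟨_, rfl⟩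
  obtain ⟨C, hC⟩ : ∃ C : SL2, C = cQ a b (2 : F)⁻¹ hab hh := ⟨_, rfl⟩
  obtain ⟨ζ, hζ⟩ : ∃ ζ : SL2, ζ = negOne := ⟨_, rfl⟩
  rw [← hI] at hIQ
  rw [← hJ] at hJQ
  have hζc : ∀ x : SL2, x * ζ = ζ * x := by rw [hζ]; exact SL2Quat.negOne_central
  have hζζ : ζ * ζ = 1 := by rw [hζ]; exact negOne_mul_self
  have hII : I * I = ζ := by rw [hI, hζ]; exact iQ_sq a b hab
  have hJJ : J * J = ζ := by rw [hJ, hζ]; exact jQ_sq
  have hJI : J * I = ζ * (I * J) := by rw [hI, hJ, hζ]; exact jQ_iQ a b hab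
  have hCI : C * I * C⁻¹ = I * J := by
    rw [hC, hI, hJ, cQ_iQ, mul_inv_cancel_right]
  have hCJ : C * J * C⁻¹ = I := by
    rw [hC, hI, hJ, cQ_jQ, mul_inv_cancel_right]
  have hC3 : C ^ 3 = 1 := by rw [hC]; exact cQ_cube a b _ hab hh
  have hC1 : C ≠ 1 := by rw [hC]; exact cQ_ne_one a b _ hab hh h2
  have hζQ : ζ ∈ (Q : Subgroup SL2) := by rw [hζ]; exact hz
  -- generation
  have hgen : ∀ x ∈ (Q : Subgroup SL2), ∃ m n : ℕ, x = I ^ m * J ^ n := by
    intro x hx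
    have hne : e ⟨I, hIQ⟩ * e ⟨J, hJQ⟩ ≠ e ⟨J, hJQ⟩ * e ⟨I, hIQ⟩ := by
      rw [← map_mul, ← map_mul]
      intro h
      have := e.injective h
      apply iQ_jQ_ne a b hab h2
      rw [← hI, ← hJ]
      exact congrArg Subtype.val this
    obtain ⟨m, n, hmn⟩ := q8_gen _ _ hne (e ⟨x, hx⟩)
    refine ⟨m, n, ?_⟩
    rw [← map_pow, ← map_pow, ← map_mul] at hmn
    have := e.injective hmn
    exact congrArg Subtype.val this
  have hE1 : ∀ a ∈ (Q : Subgroup SL2), ∀ x ∈ (Q : Subgroup SL2),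
      a * x * a⁻¹ = x ∨ a * x * a⁻¹ = ζ * x := by
    intro a ha x hx
    rcases q8_conj (e ⟨a, ha⟩) (e ⟨x, hx⟩) with h | h
    · left
      rw [← map_inv, ← map_mul, ← map_mul] at h
      exact congrArg Subtype.val (e.injective h)
    · right
      rw [← hez, ← map_inv, ← map_mul, ← map_mul, ← map_mul] at h
      rw [hζ]
      exact congrArg Subtype.val (e.injective h)
  have hE2 : ∀ y ∈ (Q : Subgroup SL2), y⁻¹ = y ∨ y⁻¹ = ζ * y := by
    intro y hy
    rcases q8_inv (e ⟨y, hy⟩) with h | h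
    · left
      rw [← map_inv] at h
      exact congrArg Subtype.val (e.injective h)
    · right
      rw [← hez, ← map_inv, ← map_mul] at h
      rw [hζ]
      exact congrArg Subtype.val (e.injective h)
  -- the centralizer
  have hcent : ∀ b' : SL2, b' * I = I * b' → b' * J = J * b' → b' ∈ (Q : Subgroup SL2) := by
    intro b' h1 h2'
    have hc : b' ∈ Subgroup.centralizer ((Q : Subgroup SL2) : Set SL2) := by
      rw [Subgroup.mem_centralizer_iff]
      intro x hx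
      obtain ⟨m, n, rfl⟩ := hgen x hx
      have c1 : Commute b' I := h1
      have c2 : Commute b' J := h2'
      exact ((c1.pow_right m).mul_right (c2.pow_right n)).eq.symm
    rw [(Cfsg.Agent.S2431.result hodd' Q).1, mem_center_iff_pm] at hc
    rcases hc with h | h
    · have : b' = 1 := Subtype.ext (by rw [h, Matrix.SpecialLinearGroup.coe_one])
      rw [this]; exact Subgroup.one_mem _
    · rw [SL2Quat.eq_negOne_of_coe h]; exact hz
  have hE3 : ∀ b' : SL2, (∀ x ∈ (Q : Subgroup SL2), b' * x * b'⁻¹ = x ∨ b' * x * b'⁻¹ = ζ * x) →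
      b' ∈ (Q : Subgroup SL2) := by
    intro b' hb'
    have key : ∀ u ∈ (Q : Subgroup SL2), (u * b') * I = I * (u * b') → (u * b') * J = J * (u * b') →
        b' ∈ (Q : Subgroup SL2) := by
      intro u hu h1 h2'
      have h3 := hcent _ h1 h2'
      have : b' = u⁻¹ * (u * b') := by group
      rw [this]; exact Subgroup.mul_mem _ (Subgroup.inv_mem _ hu) h3
    have hI' := hb' I hIQ
    have hJ' := hb' J hJQ
    rw [mul_inv_eq_iff_eq_mul, mul_inv_eq_iff_eq_mul] at hI' hJ'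
    have hζl : ∀ x y : SL2, x * (ζ * y) = ζ * (x * y) := by
      intro x y
      rw [← mul_assoc, hζc x, mul_assoc]
    have hζζ' : ∀ y : SL2, ζ * (ζ * y) = y := by
      intro y
      rw [← mul_assoc, hζζ, one_mul]
    have hJI' : ∀ y : SL2, J * (I * y) = ζ * (I * (J * y)) := by
      intro y
      rw [← mul_assoc, hJI, mul_assoc, mul_assoc]
    rcases hI' with hI' | hI' <;> rcases hJ' with hJ' | hJ'
    · apply key 1 (Subgroup.one_mem _)
      · rw [one_mul, hI']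
      · rw [one_mul, hJ']
    · apply key I hIQ
      · rw [mul_assoc, hI']
      · calc I * b' * J = I * (b' * J) := mul_assoc _ _ _
          _ = I * (ζ * (J * b')) := by rw [hJ', mul_assoc]
          _ = ζ * (I * (J * b')) := hζl _ _
          _ = J * (I * b') := (hJI' b').symm
    · apply key J hJQ
      · calc J * b' * I = J * (b' * I) := mul_assoc _ _ _
          _ = J * (ζ * (I * b')) := by rw [hI', mul_assoc]
          _ = ζ * (J * (I * b')) := hζl _ _
          _ = ζ * (ζ * (I * (J * b'))) := by rw [hJI']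
          _ = I * (J * b') := hζζ' _
      · rw [mul_assoc, hJ']
    · apply key (I * J) (Subgroup.mul_mem _ hIQ hJQ)
      · calc I * J * b' * I = I * (J * (b' * I)) := by simp only [mul_assoc]
          _ = I * (J * (ζ * (I * b'))) := by rw [hI', mul_assoc]
          _ = I * (ζ * (J * (I * b'))) := by rw [hζl J]
          _ = I * (ζ * (ζ * (I * (J * b')))) := by rw [hJI']
          _ = I * (I * (J * b')) := by rw [hζζ']
          _ = I * (I * J * b') := by simp only [mul_assoc]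
      · calc I * J * b' * J = I * (J * (b' * J)) := by simp only [mul_assoc]
          _ = I * (J * (ζ * (J * b'))) := by rw [hJ', mul_assoc]
          _ = I * (ζ * (J * (J * b'))) := by rw [hζl J]
          _ = ζ * (I * (J * (J * b'))) := hζl _ _
          _ = J * (I * (J * b')) := (hJI' _).symm
          _ = J * (I * J * b') := by simp only [mul_assoc]
  -- `C` normalizes `Q`
  have hcQ : ∀ x ∈ (Q : Subgroup SL2), C * x * C⁻¹ ∈ (Q : Subgroup SL2) := by
    intro x hx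
    obtain ⟨m, n, rfl⟩ := hgen x hx
    have : C * (I ^ m * J ^ n) * C⁻¹ = (C * I * C⁻¹) ^ m * (C * J * C⁻¹) ^ n := by
      rw [conj_pow, conj_pow]; group
    rw [this, hCI, hCJ]
    exact Subgroup.mul_mem _ (Subgroup.pow_mem _ (Subgroup.mul_mem _ hIQ hJQ) m)
      (Subgroup.pow_mem _ hIQ n)
  have hCQ : C ∉ (Q : Subgroup SL2) := by
    intro hCm
    obtain ⟨k, hk⟩ := Q.isPGroup' ⟨C, hCm⟩
    have h1 : C ^ 2 ^ k = 1 := congrArg Subtype.val hk
    have h3 := pow_gcd_eq_one.2 ⟨h1, hC3⟩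
    have hg : Nat.gcd (2 ^ k) 3 = 1 := Nat.Coprime.pow_left k (by norm_num)
    rw [hg, pow_one] at h3
    exact hC1 h3
  have hN : ∀ a' : SL2, (∀ x ∈ (Q : Subgroup SL2), a' * x * a'⁻¹ ∈ (Q : Subgroup SL2)) →
      ∃ n : ℕ, ∃ q ∈ (Q : Subgroup SL2), a' = C ^ n * q := by
    intro a' ha'
    have haN : a' ∈ Subgroup.normalizer ((Q : Subgroup SL2) : Set SL2) :=
      Subgroup.mem_normalizer_fintype ha'
    have hCN : C ∈ Subgroup.normalizer ((Q : Subgroup SL2) : Set SL2) :=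
      Subgroup.mem_normalizer_fintype hcQ
    have hcard := (Cfsg.Agent.S2431.result hodd' Q).2.2 h8
    haveI : ((Q : Subgroup SL2).subgroupOf (Subgroup.normalizer ((Q : Subgroup SL2) : Set SL2))).Normal :=
      Subgroup.normal_in_normalizer
    have hq3 : Nat.card (Subgroup.normalizer ((Q : Subgroup SL2) : Set SL2) ⧸
        (Q : Subgroup SL2).subgroupOf (Subgroup.normalizer ((Q : Subgroup SL2) : Set SL2))) = 3 := by
      have h1 := Subgroup.card_eq_card_quotient_mul_card_subgroup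
        ((Q : Subgroup SL2).subgroupOf (Subgroup.normalizer ((Q : Subgroup SL2) : Set SL2)))
      rw [hcard, Nat.card_congr (Subgroup.subgroupOfEquivOfLe Subgroup.le_normalizer).toEquiv] at h1
      have hpos : 0 < Nat.card (Q : Subgroup SL2) := Nat.card_pos
      exact (Nat.eq_of_mul_eq_mul_right hpos h1).symm
    haveI : Fact (Nat.Prime 3) := ⟨by norm_num⟩
    have hne : (QuotientGroup.mk ⟨C, hCN⟩ : Subgroup.normalizer ((Q : Subgroup SL2) : Set SL2) ⧸
        (Q : Subgroup SL2).subgroupOf (Subgroup.normalizer ((Q : Subgroup SL2) : Set SL2))) ≠ 1 := by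
      rw [Ne, QuotientGroup.eq_one_iff, Subgroup.mem_subgroupOf]
      exact hCQ
    obtain ⟨n, hn⟩ := (Submonoid.mem_powers_iff _ _).1
      (mem_powers_of_prime_card hq3 hne (g' := QuotientGroup.mk ⟨a', haN⟩))
    rw [← QuotientGroup.mk_pow, QuotientGroup.eq, Subgroup.mem_subgroupOf] at hn
    refine ⟨n, (C ^ n)⁻¹ * a', ?_, by group⟩
    simpa using hn
  -- the matrix `B`
  have hB1 : ∀ x ∈ (Q : Subgroup SL2), ∃ x' ∈ (Q : Subgroup SL2),
      Bmat a b (2 : F)⁻¹ * (x : M2) = (x' : M2) * Bmat a b (2 : F)⁻¹ := by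
    let M : Submonoid SL2 :=
      { carrier := {x | ∃ x' ∈ (Q : Subgroup SL2),
          Bmat a b (2 : F)⁻¹ * (x : M2) = (x' : M2) * Bmat a b (2 : F)⁻¹}
        one_mem' := ⟨1, Subgroup.one_mem _, by simp⟩
        mul_mem' := by
          rintro x y ⟨x', hx', hx⟩ ⟨y', hy', hy⟩
          refine ⟨x' * y', Subgroup.mul_mem _ hx' hy', ?_⟩
          rw [Matrix.SpecialLinearGroup.coe_mul, Matrix.SpecialLinearGroup.coe_mul, ← Matrix.mul_assoc,
            hx, Matrix.mul_assoc, hy, Matrix.mul_assoc] }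
    have hIM : I ∈ M := ⟨I, hIQ, by rw [hI]; exact B_iQ a b _ hab⟩
    have hJM : J ∈ M := ⟨ζ * (I * J), Subgroup.mul_mem _ hζQ (Subgroup.mul_mem _ hIQ hJQ), by
      rw [hI, hJ, hζ]; exact B_jQ a b _ hab⟩
    intro x hx
    obtain ⟨m, n, rfl⟩ := hgen x hx
    exact M.mul_mem (M.pow_mem hIM m) (M.pow_mem hJM n)
  refine ⟨Q, C, Bmat a b (2 : F)⁻¹, ?_⟩
  rw [hζ] at hE1 hE2 hE3
  refine
    { hN := hN
      hcQ := hcQ
      hc3 := hC3
      hE1 := hE1
      hE2 := hE2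
      hE3 := hE3
      hB := det_Bmat a b _ hab hh
      hB1 := hB1
      hB3 := ⟨ζ * I, Subgroup.mul_mem _ hζQ hIQ, ?_, ?_⟩
      hB4 := ⟨ζ * J, Subgroup.mul_mem _ hζQ hJQ, ?_⟩ }
  · calc ζ * I * (ζ * I) = ζ * (I * ζ) * I := by simp only [mul_assoc]
      _ = ζ * (ζ * I) * I := by rw [hζc I]
      _ = negOne := by rw [← mul_assoc, hζζ, one_mul, hII, hζ]
  · rw [hζ, hI]; exact B_sq a b _ hab hh
  · rw [hζ, hJ, hC]; exact B_cQ a b _ hab hh

end Cfsg.Agent.Lib.Helper98.SL2Q8
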