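import Cfsg.Agent.Lib.Helper98.PSp4Model
import Cfsg.Agent.Lib.Helper98.SL2Q8b

set_option autoImplicit false
set_option linter.unusedSectionVars false

namespace Cfsg.Agent.Lib.Helper98.PSp4Fusion

open Matrix Cfsg.Agent.Lib.Helper5 Cfsg.Agent.Lib.Helper41 Cfsg.Agent.Lib.Helper98.WreathLift
  Cfsg.Agent.Lib.Helper98.PSp4Model

variable {F : Type*} [Field F] [Fintype F]

local notation "SL2" => Matrix.SpecialLinearGroup (Fin 2) F
local notation "E4" => symplecticGroup (Fin 1 ⊕ Fin 1) F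

/-- Reduction to a conjugate of the projection. -/
theorem exists_proj (hodd : Fintype.card F % 2 = 1) (Q : Sylow 2 SL2) (S : Sylow 2 (Cfsg.PSp 2 F)) :
    ∃ (π : E4 →* Cfsg.PSp 2 F) (K : Subgroup E4), Function.Surjective π ∧
      (∀ x, π x = 1 ↔ x = 1 ∨ x = iota (negOne, negOne)) ∧
      (∀ k, k ∈ K ↔ ∃ a ∈ (Q : Subgroup SL2), ∃ b ∈ (Q : Subgroup SL2),
        k = iota (a, b) ∨ k = iota (a, b) * tau) ∧
      (S : Subgroup (Cfsg.PSp 2 F)) = K.map π := by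
  obtain ⟨K, hK⟩ := exists_sylow hodd Q
  obtain ⟨g, hg⟩ := MulAction.exists_smul_eq (Cfsg.PSp 2 F) (K.mapSurjective proj_surjective) S
  refine ⟨(MulAut.conj g).toMonoidHom.comp proj, (K : Subgroup E4), ?_, ?_, hK, ?_⟩
  · intro y
    obtain ⟨x, hx⟩ := proj_surjective ((MulAut.conj g).symm y)
    refine ⟨x, ?_⟩
    show (MulAut.conj g) (proj x) = y
    rw [hx, MulEquiv.apply_symm_apply]
  · intro x
    rw [← proj_eq_one_iff]
    show (MulAut.conj g) (proj x) = 1 ↔ _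
    rw [MulEquiv.map_eq_one_iff]
  · rw [← hg, Sylow.coe_subgroup_smul, Sylow.coe_mapSurjective, ← Subgroup.map_map]
    rfl

theorem caseA (hodd : Fintype.card F % 2 = 1)
    (h8 : Fintype.card F % 8 = 1 ∨ Fintype.card F % 8 = 7) (S : Sylow 2 (Cfsg.PSp 2 F)) :
    (Cfsg.groupFusionSystem (S : Subgroup (Cfsg.PSp 2 F))).IsSimple 2 := by
  have h2 := PSL2Fusion.two_ne_zero_of_odd_card hodd
  obtain ⟨Q⟩ := (inferInstance : Nonempty (Sylow 2 SL2))
  obtain ⟨π, K, hsurj, hker, hK, hSK⟩ := exists_proj hodd Q S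
  exact isSimple_caseA π hsurj hker (coverData h2) (SL2Quat.qdata hodd Q) S K hK hSK
    (SL2Quat.normalizer_eq hodd h8 Q)



theorem caseB (hodd : Fintype.card F % 2 = 1)
    (h8 : Fintype.card F % 8 = 3 ∨ Fintype.card F % 8 = 5) (S : Sylow 2 (Cfsg.PSp 2 F)) :
    (Cfsg.groupFusionSystem (S : Subgroup (Cfsg.PSp 2 F))).IsSimple 2 := by
  have h2 := PSL2Fusion.two_ne_zero_of_odd_card hodd
  obtain ⟨Q, c, B, D⟩ := SL2Q8.exists_q8Data hodd h8
  obtain ⟨π, K, hsurj, hker, hK, hSK⟩ := exists_proj hodd Q S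
  refine isSimple_caseB π hsurj hker (coverData h2) (SL2Quat.qdata hodd Q) S K hK hSK c
    D.hN D.hcQ D.hc3 D.hE1 D.hE2 D.hE3 (twSp B D.hB) ?_ ?_ ?_ ?_ ?_
  · intro x hx
    obtain ⟨x', hx', h⟩ := D.hB1 x hx
    exact ⟨x', hx', twSp_diag B D.hB x x' h⟩
  · exact twSp_zt B D.hB
  · exact twSp_tau B D.hB
  · obtain ⟨u, hu, huu, h⟩ := D.hB3
    exact ⟨u, hu, huu, twSp_sq B D.hB u h⟩
  · obtain ⟨v, hv, h⟩ := D.hB4
    refine ⟨v, hv, ?_⟩
    rw [twSp_diag B D.hB c (v * c⁻¹) h, WreathLift.iota_inv, WreathLift.iota_mul]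

/-- **The `2`-fusion system of `PSp₄(q)`, `q` odd, is simple.** -/
theorem psp4_fusion_isSimple (hodd : Fintype.card F % 2 = 1) (S : Sylow 2 (Cfsg.PSp 2 F)) :
    (Cfsg.groupFusionSystem (S : Subgroup (Cfsg.PSp 2 F))).IsSimple 2 := by
  have h : Fintype.card F % 8 = 1 ∨ Fintype.card F % 8 = 7 ∨ Fintype.card F % 8 = 3 ∨
      Fintype.card F % 8 = 5 := by omega
  rcases h with h | h | h | h
  · exact caseA hodd (Or.inl h) S
  · exact caseA hodd (Or.inr h) S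
  · exact caseB hodd (Or.inl h) S
  · exact caseB hodd (Or.inr h) S

end Cfsg.Agent.Lib.Helper98.PSp4Fusion
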