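import Cfsg.Agent.Lib.Helper5.SpSylow
import Cfsg.Agent.Lib.Helper5.SymplecticCenter
import Cfsg.Agent.Lib.Helper98.SL2Quat

set_option autoImplicit false
set_option linter.unusedSectionVars false

namespace Cfsg.Agent.Lib.Helper98.PSp4Model

open Matrix Cfsg.Agent.Lib.Helper5 Cfsg.Agent.Lib.Helper41 Cfsg.Agent.Lib.Helper98.WreathLift

variable {F : Type*} [Field F]

local notation "SL2" => Matrix.SpecialLinearGroup (Fin 2) F
local notation "M2" => Matrix (Fin 2) (Fin 2) F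
local notation "P2" => Matrix (Fin 1 ⊕ Fin 1) (Fin 1 ⊕ Fin 1) F
local notation "E4" => symplecticGroup (Fin 1 ⊕ Fin 1) F
local notation "M4" => Matrix ((Fin 1 ⊕ Fin 1) ⊕ (Fin 1 ⊕ Fin 1)) ((Fin 1 ⊕ Fin 1) ⊕ (Fin 1 ⊕ Fin 1)) F

/-- Move a `2 × 2` matrix to the index type `Fin 1 ⊕ Fin 1`. -/
def up (B : M2) : P2 := B.submatrix e11 e11

theorem up_mul (A B : M2) : up (A * B) = up A * up B := by
  unfold up; rw [Matrix.submatrix_mul_equiv]

theorem up_one : up (1 : M2) = 1 := by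
  unfold up; exact Matrix.submatrix_one_equiv e11

theorem up_neg (A : M2) : up (-A) = -up A := rfl

theorem up_add (A B : M2) : up (A + B) = up A + up B := rfl

theorem up_smul (c : F) (A : M2) : up (c • A) = c • up A := rfl

theorem up_transpose (A : M2) : up Aᵀ = (up A)ᵀ := rfl

theorem up_injective : Function.Injective (up : M2 → P2) := by
  intro A B h
  have := congrArg (fun M : P2 => M.submatrix e11.symm e11.symm) h
  simpa [up] using this

/-- Block matrices. -/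
def bm (X Y Z W : P2) : M4 :=
  (Matrix.fromBlocks X Y Z W).submatrix (Equiv.sumSumSumComm (Fin 1) (Fin 1) (Fin 1) (Fin 1))
    (Equiv.sumSumSumComm (Fin 1) (Fin 1) (Fin 1) (Fin 1))

theorem bm_mul (X Y Z W X' Y' Z' W' : P2) :
    bm X Y Z W * bm X' Y' Z' W' =
      bm (X * X' + Y * Z') (X * Y' + Y * W') (Z * X' + W * Z') (Z * Y' + W * W') := by
  unfold bm
  rw [Matrix.submatrix_mul_equiv, Matrix.fromBlocks_multiply]

theorem bm_transpose (X Y Z W : P2) : (bm X Y Z W)ᵀ = bm Xᵀ Zᵀ Yᵀ Wᵀ := by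
  unfold bm
  rw [Matrix.transpose_submatrix, Matrix.fromBlocks_transpose]

theorem bm_neg (X Y Z W : P2) : -(bm X Y Z W) = bm (-X) (-Y) (-Z) (-W) := by
  unfold bm
  rw [← Matrix.fromBlocks_neg]
  rfl

theorem bm_inj {X Y Z W X' Y' Z' W' : P2} (h : bm X Y Z W = bm X' Y' Z' W') :
    X = X' ∧ Y = Y' ∧ Z = Z' ∧ W = W' := by
  unfold bm at h
  have h2 : Matrix.fromBlocks X Y Z W = Matrix.fromBlocks X' Y' Z' W' :=
    (Matrix.reindex (Equiv.sumSumSumComm (Fin 1) (Fin 1) (Fin 1) (Fin 1)).symm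
      (Equiv.sumSumSumComm (Fin 1) (Fin 1) (Fin 1) (Fin 1)).symm).injective h
  exact Matrix.fromBlocks_inj.1 h2

theorem exists_bm (M : M4) : ∃ X Y Z W : P2, M = bm X Y Z W := by
  set M' := M.submatrix (Equiv.sumSumSumComm (Fin 1) (Fin 1) (Fin 1) (Fin 1)).symm
    (Equiv.sumSumSumComm (Fin 1) (Fin 1) (Fin 1) (Fin 1)).symm with hM'
  refine ⟨M'.toBlocks₁₁, M'.toBlocks₁₂, M'.toBlocks₂₁, M'.toBlocks₂₂, ?_⟩
  unfold bm
  rw [Matrix.fromBlocks_toBlocks, hM']
  ext i j
  rcases i with (i | i) | (i | i) <;> rcases j with (j | j) | (j | j) <;> rfl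

theorem bm_one : bm (1 : P2) 0 0 1 = 1 := by
  unfold bm
  rw [Matrix.fromBlocks_one, Matrix.submatrix_one_equiv]

theorem blockSum_eq_bm (X W : P2) : blockSum X W = bm X 0 0 W := rfl

theorem swapMat_eq_bm : swapMat (Fin 1) F = bm 0 1 1 0 := rfl

theorem J_eq_bm : J (Fin 1 ⊕ Fin 1) F = bm (J (Fin 1) F) 0 0 (J (Fin 1) F) := J_sum

/-- `SL₂ × SL₂ → Sp₄`. -/
def iota : SL2 × SL2 →* E4 :=
  spProd.comp (MonoidHom.prodMap (spOneEquivSL2 (F := F)).symm.toMonoidHom
    (spOneEquivSL2 (F := F)).symm.toMonoidHom)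

theorem iota_coe (x y : SL2) : ((iota (x, y) : E4) : M4) = bm (up x.1) 0 0 (up y.1) := rfl

/-- The swap. -/
def tau : E4 := spSwap (Fin 1) F

theorem tau_coe : ((tau : E4) : M4) = bm 0 1 1 0 := rfl

theorem iota_injective : Function.Injective (iota (F := F)) := by
  intro x y h
  have h1 := spProd_injective h
  have h2 : (spOneEquivSL2 (F := F)).symm x.1 = (spOneEquivSL2 (F := F)).symm y.1 :=
    congrArg Prod.fst h1
  have h3 : (spOneEquivSL2 (F := F)).symm x.2 = (spOneEquivSL2 (F := F)).symm y.2 :=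
    congrArg Prod.snd h1
  exact Prod.ext ((spOneEquivSL2 (F := F)).symm.injective h2)
    ((spOneEquivSL2 (F := F)).symm.injective h3)

theorem tau_sq : (tau : E4) * tau = 1 := spSwap_mul_self

theorem tau_swap (a b : SL2) : (tau : E4) * iota (a, b) * tau⁻¹ = iota (b, a) :=
  spSwap_conj _ _

theorem tau_not_range (a b : SL2) : iota (a, b) ≠ (tau : E4) := by
  intro h
  exact spSwap_not_mem_range (l := Fin 1) (R := F) ⟨_, h⟩

theorem zt_coe : ((iota (negOne, 1) : E4) : M4) = bm (-1) 0 0 1 := by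
  rw [iota_coe, coe_negOne, up_neg, up_one, Matrix.SpecialLinearGroup.coe_one, up_one]

theorem eq_zero_of_eq_neg (h2 : (2 : F) ≠ 0) {Y : P2} (h : Y = -Y) : Y = 0 := by
  have h1 : (2 : F) • Y = 0 := by
    rw [two_smul]
    nth_rewrite 1 [h]
    exact neg_add_cancel Y
  rcases smul_eq_zero.1 h1 with h3 | h3
  · exact absurd h3 h2
  · exact h3

theorem spOneEquivSL2_coe (A : symplecticGroup (Fin 1) F) :
    ((spOneEquivSL2 A : SL2) : M2) = A.1.submatrix e11.symm e11.symm := rfl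

theorem up_spOneEquivSL2 (A : symplecticGroup (Fin 1) F) :
    up ((spOneEquivSL2 A : SL2) : M2) = A.1 := by
  rw [spOneEquivSL2_coe]
  unfold up
  ext i j
  simp

theorem cent (h2 : (2 : F) ≠ 0) (g : E4) (hg : g * iota (negOne, 1) = iota (negOne, 1) * g) :
    ∃ a b, g = iota (a, b) := by
  obtain ⟨X, Y, Z, W, hM⟩ := exists_bm (g : M4)
  have h1 : (g : M4) * ((iota (negOne, 1) : E4) : M4) = ((iota (negOne, 1) : E4) : M4) * (g : M4) :=
    congrArg Subtype.val hg
  rw [zt_coe, hM, bm_mul, bm_mul] at h1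
  obtain ⟨-, hY, hZ, -⟩ := bm_inj h1
  simp only [mul_zero, zero_add, mul_one, neg_mul, one_mul, zero_mul, add_zero, mul_neg] at hY hZ
  have hY0 : Y = 0 := eq_zero_of_eq_neg h2 hY
  have hZ0 : Z = 0 := eq_zero_of_eq_neg h2 hZ.symm
  subst hY0 hZ0
  have hg2 := g.2
  rw [SymplecticGroup.mem_iff, hM, J_eq_bm, bm_transpose, bm_mul, bm_mul] at hg2
  simp only [mul_zero, zero_mul, add_zero, zero_add, transpose_zero] at hg2
  obtain ⟨hX, -, -, hW⟩ := bm_inj hg2
  have hX' : X ∈ symplecticGroup (Fin 1) F := SymplecticGroup.mem_iff.2 hX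
  have hW' : W ∈ symplecticGroup (Fin 1) F := SymplecticGroup.mem_iff.2 hW
  refine ⟨spOneEquivSL2 ⟨X, hX'⟩, spOneEquivSL2 ⟨W, hW'⟩, ?_⟩
  apply Subtype.ext
  rw [iota_coe, hM, up_spOneEquivSL2, up_spOneEquivSL2]

theorem J_eq_up : J (Fin 1) F = up !![0, -1; 1, 0] := by
  ext i j
  rcases i with i | i <;> rcases j with j | j <;> fin_cases i <;> fin_cases j <;>
    simp [J, up, e11, finSumFinEquiv]

theorem mul_J_mul_transpose (B : M2) : B * !![0, -1; 1, 0] * Bᵀ = B.det • !![0, -1; 1, 0] := by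
  ext i j
  fin_cases i <;> fin_cases j <;>
    simp [Matrix.det_fin_two, Matrix.mul_apply, Fin.sum_univ_two] <;> ring

theorem up_mul_J (B : M2) : up B * J (Fin 1) F * (up B)ᵀ = B.det • J (Fin 1) F := by
  rw [J_eq_up, ← up_transpose, ← up_mul, ← up_mul, mul_J_mul_transpose, up_smul]

/-- The twisted element `B ⊗ H`. -/
def tw (B : M2) : M4 := bm (up B) (up B) (up B) (-up B)

theorem tw_mem (B : M2) (hB : 2 * B.det = 1) : tw B ∈ symplecticGroup (Fin 1 ⊕ Fin 1) F := by
  rw [SymplecticGroup.mem_iff, J_eq_bm, tw, bm_transpose, bm_mul, bm_mul]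
  have key := up_mul_J B
  have h2 : B.det • J (Fin 1) F + B.det • J (Fin 1) F = J (Fin 1) F := by
    rw [← add_smul, ← two_mul, hB, one_smul]
  simp only [mul_zero, zero_mul, add_zero, zero_add, transpose_neg, Matrix.mul_neg, Matrix.neg_mul, key,
    neg_neg, h2, add_neg_cancel, neg_add_cancel]

/-- `tw B` as an element of `Sp₄`. -/
def twSp (B : M2) (hB : 2 * B.det = 1) : E4 := ⟨tw B, tw_mem B hB⟩

theorem twSp_coe (B : M2) (hB : 2 * B.det = 1) : ((twSp B hB : E4) : M4) = tw B := rfl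

theorem iota_coe' (x y : SL2) : ((iota (x, y) : E4) : M4) = bm (up (x : M2)) 0 0 (up (y : M2)) := rfl

theorem twSp_zt (B : M2) (hB : 2 * B.det = 1) :
    twSp B hB * iota (negOne, 1) = iota (negOne, negOne) * tau * twSp B hB := by
  apply Subtype.ext
  simp only [Submonoid.coe_mul, twSp_coe, tau_coe, iota_coe', coe_negOne,
    Matrix.SpecialLinearGroup.coe_one, up_neg, up_one, tw, bm_mul]
  congr 1 <;> simp

theorem twSp_tau (B : M2) (hB : 2 * B.det = 1) :
    twSp B hB * tau = iota (1, negOne) * twSp B hB := by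
  apply Subtype.ext
  simp only [Submonoid.coe_mul, twSp_coe, tau_coe, iota_coe', coe_negOne,
    Matrix.SpecialLinearGroup.coe_one, up_neg, up_one, tw, bm_mul]
  congr 1 <;> simp

theorem twSp_diag (B : M2) (hB : 2 * B.det = 1) (x x' : SL2) (h : B * (x : M2) = (x' : M2) * B) :
    twSp B hB * iota (x, x) = iota (x', x') * twSp B hB := by
  apply Subtype.ext
  have h' : up B * up (x : M2) = up (x' : M2) * up B := by rw [← up_mul, ← up_mul, h]
  simp only [Submonoid.coe_mul, twSp_coe, iota_coe', tw, bm_mul]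
  congr 1 <;> simp [h']

theorem twSp_sq (B : M2) (hB : 2 * B.det = 1) (u : SL2) (h : (2 : F) • (B * B) = (u : M2)) :
    twSp B hB * twSp B hB = iota (u, u) := by
  apply Subtype.ext
  have h' : up B * up B + up B * up B = up (u : M2) := by
    rw [← h, ← up_mul, two_smul, up_add]
  simp only [Submonoid.coe_mul, twSp_coe, iota_coe', tw, bm_mul]
  congr 1 <;> simp [h']

theorem coverData (h2 : (2 : F) ≠ 0) : CoverData (iota (F := F)) tau negOne where
  inj := iota_injective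
  sq := tau_sq
  swap := tau_swap
  not_range := tau_not_range
  cent := cent h2
  zeta_ne := negOne_ne_one h2
  zeta_sq := negOne_mul_self
  zeta_central := SL2Quat.negOne_central
  tau_conj := by
    have hB : 2 * (!![1, 0; 0, (2 : F)⁻¹] : M2).det = 1 := by
      rw [Matrix.det_fin_two_of]
      field_simp
      ring
    refine ⟨twSp _ hB, ?_⟩
    rw [twSp_zt, mul_inv_cancel_right]

theorem negId_coe : ((iota (negOne, negOne) : E4) : M4) = -1 := by
  rw [iota_coe, coe_negOne, up_neg, up_one, ← bm_one, bm_neg]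
  simp

theorem mem_center_iff (x : E4) :
    x ∈ Subgroup.center E4 ↔ x = 1 ∨ x = iota (negOne, negOne) := by
  constructor
  · intro hx
    rcases symplecticGroup_center_eq_one_or_neg_one x hx with h | h
    · left; exact Subtype.ext h
    · right; apply Subtype.ext; rw [h, negId_coe]
  · rintro (rfl | rfl)
    · exact Subgroup.one_mem _
    · rw [Subgroup.mem_center_iff]
      intro g
      apply Subtype.ext
      rw [Submonoid.coe_mul, Submonoid.coe_mul, negId_coe]
      simp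

/-- The projection `Sp₄ → PSp₄` (through the reindexing). -/
def proj : E4 →* Cfsg.PSp 2 F :=
  (QuotientGroup.mk' (Subgroup.center (symplecticGroup (Fin 2) F))).comp
    (spReindex (R := F) (finSumFinEquiv : Fin 1 ⊕ Fin 1 ≃ Fin 2)).toMonoidHom

theorem proj_surjective : Function.Surjective (proj (F := F)) := by
  intro y
  obtain ⟨x, rfl⟩ := QuotientGroup.mk'_surjective _ y
  obtain ⟨x', rfl⟩ := (spReindex (R := F) (finSumFinEquiv : Fin 1 ⊕ Fin 1 ≃ Fin 2)).surjective x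
  exact ⟨x', rfl⟩

theorem proj_eq_one_iff (x : E4) : proj x = 1 ↔ x = 1 ∨ x = iota (negOne, negOne) := by
  rw [← mem_center_iff]
  show (QuotientGroup.mk' _) (spReindex (R := F) (finSumFinEquiv : Fin 1 ⊕ Fin 1 ≃ Fin 2) x) = 1 ↔ _
  rw [QuotientGroup.mk'_apply, QuotientGroup.eq_one_iff, Subgroup.mem_center_iff,
    Subgroup.mem_center_iff]
  constructor
  · intro h g
    have := h (spReindex (R := F) (finSumFinEquiv : Fin 1 ⊕ Fin 1 ≃ Fin 2) g)
    rw [← map_mul, ← map_mul] at this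
    exact (spReindex (R := F) (finSumFinEquiv : Fin 1 ⊕ Fin 1 ≃ Fin 2)).injective this
  · intro h g
    obtain ⟨g', rfl⟩ := (spReindex (R := F) (finSumFinEquiv : Fin 1 ⊕ Fin 1 ≃ Fin 2)).surjective g
    rw [← map_mul, ← map_mul, h g']

/-- `ι` restricted to `Q × Q`. -/
def iotaQ (Q : Subgroup SL2) : Q × Q →* E4 :=
  (iota (F := F)).comp (MonoidHom.prodMap Q.subtype Q.subtype)

theorem iotaQ_apply (Q : Subgroup SL2) (a b : Q) : iotaQ Q (a, b) = iota ((a : SL2), (b : SL2)) := rfl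

theorem tau_range (Q : Subgroup SL2) : ∀ n ∈ (iotaQ Q).range, tau * n * tau⁻¹ ∈ (iotaQ Q).range := by
  rintro _ ⟨⟨a, b⟩, rfl⟩
  rw [iotaQ_apply, tau_swap]
  exact ⟨(b, a), rfl⟩

/-- `ι(Q × Q)⟨τ⟩`. -/
def dbl (Q : Subgroup SL2) : Subgroup E4 :=
  doubleSubgroup (iotaQ Q).range tau tau_sq (tau_range Q)

theorem tau_inv : (tau : E4)⁻¹ = tau := inv_eq_of_mul_eq_one_left tau_sq

theorem mem_dbl (Q : Subgroup SL2) (k : E4) :
    k ∈ dbl Q ↔ ∃ a ∈ Q, ∃ b ∈ Q, k = iota (a, b) ∨ k = iota (a, b) * tau := by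
  unfold dbl
  rw [mem_doubleSubgroup]
  constructor
  · rintro (⟨⟨a, b⟩, rfl⟩ | ⟨⟨a, b⟩, h⟩)
    · exact ⟨a, a.2, b, b.2, Or.inl rfl⟩
    · refine ⟨b, b.2, a, a.2, Or.inr ?_⟩
      rw [iotaQ_apply] at h
      have h1 : k = tau * iota ((a : SL2), (b : SL2)) * tau⁻¹ * tau := by
        rw [h, tau_inv]
        have : tau * (tau * k) * tau * tau = (tau * tau) * k * (tau * tau) := by group
        rw [this, tau_sq, one_mul, mul_one]
      rw [h1, tau_swap]
  · rintro ⟨a, ha, b, hb, rfl | rfl⟩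
    · exact Or.inl ⟨(⟨a, ha⟩, ⟨b, hb⟩), rfl⟩
    · right
      refine ⟨(⟨b, hb⟩, ⟨a, ha⟩), ?_⟩
      rw [iotaQ_apply]
      show iota (b, a) = tau * (iota (a, b) * tau)
      rw [← tau_swap a b, tau_inv, mul_assoc]

theorem card_dbl (Q : Subgroup SL2) [Finite Q] : Nat.card (dbl Q) = 2 * Nat.card Q ^ 2 := by
  have hinj : Function.Injective (iotaQ Q) := by
    intro x y hxy
    have := iota_injective hxy
    have h1 : (x.1 : SL2) = y.1 := congrArg Prod.fst this
    have h2 : (x.2 : SL2) = y.2 := congrArg Prod.snd this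
    exact Prod.ext (Subtype.ext h1) (Subtype.ext h2)
  have hle : ∀ x, iotaQ Q x ∈ dbl Q := fun x => Or.inl ⟨x, rfl⟩
  let ι' : Q × Q →* dbl Q := (iotaQ Q).codRestrict (dbl Q) hle
  have htK : (tau : E4) ∈ dbl Q := Or.inr (by rw [tau_sq]; exact Subgroup.one_mem _)
  let t' : dbl Q := ⟨tau, htK⟩
  have hrange : ∀ k : dbl Q, k ∈ ι'.range ↔ (k : E4) ∈ (iotaQ Q).range := by
    intro k
    constructor
    · rintro ⟨x, rfl⟩; exact ⟨x, rfl⟩
    · rintro ⟨x, hx⟩; exact ⟨x, Subtype.ext hx⟩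
  have H : DoubleHyp ι' t' := by
    refine ⟨?_, ?_, ?_, ?_, ?_⟩
    · intro x y hxy
      apply hinj
      exact congrArg Subtype.val hxy
    · exact Subtype.ext tau_sq
    · intro hmem
      obtain ⟨⟨a, b⟩, h⟩ := (hrange t').1 hmem
      exact tau_not_range _ _ h
    · intro a b
      apply Subtype.ext
      exact tau_swap _ _
    · intro k
      rcases k.2 with hk | hk
      · exact Or.inl ((hrange k).2 hk)
      · exact Or.inr ((hrange (t' * k)).2 hk)
  exact H.card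

variable [Fintype F]

theorem s2_one : s2 1 = 0 := by simp [s2]

theorem s2_two : s2 2 = 1 := by
  simp [s2, Finset.sum_range_succ]

/-- `ι(Q × Q)⟨τ⟩` is a Sylow `2`-subgroup of `Sp₄(q)`. -/
theorem exists_sylow (hodd : Fintype.card F % 2 = 1) (Q : Sylow 2 SL2) :
    ∃ K : Sylow 2 E4, ∀ k, k ∈ (K : Subgroup E4) ↔
      ∃ a ∈ (Q : Subgroup SL2), ∃ b ∈ (Q : Subgroup SL2), k = iota (a, b) ∨ k = iota (a, b) * tau := by
  have hodd' : Odd (Fintype.card F) := Nat.odd_iff.2 hodd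
  have hQ : Nat.card (Q : Subgroup SL2) = 2 ^ (1 * cq (Fintype.card F) + s2 1) := by
    rw [Sylow.card_eq_multiplicity, ← factorization_card_sp hodd' 1,
      Nat.card_congr (spOneEquivSL2 (F := F)).toEquiv]
  have hcard : Nat.card (dbl (Q : Subgroup SL2)) = 2 ^ (Nat.card E4).factorization 2 := by
    rw [card_dbl, hQ, Nat.card_congr (spReindex (R := F) (finSumFinEquiv : Fin 1 ⊕ Fin 1 ≃ Fin 2)).toEquiv,
      factorization_card_sp hodd' 2, s2_one, s2_two, ← pow_mul, ← pow_succ']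
    congr 1
    ring
  exact ⟨Sylow.ofCard (dbl (Q : Subgroup SL2)) hcard, fun k => mem_dbl _ k⟩

end Cfsg.Agent.Lib.Helper98.PSp4Model
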