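import Mathlib
import Cfsg.Prelude.Def_Local
import Cfsg.Prelude.Def_Transfer
import Cfsg.Agent.Lib.Helper41.PGV.Defs
import Cfsg.Agent.Lib.Helper22.Components

/-!
# Project PGV (S3086), sub-project RED, leaf PGV-[RED-Q] (helper98), `_of` form

`red_Q_of`: `p` odd, `CE ρ A K1 a`; every `A`-quadratic `q ∈ A` normalizes `K1`.
Hypotheses = the sheet statements of [T5-DISTINCT] `components_commute`, [T5-PGROUP]
`component_not_pgroup_mod_center` and [QUAD2-REP] `quad2_rep` (for this `G`, `ρ`).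
-/

set_option autoImplicit false
set_option linter.unusedSectionVars false
set_option linter.unusedVariables false

universe v

namespace Cfsg.Agent.Lib.Helper98.PGV

open Cfsg Cfsg.Agent.Lib.Helper41.PGV

section general

variable {G : Type*} [Group G]

/-- if `g` conjugates `K` to itself then so do all its powers -/
theorem map_conj_pow_eq {K : Subgroup G} {g : G}
    (h : K.map (MulAut.conj g).toMonoidHom = K) (n : ℕ) :
    K.map (MulAut.conj (g ^ n)).toMonoidHom = K := by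
  induction n with
  | zero =>
    ext y
    constructor
    · rintro ⟨z, hz, rfl⟩
      simpa using hz
    · intro hy
      exact ⟨y, hy, by simp⟩
  | succ k ih =>
    have e : (MulAut.conj (g ^ (k + 1))).toMonoidHom
        = (MulAut.conj g).toMonoidHom.comp (MulAut.conj (g ^ k)).toMonoidHom := by
      ext y
      simp [MulAut.conj_apply, pow_succ', mul_assoc]
    rw [e, ← Subgroup.map_map, ih, h]

/-- an element of order dividing the prime `p`, some power `q ^ k` (`p ∤ k`) of which conjugates `K`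
to itself, conjugates `K` to itself -/
theorem map_conj_eq_of_pow {p : ℕ} (hp : p.Prime) {K : Subgroup G} {q : G} (hq : q ^ p = 1) {k : ℕ}
    (hk : ¬ p ∣ k) (h : K.map (MulAut.conj (q ^ k)).toMonoidHom = K) :
    K.map (MulAut.conj q).toMonoidHom = K := by
  have hcop : Nat.Coprime k p := (Nat.Coprime.symm ((Nat.Prime.coprime_iff_not_dvd hp).2 hk))
  obtain ⟨m, -, hm⟩ := Nat.exists_mul_mod_eq_one_of_coprime hcop hp.one_lt
  have h1 := map_conj_pow_eq h m
  have e : (q ^ k) ^ m = q := by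
    rw [← pow_mul]
    have : k * m = p * (k * m / p) + 1 := by
      have := Nat.div_add_mod (k * m) p
      omega
    rw [this, pow_add, pow_mul, hq, one_pow, one_mul, pow_one]
  rwa [e] at h1

/-- conjugation by an element of `N(K)` -/
theorem mem_normalizer_of_map_conj_eq {K : Subgroup G} {g : G}
    (h : K.map (MulAut.conj g).toMonoidHom = K) : g ∈ Subgroup.normalizer (K : Set G) := by
  rw [Subgroup.mem_normalizer_iff]
  intro d
  constructor
  · intro hd
    rw [← h]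
    exact ⟨d, hd, by simp [MulAut.conj_apply]⟩
  · intro hd
    rw [← h] at hd
    obtain ⟨y, hy, hy'⟩ := hd
    have : y = d := by
      have h2 : g * y * g⁻¹ = g * d * g⁻¹ := by simpa [MulAut.conj_apply] using hy'
      have h3 := congrArg (fun z => g⁻¹ * z * g) h2
      simpa [mul_assoc] using h3
    rwa [← this]

theorem conj_mem_map_conj {K : Subgroup G} (g : G) {x : G} (hx : x ∈ K) :
    g * x * g⁻¹ ∈ K.map (MulAut.conj g).toMonoidHom :=
  ⟨x, hx, by simp [MulAut.conj_apply]⟩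

/-- the closure of a set of pairwise commuting elements is commutative -/
theorem closure_comm_of_comm {S : Set G} (h : ∀ a ∈ S, ∀ b ∈ S, a * b = b * a) :
    ∀ a ∈ Subgroup.closure S, ∀ b ∈ Subgroup.closure S, a * b = b * a := by
  have h1 : Subgroup.closure S ≤ Subgroup.centralizer S := by
    rw [Subgroup.closure_le]
    intro a ha
    rw [SetLike.mem_coe, Subgroup.mem_centralizer_iff]
    intro b hb
    exact h b hb a ha
  have h2 : Subgroup.closure S ≤ Subgroup.centralizer (Subgroup.closure S : Set G) := by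
    rw [Subgroup.closure_le]
    intro a ha
    rw [SetLike.mem_coe, Subgroup.mem_centralizer_iff]
    intro b hb
    have := h1 hb
    rw [Subgroup.mem_centralizer_iff] at this
    exact (this a ha).symm
  intro a ha b hb
  have := h2 hb
  rw [Subgroup.mem_centralizer_iff] at this
  exact this a ha

/-- a `2`-element `t` with `t ^ p ∈ N` (`p` odd) lies in `N` -/
theorem mem_of_pow_mem_of_two_pow {N : Subgroup G} {p : ℕ} (hp : p.Prime) (hp2 : p ≠ 2) {t : G} {m : ℕ}
    (h2 : t ^ (2 ^ m) = 1) (hpN : t ^ p ∈ N) : t ∈ N := by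
  have hcop : Nat.Coprime p (2 ^ m) := by
    apply Nat.Coprime.pow_right
    rw [Nat.coprime_primes hp Nat.prime_two]
    exact hp2
  rcases Nat.eq_zero_or_pos m with hm | hm
  · subst hm
    simp at h2
    rw [h2]; exact N.one_mem
  have h1lt : 1 < 2 ^ m := Nat.one_lt_two_pow (by omega)
  obtain ⟨e, -, he⟩ := Nat.exists_mul_mod_eq_one_of_coprime hcop h1lt
  have : t = (t ^ p) ^ e := by
    rw [← pow_mul]
    have h3 : p * e = 2 ^ m * (p * e / 2 ^ m) + 1 := by
      have := Nat.div_add_mod (p * e) (2 ^ m)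
      omega
    rw [h3, pow_add, pow_mul, h2, one_pow, one_mul, pow_one]
  rw [this]
  exact N.pow_mem hpN e

end general

variable {p : ℕ} [Fact p.Prime] {G V : Type v} [Group G] [Finite G] [AddCommGroup V] [Finite V]
  [Module (ZMod p) V] {ρ : Representation (ZMod p) G V} {A K1 : Subgroup G} {a : G}

/-- a conjugate of a quadratic element is quadratic -/
theorem quad_conj (x q : G) (hq : (ρ q - 1) * (ρ q - 1) = 0) :
    (ρ (x * q * x⁻¹) - 1) * (ρ (x * q * x⁻¹) - 1) = 0 := by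
  have hxx' : ρ x⁻¹ * ρ x = 1 := by rw [← map_mul, inv_mul_cancel, map_one]
  have hxx : ρ x * ρ x⁻¹ = 1 := by rw [← map_mul, mul_inv_cancel, map_one]
  have e : ρ (x * q * x⁻¹) - 1 = ρ x * (ρ q - 1) * ρ x⁻¹ := by
    rw [map_mul, map_mul, mul_sub, sub_mul, mul_one, hxx]
  rw [e]
  calc ρ x * (ρ q - 1) * ρ x⁻¹ * (ρ x * (ρ q - 1) * ρ x⁻¹)
      = ρ x * (ρ q - 1) * (ρ x⁻¹ * ρ x) * (ρ q - 1) * ρ x⁻¹ := by simp only [mul_assoc]
    _ = ρ x * ((ρ q - 1) * (ρ q - 1)) * ρ x⁻¹ := by rw [hxx', mul_one, mul_assoc (ρ x)]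
    _ = 0 := by rw [hq, mul_zero, zero_mul]

/-- **[RED-Q]** in `_of` form -/
theorem red_Q_of (hp : p ≠ 2) (h : CE ρ A K1 a)
    (hcc : ∀ {L M : Subgroup G}, IsComponent L → IsComponent M → L ≠ M →
      ∀ x ∈ L, ∀ y ∈ M, x * y = y * x)
    (hnp : ∀ {L : Subgroup G}, IsComponent L →
      (∀ x ∈ L, ∃ k : ℕ, ∀ y ∈ L, x ^ (p ^ k) * y = y * x ^ (p ^ k)) → False)
    (hq2 : ∀ x y : G, (ρ x - 1) * (ρ x - 1) = 0 → (ρ y - 1) * (ρ y - 1) = 0 →
      (∀ T : Sylow 2 (Subgroup.closure ({x, y} : Set G)), IsMulCommutative T) →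
      IsPGroup p (Subgroup.closure ({x, y} : Set G)))
    (q : G) (hqA : q ∈ A) (hquad : QuadOn ρ A q) :
    q ∈ Subgroup.normalizer (K1 : Set G) := by
  have hpp : p.Prime := Fact.out
  by_contra hqN
  have hqp : q ^ p = 1 := h.el.2 q hqA
  have hqq : (ρ q - 1) * (ρ q - 1) = 0 := hquad q hqA
  -- the conjugates of `K1` under the powers of `q`
  have hKne : ∀ k : ℕ, ¬ p ∣ k → K1.map (MulAut.conj (q ^ k)).toMonoidHom ≠ K1 := by
    intro k hk he
    exact hqN (mem_normalizer_of_map_conj_eq (map_conj_eq_of_pow hpp hqp hk he))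
  have hKcomp : ∀ k : ℕ, IsComponent (K1.map (MulAut.conj (q ^ k)).toMonoidHom) :=
    fun k => Cfsg.Agent.Lib.Helper22.component_conj h.comp _
  -- `q ^ k = 1` when `p ∣ k`
  have hqk : ∀ k : ℕ, p ∣ k → q ^ k = 1 := by
    rintro k ⟨c, rfl⟩
    rw [pow_mul, hqp, one_pow]
  -- `K1` commutes with `K1 ^ (q ^ k)`, `p ∤ k`
  have hcomm1 : ∀ k : ℕ, ¬ p ∣ k → ∀ x ∈ K1, ∀ y ∈ K1,
      x * (q ^ k * y * (q ^ k)⁻¹) = (q ^ k * y * (q ^ k)⁻¹) * x := by
    intro k hk x hx y hy
    exact hcc h.comp (hKcomp k) (hKne k hk).symm x hx _ (conj_mem_map_conj _ hy)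
  apply hnp h.comp
  intro x hx
  -- the abelian group `N = ⟨x ^ (q ^ i)⟩`
  set S : Set G := {u | ∃ i : ℕ, u = q ^ i * x * (q ^ i)⁻¹} with hS
  have hgen : ∀ i j : ℕ, (q ^ i * x * (q ^ i)⁻¹) * (q ^ j * x * (q ^ j)⁻¹)
      = (q ^ j * x * (q ^ j)⁻¹) * (q ^ i * x * (q ^ i)⁻¹) := by
    have key : ∀ i j : ℕ, i ≤ j → (q ^ i * x * (q ^ i)⁻¹) * (q ^ j * x * (q ^ j)⁻¹)
        = (q ^ j * x * (q ^ j)⁻¹) * (q ^ i * x * (q ^ i)⁻¹) := by
      intro i j hij
      obtain ⟨d, rfl⟩ := Nat.exists_eq_add_of_le hij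
      by_cases hd : p ∣ d
      · rw [pow_add, hqk d hd, mul_one]
      · have h1 := hcomm1 d hd x hx x hx
        have e1 : q ^ (i + d) * x * (q ^ (i + d))⁻¹
            = q ^ i * (q ^ d * x * (q ^ d)⁻¹) * (q ^ i)⁻¹ := by
          rw [pow_add]; group
        rw [e1]
        calc q ^ i * x * (q ^ i)⁻¹ * (q ^ i * (q ^ d * x * (q ^ d)⁻¹) * (q ^ i)⁻¹)
            = q ^ i * (x * (q ^ d * x * (q ^ d)⁻¹)) * (q ^ i)⁻¹ := by group
          _ = q ^ i * ((q ^ d * x * (q ^ d)⁻¹) * x) * (q ^ i)⁻¹ := by rw [h1]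
          _ = _ := by group
    intro i j
    rcases le_total i j with hij | hij
    · exact key i j hij
    · exact (key j i hij).symm
  set N : Subgroup G := Subgroup.closure S with hN
  have hNcomm : ∀ u ∈ N, ∀ w ∈ N, u * w = w * u := by
    apply closure_comm_of_comm
    rintro u ⟨i, rfl⟩ w ⟨j, rfl⟩
    exact hgen i j
  -- `q` normalizes `N`
  have hqinv : q⁻¹ = q ^ (p - 1) := by
    have : q ^ (p - 1) * q = 1 := by
      rw [← pow_succ, Nat.sub_add_cancel hpp.one_le, hqp]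
    exact (eq_inv_of_mul_eq_one_left this).symm ▸ rfl
  have hNq : ∀ g : G, (∃ k : ℕ, g = q ^ k) → ∀ n ∈ N, g * n * g⁻¹ ∈ N := by
    rintro g ⟨k, rfl⟩ n hn
    have hle : N ≤ N.comap (MulAut.conj (q ^ k)).toMonoidHom := by
      rw [hN, Subgroup.closure_le]
      rintro u ⟨i, rfl⟩
      show (MulAut.conj (q ^ k)) (q ^ i * x * (q ^ i)⁻¹) ∈ Subgroup.closure S
      apply Subgroup.subset_closure
      refine ⟨k + i, ?_⟩
      rw [MulAut.conj_apply, pow_add]
      group
    have := hle hn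
    rw [Subgroup.mem_comap] at this
    have e : (MulAut.conj (q ^ k)).toMonoidHom n = q ^ k * n * (q ^ k)⁻¹ :=
      MulAut.conj_apply _ _
    rwa [e] at this
  -- elements of `X⟨q⟩`
  set H : Subgroup G := Subgroup.closure ({q, x * q * x⁻¹} : Set G) with hH
  have hform : ∀ t ∈ H, ∃ n ∈ N, ∃ k : ℕ, t = n * q ^ k := by
    intro t ht
    induction ht using Subgroup.closure_induction with
    | mem y hy =>
      rcases hy with rfl | hy
      · exact ⟨1, N.one_mem, 1, by simp⟩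
      · rw [Set.mem_singleton_iff] at hy
        subst hy
        refine ⟨x * (q * x * q⁻¹)⁻¹, ?_, 1, by group⟩
        apply N.mul_mem
        · apply Subgroup.subset_closure
          exact ⟨0, by simp⟩
        · apply N.inv_mem
          apply Subgroup.subset_closure
          exact ⟨1, by simp⟩
    | one => exact ⟨1, N.one_mem, 0, by simp⟩
    | mul y z _ _ ihy ihz =>
      obtain ⟨n, hn, k, rfl⟩ := ihy
      obtain ⟨n', hn', k', rfl⟩ := ihz
      refine ⟨n * (q ^ k * n' * (q ^ k)⁻¹), N.mul_mem hn (hNq _ ⟨k, rfl⟩ n' hn'), k + k', ?_⟩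
      rw [pow_add]; group
    | inv y _ ih =>
      obtain ⟨n, hn, k, rfl⟩ := ih
      have e0 : (q ^ k)⁻¹ = q ^ (k * (p - 1)) := by
        rw [mul_comm, pow_mul, ← hqinv, inv_pow]
      refine ⟨(q ^ k)⁻¹ * n⁻¹ * ((q ^ k)⁻¹)⁻¹, ?_, k * (p - 1), ?_⟩
      · exact hNq _ ⟨k * (p - 1), e0⟩ _ (N.inv_mem hn)
      · rw [← e0]; group
  -- `t ^ p ∈ N` for `t ∈ H`
  have hpowN : ∀ t ∈ H, t ^ p ∈ N := by
    intro t ht
    obtain ⟨n, hn, k, rfl⟩ := hform t ht
    have hm : ∀ m : ℕ, ∃ n' ∈ N, (n * q ^ k) ^ m = n' * q ^ (k * m) := by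
      intro m
      induction m with
      | zero => exact ⟨1, N.one_mem, by simp⟩
      | succ m ih =>
        obtain ⟨n', hn', he⟩ := ih
        refine ⟨n' * (q ^ (k * m) * n * (q ^ (k * m))⁻¹),
          N.mul_mem hn' (hNq _ ⟨k * m, rfl⟩ n hn), ?_⟩
        rw [pow_succ, he, Nat.mul_succ, pow_add]
        group
    obtain ⟨n', hn', he⟩ := hm p
    rw [he, mul_comm k p, pow_mul, hqp, one_pow, mul_one]
    exact hn'
  -- Sylow `2`-subgroups of `H` are abelian
  have hsyl : ∀ T : Sylow 2 H, IsMulCommutative T := by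
    intro T
    have hTN : ∀ t : H, t ∈ T → (t : G) ∈ N := by
      intro t ht
      obtain ⟨m, hm⟩ := T.isPGroup' ⟨t, ht⟩
      have hm' : (t : G) ^ (2 ^ m) = 1 := by
        have := congrArg (fun z : T => ((z : H) : G)) hm
        simpa using this
      exact mem_of_pow_mem_of_two_pow hpp hp hm' (hpowN _ t.2)
    refine ⟨⟨fun s t => ?_⟩⟩
    apply Subtype.ext
    apply Subtype.ext
    have := hNcomm _ (hTN s.1 s.2) _ (hTN t.1 t.2)
    simpa using this
  have hpg : IsPGroup p H := hq2 q (x * q * x⁻¹) hqq (quad_conj x q hqq) hsyl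
  -- the `p`-element `q⁻¹ (x q x⁻¹) = (q⁻¹ x q) x⁻¹`
  have hgH : q⁻¹ * (x * q * x⁻¹) ∈ H :=
    H.mul_mem (H.inv_mem (Subgroup.subset_closure (by simp)))
      (Subgroup.subset_closure (by simp))
  obtain ⟨k, hk⟩ := hpg ⟨_, hgH⟩
  have hk' : (q⁻¹ * (x * q * x⁻¹)) ^ (p ^ k) = 1 := by
    have := congrArg (fun z : H => (z : G)) hk
    simpa using this
  refine ⟨k, ?_⟩
  have hp1 : ¬ p ∣ (p - 1) := by
    intro hd
    have := Nat.le_of_dvd (by have := hpp.two_le; omega) hd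
    have := hpp.two_le
    omega
  -- `x' = q⁻¹ x q` commutes with `K1`
  have hx'comm : ∀ y ∈ K1, (q⁻¹ * x * q) * y = y * (q⁻¹ * x * q) := by
    intro y hy
    have h1 := hcomm1 (p - 1) hp1 y hy x hx
    rw [← hqinv, inv_inv] at h1
    exact h1.symm
  have hcm : Commute (q⁻¹ * x * q) x⁻¹ := hx'comm _ (K1.inv_mem hx)
  have e1 : q⁻¹ * (x * q * x⁻¹) = (q⁻¹ * x * q) * x⁻¹ := by group
  rw [e1, hcm.mul_pow, inv_pow, mul_inv_eq_one] at hk'
  -- so `x ^ (p ^ k) = x' ^ (p ^ k)` commutes with `K1`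
  intro y hy
  rw [← hk']
  have : Commute (q⁻¹ * x * q) y := hx'comm y hy
  exact (this.pow_left _).eq

end Cfsg.Agent.Lib.Helper98.PGV
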