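import Mathlib
import Cfsg.Prelude.Def_Solvable
import Cfsg.Agent.S0034
import Cfsg.Agent.S0042

/-!
# S3999-[F-PELT] (helper78's sheet): the `p`-elements of a Frobenius group, `p` dividing the order of
the kernel, are the elements of the normal Sylow `p`-subgroup of the kernel (helper98)
-/

set_option autoImplicit false
set_option linter.style.haveILetI false

namespace Cfsg.Agent.Lib.Helper98.S3999

open Cfsg

/-- the order of a Frobenius complement is prime to its index -/
theorem frob_coprime {F : Type*} [Group F] [Finite F] (C : Subgroup F)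
    (hC : Cfsg.IsFrobeniusComplement C) : (C.index).Coprime (Nat.card C) := by
  have h := (Cfsg.Agent.S0034.result C hC).2
  have h1 : C.index ≡ 1 [MOD Nat.card C] := h
  have := h1.gcd_eq
  rw [Nat.gcd_one_left] at this
  exact this

/-- [F-PELT] -/
theorem frob_card_pelements {F : Type*} [Group F] [Finite F] (C : Subgroup F)
    (hC : Cfsg.IsFrobeniusComplement C) (p : ℕ) [Fact p.Prime] (hp : p ∣ C.index) :
    Nat.card {g : F // ∃ k : ℕ, orderOf g = p ^ k} = p ^ (Nat.card F).factorization p := by
  have hpp : p.Prime := Fact.out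
  obtain ⟨N, hNset, hNnormal, hNnil⟩ := Cfsg.Agent.S0042.result C hC
  have hcop := frob_coprime C hC
  have hpC : ¬ p ∣ Nat.card C := by
    intro h
    have := Nat.dvd_gcd hp h
    rw [hcop] at this
    exact hpp.one_lt.ne' (Nat.dvd_one.mp this)
  -- `|N| = |F : C|`
  have hNcard : Nat.card N = C.index := by
    have h1 : Nat.card N = Nat.card (Cfsg.frobeniusKernel C) :=
      Nat.card_congr (Equiv.setCongr hNset)
    rw [h1]
    exact (Cfsg.Agent.S0034.result C hC).1
  -- the `p`-parts agree
  have hfac : (Nat.card F).factorization p = (Nat.card N).factorization p := by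
    rw [hNcard, ← Subgroup.card_mul_index C,
      Nat.factorization_mul Nat.card_pos.ne' (Subgroup.index_ne_zero_of_finite)]
    simp only [Finsupp.coe_add, Pi.add_apply]
    rw [Nat.factorization_eq_zero_of_not_dvd hpC, zero_add]
  -- every `p`-element lies in `N`
  have hmemN : ∀ g : F, (∃ k : ℕ, orderOf g = p ^ k) → g ∈ N := by
    rintro g ⟨k, hk⟩
    have : g ∈ (N : Set F) := by
      rw [hNset]
      by_cases hg1 : g = 1
      · exact Or.inl hg1
      · right
        intro h hmem
        rw [Subgroup.mem_pointwise_smul_iff_inv_smul_mem] at hmem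
        have hord : orderOf ((MulAut.conj h)⁻¹ • g) = orderOf g :=
          MulEquiv.orderOf_eq (MulAut.conj h)⁻¹ g
        have hdvd : orderOf g ∣ Nat.card C := by
          rw [← hord]
          exact Subgroup.orderOf_dvd_natCard C hmem
        have hk0 : k ≠ 0 := by
          rintro rfl
          rw [pow_zero, orderOf_eq_one_iff] at hk
          exact hg1 hk
        apply hpC
        refine dvd_trans ?_ hdvd
        rw [hk]
        exact dvd_pow_self p hk0
    exact this
  -- the normal Sylow `p`-subgroup of the nilpotent kernel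
  haveI : Finite (Sylow p N) := inferInstance
  obtain ⟨Q⟩ : Nonempty (Sylow p N) := inferInstance
  have htfae := (Group.isNilpotent_of_finite_tfae (G := ↥N)).out 0 3
  have hall : ∀ (p : ℕ), Fact (Nat.Prime p) → ∀ (P : Sylow p ↥N), (P : Subgroup ↥N).Normal :=
    htfae.mp hNnil
  have hQn : (Q : Subgroup N).Normal := hall p inferInstance Q
  haveI := Sylow.unique_of_normal Q hQn
  have hset : {g : F | ∃ k : ℕ, orderOf g = p ^ k} =
      (((Q : Subgroup N).map N.subtype : Subgroup F) : Set F) := by
    ext g
    constructor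
    · intro hg
      have hgN := hmemN g hg
      obtain ⟨k, hk⟩ := hg
      have hz : IsPGroup p (Subgroup.zpowers (⟨g, hgN⟩ : N)) := by
        apply IsPGroup.of_card (n := k)
        rw [Nat.card_zpowers, ← Subgroup.orderOf_coe]
        exact hk
      obtain ⟨Q', hQ'⟩ := hz.exists_le_sylow
      have hQQ' : Q' = Q := Subsingleton.elim _ _
      rw [hQQ'] at hQ'
      exact ⟨⟨g, hgN⟩, hQ' (Subgroup.mem_zpowers _), rfl⟩
    · rintro ⟨q, hq, rfl⟩
      obtain ⟨k, hk⟩ := (IsPGroup.iff_orderOf.mp Q.isPGroup') ⟨q, hq⟩
      refine ⟨k, ?_⟩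
      show orderOf ((q : N) : F) = p ^ k
      rw [Subgroup.orderOf_coe, ← hk, ← Subgroup.orderOf_coe (⟨q, hq⟩ : (Q : Subgroup N))]
  have h1 : Nat.card {g : F // ∃ k : ℕ, orderOf g = p ^ k} =
      Nat.card ((Q : Subgroup N).map N.subtype : Subgroup F) :=
    Nat.card_congr (Equiv.setCongr hset)
  rw [h1, Subgroup.card_map_of_injective N.subtype_injective, Sylow.card_eq_multiplicity, hfac]

end Cfsg.Agent.Lib.Helper98.S3999
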