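import Mathlib

/-!
# MODULE AS for S4305 (helper67's Shult `S₃` theorem): a fixed-point count

If `⟨F, H⟩ ≅ S₃` acts on a finite abelian group `M` of order prime to `6` without common
nonzero fixed points, then `|C_M(H)|² · |C_M(F)| = |M|`.
-/

set_option autoImplicit false

namespace Cfsg.Agent.Lib.Helper98.S3AS

variable {M : Type*} [AddCommGroup M] [Finite M]

omit [Finite M] in
theorem eq_zero_of_nsmul_coprime {n : ℕ} (hn : (Nat.card M).Coprime n) {v : M}
    (h : n • v = 0) : v = 0 := by
  have h1 : addOrderOf v ∣ n := addOrderOf_dvd_of_nsmul_eq_zero h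
  have h2 : addOrderOf v ∣ Nat.card M := addOrderOf_dvd_natCard v
  have h3 : addOrderOf v = 1 := Nat.eq_one_of_dvd_coprimes hn h2 h1
  exact AddMonoid.addOrderOf_eq_one_iff.mp h3

/-- `|K| = |ker φ ∩ K| · |φ(K)|`. -/
theorem card_eq_ker_inf_mul_map {A B : Type*} [AddCommGroup A] [AddCommGroup B] [Finite A]
    (φ : A →+ B) (K : AddSubgroup A) :
    Nat.card K = Nat.card (φ.ker ⊓ K : AddSubgroup A) * Nat.card (K.map φ) := by
  have h1 := AddSubgroup.card_mul_index (φ.ker.addSubgroupOf K)
  have h2 : (φ.ker.addSubgroupOf K).index = Nat.card (K.map φ) := by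
    have := AddSubgroup.relIndex_ker K φ
    rw [AddSubgroup.relIndex] at this
    exact this
  have h3 : Nat.card (φ.ker.addSubgroupOf K) = Nat.card (φ.ker ⊓ K : AddSubgroup A) := by
    rw [← AddSubgroup.inf_addSubgroupOf_right]
    exact Nat.card_congr (AddSubgroup.addSubgroupOfEquivOfLe inf_le_right).toEquiv
  rw [← h1, h2, h3]

theorem card_fix_AS (hM : (Nat.card M).Coprime 6) (F H : M →+ M)
    (hF3 : ∀ v, F (F (F v)) = v) (hH2 : ∀ v, H (H v) = v)
    (hHF : ∀ v, H (F (H v)) = F (F v)) (hfix : ∀ v, F v = v → H v = v → v = 0) :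
    Nat.card {v : M // H v = v} ^ 2 * Nat.card {v : M // F v = v} = Nat.card M := by
  have h3 : (Nat.card M).Coprime 3 := Nat.Coprime.coprime_dvd_right (by norm_num) hM
  have h2 : (Nat.card M).Coprime 2 := Nat.Coprime.coprime_dvd_right (by norm_num) hM
  -- commutation rules
  have hHF' : ∀ v, H (F v) = F (F (H v)) := by
    intro v
    have := hHF (H v)
    rwa [hH2] at this
  have hHFF : ∀ v, H (F (F v)) = F (H v) := by
    intro v
    rw [hHF', hHF', hF3]
  -- the norm map
  let N : M →+ M := AddMonoidHom.id M + F + F.comp F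
  have hN : ∀ v, N v = v + F v + F (F v) := fun v => rfl
  let CF : AddSubgroup M := (F - AddMonoidHom.id M).ker
  let CH : AddSubgroup M := (H - AddMonoidHom.id M).ker
  have memCF : ∀ v, v ∈ CF ↔ F v = v := by
    intro v
    show (F - AddMonoidHom.id M) v = 0 ↔ _
    simp [sub_eq_zero]
  have memCH : ∀ v, v ∈ CH ↔ H v = v := by
    intro v
    show (H - AddMonoidHom.id M) v = 0 ↔ _
    simp [sub_eq_zero]
  let U : AddSubgroup M := N.ker
  have memU : ∀ v, v ∈ U ↔ v + F v + F (F v) = 0 := fun v => Iff.rfl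
  -- surjectivity of multiplication by n on a subgroup
  have surj_nsmul : ∀ (n : ℕ), (Nat.card M).Coprime n → ∀ (K : AddSubgroup M), ∀ v ∈ K,
      ∃ w ∈ K, n • w = v := by
    intro n hn K v hv
    have hinj : Function.Injective (fun w : K => n • w) := by
      intro a b hab
      have : n • (a - b) = 0 := by rw [smul_sub]; exact sub_eq_zero.mpr hab
      have h0 : ((a - b : K) : M) = 0 := by
        apply eq_zero_of_nsmul_coprime hn
        have := congrArg (fun x : K => (x : M)) this
        simpa using this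
      have : a - b = 0 := Subtype.ext h0
      exact sub_eq_zero.mp this
    have hsurj := Finite.surjective_of_injective hinj
    obtain ⟨w, hw⟩ := hsurj ⟨v, hv⟩
    refine ⟨w.1, w.2, ?_⟩
    have := congrArg (fun x : K => (x : M)) hw
    simpa using this
  -- range of N is CF
  have hrange : (⊤ : AddSubgroup M).map N = CF := by
    ext v
    constructor
    · rintro ⟨w, -, rfl⟩
      rw [memCF, hN, map_add, map_add, hF3]
      abel
    · intro hv
      obtain ⟨w, hw, hw3⟩ := surj_nsmul 3 h3 CF v hv
      refine ⟨w, trivial, ?_⟩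
      rw [memCF] at hw
      rw [hN, hw, hw, ← hw3]
      abel
  have hcard1 : Nat.card M = Nat.card U * Nat.card CF := by
    have := card_eq_ker_inf_mul_map N (⊤ : AddSubgroup M)
    rw [hrange, inf_top_eq] at this
    rw [← this]
    exact (Nat.card_congr AddSubgroup.topEquiv.toEquiv).symm
  -- CH ≤ U
  have hCHU : CH ≤ U := by
    intro v hv
    rw [memCH] at hv
    rw [memU]
    apply hfix
    · rw [map_add, map_add, hF3]; abel
    · rw [map_add, map_add, hHF', hHFF, hv]; abel
  -- second count
  let P : M →+ M := AddMonoidHom.id M + H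
  have hP : ∀ v, P v = v + H v := fun v => rfl
  have hHU : ∀ v ∈ U, H v ∈ U := by
    intro v hv
    rw [memU] at hv ⊢
    have := congrArg H hv
    rw [map_add, map_add, hHF', hHFF, map_zero] at this
    rw [← this]; abel
  have hmapP : U.map P = CH := by
    ext v
    constructor
    · rintro ⟨w, hw, rfl⟩
      rw [memCH, hP, map_add, hH2]; abel
    · intro hv
      obtain ⟨w, hw, hw2⟩ := surj_nsmul 2 h2 CH v hv
      refine ⟨w, hCHU hw, ?_⟩
      rw [memCH] at hw
      rw [hP, hw, ← hw2]; abel
  let Um : AddSubgroup M := P.ker ⊓ U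
  have memUm : ∀ v, v ∈ Um ↔ v + H v = 0 ∧ v ∈ U := fun v => Iff.rfl
  have hcard2 : Nat.card U = Nat.card Um * Nat.card CH := by
    have := card_eq_ker_inf_mul_map P U
    rwa [hmapP] at this
  -- the map D = F - F²
  let D : M →+ M := F - F.comp F
  have hD : ∀ v, D v = F v - F (F v) := fun v => rfl
  have hDU : ∀ v, D v ∈ U := by
    intro v
    rw [memU, hD]
    simp only [map_sub, hF3]
    abel
  have hDD : ∀ v ∈ U, D (D v) = -(3 • v) := by
    intro v hv
    rw [memU] at hv
    have hFF : F (F v) = -(v + F v) := by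
      rw [eq_neg_iff_add_eq_zero]; rw [← hv]; abel
    rw [hD, hD]
    simp only [map_sub, hF3]
    rw [hFF]
    abel
  have hDinj : ∀ v ∈ U, D v = 0 → v = 0 := by
    intro v hv h0
    have := hDD v hv
    rw [h0, map_zero] at this
    apply eq_zero_of_nsmul_coprime h3
    rw [eq_comm, neg_eq_zero] at this
    exact this
  have hHD : ∀ v, H (D v) = -D (H v) := by
    intro v
    rw [hD, hD, map_sub, hHF', hHFF]; abel
  have hle1 : Nat.card CH ≤ Nat.card Um := by
    apply Nat.card_le_card_of_injective
      (fun v : CH => (⟨D v.1, by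
        rw [memUm]
        refine ⟨?_, hDU _⟩
        rw [hHD, (memCH _).mp v.2]; abel⟩ : Um))
    intro a b hab
    have h1 : D a.1 = D b.1 := congrArg Subtype.val hab
    have h2 : D (a.1 - b.1) = 0 := by rw [map_sub, h1, sub_self]
    have h3' := hDinj _ (U.sub_mem (hCHU a.2) (hCHU b.2)) h2
    exact Subtype.ext (sub_eq_zero.mp h3')
  have hle2 : Nat.card Um ≤ Nat.card CH := by
    apply Nat.card_le_card_of_injective
      (fun v : Um => (⟨D v.1, by
        rw [memCH, hHD]
        have := ((memUm _).mp v.2).1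
        have hHv : H v.1 = -v.1 := by
          rw [eq_neg_iff_add_eq_zero, add_comm]; exact this
        rw [hHv, map_neg, neg_neg]⟩ : CH))
    intro a b hab
    have h1 : D a.1 = D b.1 := congrArg Subtype.val hab
    have h2 : D (a.1 - b.1) = 0 := by rw [map_sub, h1, sub_self]
    have h3' := hDinj _ (U.sub_mem ((memUm _).mp a.2).2 ((memUm _).mp b.2).2) h2
    exact Subtype.ext (sub_eq_zero.mp h3')
  have heq : Nat.card Um = Nat.card CH := le_antisymm hle2 hle1
  have e1 : Nat.card {v : M // H v = v} = Nat.card CH :=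
    Nat.card_congr (Equiv.subtypeEquivRight (fun v => (memCH v).symm))
  have e2 : Nat.card {v : M // F v = v} = Nat.card CF :=
    Nat.card_congr (Equiv.subtypeEquivRight (fun v => (memCF v).symm))
  rw [e1, e2, hcard1, hcard2, heq]
  ring

end Cfsg.Agent.Lib.Helper98.S3AS
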