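import Cfsg.Agent.Lib.Helper98.SL2Quat

/-!
# An explicit quaternion group of order `8` in `SL₂(F)`, its normalizer and a twisting matrix

For `a² + b² = -1`: `i = [[a, b], [b, -a]]`, `j = [[0, -1], [1, 0]]`, `c = (-1 + i + j + ij)/2` of order `3`, and
`B = (1 - i)/2` of determinant `1/2` normalizing `⟨i, j⟩`.
-/

set_option autoImplicit false
set_option linter.unusedSectionVars false
set_option linter.unusedVariables false

namespace Cfsg.Agent.Lib.Helper98.SL2Q8

open Cfsg Cfsg.Agent.Lib.Helper41 Cfsg.Agent.Lib.Helper98.SL2Quat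

variable {F : Type*} [Field F]

local notation "SL2" => Matrix.SpecialLinearGroup (Fin 2) F
local notation "M2" => Matrix (Fin 2) (Fin 2) F

def Imat (a b : F) : M2 := !![a, b; b, -a]
def Jmat : M2 := !![0, -1; 1, 0]
def Cmat (a b h : F) : M2 :=
  !![h * (-1 + a + b), h * (b - 1 - a); h * (b + 1 - a), h * (-1 - a - b)]
def Bmat (a b h : F) : M2 := !![h * (1 - a), -(h * b); -(h * b), h * (1 + a)]

section explicit
variable (a b h : F) (hab : a * a + b * b = -1) (hh : 2 * h = 1)

/-- `i`. -/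
def iQ : SL2 := ⟨Imat a b, by rw [Imat, Matrix.det_fin_two_of]; linear_combination -hab⟩

/-- `j`. -/
def jQ : SL2 := ⟨Jmat, by rw [Jmat, Matrix.det_fin_two_of]; ring⟩

/-- `c`. -/
def cQ : SL2 := ⟨Cmat a b h, by rw [Cmat, Matrix.det_fin_two_of]; grind⟩

theorem iQ_coe : ((iQ a b hab : SL2) : M2) = Imat a b := rfl
theorem jQ_coe : ((jQ : SL2) : M2) = Jmat := rfl
theorem cQ_coe : ((cQ a b h hab hh : SL2) : M2) = Cmat a b h := rfl

include hab hh in
theorem det_Bmat : 2 * (Bmat a b h).det = 1 := by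
  rw [Bmat, Matrix.det_fin_two_of]; grind

theorem iQ_sq : iQ a b hab * iQ a b hab = negOne := by
  apply Subtype.ext
  rw [Matrix.SpecialLinearGroup.coe_mul, iQ_coe, coe_negOne]
  ext i j
  fin_cases i <;> fin_cases j <;>
    simp [Imat, Matrix.mul_apply, Fin.sum_univ_two] <;> grind

theorem jQ_sq : (jQ : SL2) * jQ = negOne := by
  apply Subtype.ext
  rw [Matrix.SpecialLinearGroup.coe_mul, jQ_coe, coe_negOne]
  ext i j
  fin_cases i <;> fin_cases j <;>
    simp [Jmat, Matrix.mul_apply, Fin.sum_univ_two]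

theorem jQ_iQ : jQ * iQ a b hab = negOne * (iQ a b hab * jQ) := by
  apply Subtype.ext
  simp only [Matrix.SpecialLinearGroup.coe_mul, iQ_coe, jQ_coe, coe_negOne]
  ext i j
  fin_cases i <;> fin_cases j <;>
    simp [Imat, Jmat, Matrix.mul_apply, Fin.sum_univ_two]

theorem cQ_iQ : cQ a b h hab hh * iQ a b hab = (iQ a b hab * jQ) * cQ a b h hab hh := by
  apply Subtype.ext
  simp only [Matrix.SpecialLinearGroup.coe_mul, iQ_coe, jQ_coe, cQ_coe]
  ext i j
  fin_cases i <;> fin_cases j <;>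
    simp [Imat, Jmat, Cmat, Matrix.mul_apply, Fin.sum_univ_two] <;> grind

theorem cQ_jQ : cQ a b h hab hh * jQ = iQ a b hab * cQ a b h hab hh := by
  apply Subtype.ext
  simp only [Matrix.SpecialLinearGroup.coe_mul, iQ_coe, jQ_coe, cQ_coe]
  ext i j
  fin_cases i <;> fin_cases j <;>
    simp [Imat, Jmat, Cmat, Matrix.mul_apply, Fin.sum_univ_two] <;> grind

theorem cQ_cube : cQ a b h hab hh ^ 3 = 1 := by
  apply Subtype.ext
  simp only [pow_succ, pow_zero, one_mul, Matrix.SpecialLinearGroup.coe_mul, cQ_coe,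
    Matrix.SpecialLinearGroup.coe_one]
  ext i j
  fin_cases i <;> fin_cases j <;>
    simp [Cmat, Matrix.mul_apply, Fin.sum_univ_two] <;> grind

theorem cQ_ne_one (h2 : (2 : F) ≠ 0) : cQ a b h hab hh ≠ 1 := by
  intro hc
  have h1 := congrArg (fun A : SL2 => (A : M2) 0 1) hc
  have h2' := congrArg (fun A : SL2 => (A : M2) 1 0) hc
  simp [cQ_coe, Cmat] at h1 h2'
  have hh0 : h ≠ 0 := by
    intro h0
    rw [h0, mul_zero] at hh
    exact zero_ne_one hh
  rcases h1 with h1 | h1
  · exact hh0 h1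
  rcases h2' with h2' | h2'
  · exact hh0 h2'
  apply h2
  linear_combination h2' - h1

theorem B_iQ : Bmat a b h * (iQ a b hab : M2) = (iQ a b hab : M2) * Bmat a b h := by
  rw [iQ_coe]
  ext i j
  fin_cases i <;> fin_cases j <;>
    simp [Imat, Bmat, Matrix.mul_apply, Fin.sum_univ_two] <;> grind

theorem B_jQ : Bmat a b h * ((jQ : SL2) : M2) =
    ((negOne * (iQ a b hab * jQ) : SL2) : M2) * Bmat a b h := by
  simp only [Matrix.SpecialLinearGroup.coe_mul, iQ_coe, jQ_coe, coe_negOne]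
  ext i j
  fin_cases i <;> fin_cases j <;>
    simp [Imat, Jmat, Bmat, Matrix.mul_apply, Fin.sum_univ_two] <;> grind

include hh in
theorem B_sq : (2 : F) • (Bmat a b h * Bmat a b h) = ((negOne * iQ a b hab : SL2) : M2) := by
  simp only [Matrix.SpecialLinearGroup.coe_mul, iQ_coe, coe_negOne]
  ext i j
  fin_cases i <;> fin_cases j <;>
    simp [Imat, Bmat, Matrix.mul_apply, Fin.sum_univ_two] <;> grind

theorem B_cQ : Bmat a b h * ((cQ a b h hab hh : SL2) : M2) =
    (((negOne * jQ) * (cQ a b h hab hh)⁻¹ : SL2) : M2) * Bmat a b h := by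
  simp only [Matrix.SpecialLinearGroup.coe_mul, Matrix.SpecialLinearGroup.coe_inv, jQ_coe, cQ_coe,
    coe_negOne, Matrix.adjugate_fin_two]
  ext i j
  fin_cases i <;> fin_cases j <;>
    simp [Jmat, Cmat, Bmat, Matrix.mul_apply, Fin.sum_univ_two] <;> grind

theorem iQ_jQ_ne (h2 : (2 : F) ≠ 0) : iQ a b hab * jQ ≠ jQ * iQ a b hab := by
  intro hc
  have h1 := congrArg (fun A : SL2 => (A : M2) 0 0) hc
  have h2' := congrArg (fun A : SL2 => (A : M2) 0 1) hc
  simp [Matrix.SpecialLinearGroup.coe_mul, iQ_coe, jQ_coe, Imat, Jmat, Matrix.mul_apply,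
    Fin.sum_univ_two] at h1 h2'
  have hb : b = 0 := by
    have : 2 * b = 0 := by linear_combination h1
    rcases mul_eq_zero.1 this with h | h
    · exact absurd h h2
    · exact h
  have ha : a = 0 := by
    have : 2 * a = 0 := by linear_combination -h2'
    rcases mul_eq_zero.1 this with h | h
    · exact absurd h h2
    · exact h
  have hab' := hab
  rw [ha, hb] at hab'
  have : (1 : F) = 0 := by linear_combination hab'
  exact one_ne_zero this

end explicit

end Cfsg.Agent.Lib.Helper98.SL2Q8
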