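import Mathlib

/-!
# The point stabilizer in `A₅` is solvable (helper98)

Self-contained proof (no Burnside) that the even permutations of `Fin 5` fixing `0` form a
solvable group, via the chain `M₀ ⊇ V₀ ⊇ 1` checked by `decide`.
-/

set_option autoImplicit false

namespace Cfsg.Agent.Lib.Helper98

set_option maxRecDepth 100000 in
theorem dec1 : ∀ a : Equiv.Perm (Fin 5), a 0 = 0 → Equiv.Perm.sign a = 1 →
    ∀ b : Equiv.Perm (Fin 5), b 0 = 0 → Equiv.Perm.sign b = 1 →
    (a * b * a⁻¹ * b⁻¹) * (a * b * a⁻¹ * b⁻¹) = 1 := by decide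

set_option maxRecDepth 100000 in
theorem dec2 : ∀ a : Equiv.Perm (Fin 5), a 0 = 0 → Equiv.Perm.sign a = 1 → a * a = 1 →
    ∀ b : Equiv.Perm (Fin 5), b 0 = 0 → Equiv.Perm.sign b = 1 → b * b = 1 →
    a * b = b * a := by decide

theorem isSolvable_of_chain {G : Type*} [Group G] (H V : Subgroup G) (h1 : ⁅H, H⁆ ≤ V)
    (h2 : ⁅V, V⁆ = ⊥) : Group.IsSolvable H := by
  refine ⟨⟨2, ?_⟩⟩
  rw [← Subgroup.map_eq_bot_iff_of_injective _ H.subtype_injective]
  have e1 : (derivedSeries H 1).map H.subtype = ⁅H, H⁆ := by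
    rw [derivedSeries_one, Subgroup.map_subtype_commutator]
  have e2 : (derivedSeries H 2).map H.subtype = ⁅⁅H, H⁆, ⁅H, H⁆⁆ := by
    rw [derivedSeries_succ, Subgroup.map_commutator, e1]
  rw [e2, eq_bot_iff, ← h2]
  exact Subgroup.commutator_mono h1 h1

/-- The even permutations of `Fin 5` fixing `0`. -/
def M₀ : Subgroup (Equiv.Perm (Fin 5)) :=
  MulAction.stabilizer (Equiv.Perm (Fin 5)) (0 : Fin 5) ⊓ alternatingGroup (Fin 5)

theorem mem_M₀ (g : Equiv.Perm (Fin 5)) : g ∈ M₀ ↔ g 0 = 0 ∧ Equiv.Perm.sign g = 1 := by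
  unfold M₀
  rw [Subgroup.mem_inf, MulAction.mem_stabilizer_iff, Equiv.Perm.mem_alternatingGroup]
  rfl

/-- The Klein four-group inside `M₀`. -/
def V₀ : Subgroup (Equiv.Perm (Fin 5)) where
  carrier := {g | g ∈ M₀ ∧ g * g = 1}
  one_mem' := ⟨M₀.one_mem, by simp⟩
  mul_mem' := by
    rintro a b ⟨ha, ha2⟩ ⟨hb, hb2⟩
    refine ⟨M₀.mul_mem ha hb, ?_⟩
    have hcomm := dec2 a ((mem_M₀ a).mp ha).1 ((mem_M₀ a).mp ha).2 ha2 b
      ((mem_M₀ b).mp hb).1 ((mem_M₀ b).mp hb).2 hb2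
    calc a * b * (a * b) = a * (b * a) * b := by group
      _ = a * (a * b) * b := by rw [hcomm]
      _ = (a * a) * (b * b) := by group
      _ = 1 := by rw [ha2, hb2, one_mul]
  inv_mem' := by
    rintro a ⟨ha, ha2⟩
    refine ⟨M₀.inv_mem ha, ?_⟩
    rw [← mul_inv_rev, ha2, inv_one]

theorem mem_V₀ (g : Equiv.Perm (Fin 5)) : g ∈ V₀ ↔ g ∈ M₀ ∧ g * g = 1 := Iff.rfl

theorem isSolvable_M₀ : Group.IsSolvable M₀ := by
  apply isSolvable_of_chain M₀ V₀
  · rw [Subgroup.commutator_le]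
    intro a ha b hb
    rw [mem_V₀]
    refine ⟨?_, ?_⟩
    · rw [commutatorElement_def]
      exact M₀.mul_mem (M₀.mul_mem (M₀.mul_mem ha hb) (M₀.inv_mem ha)) (M₀.inv_mem hb)
    · rw [commutatorElement_def]
      exact dec1 a ((mem_M₀ a).mp ha).1 ((mem_M₀ a).mp ha).2 b
        ((mem_M₀ b).mp hb).1 ((mem_M₀ b).mp hb).2
  · rw [eq_bot_iff, Subgroup.commutator_le]
    intro a ha b hb
    rw [Subgroup.mem_bot, commutatorElement_eq_one_iff_commute]
    rw [mem_V₀] at ha hb
    exact dec2 a ((mem_M₀ a).mp ha.1).1 ((mem_M₀ a).mp ha.1).2 ha.2 b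
      ((mem_M₀ b).mp hb.1).1 ((mem_M₀ b).mp hb.1).2 hb.2

/-- The point stabilizer in `A₅` is a solvable maximal subgroup. -/
theorem exists_solvable_coatom :
    ∃ M : Subgroup (alternatingGroup (Fin 5)), IsCoatom M ∧ Group.IsSolvable M := by
  have h3 : 3 ≤ Nat.card (Fin 5) := by simp
  have : MulAction.IsPreprimitive (alternatingGroup (Fin 5)) (Fin 5) :=
    alternatingGroup.isPreprimitive_of_three_le_card (Fin 5) h3
  refine ⟨MulAction.stabilizer (alternatingGroup (Fin 5)) (0 : Fin 5),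
    MulAction.IsPreprimitive.isCoatom_stabilizer_of_isPreprimitive (alternatingGroup (Fin 5))
      (0 : Fin 5), ?_⟩
  have := isSolvable_M₀
  let f : MulAction.stabilizer (alternatingGroup (Fin 5)) (0 : Fin 5) →* M₀ :=
    ((alternatingGroup (Fin 5)).subtype.comp
      (MulAction.stabilizer (alternatingGroup (Fin 5)) (0 : Fin 5)).subtype).codRestrict M₀ (by
        intro g
        rw [mem_M₀]
        refine ⟨?_, Equiv.Perm.mem_alternatingGroup.mp g.1.2⟩
        have := g.2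
        rw [MulAction.mem_stabilizer_iff] at this
        exact this)
  have hf : Function.Injective f := by
    intro a b hab
    have := congrArg Subtype.val hab
    exact Subtype.ext (Subtype.ext this)
  exact Group.isSolvable_of_isSolvable_injective hf

end Cfsg.Agent.Lib.Helper98
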