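import Mathlib
import Cfsg.Agent.Lib.Helper1.FpfBasic

/-!
# Auxiliary lemmas on automorphisms of finite `2`-groups

Fixed-point subgroups, orbit counting, fixed points on quotients, the subgroup generated by the
squares and the Frattini-type lemma.
-/

set_option autoImplicit false
set_option linter.unusedSimpArgs false
set_option linter.style.haveILetI false
set_option linter.unusedSectionVars false

namespace Cfsg.Agent.Lib.Helper98.TwoAux

open Subgroup
open scoped commutatorElement
open Cfsg.Agent.Lib.Helper1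

section fixed
variable {T : Type*} [Group T]

/-- The subgroup of fixed points of an automorphism. -/
def fixedSub (α : MulAut T) : Subgroup T where
  carrier := {y | α y = y}
  mul_mem' := by
    intro a b ha hb
    change α (a * b) = a * b
    rw [map_mul, ha, hb]
  one_mem' := map_one α
  inv_mem' := by
    intro a ha
    change α a⁻¹ = a⁻¹
    rw [map_inv, ha]

theorem mem_fixedSub (α : MulAut T) (y : T) : y ∈ fixedSub α ↔ α y = y := Iff.rfl

/-- Orbit counting for an automorphism of prime order on an invariant subgroup. -/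
theorem card_inf_fixedSub_modEq [Finite T] (p : ℕ) [Fact p.Prime] (α : MulAut T)
    (hα : α ^ p = 1) (K : Subgroup T) (hK : ∀ k ∈ K, α k ∈ K) :
    Nat.card K ≡ Nat.card (K ⊓ fixedSub α : Subgroup T) [MOD p] := by
  classical
  haveI := Fintype.ofFinite K
  let f : Function.End K := fun k => ⟨α k, hK k k.2⟩
  have hpow : ∀ n : ℕ, ∀ k : K, (((f ^ n) k : K) : T) = (α ^ n) k := by
    intro n
    induction n with
    | zero => intro k; rw [pow_zero, pow_zero]; rfl
    | succ n ih =>
      intro k
      rw [pow_succ, pow_succ]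
      change (((f ^ n) (f k) : K) : T) = _
      rw [ih (f k)]
      rfl
  have hf : f ^ p ^ 1 = 1 := by
    funext k
    apply Subtype.ext
    change (((f ^ p ^ 1) k : K) : T) = (k : T)
    rw [pow_one, hpow p k, hα]
    rfl
  have h1 := Equiv.Perm.card_fixedPoints_modEq (p := p) (n := 1) hf
  have h2 : Nat.card (Function.fixedPoints f) = Nat.card (K ⊓ fixedSub α : Subgroup T) := by
    apply Nat.card_congr
    refine
      { toFun := fun k => ⟨(k.1 : T), k.1.2, ?_⟩
        invFun := fun y => ⟨⟨(y : T), y.2.1⟩, ?_⟩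
        left_inv := fun k => rfl
        right_inv := fun y => rfl }
    · have := k.2
      rw [Function.mem_fixedPoints, Function.IsFixedPt] at this
      exact congrArg Subtype.val this
    · rw [Function.mem_fixedPoints, Function.IsFixedPt]
      apply Subtype.ext
      exact y.2.2
  rw [← Nat.card_eq_fintype_card, ← Nat.card_eq_fintype_card, h2] at h1
  exact h1

/-- An automorphism of order dividing two of a finite group preserves a nontrivial `2`-subgroup
`K`; then it has a nontrivial fixed point in `K`. -/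
theorem exists_fixed_ne_one [Finite T] (α : MulAut T) (hα : α ^ 2 = 1) (K : Subgroup T)
    (hK : ∀ k ∈ K, α k ∈ K) (hK2 : IsPGroup 2 K) (hKb : K ≠ ⊥) :
    ∃ k ∈ K, k ≠ 1 ∧ α k = k := by
  haveI : Fact (Nat.Prime 2) := ⟨Nat.prime_two⟩
  have h1 := card_inf_fixedSub_modEq 2 α hα K hK
  obtain ⟨n, hn⟩ := IsPGroup.iff_card.mp hK2
  have hn0 : n ≠ 0 := by
    intro h0
    rw [h0, pow_zero] at hn
    exact hKb (Subgroup.card_eq_one.mp hn)
  have heven : Nat.card K % 2 = 0 := by
    rw [hn]
    obtain ⟨m, rfl⟩ := Nat.exists_eq_succ_of_ne_zero hn0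
    rw [pow_succ]; omega
  have h2 : Nat.card (K ⊓ fixedSub α : Subgroup T) % 2 = 0 := by
    have := h1.symm
    unfold Nat.ModEq at this
    omega
  have h3 : (K ⊓ fixedSub α : Subgroup T) ≠ ⊥ := by
    intro h
    rw [h, Subgroup.card_bot] at h2
    omega
  obtain ⟨k, hk1⟩ := (Subgroup.ne_bot_iff_exists_ne_one).mp h3
  have hk' : (k : T) ∈ K ⊓ fixedSub α := k.2
  exact ⟨k, hk'.1, fun h => hk1 (Subtype.ext h), hk'.2⟩

/-- The fixed points on a quotient are at most as many as the fixed points. -/
theorem card_fixedSub_quot_le [Finite T] (α : MulAut T) (N : Subgroup T) [N.Normal]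
    (h : AutInv α N) :
    Nat.card (fixedSub (quotAut α N h : MulAut (T ⧸ N))) ≤ Nat.card (fixedSub α) := by
  classical
  set Fb : Subgroup (T ⧸ N) := fixedSub (quotAut α N h : MulAut (T ⧸ N)) with hFb
  set S : Subgroup T := Fb.comap (QuotientGroup.mk' N) with hS
  set C : Subgroup T := fixedSub α with hC
  -- `|S| = |Fb| * |N|`
  have hcardS : Nat.card S = Nat.card Fb * Nat.card N := by
    have h1 : S.index = Fb.index :=
      Subgroup.index_comap_of_surjective Fb (QuotientGroup.mk'_surjective N)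
    have h2 := Subgroup.card_mul_index S
    have h3 := Subgroup.card_mul_index Fb
    have h4 := Subgroup.card_eq_card_quotient_mul_card_subgroup N
    have hpos : 0 < Fb.index := Nat.pos_of_ne_zero Subgroup.index_ne_zero_of_finite
    rw [h1] at h2
    have : Nat.card S * Fb.index = Nat.card Fb * Nat.card N * Fb.index := by
      rw [h2, h4, ← h3]; ring
    exact Nat.eq_of_mul_eq_mul_right hpos this
  -- the map `s ↦ s⁻¹ α(s)` into `N`
  have hmemN : ∀ s : S, (s : T)⁻¹ * α (s : T) ∈ N := by
    intro s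
    have hs : (QuotientGroup.mk' N) (s : T) ∈ Fb := s.2
    rw [hFb, mem_fixedSub] at hs
    have hs' : ((α (s : T) : T) : T ⧸ N) = ((s : T) : T ⧸ N) := by
      rw [← quotAut_mk α N h]; exact hs
    exact QuotientGroup.eq.mp hs'.symm
  let Φ : S → N := fun s => ⟨(s : T)⁻¹ * α (s : T), hmemN s⟩
  let g : N → S := fun n => if hn : ∃ s : S, Φ s = n then hn.choose else 1
  have hg : ∀ s : S, Φ (g (Φ s)) = Φ s := by
    intro s
    have hn : ∃ s' : S, Φ s' = Φ s := ⟨s, rfl⟩
    change Φ (if hn : ∃ s' : S, Φ s' = Φ s then hn.choose else 1) = Φ s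
    rw [dif_pos hn]
    exact hn.choose_spec
  have hfix : ∀ s : S, (s : T) * ((g (Φ s) : S) : T)⁻¹ ∈ C := by
    intro s
    have h1 : ((g (Φ s) : S) : T)⁻¹ * α ((g (Φ s) : S) : T) = (s : T)⁻¹ * α (s : T) :=
      congrArg Subtype.val (hg s)
    rw [hC, mem_fixedSub, map_mul, map_inv]
    have h2 : α (s : T) = (s : T) * (((g (Φ s) : S) : T)⁻¹ * α ((g (Φ s) : S) : T)) := by
      rw [h1]; group
    rw [h2]; group
  let Ψ : S → C × N := fun s => (⟨(s : T) * ((g (Φ s) : S) : T)⁻¹, hfix s⟩, Φ s)
  have hΨ : Function.Injective Ψ := by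
    intro s s' hss
    have h1 : Φ s = Φ s' := congrArg Prod.snd hss
    have h2 : (s : T) * ((g (Φ s) : S) : T)⁻¹ = (s' : T) * ((g (Φ s') : S) : T)⁻¹ :=
      congrArg (fun q : C × N => ((q.1 : C) : T)) hss
    rw [h1] at h2
    exact Subtype.ext (mul_right_cancel h2)
  have hle := Nat.card_le_card_of_injective Ψ hΨ
  rw [Nat.card_prod, hcardS] at hle
  have hNpos : 0 < Nat.card N := Nat.card_pos
  exact Nat.le_of_mul_le_mul_right hle hNpos

end fixed

section squares
variable (T : Type*) [Group T]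

/-- The subgroup generated by the squares. -/
def Sq : Subgroup T := closure {y | ∃ x : T, y = x ^ 2}

variable {T}

theorem sq_mem_Sq (x : T) : x ^ 2 ∈ Sq T := subset_closure ⟨x, rfl⟩

theorem Sq_map (α : MulAut T) : ∀ y ∈ Sq T, α y ∈ Sq T := by
  intro y hy
  have hle : (Sq T).map α.toMonoidHom ≤ Sq T := by
    unfold Sq
    rw [MonoidHom.map_closure, closure_le]
    rintro _ ⟨_, ⟨x, rfl⟩, rfl⟩
    change α (x ^ 2) ∈ _
    rw [map_pow]
    exact subset_closure ⟨α x, rfl⟩
  exact hle ⟨y, hy, rfl⟩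

instance Sq_normal : (Sq T).Normal := by
  constructor
  intro n hn g
  have := Sq_map (MulAut.conj g) n hn
  rwa [MulAut.conj_apply] at this

theorem commutator_mem_Sq (a b : T) : ⁅a, b⁆ ∈ Sq T := by
  have : ⁅a, b⁆ = a ^ 2 * (a⁻¹ * b) ^ 2 * (b⁻¹) ^ 2 := by
    rw [commutatorElement_def, pow_two, pow_two, pow_two]; group
  rw [this]
  exact mul_mem (mul_mem (sq_mem_Sq _) (sq_mem_Sq _)) (sq_mem_Sq _)

theorem quot_Sq_sq (w : T ⧸ Sq T) : w ^ 2 = 1 := by
  induction w using QuotientGroup.induction_on with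
  | H y =>
    rw [← QuotientGroup.mk_pow]
    exact (QuotientGroup.eq_one_iff _).mpr (sq_mem_Sq y)

/-- Frattini-type lemma: the squares are non-generators of a finite `2`-group. -/
theorem eq_top_of_sup_Sq [Finite T] (hT : IsPGroup 2 T) (K : Subgroup T) (h : K ⊔ Sq T = ⊤) :
    K = ⊤ := by
  haveI : Fact (Nat.Prime 2) := ⟨Nat.prime_two⟩
  by_contra hK
  obtain ⟨n, hn⟩ := IsPGroup.iff_card.mp hT
  obtain ⟨k, hk⟩ := IsPGroup.iff_card.mp (hT.to_subgroup K)
  have hlt : Nat.card K < Nat.card T := by
    by_contra hge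
    push Not at hge
    apply hK
    rw [← Subgroup.card_eq_iff_eq_top]
    exact le_antisymm (Subgroup.card_le_card_group K) hge
  have hkn : k < n := by
    rw [hk, hn] at hlt
    exact (Nat.pow_lt_pow_iff_right (by norm_num)).mp hlt
  have hdvd : 2 ^ (n - 1) ∣ Nat.card T := by
    rw [hn]; exact pow_dvd_pow 2 (Nat.sub_le n 1)
  obtain ⟨M, hM, hKM⟩ := Sylow.exists_subgroup_card_pow_prime_le 2 hdvd K hk (by omega)
  have hidx : M.index = 2 := by
    have h1 := Subgroup.card_mul_index M
    rw [hM, hn] at h1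
    have h2 : (2 : ℕ) ^ n = 2 ^ (n - 1) * 2 := by
      rw [← pow_succ]; congr 1; omega
    rw [h2] at h1
    exact Nat.eq_of_mul_eq_mul_left (by positivity) h1
  have hSqM : Sq T ≤ M := by
    unfold Sq
    rw [closure_le]
    rintro _ ⟨x, rfl⟩
    exact Subgroup.sq_mem_of_index_two hidx x
  have htop : M = ⊤ := by
    rw [eq_top_iff, ← h]
    exact sup_le hKM hSqM
  rw [htop, Subgroup.index_top] at hidx
  omega

end squares

end Cfsg.Agent.Lib.Helper98.TwoAux
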