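import Cfsg.Agent.Lib.Helper98.V4Enum
import Cfsg.Agent.Lib.Helper98.TwoAux

/-!
# `2`-groups with exactly three involutions and an automorphism moving all of them: basics
-/

set_option autoImplicit false
set_option linter.unusedSimpArgs false
set_option linter.style.haveILetI false
set_option linter.unusedSectionVars false

namespace Cfsg.Agent.Lib.Helper98.ThreeInv

open Subgroup
open scoped commutatorElement
open Cfsg.Agent.Lib.Helper98.TwoAux

section basic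
variable {T : Type*} [Group T] [Finite T] (hT2 : IsPGroup 2 T) (Z0 : Subgroup T)
  (hZ0 : ∀ x, x ∈ Z0 ↔ x ^ 2 = 1) (hZ04 : Nat.card Z0 = 4)
  (ρ : MulAut T) (hmove : ∀ z ∈ Z0, z ≠ 1 → ρ z ≠ z)

include hT2 in
theorem exists_involution_pow (k : T) (hk : k ≠ 1) : ∃ m : ℕ, (k ^ m) ^ 2 = 1 ∧ k ^ m ≠ 1 := by
  obtain ⟨n, hn⟩ := IsPGroup.iff_orderOf.mp hT2 k
  have hn0 : n ≠ 0 := by
    intro h0
    rw [h0, pow_zero, orderOf_eq_one_iff] at hn
    exact hk hn
  obtain ⟨m, rfl⟩ := Nat.exists_eq_succ_of_ne_zero hn0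
  refine ⟨2 ^ m, ?_, ?_⟩
  · rw [← pow_mul, ← pow_succ, ← hn]
    exact pow_orderOf_eq_one k
  · apply pow_ne_one_of_lt_orderOf (by positivity)
    rw [hn]
    exact Nat.pow_lt_pow_right (by norm_num) (Nat.lt_succ_self m)

include hZ0 in
theorem rho_mem (z : T) (hz : z ∈ Z0) : ρ z ∈ Z0 := by
  rw [hZ0] at hz ⊢
  rw [← map_pow, hz, map_one]

include hZ0 in
theorem Z0_comm (a b : T) (ha : a ∈ Z0) (hb : b ∈ Z0) : a * b = b * a := by
  have h1 := (hZ0 a).mp ha
  have h2 := (hZ0 b).mp hb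
  have h3 := (hZ0 (a * b)).mp (Z0.mul_mem ha hb)
  have ha' : a⁻¹ = a := by
    rw [pow_two] at h1
    exact inv_eq_of_mul_eq_one_right h1
  have hb' : b⁻¹ = b := by
    rw [pow_two] at h2
    exact inv_eq_of_mul_eq_one_right h2
  rw [pow_two] at h3
  have : a * b = (a * b)⁻¹ := (inv_eq_of_mul_eq_one_right h3).symm
  rw [this, mul_inv_rev, ha', hb']

include hZ0 hZ04 hmove in
theorem rho2_eq (z : T) (hz : z ∈ Z0) (hz1 : z ≠ 1) : ρ (ρ z) = z * ρ z := by
  have hρz : ρ z ∈ Z0 := rho_mem Z0 hZ0 ρ z hz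
  have hρρz : ρ (ρ z) ∈ Z0 := rho_mem Z0 hZ0 ρ _ hρz
  have hρz1 : ρ z ≠ 1 := by
    intro h
    apply hz1
    have := congrArg ρ.symm h
    simpa using this
  have hne : z ≠ ρ z := fun h => hmove z hz hz1 h.symm
  have h2 : ∀ w ∈ Z0, w ^ 2 = 1 := fun w hw => (hZ0 w).mp hw
  rcases V4Enum.four_elems Z0 hZ04 h2 z (ρ z) hz hρz hz1 hρz1 hne _ hρρz with h | h | h | h
  · exfalso
    apply hρz1
    have := congrArg ρ.symm h
    simpa using this
  · exfalso
    -- `ρ` swaps `z` and `ρ z`, so it fixes their product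
    have hw : z * ρ z ∈ Z0 := Z0.mul_mem hz hρz
    have hw1 : z * ρ z ≠ 1 := by
      intro h1
      apply hne
      have hz' : z⁻¹ = z := by
        have := h2 z hz
        rw [pow_two] at this
        exact inv_eq_of_mul_eq_one_right this
      have := eq_inv_of_mul_eq_one_right h1
      rw [hz'] at this
      exact this.symm
    apply hmove _ hw hw1
    rw [map_mul, h]
    exact Z0_comm Z0 hZ0 _ _ hρz hz
  · exfalso
    exact hmove _ hρz hρz1 h
  · exact h

include hZ0 hZ04 hmove in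
theorem rho3_fix (z : T) (hz : z ∈ Z0) : ρ (ρ (ρ z)) = z := by
  by_cases hz1 : z = 1
  · rw [hz1, map_one, map_one, map_one]
  · have hρz : ρ z ∈ Z0 := rho_mem Z0 hZ0 ρ z hz
    rw [rho2_eq Z0 hZ0 hZ04 ρ hmove z hz hz1, map_mul, rho2_eq Z0 hZ0 hZ04 ρ hmove z hz hz1]
    rw [Z0_comm Z0 hZ0 _ _ hρz (Z0.mul_mem hz hρz), mul_assoc]
    have : ρ z * ρ z = 1 := by
      rw [← pow_two]; exact (hZ0 _).mp hρz
    rw [this, mul_one]

include hZ0 hZ04 hmove in
theorem pow3_fix (n : ℕ) (z : T) (hz : z ∈ Z0) : ((ρ ^ 3) ^ n) z = z := by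
  induction n with
  | zero => simp
  | succ n ih =>
    rw [pow_succ, MulAut.mul_apply]
    have : (ρ ^ 3) z = z := by
      rw [pow_succ, pow_succ, pow_one, MulAut.mul_apply, MulAut.mul_apply]
      exact rho3_fix Z0 hZ0 hZ04 ρ hmove z hz
    rw [this, ih]

include hT2 hZ0 hZ04 hmove in
/-- A nontrivial `ρ`-invariant subgroup contains all involutions. -/
theorem Z0_le_of_inv (K : Subgroup T) (hK : ∀ k ∈ K, ρ k ∈ K) (hKb : K ≠ ⊥) : Z0 ≤ K := by
  obtain ⟨k, hkK, hk1⟩ : ∃ k ∈ K, k ≠ 1 := by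
    obtain ⟨k, hk⟩ := (Subgroup.ne_bot_iff_exists_ne_one).mp hKb
    exact ⟨(k : T), k.2, fun h => hk (Subtype.ext h)⟩
  obtain ⟨m, hm2, hm1⟩ := exists_involution_pow hT2 k hk1
  set z := k ^ m with hz
  have hzK : z ∈ K := K.pow_mem hkK m
  have hzZ : z ∈ Z0 := (hZ0 z).mpr hm2
  have hρz : ρ z ∈ Z0 := rho_mem Z0 hZ0 ρ z hzZ
  have hρz1 : ρ z ≠ 1 := by
    intro h
    apply hm1
    have := congrArg ρ.symm h
    simpa using this
  have hne : z ≠ ρ z := fun h => hmove z hzZ hm1 h.symm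
  have h2 : ∀ w ∈ Z0, w ^ 2 = 1 := fun w hw => (hZ0 w).mp hw
  intro w hw
  rcases V4Enum.four_elems Z0 hZ04 h2 z (ρ z) hzZ hρz hm1 hρz1 hne w hw with h | h | h | h
  · rw [h]; exact K.one_mem
  · rw [h]; exact hzK
  · rw [h]; exact hK z hzK
  · rw [h]; exact K.mul_mem hzK (hK z hzK)

end basic

section abelian
variable {A : Type*} [Group A] [Finite A] (hcomm : ∀ a b : A, a * b = b * a)

/-- The squaring endomorphism of a commutative group. -/
def sqHom : A →* A := MonoidHom.mk' (fun a => a ^ 2) (fun a b => (Commute.mul_pow (hcomm a b) 2))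

theorem sqHom_apply (a : A) : sqHom hcomm a = a ^ 2 := rfl

theorem Sq_eq_range : Sq A = (sqHom hcomm).range := by
  apply le_antisymm
  · rw [Sq, closure_le]
    rintro y ⟨a, rfl⟩
    exact ⟨a, rfl⟩
  · rintro _ ⟨a, rfl⟩
    exact sq_mem_Sq a

include hcomm in
theorem mem_Sq_iff_of_comm (y : A) : y ∈ Sq A ↔ ∃ a : A, y = a ^ 2 := by
  rw [Sq_eq_range hcomm]
  constructor
  · rintro ⟨a, rfl⟩; exact ⟨a, rfl⟩
  · rintro ⟨a, rfl⟩; exact ⟨a, rfl⟩

include hcomm in
theorem index_Sq_of_comm (Ω : Subgroup A) (hΩ : ∀ a, a ∈ Ω ↔ a ^ 2 = 1) :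
    (Sq A).index = Nat.card Ω := by
  have hker : (sqHom hcomm).ker = Ω := by
    ext a
    rw [MonoidHom.mem_ker, sqHom_apply, hΩ]
  have h1 := Subgroup.card_mul_index (sqHom hcomm).ker
  rw [Subgroup.index_ker, hker] at h1
  have h2 := Subgroup.card_mul_index (sqHom hcomm).range
  rw [Sq_eq_range hcomm]
  have hpos : 0 < Nat.card (sqHom hcomm).range := Nat.card_pos
  have : Nat.card (sqHom hcomm).range * (sqHom hcomm).range.index
      = Nat.card (sqHom hcomm).range * Nat.card Ω := by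
    rw [h2, ← h1, mul_comm]
  exact Nat.eq_of_mul_eq_mul_left hpos this

end abelian

end Cfsg.Agent.Lib.Helper98.ThreeInv
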