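import Cfsg.Agent.Lib.Helper98.ThreeInvK

/-!
# `2`-groups with three involutions: a `3`-element of the automorphism group which permutes the
involutions transitively has order three (the induction)
-/

set_option autoImplicit false
set_option linter.unusedSimpArgs false
set_option linter.style.haveILetI false
set_option linter.unusedSectionVars false

namespace Cfsg.Agent.Lib.Helper98.ThreeInv

open Subgroup
open scoped commutatorElement
open Cfsg.Agent.Lib.Helper98.TwoAux
open Cfsg.Agent.Lib.Helper98.Fpf64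
open Cfsg.Agent.Lib.Helper1

universe u

theorem pow_pred_eq_one : ∀ (n : ℕ) {T : Type u} [Group T] [Finite T], Nat.card T = n →
    IsPGroup 2 T → ∀ (Z0 : Subgroup T), (∀ x, x ∈ Z0 ↔ x ^ 2 = 1) → Nat.card Z0 = 4 →
    ∀ (ρ : MulAut T) (a : ℕ), 2 ≤ a → ρ ^ (3 ^ a) = 1 → (∀ z ∈ Z0, z ≠ 1 → ρ z ≠ z) →
    ρ ^ (3 ^ (a - 1)) = 1 := by
  intro n
  induction n using Nat.strong_induction_on with
  | _ n ih =>
    intro T _ _ hn hT2 Z0 hZ0 hZ04 ρ a ha hρa hmove
    set σ : MulAut T := ρ ^ (3 ^ (a - 2)) with hσ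
    set τ : MulAut T := ρ ^ (3 ^ (a - 1)) with hτ
    have e1 : 3 ^ (a - 2) * 3 = 3 ^ (a - 1) := by
      rw [← pow_succ]; congr 1; omega
    have e2 : 3 ^ (a - 1) * 3 = 3 ^ a := by
      rw [← pow_succ]; congr 1; omega
    have hσ3 : σ ^ 3 = τ := by rw [hσ, hτ, ← pow_mul, e1]
    have hτ3 : τ ^ 3 = 1 := by rw [hτ, ← pow_mul, e2, hρa]
    have hτρ : ∀ x, τ (ρ x) = ρ (τ x) := by
      intro x
      have : τ * ρ = ρ * τ := by
        rw [hτ]
        exact ((Commute.refl ρ).pow_left _).eq
      have := congrArg (fun f => f x) this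
      simpa [MulAut.mul_apply] using this
    have hτZ0 : ∀ z ∈ Z0, τ z = z := by
      intro z hz
      have : τ = (ρ ^ 3) ^ (3 ^ (a - 2)) := by
        rw [hτ, ← pow_mul, mul_comm, e1]
      rw [this]
      exact pow3_fix Z0 hZ0 hZ04 ρ hmove _ z hz
    have hmin : ∀ K : Subgroup T, (∀ k ∈ K, ρ k ∈ K) → K ≠ ⊤ → ∀ k ∈ K, τ k = k := by
      intro K hK hKtop k hk
      by_cases hKb : K = ⊥
      · rw [hKb, mem_bot] at hk
        rw [hk, map_one]
      · have hZ0K : Z0 ≤ K := Z0_le_of_inv hT2 Z0 hZ0 hZ04 ρ hmove K hK hKb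
        have hlt : Nat.card K < n := by
          rw [← hn]
          by_contra hge
          push Not at hge
          apply hKtop
          rw [← Subgroup.card_eq_iff_eq_top]
          exact le_antisymm (Subgroup.card_le_card_group K) hge
        have hKinv : AutInv ρ K := autInv_of_forall_mem ρ K hK
        have hres := ih (Nat.card K) hlt (T := ↥K) rfl (hT2.to_subgroup K) (Z0.subgroupOf K)
          (by
            intro x
            rw [mem_subgroupOf, hZ0, Subtype.ext_iff]
            rfl)
          (by rw [Nat.card_congr (Subgroup.subgroupOfEquivOfLe hZ0K).toEquiv, hZ04])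
          (restrictAut ρ K hKinv) a ha (restrictAut_pow_eq_one ρ K hKinv _ hρa)
          (by
            intro z hz hz1 hfix
            apply hmove (z : T) (mem_subgroupOf.mp hz) (fun h => hz1 (Subtype.ext h))
            exact congrArg Subtype.val hfix)
        have := congrArg (fun f => ((f ⟨k, hk⟩ : ↥K) : T)) hres
        simp only [restrictAut_pow_apply] at this
        exact this
    have htriv := tau_trivial hT2 Z0 hZ0 hZ04 ρ hmove σ τ hσ3 hτ3 hτρ hτZ0 hmin
    ext x
    exact htriv x

/-- A `3`-element of the automorphism group of a `2`-group with exactly three involutions which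
moves every involution has order (dividing) three. -/
theorem pow_three_eq_one {T : Type u} [Group T] [Finite T] (hT2 : IsPGroup 2 T)
    (Z0 : Subgroup T) (hZ0 : ∀ x, x ∈ Z0 ↔ x ^ 2 = 1) (hZ04 : Nat.card Z0 = 4)
    (ρ : MulAut T) (hmove : ∀ z ∈ Z0, z ≠ 1 → ρ z ≠ z) (a : ℕ) (hρa : ρ ^ (3 ^ a) = 1) :
    ρ ^ 3 = 1 := by
  induction a with
  | zero =>
    rw [pow_zero, pow_one] at hρa
    rw [hρa, one_pow]
  | succ a ih =>
    by_cases ha : a = 0
    · rw [ha] at hρa
      simpa using hρa
    · apply ih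
      have := pow_pred_eq_one (Nat.card T) rfl hT2 Z0 hZ0 hZ04 ρ (a + 1) (by omega) hρa hmove
      simpa using this

end Cfsg.Agent.Lib.Helper98.ThreeInv
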