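import Cfsg.Agent.Lib.Helper98.ThreeInv
import Cfsg.Agent.Lib.Helper98.Aniso
import Cfsg.Agent.Lib.Helper98.OrbitNine

/-!
# `2`-groups with three involutions: a `3`-element of the automorphism group which permutes the
involutions transitively has order three

The key minimal-counterexample lemma.
-/

set_option autoImplicit false
set_option linter.unusedSimpArgs false
set_option linter.style.haveILetI false
set_option linter.unusedSectionVars false

namespace Cfsg.Agent.Lib.Helper98.ThreeInv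

open Subgroup
open scoped commutatorElement
open Cfsg.Agent.Lib.Helper98.TwoAux
open Cfsg.Agent.Lib.Helper98.Fpf64
open Cfsg.Agent.Lib.Helper1

theorem comm_of_sq_eq_one {Q : Type*} [Group Q] (h : ∀ w : Q, w ^ 2 = 1) (a b : Q) :
    a * b = b * a := by
  have hinv : ∀ w : Q, w⁻¹ = w := by
    intro w
    have := h w
    rw [pow_two] at this
    exact inv_eq_of_mul_eq_one_right this
  have := hinv (a * b)
  rw [mul_inv_rev, hinv a, hinv b] at this
  exact this.symm

theorem six_comm {Q : Type*} [Group Q] (hc : ∀ a b : Q, a * b = b * a) (a b c d e f : Q) :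
    a * b * (c * d) * (e * f) = a * c * e * (b * d * f) := by
  calc a * b * (c * d) * (e * f) = a * (b * c) * (d * e) * f := by simp only [mul_assoc]
    _ = a * (c * b) * (d * e) * f := by rw [hc b c]
    _ = a * c * ((b * d) * e) * f := by simp only [mul_assoc]
    _ = a * c * (e * (b * d)) * f := by rw [hc (b * d) e]
    _ = a * c * e * (b * d * f) := by simp only [mul_assoc]

theorem eq_one_of_pow_three {T : Type*} [Group T] (hT2 : IsPGroup 2 T) (c : T) (hc : c ^ 3 = 1) :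
    c = 1 := by
  obtain ⟨n, hn⟩ := IsPGroup.iff_orderOf.mp hT2 c
  have h1 : orderOf c ∣ 3 := orderOf_dvd_of_pow_eq_one hc
  rw [hn] at h1
  have h2 : Nat.Coprime (2 ^ n) 3 := Nat.Coprime.pow_left n (by norm_num)
  have h3 : 2 ^ n = 1 := Nat.Coprime.eq_one_of_dvd h2 h1
  rw [h3] at hn
  exact orderOf_eq_one_iff.mp hn

section core
variable {T : Type*} [Group T] [Finite T] (hT2 : IsPGroup 2 T) (Z0 : Subgroup T)
  (hZ0 : ∀ x, x ∈ Z0 ↔ x ^ 2 = 1) (hZ04 : Nat.card Z0 = 4)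
  (ρ : MulAut T) (hmove : ∀ z ∈ Z0, z ≠ 1 → ρ z ≠ z)
  (σ τ : MulAut T) (hσ3 : σ ^ 3 = τ) (hτ3 : τ ^ 3 = 1) (hτρ : ∀ x, τ (ρ x) = ρ (τ x))
  (hτZ0 : ∀ z ∈ Z0, τ z = z)
  (hmin : ∀ K : Subgroup T, (∀ k ∈ K, ρ k ∈ K) → K ≠ ⊤ → ∀ k ∈ K, τ k = k)

include hτ3 in
theorem tau3_apply (x : T) : τ (τ (τ x)) = x := by
  have := congrArg (fun f => f x) hτ3
  simpa [pow_succ, MulAut.mul_apply] using this

/-- The subgroup generated by the elements `x⁻¹ τ(x)`. -/
def commSub (τ : MulAut T) : Subgroup T := closure {c | ∃ x : T, c = x⁻¹ * τ x}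

include hτρ in
theorem commSub_inv : ∀ k ∈ commSub τ, ρ k ∈ commSub τ := by
  intro k hk
  refine closure_induction (p := fun k _ => ρ k ∈ commSub τ) ?_ ?_ ?_ ?_ hk
  · rintro _ ⟨x, rfl⟩
    rw [map_mul, map_inv, ← hτρ]
    exact subset_closure ⟨ρ x, rfl⟩
  · rw [map_one]; exact (commSub τ).one_mem
  · intro a b _ _ ha hb
    rw [map_mul]; exact (commSub τ).mul_mem ha hb
  · intro a _ ha
    rw [map_inv]; exact (commSub τ).inv_mem ha

include hT2 hτ3 hτρ hmin in
/-- If `τ` is not the identity, then `T = [T, τ]`. -/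
theorem commSub_eq_top (x0 : T) (hx0 : τ x0 ≠ x0) : commSub τ = ⊤ := by
  apply eq_top_of_sup_Sq hT2
  by_contra hne
  have hNinv : ∀ k ∈ commSub τ ⊔ Sq T, ρ k ∈ commSub τ ⊔ Sq T :=
    inv_sup ρ _ _ (commSub_inv ρ τ hτρ) (Sq_map ρ)
  have hτN := hmin _ hNinv hne
  apply hx0
  obtain ⟨c, hc⟩ : ∃ c : T, c = x0⁻¹ * τ x0 := ⟨_, rfl⟩
  have hcN : c ∈ commSub τ ⊔ Sq T := mem_sup_left (subset_closure ⟨x0, hc⟩)
  have hτc : τ c = c := hτN c hcN
  have h1 : τ x0 = x0 * c := by rw [hc]; group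
  have h2 : τ (τ x0) = x0 * c * c := by rw [h1, map_mul, hτc, ← h1]
  have h3 : τ (τ (τ x0)) = x0 * c * c * c := by rw [h2, map_mul, map_mul, hτc, ← h1]
  rw [tau3_apply τ hτ3] at h3
  have hc3 : c ^ 3 = 1 := by
    have : x0 * c ^ 3 = x0 := by
      rw [pow_succ, pow_two, ← mul_assoc, ← mul_assoc]; exact h3.symm
    exact mul_eq_left.mp this
  have hc1 : c = 1 := eq_one_of_pow_three hT2 c hc3
  rw [h1, hc1, mul_one]

include hT2 hτ3 hτρ hmin in
theorem Sq_ne_top (x0 : T) (hx0 : τ x0 ≠ x0) : Sq T ≠ ⊤ := by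
  intro htop
  have h1 : (⊥ : Subgroup T) = ⊤ := eq_top_of_sup_Sq hT2 ⊥ (by rw [bot_sup_eq, htop])
  have h2 : x0 ∈ (⊥ : Subgroup T) := by rw [h1]; trivial
  rw [mem_bot] at h2
  apply hx0
  rw [h2, map_one]

include hT2 hτ3 hτρ hmin in
/-- The squares are central. -/
theorem Sq_le_center (x0 : T) (hx0 : τ x0 ≠ x0) : Sq T ≤ center T := by
  have hτΦ : ∀ s ∈ Sq T, τ s = s := hmin (Sq T) (Sq_map ρ) (Sq_ne_top hT2 ρ τ hτ3 hτρ hmin x0 hx0)
  have hK := commSub_eq_top hT2 ρ τ hτ3 hτρ hmin x0 hx0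
  intro s hs
  have hle : commSub τ ≤ centralizer ({s} : Set T) := by
    rw [commSub, closure_le]
    rintro _ ⟨x, rfl⟩
    rw [SetLike.mem_coe, mem_centralizer_iff]
    intro h hh
    rw [Set.mem_singleton_iff] at hh
    rw [hh]
    have h1 : x * s * x⁻¹ ∈ Sq T := (Sq_normal (T := T)).conj_mem s hs x
    have h2 := hτΦ _ h1
    rw [map_mul, map_mul, map_inv, hτΦ s hs] at h2
    -- `τ x * s * (τ x)⁻¹ = x * s * x⁻¹`
    calc s * (x⁻¹ * τ x) = x⁻¹ * (x * s * x⁻¹) * τ x := by group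
      _ = x⁻¹ * (τ x * s * (τ x)⁻¹) * τ x := by rw [h2]
      _ = x⁻¹ * τ x * s := by group
  rw [mem_center_iff]
  intro g
  have hg : g ∈ centralizer ({s} : Set T) := hle (by rw [hK]; trivial)
  rw [mem_centralizer_iff] at hg
  exact (hg s rfl).symm


/-- The norm endomorphism `m ↦ m τ(m) τ²(m)` of the Frattini quotient. -/
noncomputable def normHom (τq : MulAut (T ⧸ Sq T)) : (T ⧸ Sq T) →* (T ⧸ Sq T) :=
  MonoidHom.mk' (fun m => m * τq m * τq (τq m)) (by
    intro a b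
    simp only [map_mul]
    exact six_comm (comm_of_sq_eq_one quot_Sq_sq) _ _ _ _ _ _)

theorem normHom_apply (τq : MulAut (T ⧸ Sq T)) (m : T ⧸ Sq T) :
    normHom τq m = m * τq m * τq (τq m) := rfl

include hT2 hτ3 hτρ hmin in
/-- `τ` acts without fixed points on the Frattini quotient. -/
theorem quot_fpf (x0 : T) (hx0 : τ x0 ≠ x0) (m : T ⧸ Sq T)
    (hm : quotAut τ (Sq T) (autInv_of_forall_mem τ _ (Sq_map τ)) m = m) : m = 1 := by
  set τq := quotAut τ (Sq T) (autInv_of_forall_mem τ _ (Sq_map τ)) with hτq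
  have hK := commSub_eq_top hT2 ρ τ hτ3 hτρ hmin x0 hx0
  have hle : commSub τ ≤ (normHom τq).ker.comap (QuotientGroup.mk' (Sq T)) := by
    rw [commSub, closure_le]
    rintro _ ⟨x, rfl⟩
    rw [SetLike.mem_coe, mem_comap, MonoidHom.mem_ker, normHom_apply, QuotientGroup.mk'_apply,
      hτq, quotAut_mk, quotAut_mk, ← QuotientGroup.mk_mul, ← QuotientGroup.mk_mul]
    have : x⁻¹ * τ x * τ (x⁻¹ * τ x) * τ (τ (x⁻¹ * τ x)) = 1 := by
      simp only [map_mul, map_inv]
      rw [tau3_apply τ hτ3]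
      group
    rw [this]
    rfl
  have hE : ∀ m, normHom τq m = 1 := by
    intro m
    induction m using QuotientGroup.induction_on with
    | H y =>
      have : y ∈ commSub τ := by rw [hK]; trivial
      exact hle this
  have h1 := hE m
  rw [normHom_apply, hm, hm, ← pow_two, quot_Sq_sq, one_mul] at h1
  exact h1

include hT2 hσ3 hτ3 hτρ hmin in
/-- The Frattini quotient has order at least `64`. -/
theorem card_quot_ge (x0 : T) (hx0 : τ x0 ≠ x0) : 64 ≤ Nat.card (T ⧸ Sq T) := by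
  haveI : Fact (Nat.Prime 2) := ⟨Nat.prime_two⟩
  set τq := quotAut τ (Sq T) (autInv_of_forall_mem τ _ (Sq_map τ)) with hτq
  set σq := quotAut σ (Sq T) (autInv_of_forall_mem σ _ (Sq_map σ)) with hσq
  have hσ9 : σ ^ 9 = 1 := by
    rw [show 9 = 3 * 3 by norm_num, pow_mul, hσ3, hτ3]
  have h9 : σq ^ 9 = 1 := quotAut_pow_eq_one σ _ _ 9 hσ9
  have hfp : ∀ m : T ⧸ Sq T, (σq ^ 3) m = m → m = 1 := by
    intro m hm
    apply quot_fpf hT2 ρ τ hτ3 hτρ hmin x0 hx0 m
    induction m using QuotientGroup.induction_on with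
    | H y =>
      rw [hσq, quotAut_pow_mk, hσ3] at hm
      rw [quotAut_mk]
      exact hm
  have hmod := OrbitNine.card_mod_nine σq h9 hfp
  obtain ⟨d, hd⟩ := IsPGroup.iff_card.mp (hT2.to_quotient (Sq T))
  have hne1 : Nat.card (T ⧸ Sq T) ≠ 1 := by
    intro h1
    apply Sq_ne_top hT2 ρ τ hτ3 hτρ hmin x0 hx0
    rw [← Subgroup.index_eq_one, Subgroup.index_eq_card]
    exact h1
  rw [hd] at hmod hne1 ⊢
  have hd6 : 6 ≤ d := by
    by_contra hlt
    push Not at hlt
    interval_cases d <;> simp_all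
  calc 64 = 2 ^ 6 := by norm_num
    _ ≤ 2 ^ d := Nat.pow_le_pow_right (by norm_num) hd6


include hT2 hZ0 hZ04 hmove hσ3 hτ3 hτρ hτZ0 hmin in
/-- The key lemma: `τ` is the identity. -/
theorem tau_trivial : ∀ x, τ x = x := by
  by_contra hcon
  push Not at hcon
  obtain ⟨x0, hx0⟩ := hcon
  have hΦc : Sq T ≤ center T := Sq_le_center hT2 ρ τ hτ3 hτρ hmin x0 hx0
  have h64 := card_quot_ge hT2 ρ σ τ hσ3 hτ3 hτρ hmin x0 hx0
  -- the squares form a nontrivial subgroup, hence contain the involutions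
  have hΦb : Sq T ≠ ⊥ := by
    intro hbot
    apply hx0
    apply hτZ0
    rw [hZ0]
    have := sq_mem_Sq x0
    rw [hbot, mem_bot] at this
    exact this
  have hZ0Φ : Z0 ≤ Sq T := Z0_le_of_inv hT2 Z0 hZ0 hZ04 ρ hmove (Sq T) (Sq_map ρ) hΦb
  -- the squaring homomorphism on `Φ`
  let sqΦ : ↥(Sq T) →* T := MonoidHom.mk' (fun s => (s : T) ^ 2) (by
    intro a b
    have hc : Commute (a : T) (b : T) := (mem_center_iff.mp (hΦc b.2) (a : T))
    exact hc.mul_pow 2)
  have hsqΦ : ∀ s : ↥(Sq T), sqΦ s = (s : T) ^ 2 := fun s => rfl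
  set Φ2 : Subgroup T := sqΦ.range with hΦ2
  have hΦ2Φ : Φ2 ≤ Sq T := by
    rintro _ ⟨s, rfl⟩
    rw [hsqΦ]
    exact (Sq T).pow_mem s.2 2
  have hΦ2c : Φ2 ≤ center T := hΦ2Φ.trans hΦc
  haveI hΦ2n : Φ2.Normal := by
    constructor
    intro n hn g
    have := mem_center_iff.mp (hΦ2c hn) g
    rw [this, mul_inv_cancel_right]
    exact hn
  -- orders
  have hker : Nat.card sqΦ.ker = 4 := by
    have : sqΦ.ker = Z0.subgroupOf (Sq T) := by
      ext s
      rw [MonoidHom.mem_ker, hsqΦ, mem_subgroupOf, hZ0]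
    rw [this, Nat.card_congr (Subgroup.subgroupOfEquivOfLe hZ0Φ).toEquiv, hZ04]
  have hcardΦ : Nat.card (Sq T) = 4 * Nat.card Φ2 := by
    have h1 := Subgroup.card_mul_index sqΦ.ker
    rw [Subgroup.index_ker, hker] at h1
    exact h1.symm
  -- the quotient
  set Zbar : Subgroup (T ⧸ Φ2) := (Sq T).map (QuotientGroup.mk' Φ2) with hZbar
  have hidx : Zbar.index = (Sq T).index := by
    apply Subgroup.index_map_eq _ (QuotientGroup.mk'_surjective Φ2)
    rw [QuotientGroup.ker_mk']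
    exact hΦ2Φ
  have hZbar4 : Nat.card Zbar = 4 := by
    have h1 := Subgroup.card_mul_index Zbar
    have h2 := Subgroup.card_eq_card_quotient_mul_card_subgroup Φ2
    have h3 := Subgroup.card_mul_index (Sq T)
    rw [hidx] at h1
    have hpos1 : 0 < (Sq T).index := Nat.pos_of_ne_zero Subgroup.index_ne_zero_of_finite
    have hpos2 : 0 < Nat.card Φ2 := Nat.card_pos
    have h4 : Nat.card Zbar * ((Sq T).index * Nat.card Φ2) = 4 * ((Sq T).index * Nat.card Φ2) := by
      calc Nat.card Zbar * ((Sq T).index * Nat.card Φ2)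
          = Nat.card Zbar * (Sq T).index * Nat.card Φ2 := by ring
        _ = Nat.card (T ⧸ Φ2) * Nat.card Φ2 := by rw [h1]
        _ = Nat.card T := h2.symm
        _ = Nat.card (Sq T) * (Sq T).index := h3.symm
        _ = 4 * ((Sq T).index * Nat.card Φ2) := by rw [hcardΦ]; ring
    exact Nat.eq_of_mul_eq_mul_right (Nat.mul_pos hpos1 hpos2) h4
  have hZbarc : Zbar ≤ center (T ⧸ Φ2) := by
    rintro _ ⟨s, hs, rfl⟩
    rw [mem_center_iff]
    intro g
    induction g using QuotientGroup.induction_on with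
    | H y =>
      rw [QuotientGroup.mk'_apply, ← QuotientGroup.mk_mul, ← QuotientGroup.mk_mul,
        mem_center_iff.mp (hΦc hs) y]
  have hZbar2 : ∀ z ∈ Zbar, z ^ 2 = 1 := by
    rintro _ ⟨s, hs, rfl⟩
    rw [QuotientGroup.mk'_apply, ← QuotientGroup.mk_pow, QuotientGroup.eq_one_iff]
    exact ⟨⟨s, hs⟩, rfl⟩
  have hsq : ∀ g : T ⧸ Φ2, g ^ 2 ∈ Zbar := by
    intro g
    induction g using QuotientGroup.induction_on with
    | H y =>
      rw [← QuotientGroup.mk_pow]
      exact ⟨y ^ 2, sq_mem_Sq y, rfl⟩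
  have hinv : ∀ g : T ⧸ Φ2, g ^ 2 = 1 → g ∈ Zbar := by
    intro g hg
    induction g using QuotientGroup.induction_on with
    | H y =>
      rw [← QuotientGroup.mk_pow, QuotientGroup.eq_one_iff] at hg
      obtain ⟨s, hs⟩ := hg
      rw [hsqΦ] at hs
      have hc : Commute y ((s : T)⁻¹) :=
        (mem_center_iff.mp (hΦc ((Sq T).inv_mem s.2)) y)
      have h1 : (y * (s : T)⁻¹) ^ 2 = 1 := by
        rw [hc.mul_pow, inv_pow, hs, mul_inv_cancel]
      have h2 : y * (s : T)⁻¹ ∈ Sq T := hZ0Φ ((hZ0 _).mpr h1)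
      have h3 : y ∈ Sq T := by
        have : y = y * (s : T)⁻¹ * s := by group
        rw [this]
        exact (Sq T).mul_mem h2 s.2
      exact ⟨y, h3, rfl⟩
  have hlt := Aniso.card_lt Zbar hZbarc hZbar4 hZbar2 hsq hinv
  have h1 := Subgroup.card_mul_index Zbar
  rw [hidx, hZbar4, Subgroup.index_eq_card] at h1
  omega

end core

end Cfsg.Agent.Lib.Helper98.ThreeInv
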