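import Cfsg.Agent.Lib.Helper98.TwoRhoTMain

/-!
# `2`-groups with commuting automorphisms `ρ` (fixed-point-free of order three) and `t`
(an involution with at most four fixed points): the case of Frattini index sixteen
-/

set_option autoImplicit false
set_option linter.unusedSimpArgs false
set_option linter.style.haveILetI false
set_option linter.unusedSectionVars false

namespace Cfsg.Agent.Lib.Helper98.TwoRhoT

open Subgroup
open scoped commutatorElement
open Cfsg.Agent.Lib.Helper98.Fpf3
open Cfsg.Agent.Lib.Helper98.Fpf64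
open Cfsg.Agent.Lib.Helper98.TwoAux
open Cfsg.Agent.Lib.Helper1

section sixteen
variable {T : Type*} [Group T] [Finite T] (hT2 : IsPGroup 2 T) (ρ : MulAut T) (h3 : ρ ^ 3 = 1)
  (hfp : ∀ y : T, ρ y = y → y = 1)
  (hsq : ∀ y : T, y ^ 2 ∈ commutator T) (hidx : (Sq T).index = 16)

include h3 hfp in
theorem commutator_le_center : commutator T ≤ center T := by
  rw [commutator_def, Subgroup.commutator_le]
  intro a _ b _
  exact comm_mem_center ρ h3 hfp a b

include hsq in
theorem Sq_eq_commutator : Sq T = commutator T := by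
  apply le_antisymm
  · rw [Sq, closure_le]
    rintro y ⟨x, rfl⟩
    exact hsq x
  · rw [commutator_def, Subgroup.commutator_le]
    intro a _ b _
    exact commutator_mem_Sq a b

include hsq hidx in
theorem card_eq_sixteen_mul : Nat.card T = 16 * Nat.card (commutator T) := by
  have h := Subgroup.card_mul_index (Sq T)
  rw [hidx, Sq_eq_commutator hsq] at h
  omega

include hsq hidx in
theorem abelian_case (hab : ∀ a b : T, a * b = b * a) :
    Nat.card T = 16 ∧ ∀ y : T, y ^ 2 = 1 := by
  have hbot : commutator T = ⊥ := by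
    rw [eq_bot_iff, commutator_def, Subgroup.commutator_le]
    intro a _ b _
    rw [mem_bot, commutatorElement_eq_one_iff_mul_comm]
    exact hab a b
  refine ⟨?_, ?_⟩
  · have := card_eq_sixteen_mul hsq hidx
    rw [hbot, Subgroup.card_bot] at this
    omega
  · intro y
    have := hsq y
    rw [hbot, mem_bot] at this
    exact this

include h3 hfp hsq in
theorem comm_sq_eq_one (a b : T) : ⁅a, b⁆ ^ 2 = 1 := by
  have hc : ∀ a b : T, ⁅a, b⁆ ∈ center T := comm_mem_center ρ h3 hfp
  have h1 : ⁅a * a, b⁆ = ⁅a, b⁆ * ⁅a, b⁆ := cmul_left hc a a b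
  have h2 : a * a ∈ center T := by
    rw [← pow_two]
    exact commutator_le_center ρ h3 hfp (hsq a)
  have h3' : ⁅a * a, b⁆ = 1 := by
    rw [commutatorElement_eq_one_iff_mul_comm]
    exact (mem_center_iff.mp h2 b).symm
  rw [pow_two, ← h1, h3']

include hT2 h3 hfp hsq hidx in
theorem card_center_eq (hna : ∃ a b : T, a * b ≠ b * a) :
    Nat.card (center T) = Nat.card (commutator T) := by
  have hcard := card_eq_sixteen_mul hsq hidx
  obtain ⟨n, hn⟩ := card_top_pow hT2 ρ h3 hfp
  obtain ⟨z, hz⟩ := card_inv_pow hT2 ρ h3 hfp (center T) (inv_center ρ)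
  have hρinv : AutInv ρ (commutator T) := by
    rw [commutator_def]
    exact AutInv.commutator (autInv_top ρ) (autInv_top ρ)
  obtain ⟨c, hc⟩ := card_inv_pow hT2 ρ h3 hfp (commutator T)
    (fun k hk => (hρinv.mem_iff k).mpr hk)
  have hle : Nat.card (commutator T) ≤ Nat.card (center T) :=
    Subgroup.card_le_of_le (commutator_le_center ρ h3 hfp)
  have hle2 : Nat.card (center T) ≤ Nat.card T := Subgroup.card_le_card_group _
  have hne_top : center T ≠ ⊤ := by
    intro htop
    obtain ⟨a, b, hab⟩ := hna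
    apply hab
    have : a ∈ center T := by rw [htop]; trivial
    exact (mem_center_iff.mp this b).symm
  have hne4 : Nat.card T ≠ 4 * Nat.card (center T) := by
    intro h4
    apply hne_top
    rw [eq_top_iff]
    intro y _
    exact comm_of_card_center ρ h3 hfp h4 y
  have hneT : Nat.card (center T) ≠ Nat.card T := by
    intro h
    exact hne_top ((Subgroup.card_eq_iff_eq_top _).mp h)
  rw [hz, hc] at hle
  rw [hz, hn] at hle2 hneT
  rw [hn, hz] at hne4
  rw [hn, hc] at hcard
  rw [hz, hc]
  have h16 : 16 * 2 ^ (2 * c) = 2 ^ (2 * c + 4) := by rw [pow_add]; ring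
  rw [h16] at hcard
  have e1 : 2 * n = 2 * c + 4 := Nat.pow_right_injective (le_refl 2) hcard
  have e2 : 2 * c ≤ 2 * z := (Nat.pow_le_pow_iff_right (by norm_num)).mp hle
  have e3 : 2 * z ≤ 2 * n := (Nat.pow_le_pow_iff_right (by norm_num)).mp hle2
  have e4 : z ≠ n := by
    intro h
    apply hneT
    rw [h]
  have e5 : z + 1 ≠ n := by
    intro h
    apply hne4
    rw [← h]
    rw [show 2 * (z + 1) = 2 * z + 2 by ring, pow_add]
    ring
  have : z = c := by omega
  rw [this]


include hT2 h3 hfp hsq hidx in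
/-- Key lemma: all commutators `⁅u, b⁆` lie in the `ρ`-closure of one nontrivial `⁅u, v⁆`. -/
theorem comm_mem_closure (hna : ∃ a b : T, a * b ≠ b * a) (u v : T) (huv : ⁅u, v⁆ ≠ 1) (b : T) :
    ⁅u, b⁆ ∈ closure ({⁅u, v⁆, ρ ⁅u, v⁆} : Set T) := by
  have hc : ∀ a b : T, ⁅a, b⁆ ∈ center T := comm_mem_center ρ h3 hfp
  set Q : Subgroup T := closure ({⁅u, v⁆, ρ ⁅u, v⁆} : Set T) with hQ
  have hQinv : ∀ k ∈ Q, ρ k ∈ Q := inv_closure_pair ρ h3 hfp _
  have hcQ : ⁅u, v⁆ ∈ Q := subset_closure (by simp)
  let L : Subgroup T :=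
    { carrier := {b | ⁅u, b⁆ ∈ Q}
      one_mem' := by
        change ⁅u, (1 : T)⁆ ∈ Q
        rw [commutatorElement_one_right]
        exact Q.one_mem
      mul_mem' := by
        intro a b ha hb
        change ⁅u, a * b⁆ ∈ Q
        rw [cmul_right hc]
        exact Q.mul_mem ha hb
      inv_mem' := by
        intro a ha
        change ⁅u, a⁻¹⁆ ∈ Q
        rw [cinv_right hc]
        exact Q.inv_mem ha }
  have hLmem : ∀ b, b ∈ L ↔ ⁅u, b⁆ ∈ Q := fun b => Iff.rfl
  have hLinv : ∀ k ∈ L, ρ k ∈ L := by
    intro k hk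
    rw [hLmem] at hk ⊢
    rw [comm_sigma_right ρ h3 hfp]
    exact hQinv _ (hQinv _ hk)
  have hu : u ∉ center T := by
    intro hu
    apply huv
    rw [commutatorElement_eq_one_iff_mul_comm]
    exact (mem_center_iff.mp hu v).symm
  have huL : u ∈ L := by
    rw [hLmem, commutatorElement_self]
    exact Q.one_mem
  have hEL : E ρ u ≤ L := by
    rw [E]
    apply sup_le
    · rw [closure_le]
      intro x hx
      rcases hx with rfl | rfl
      · exact huL
      · exact hLinv _ huL
    · intro z hz
      rw [hLmem]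
      have : ⁅u, z⁆ = 1 := by
        rw [commutatorElement_eq_one_iff_mul_comm]
        exact mem_center_iff.mp hz u
      rw [this]
      exact Q.one_mem
  have hvL : v ∈ L := hcQ
  have hvE : v ∉ E ρ u := by
    intro hv
    apply huv
    rw [commutatorElement_eq_one_iff_mul_comm]
    exact E_comm ρ h3 hfp u u v (mem_E ρ u) hv
  have hlt : E ρ u < L := by
    refine lt_of_le_of_ne hEL ?_
    intro h
    apply hvE
    rw [h]
    exact hvL
  have hcardZ : Nat.card T = 16 * Nat.card (center T) := by
    rw [card_center_eq hT2 ρ h3 hfp hsq hidx hna]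
    exact card_eq_sixteen_mul hsq hidx
  have htop := eq_top_of_index_sixteen hT2 ρ h3 hfp (center T) (E ρ u) L (inv_center ρ)
    (E_inv ρ h3 hfp u) hLinv (center_lt_E ρ u hu) hlt hcardZ
  have : b ∈ L := by rw [htop]; trivial
  exact this

include hT2 h3 hfp hsq hidx in
theorem card_eq_sixty_four (hna : ∃ a b : T, a * b ≠ b * a) : Nat.card T = 64 := by
  have hc : ∀ a b : T, ⁅a, b⁆ ∈ center T := comm_mem_center ρ h3 hfp
  obtain ⟨u, v, huv0⟩ := hna
  have huv : ⁅u, v⁆ ≠ 1 := by
    intro h
    apply huv0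
    exact (commutatorElement_eq_one_iff_mul_comm.mp h)
  have hna : ∃ a b : T, a * b ≠ b * a := ⟨u, v, huv0⟩
  set c0 : T := ⁅u, v⁆ with hc0
  set Q : Subgroup T := closure ({c0, ρ c0} : Set T) with hQ
  have hQinv : ∀ k ∈ Q, ρ k ∈ Q := inv_closure_pair ρ h3 hfp _
  have hcQ : c0 ∈ Q := subset_closure (by simp)
  have hrcQ : ρ c0 ∈ Q := subset_closure (by simp)
  let D : Subgroup T :=
    { carrier := {a | ∀ b, ⁅a, b⁆ ∈ Q}
      one_mem' := by
        intro b
        rw [commutatorElement_one_left]
        exact Q.one_mem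
      mul_mem' := by
        intro a a' ha ha' b
        rw [cmul_left hc]
        exact Q.mul_mem (ha b) (ha' b)
      inv_mem' := by
        intro a ha b
        rw [cinv_left hc]
        exact Q.inv_mem (ha b) }
  have hDmem : ∀ a, a ∈ D ↔ ∀ b, ⁅a, b⁆ ∈ Q := fun a => Iff.rfl
  have hDinv : ∀ k ∈ D, ρ k ∈ D := by
    intro k hk
    rw [hDmem] at hk ⊢
    intro b
    rw [comm_sigma_left ρ h3 hfp]
    exact hQinv _ (hQinv _ (hk b))
  have hu : u ∉ center T := by
    intro hu
    apply huv
    rw [commutatorElement_eq_one_iff_mul_comm]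
    exact (mem_center_iff.mp hu v).symm
  have huD : u ∈ D := by
    rw [hDmem]
    intro b
    exact comm_mem_closure hT2 ρ h3 hfp hsq hidx hna u v huv b
  have hvu : ⁅v, u⁆ = c0⁻¹ := by rw [hc0, commutatorElement_inv]
  have hvD : v ∈ D := by
    rw [hDmem]
    intro b
    have hvu1 : ⁅v, u⁆ ≠ 1 := by
      rw [hvu]
      intro h
      apply huv
      rw [inv_eq_one] at h
      exact h
    have h1 := comm_mem_closure hT2 ρ h3 hfp hsq hidx hna v u hvu1 b
    have hle : closure ({⁅v, u⁆, ρ ⁅v, u⁆} : Set T) ≤ Q := by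
      rw [closure_le]
      intro x hx
      rcases hx with rfl | rfl
      · rw [hvu]; exact Q.inv_mem hcQ
      · rw [hvu, map_inv]; exact Q.inv_mem hrcQ
    exact hle h1
  have hED : E ρ u ≤ D := by
    rw [E]
    apply sup_le
    · rw [closure_le]
      intro x hx
      rcases hx with rfl | rfl
      · exact huD
      · exact hDinv _ huD
    · intro z hz
      rw [hDmem]
      intro b
      have : ⁅z, b⁆ = 1 := by
        rw [commutatorElement_eq_one_iff_mul_comm]
        exact (mem_center_iff.mp hz b).symm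
      rw [this]
      exact Q.one_mem
  have hvE : v ∉ E ρ u := by
    intro hv
    apply huv
    rw [commutatorElement_eq_one_iff_mul_comm]
    exact E_comm ρ h3 hfp u u v (mem_E ρ u) hv
  have hlt : E ρ u < D := by
    refine lt_of_le_of_ne hED ?_
    intro h
    apply hvE
    rw [h]
    exact hvD
  have hcardC := card_eq_sixteen_mul hsq hidx
  have hcardZ : Nat.card T = 16 * Nat.card (center T) := by
    rw [card_center_eq hT2 ρ h3 hfp hsq hidx hna]
    exact hcardC
  have htop := eq_top_of_index_sixteen hT2 ρ h3 hfp (center T) (E ρ u) D (inv_center ρ)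
    (E_inv ρ h3 hfp u) hDinv (center_lt_E ρ u hu) hlt hcardZ
  have hcomle : commutator T ≤ Q := by
    rw [commutator_def, Subgroup.commutator_le]
    intro a _ b _
    have : a ∈ D := by rw [htop]; trivial
    exact this b
  -- the order of `Q` is at most four
  have hQ4 : Nat.card Q ≤ 4 := by
    have hc0Z : c0 ∈ center T := hc u v
    have hrc0Z : ρ c0 ∈ center T := inv_center ρ _ hc0Z
    have hc0sq : c0 ^ 2 = 1 := comm_sq_eq_one ρ h3 hfp hsq u v
    have hrc0sq : (ρ c0) ^ 2 = 1 := by rw [← map_pow, hc0sq, map_one]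
    have hgb := GenBound.card_closure_list_le (⊥ : Subgroup T) [c0, ρ c0]
      (by
        intro y _ z hz
        rw [mem_bot] at hz
        rw [hz, mul_one, one_mul])
      (by
        intro y hy
        rw [mem_bot]
        simp only [List.mem_cons, List.not_mem_nil, or_false] at hy
        rcases hy with rfl | rfl
        · exact hc0sq
        · exact hrc0sq)
      (by
        intro y hy y' _
        rw [mem_bot, commutatorElement_eq_one_iff_mul_comm]
        simp only [List.mem_cons, List.not_mem_nil, or_false] at hy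
        rcases hy with rfl | rfl
        · exact (mem_center_iff.mp hc0Z y').symm
        · exact (mem_center_iff.mp hrc0Z y').symm)
    have hset : {y | y ∈ [c0, ρ c0]} = ({c0, ρ c0} : Set T) := by
      ext y; simp
    rw [hset, sup_bot_eq, Subgroup.card_bot] at hgb
    have := hgb.2
    simpa using this
  have hcomcard : Nat.card (commutator T) ≤ 4 := le_trans (Subgroup.card_le_of_le hcomle) hQ4
  -- the commutator subgroup is not trivial
  have hρinv : AutInv ρ (commutator T) := by
    rw [commutator_def]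
    exact AutInv.commutator (autInv_top ρ) (autInv_top ρ)
  obtain ⟨c, hcc⟩ := card_inv_pow hT2 ρ h3 hfp (commutator T)
    (fun k hk => (hρinv.mem_iff k).mpr hk)
  have hcpos : c ≠ 0 := by
    intro h0
    rw [h0] at hcc
    simp only [mul_zero, pow_zero] at hcc
    have hbot : commutator T = ⊥ := Subgroup.card_eq_one.mp hcc
    apply huv
    have : ⁅u, v⁆ ∈ commutator T := by
      rw [commutator_def]
      exact Subgroup.commutator_mem_commutator (mem_top _) (mem_top _)
    rw [hbot, mem_bot] at this
    exact this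
  have hc1 : c = 1 := by
    rw [hcc] at hcomcard
    have h4 : (4 : ℕ) = 2 ^ 2 := by norm_num
    rw [h4] at hcomcard
    have := (Nat.pow_le_pow_iff_right (by norm_num : 1 < 2)).mp hcomcard
    omega
  rw [hcardC, hcc, hc1]
  norm_num

end sixteen

section mainthm
variable {T : Type*} [Group T] [Finite T] (hT2 : IsPGroup 2 T) (ρ t : MulAut T) (h3 : ρ ^ 3 = 1)
  (hfp : ∀ y : T, ρ y = y → y = 1) (ht2 : ∀ y, t (t y) = y) (htρ : ∀ y, t (ρ y) = ρ (t y))
  (hfix : Nat.card (fixedSub t) ≤ 4)

include hT2 h3 hfp ht2 htρ hfix in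
/-- A finite `2`-group with a fixed-point-free automorphism `ρ` of order three and a commuting
involutory automorphism `t` with at most four fixed points is trivial, elementary abelian of order
sixteen, homocyclic of rank two, or nonabelian of order sixty-four. -/
theorem main :
    Nat.card T = 1 ∨ (Nat.card T = 16 ∧ ∀ y : T, y ^ 2 = 1) ∨
      (∃ n : ℕ, 1 ≤ n ∧
        Nonempty (T ≃* Multiplicative (ZMod (2 ^ n)) × Multiplicative (ZMod (2 ^ n)))) ∨
      (Nat.card T = 64 ∧ ∃ a b : T, a * b ≠ b * a) := by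
  rcases index_Sq_cases hT2 ρ t h3 hfp ht2 hfix with h | h | h
  · exact Or.inl (card_eq_one_of_index_one hT2 h)
  · exact Or.inr (Or.inr (Or.inl (homocyclic_of_index_four hT2 ρ h3 hfp h)))
  · have hsq := sq_mem_commutator hT2 ρ t h3 hfp ht2 htρ hfix h
    by_cases hab : ∀ a b : T, a * b = b * a
    · exact Or.inr (Or.inl (abelian_case hsq h hab))
    · push Not at hab
      exact Or.inr (Or.inr (Or.inr ⟨card_eq_sixty_four hT2 ρ h3 hfp hsq h hab, hab⟩))

end mainthm

end Cfsg.Agent.Lib.Helper98.TwoRhoT
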