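import Cfsg.Agent.Lib.Helper98.ThreeInvH
import Cfsg.Agent.Lib.Helper98.TwoRhoT16

/-!
# `2`-groups with exactly three involutions and a fixed-point-free automorphism of order three

Such a group is homocyclic of rank two or nonabelian of order `64`.
-/

set_option autoImplicit false
set_option linter.unusedSimpArgs false
set_option linter.style.haveILetI false
set_option linter.unusedSectionVars false

namespace Cfsg.Agent.Lib.Helper98.ThreeInv

open Subgroup
open scoped commutatorElement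
open Cfsg.Agent.Lib.Helper98.TwoAux
open Cfsg.Agent.Lib.Helper98.Fpf3
open Cfsg.Agent.Lib.Helper98.Fpf64
open Cfsg.Agent.Lib.Helper98.TwoRhoT
open Cfsg.Agent.Lib.Helper1

section classtwo
variable {T : Type*} [Group T] (hc : ∀ a b : T, ⁅a, b⁆ ∈ center T)

include hc in
theorem sq_mul_of_class_two (a b : T) : (a * b) ^ 2 = a ^ 2 * b ^ 2 * ⁅b, a⁆ := by
  have hk : ∀ g, g * ⁅b, a⁆ = ⁅b, a⁆ * g := mem_center_iff.mp (hc b a)
  have h1 : b * a = ⁅b, a⁆ * a * b := by rw [commutatorElement_def]; group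
  calc (a * b) ^ 2 = a * (b * a) * b := by rw [pow_two]; group
    _ = a * (⁅b, a⁆ * a * b) * b := by rw [h1]
    _ = a * ⁅b, a⁆ * (a * b * b) := by group
    _ = ⁅b, a⁆ * a * (a * b * b) := by rw [hk a]
    _ = ⁅b, a⁆ * (a ^ 2 * b ^ 2) := by rw [pow_two, pow_two]; group
    _ = a ^ 2 * b ^ 2 * ⁅b, a⁆ := (hk _).symm

include hc in
theorem comm_sq_of_class_two (a b : T) : ⁅a, b⁆ ^ 2 = ⁅a ^ 2, b⁆ := by
  rw [pow_two, pow_two, cmul_left hc]

end classtwo

section general
variable {T : Type*} [Group T] [Finite T] (hT2 : IsPGroup 2 T) (ρ : MulAut T) (h3 : ρ ^ 3 = 1)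
  (hfp : ∀ y : T, ρ y = y → y = 1)

include hT2 h3 hfp in
theorem exists_gen_of_index_four (h : (Sq T).index = 4) :
    ∃ x : T, x ∉ Sq T ∧ closure ({x, ρ x} : Set T) = ⊤ := by
  have hne : Sq T ≠ ⊤ := by
    intro htop
    rw [htop, Subgroup.index_top] at h
    omega
  obtain ⟨x, hx⟩ : ∃ x, x ∉ Sq T := by
    by_contra hcon
    push Not at hcon
    exact hne (eq_top_iff.mpr fun y _ => hcon y)
  set K : Subgroup T := closure {x, ρ x} with hK
  have hxK : x ∈ K := subset_closure (by simp)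
  have hL : ∀ k ∈ K ⊔ Sq T, ρ k ∈ K ⊔ Sq T :=
    inv_sup ρ _ _ (inv_closure_pair ρ h3 hfp x) (Sq_map ρ)
  have hlt : Sq T < K ⊔ Sq T := by
    refine lt_of_le_of_ne le_sup_right ?_
    intro heq
    apply hx
    rw [heq]
    exact mem_sup_left hxK
  have hcard : Nat.card T = 4 * Nat.card (Sq T) := by
    have := Subgroup.card_mul_index (Sq T)
    rw [h] at this
    omega
  have htop := eq_top_of_index_four hT2 ρ h3 hfp (Sq T) (K ⊔ Sq T) (Sq_map ρ) hL hlt hcard
  exact ⟨x, hx, eq_top_of_sup_Sq hT2 K htop⟩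

include hT2 h3 hfp in
/-- The Frattini index is `1`, `4` or at least `16`. -/
theorem index_Sq_cases' : (Sq T).index = 1 ∨ (Sq T).index = 4 ∨ 16 ≤ (Sq T).index := by
  obtain ⟨a, ha⟩ := card_inv_pow hT2 ρ h3 hfp (Sq T) (Sq_map ρ)
  obtain ⟨b, hb⟩ := card_top_pow hT2 ρ h3 hfp
  have h1 := Subgroup.card_mul_index (Sq T)
  rw [ha, hb] at h1
  have hab : a ≤ b := by
    have : Nat.card (Sq T) ≤ Nat.card T := Subgroup.card_le_card_group _
    rw [ha, hb] at this
    have := (Nat.pow_le_pow_iff_right (by norm_num : 1 < 2)).mp this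
    omega
  have h2 : (Sq T).index = 2 ^ (2 * (b - a)) := by
    have e : (2 : ℕ) ^ (2 * b) = 2 ^ (2 * a) * 2 ^ (2 * (b - a)) := by
      rw [← pow_add]; congr 1; omega
    rw [e] at h1
    exact Nat.eq_of_mul_eq_mul_left (by positivity) h1
  rw [h2]
  rcases Nat.lt_or_ge (b - a) 2 with hlt | hge
  · have hcases : b - a = 0 ∨ b - a = 1 := by omega
    rcases hcases with h | h <;> rw [h] <;> norm_num
  · right; right
    calc 16 = 2 ^ (2 * 2) := by norm_num
      _ ≤ 2 ^ (2 * (b - a)) := Nat.pow_le_pow_right (by norm_num) (by omega)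

end general

section main
variable {T : Type*} [Group T] [Finite T] (hT2 : IsPGroup 2 T) (Z0 : Subgroup T)
  (hZ0 : ∀ x, x ∈ Z0 ↔ x ^ 2 = 1) (hZ04 : Nat.card Z0 = 4)
  (ρ : MulAut T) (hmove : ∀ z ∈ Z0, z ≠ 1 → ρ z ≠ z) (h3 : ρ ^ 3 = 1)

include hT2 hZ0 hmove in
theorem fpf_of_move : ∀ y : T, ρ y = y → y = 1 := by
  intro y hy
  by_contra hy1
  obtain ⟨m, hm2, hm1⟩ := exists_involution_pow hT2 y hy1
  apply hmove (y ^ m) ((hZ0 _).mpr hm2) hm1
  rw [map_pow, hy]

include hT2 hZ0 hZ04 hmove h3 in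
theorem abelian_case' (hab : ∀ a b : T, a * b = b * a) :
    ∃ n : ℕ, 1 ≤ n ∧
      Nonempty (T ≃* Multiplicative (ZMod (2 ^ n)) × Multiplicative (ZMod (2 ^ n))) := by
  have hfp := fpf_of_move hT2 Z0 hZ0 ρ hmove
  have hidx : (Sq T).index = 4 := by rw [index_Sq_of_comm hab Z0 hZ0, hZ04]
  exact homocyclic_of_index_four hT2 ρ h3 hfp hidx

include hT2 hZ0 hZ04 hmove h3 in
/-- In the nonabelian case the centre has exponent two. -/
theorem center_sq (hna : ∃ a b : T, a * b ≠ b * a) : ∀ s ∈ center T, s ^ 2 = 1 := by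
  have hfp := fpf_of_move hT2 Z0 hZ0 ρ hmove
  have hc : ∀ a b : T, ⁅a, b⁆ ∈ center T := comm_mem_center ρ h3 hfp
  by_contra hcon
  push Not at hcon
  obtain ⟨s0, hs0Z, hs0⟩ := hcon
  -- the centre contains the involutions
  have hZb : center T ≠ ⊥ := by
    intro hbot
    rw [hbot, mem_bot] at hs0Z
    apply hs0
    rw [hs0Z, one_pow]
  have hZ0Z : Z0 ≤ center T := Z0_le_of_inv hT2 Z0 hZ0 hZ04 ρ hmove _ (inv_center ρ) hZb
  -- the centre as an abelian group
  have hcommZ : ∀ a b : ↥(center T), a * b = b * a := by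
    intro a b
    apply Subtype.ext
    exact (mem_center_iff.mp b.2 (a : T))
  have hΩ : ∀ a : ↥(center T), a ∈ Z0.subgroupOf (center T) ↔ a ^ 2 = 1 := by
    intro a
    rw [mem_subgroupOf, hZ0, Subtype.ext_iff]
    rfl
  have hidxZ : (Sq ↥(center T)).index = 4 := by
    rw [index_Sq_of_comm hcommZ _ hΩ, Nat.card_congr (Subgroup.subgroupOfEquivOfLe hZ0Z).toEquiv,
      hZ04]
  -- the squares of central elements
  set Z2 : Subgroup T := (Sq ↥(center T)).map (center T).subtype with hZ2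
  have hZ2mem : ∀ y, y ∈ Z2 ↔ ∃ s ∈ center T, y = s ^ 2 := by
    intro y
    constructor
    · rintro ⟨a, ha, rfl⟩
      obtain ⟨b, rfl⟩ := (mem_Sq_iff_of_comm hcommZ a).mp ha
      exact ⟨(b : T), b.2, rfl⟩
    · rintro ⟨s, hs, rfl⟩
      exact ⟨⟨s, hs⟩ ^ 2, (mem_Sq_iff_of_comm hcommZ _).mpr ⟨⟨s, hs⟩, rfl⟩, rfl⟩
  have hZ2inv : ∀ k ∈ Z2, ρ k ∈ Z2 := by
    intro k hk
    obtain ⟨s, hs, rfl⟩ := (hZ2mem k).mp hk
    rw [hZ2mem]
    exact ⟨ρ s, inv_center ρ s hs, map_pow ρ s 2⟩
  have hZ2b : Z2 ≠ ⊥ := by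
    intro hbot
    have : s0 ^ 2 ∈ Z2 := (hZ2mem _).mpr ⟨s0, hs0Z, rfl⟩
    rw [hbot, mem_bot] at this
    exact hs0 this
  have hZ0Z2 : Z0 ≤ Z2 := Z0_le_of_inv hT2 Z0 hZ0 hZ04 ρ hmove Z2 hZ2inv hZ2b
  -- elements whose square is the square of a central element are central
  have hstar : ∀ x : T, x ^ 2 ∈ Z2 → x ∈ center T := by
    intro x hx
    obtain ⟨s, hs, hxs⟩ := (hZ2mem _).mp hx
    have hcs : Commute x s⁻¹ := (mem_center_iff.mp ((center T).inv_mem hs) x)
    have h1 : (x * s⁻¹) ^ 2 = 1 := by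
      rw [hcs.mul_pow, inv_pow, hxs, mul_inv_cancel]
    have h2 : x * s⁻¹ ∈ center T := hZ0Z ((hZ0 _).mpr h1)
    have : x = x * s⁻¹ * s := by group
    rw [this]
    exact (center T).mul_mem h2 hs
  -- commutators with elements whose square is central are involutions
  have hU : ∀ x y : T, x ^ 2 ∈ center T → ⁅x, y⁆ ∈ Z0 := by
    intro x y hx
    rw [hZ0, comm_sq_of_class_two hc, commutatorElement_eq_one_iff_mul_comm]
    exact (mem_center_iff.mp hx y).symm
  -- the quotient by the centre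
  have hQcomm : ∀ a b : T ⧸ center T, a * b = b * a := by
    intro a b
    induction a using QuotientGroup.induction_on with
    | H a =>
      induction b using QuotientGroup.induction_on with
      | H b =>
        rw [← QuotientGroup.mk_mul, ← QuotientGroup.mk_mul, QuotientGroup.eq]
        have : (a * b)⁻¹ * (b * a) = ⁅b⁻¹, a⁻¹⁆ := by rw [commutatorElement_def]; group
        rw [this]
        exact hc _ _
  let ΩQ : Subgroup (T ⧸ center T) :=
    { carrier := {w | w ^ 2 = 1}
      mul_mem' := by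
        intro a b ha hb
        change (a * b) ^ 2 = 1
        rw [Commute.mul_pow (hQcomm a b), ha, hb, one_mul]
      one_mem' := one_pow 2
      inv_mem' := by
        intro a ha
        change a⁻¹ ^ 2 = 1
        rw [inv_pow, ha, inv_one] }
  have hΩQ : ∀ w, w ∈ ΩQ ↔ w ^ 2 = 1 := fun w => Iff.rfl
  have hout : ∀ q : ΩQ, ((q : T ⧸ center T).out) ^ 2 ∈ center T := by
    intro q
    have h1 : ((q : T ⧸ center T)) ^ 2 = 1 := q.2
    rw [← QuotientGroup.out_eq' (q : T ⧸ center T), ← QuotientGroup.mk_pow,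
      QuotientGroup.eq_one_iff] at h1
    exact h1
  let f : ΩQ → (↥(center T) ⧸ Sq ↥(center T)) := fun q =>
    QuotientGroup.mk ⟨((q : T ⧸ center T).out) ^ 2, hout q⟩
  have hf : Function.Injective f := by
    intro q q' hqq'
    have h1 : (⟨((q : T ⧸ center T).out) ^ 2, hout q⟩ : ↥(center T))⁻¹ *
        ⟨((q' : T ⧸ center T).out) ^ 2, hout q'⟩ ∈ Sq ↥(center T) := QuotientGroup.eq.mp hqq'
    set x := (q : T ⧸ center T).out with hx
    set x' := (q' : T ⧸ center T).out with hx'
    have h2 : (x ^ 2)⁻¹ * x' ^ 2 ∈ Z2 := ⟨_, h1, rfl⟩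
    have h3 : (x⁻¹ * x') ^ 2 ∈ Z2 := by
      rw [sq_mul_of_class_two hc, inv_pow]
      exact Z2.mul_mem h2 (hZ0Z2 (hU x' x⁻¹ (hout q')))
    have h4 : x⁻¹ * x' ∈ center T := hstar _ h3
    apply Subtype.ext
    rw [← QuotientGroup.out_eq' (q : T ⧸ center T), ← QuotientGroup.out_eq' (q' : T ⧸ center T)]
    exact QuotientGroup.eq.mpr h4
  have hΩQcard : Nat.card ΩQ ≤ 4 := by
    have := Nat.card_le_card_of_injective f hf
    rw [← Subgroup.index_eq_card, hidxZ] at this
    exact this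
  have hidxQ : (Sq (T ⧸ center T)).index ≤ 4 := by
    rw [index_Sq_of_comm hQcomm ΩQ hΩQ]; exact hΩQcard
  -- the induced automorphism
  have hρinv : AutInv ρ (center T) := autInv_of_forall_mem ρ _ (inv_center ρ)
  set ρq : MulAut (T ⧸ center T) := quotAut ρ (center T) hρinv with hρq
  have hq3 : ρq ^ 3 = 1 := quotAut_pow_eq_one ρ _ hρinv 3 h3
  have hqfp : ∀ w : T ⧸ center T, ρq w = w → w = 1 := by
    intro w hw
    induction w using QuotientGroup.induction_on with
    | H y =>
      rw [hρq, quotAut_mk] at hw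
      have h1 : y⁻¹ * ρ y ∈ center T := QuotientGroup.eq.mp hw.symm
      have h2 := mem_of_psi_mem ρ hfp (center T) (inv_center ρ) y h1
      exact (QuotientGroup.eq_one_iff y).mpr h2
  have h2q : IsPGroup 2 (T ⧸ center T) := hT2.to_quotient _
  obtain ⟨a, b, hab⟩ := hna
  have hanc : a ∉ center T := by
    intro ha
    exact hab (mem_center_iff.mp ha b).symm
  rcases index_Sq_cases' h2q ρq hq3 hqfp with h | h | h
  · have h1 := card_eq_one_of_index_one h2q h
    have h2 : (QuotientGroup.mk a : T ⧸ center T) = 1 := by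
      haveI : Subsingleton (T ⧸ center T) := (Nat.card_eq_one_iff_unique.mp h1).1
      exact Subsingleton.elim _ _
    exact hanc ((QuotientGroup.eq_one_iff a).mp h2)
  · obtain ⟨w, hw, hgen⟩ := exists_gen_of_index_four h2q ρq hq3 hqfp h
    induction w using QuotientGroup.induction_on with
    | H y =>
      have hyc : y ∉ center T := by
        intro hy
        apply hw
        rw [(QuotientGroup.eq_one_iff y).mpr hy]
        exact (Sq _).one_mem
      apply E_ne_top ρ h3 hfp y hyc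
      rw [eq_top_iff]
      intro g _
      have hg : (QuotientGroup.mk g : T ⧸ center T) ∈ closure ({(QuotientGroup.mk y : T ⧸ center T),
          ρq (QuotientGroup.mk y)} : Set (T ⧸ center T)) := by rw [hgen]; trivial
      have himg : closure ({(QuotientGroup.mk y : T ⧸ center T), ρq (QuotientGroup.mk y)} :
          Set (T ⧸ center T)) = (closure ({y, ρ y} : Set T)).map (QuotientGroup.mk' (center T)) := by
        rw [MonoidHom.map_closure, hρq, quotAut_mk]
        congr 1
        ext z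
        simp [Set.image_pair]
      rw [himg] at hg
      obtain ⟨k, hk, hkg⟩ := hg
      have h5 : k⁻¹ * g ∈ center T := QuotientGroup.eq.mp hkg
      have : g = k * (k⁻¹ * g) := by group
      rw [this, E]
      exact mul_mem (mem_sup_left hk) (mem_sup_right h5)
  · omega

include hT2 hZ0 hZ04 hmove h3 in
/-- In the nonabelian case the group has order `64`. -/
theorem card_eq_sixty_four' (hna : ∃ a b : T, a * b ≠ b * a) : Nat.card T = 64 := by
  have hfp := fpf_of_move hT2 Z0 hZ0 ρ hmove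
  have hc : ∀ a b : T, ⁅a, b⁆ ∈ center T := comm_mem_center ρ h3 hfp
  have hZsq := center_sq hT2 Z0 hZ0 hZ04 ρ hmove h3 hna
  obtain ⟨a, b, hab⟩ := hna
  have hnc : ∀ y : T, ¬ (∀ g : T, g ∈ center T) := by
    intro _ hall
    exact hab (mem_center_iff.mp (hall a) b).symm
  have hZb : center T ≠ ⊥ := by
    intro hbot
    have h1 : ⁅a, b⁆ ∈ center T := hc a b
    rw [hbot, mem_bot, commutatorElement_eq_one_iff_mul_comm] at h1
    exact hab h1
  have hZ0Z : Z0 ≤ center T := Z0_le_of_inv hT2 Z0 hZ0 hZ04 ρ hmove _ (inv_center ρ) hZb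
  have hZle : center T ≤ Z0 := fun s hs => (hZ0 s).mpr (hZsq s hs)
  have hZeq : center T = Z0 := le_antisymm hZle hZ0Z
  have hZ4 : Nat.card (center T) = 4 := by rw [hZeq]; exact hZ04
  have hsq : ∀ x : T, x ^ 2 ∈ center T := by
    intro x
    rw [mem_center_iff]
    intro g
    have h1 : ⁅x ^ 2, g⁆ = 1 := by
      rw [← comm_sq_of_class_two hc]
      exact hZsq _ (hc x g)
    exact (commutatorElement_eq_one_iff_mul_comm.mp h1).symm
  have hinv : ∀ x : T, x ^ 2 = 1 → x ∈ center T := fun x hx => hZ0Z ((hZ0 x).mpr hx)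
  have hlt := Aniso.card_lt (center T) le_rfl hZ4 hZsq hsq hinv
  obtain ⟨j, hj⟩ := card_top_pow hT2 ρ h3 hfp
  have hj3 : j ≤ 3 := by
    by_contra hgt
    push Not at hgt
    have : 2 ^ (2 * 4) ≤ 2 ^ (2 * j) := Nat.pow_le_pow_right (by norm_num) (by omega)
    rw [hj] at hlt
    omega
  have hall_of_top : center T = ⊤ → False := by
    intro htop
    apply hnc 1
    intro g
    rw [htop]; trivial
  interval_cases j
  · exfalso
    apply hall_of_top
    rw [← Subgroup.card_eq_iff_eq_top]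
    have := Subgroup.card_le_card_group (center T)
    have hpos : 0 < Nat.card (center T) := Nat.card_pos
    norm_num at hj
    omega
  · exfalso
    apply hall_of_top
    rw [← Subgroup.card_eq_iff_eq_top, hZ4, hj]
    norm_num
  · exfalso
    apply hnc 1
    intro g
    apply comm_of_card_center ρ h3 hfp _ g
    rw [hZ4, hj]
    norm_num
  · rw [hj]
    norm_num

end main

end Cfsg.Agent.Lib.Helper98.ThreeInv
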