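import Cfsg.Agent.Lib.Helper98.Fpf3Class
import Cfsg.Agent.Lib.Helper98.AbE16
import Cfsg.Agent.Lib.Helper98.Homocyclic
import Cfsg.Agent.Lib.Helper98.Fpf64C
import Cfsg.Agent.Lib.Helper98.Fpf64X
import Cfsg.Agent.Lib.Helper98.GenBound

/-!
# `2`-groups with commuting automorphisms `ρ` (fixed-point-free of order three) and `t`
(an involution with at most four fixed points): counting lemmas
-/

set_option autoImplicit false
set_option linter.unusedSimpArgs false
set_option linter.style.haveILetI false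
set_option linter.unusedSectionVars false

namespace Cfsg.Agent.Lib.Helper98.TwoRhoT

open Subgroup
open scoped commutatorElement
open Cfsg.Agent.Lib.Helper98.Fpf3
open Cfsg.Agent.Lib.Helper98.Fpf64
open Cfsg.Agent.Lib.Helper98.TwoAux
open Cfsg.Agent.Lib.Helper1

theorem two_pow_mod_three (k : ℕ) : 2 ^ k % 3 = 1 ↔ Even k := by
  constructor
  · intro h
    by_contra hodd
    rw [Nat.not_even_iff_odd] at hodd
    obtain ⟨j, rfl⟩ := hodd
    have : 2 ^ (2 * j + 1) % 3 = 2 := by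
      rw [pow_succ, pow_mul, Nat.mul_mod, Nat.pow_mod]
      norm_num
    rw [this] at h
    norm_num at h
  · rintro ⟨j, rfl⟩
    rw [← two_mul, pow_mul, Nat.pow_mod]
    norm_num

section general
variable {T : Type*} [Group T] [Finite T] (hT2 : IsPGroup 2 T) (ρ : MulAut T) (h3 : ρ ^ 3 = 1)
  (hfp : ∀ y : T, ρ y = y → y = 1)

include hT2 h3 hfp in
/-- The order of a `ρ`-invariant subgroup is a power of four. -/
theorem card_inv_pow (K : Subgroup T) (hK : ∀ k ∈ K, ρ k ∈ K) :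
    ∃ j : ℕ, Nat.card K = 2 ^ (2 * j) := by
  haveI : Fact (Nat.Prime 2) := ⟨Nat.prime_two⟩
  obtain ⟨k, hk⟩ := IsPGroup.iff_card.mp (hT2.to_subgroup K)
  have hmod := card_mod_three ρ h3 K hK hfp
  rw [hk] at hmod
  obtain ⟨j, rfl⟩ := (two_pow_mod_three k).mp hmod
  exact ⟨j, by rw [hk, two_mul]⟩

include hT2 h3 hfp in
theorem card_top_pow : ∃ j : ℕ, Nat.card T = 2 ^ (2 * j) := by
  obtain ⟨j, hj⟩ := card_inv_pow hT2 ρ h3 hfp ⊤ (fun k _ => mem_top _)
  rw [Subgroup.card_top] at hj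
  exact ⟨j, hj⟩

include hT2 h3 hfp in
/-- Between a `ρ`-invariant subgroup of index four and the group there is nothing. -/
theorem eq_top_of_index_four (N L : Subgroup T) (hN : ∀ k ∈ N, ρ k ∈ N) (hL : ∀ k ∈ L, ρ k ∈ L)
    (hNL : N < L) (hidx : Nat.card T = 4 * Nat.card N) : L = ⊤ := by
  obtain ⟨a, ha⟩ := card_inv_pow hT2 ρ h3 hfp N hN
  obtain ⟨b, hb⟩ := card_inv_pow hT2 ρ h3 hfp L hL
  have h1 : Nat.card N < Nat.card L := by
    by_contra hge
    push Not at hge
    exact hNL.ne (Subgroup.eq_of_le_of_card_ge hNL.le hge)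
  have h2 : Nat.card L ≤ Nat.card T := Subgroup.card_le_card_group L
  rw [← Subgroup.card_eq_iff_eq_top]
  rw [ha, hb] at h1
  rw [hidx, ha, hb] at h2
  have hab : 2 * a < 2 * b := (Nat.pow_lt_pow_iff_right (by norm_num)).mp h1
  have h4 : 4 * 2 ^ (2 * a) = 2 ^ (2 * a + 2) := by rw [pow_add]; ring
  rw [h4] at h2
  have hba : 2 * b ≤ 2 * a + 2 := (Nat.pow_le_pow_iff_right (by norm_num)).mp h2
  have : b = a + 1 := by omega
  rw [hidx, ha, hb, h4, this]
  congr 1

include hT2 h3 hfp in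
/-- A chain `N < E < L` of `ρ`-invariant subgroups with `|T : N| = 16` ends at the top. -/
theorem eq_top_of_index_sixteen (N E L : Subgroup T) (hN : ∀ k ∈ N, ρ k ∈ N)
    (hE : ∀ k ∈ E, ρ k ∈ E) (hL : ∀ k ∈ L, ρ k ∈ L)
    (hNE : N < E) (hEL : E < L) (hidx : Nat.card T = 16 * Nat.card N) : L = ⊤ := by
  obtain ⟨a, ha⟩ := card_inv_pow hT2 ρ h3 hfp N hN
  obtain ⟨e, he⟩ := card_inv_pow hT2 ρ h3 hfp E hE
  obtain ⟨b, hb⟩ := card_inv_pow hT2 ρ h3 hfp L hL
  have h1 : Nat.card N < Nat.card E := by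
    by_contra hge
    push Not at hge
    exact hNE.ne (Subgroup.eq_of_le_of_card_ge hNE.le hge)
  have h1' : Nat.card E < Nat.card L := by
    by_contra hge
    push Not at hge
    exact hEL.ne (Subgroup.eq_of_le_of_card_ge hEL.le hge)
  have h2 : Nat.card L ≤ Nat.card T := Subgroup.card_le_card_group L
  rw [← Subgroup.card_eq_iff_eq_top]
  rw [ha, he] at h1
  rw [he, hb] at h1'
  rw [hidx, ha, hb] at h2
  have hae : 2 * a < 2 * e := (Nat.pow_lt_pow_iff_right (by norm_num)).mp h1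
  have heb : 2 * e < 2 * b := (Nat.pow_lt_pow_iff_right (by norm_num)).mp h1'
  have h4 : 16 * 2 ^ (2 * a) = 2 ^ (2 * a + 4) := by rw [pow_add]; ring
  rw [h4] at h2
  have hba : 2 * b ≤ 2 * a + 4 := (Nat.pow_le_pow_iff_right (by norm_num)).mp h2
  have : b = a + 2 := by omega
  rw [hidx, ha, hb, h4, this]
  congr 1

end general

end Cfsg.Agent.Lib.Helper98.TwoRhoT
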