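import Mathlib

/-!
# Elements of order five acting on 2-groups: counting lemmas

Abstract lemmas used for the recognition of the involution centraliser of `PSU₃(4)` (S1903).
-/

set_option autoImplicit false
set_option linter.unusedSimpArgs false
set_option linter.style.haveILetI false

namespace Cfsg.Agent.Lib.Helper98.U320

open Subgroup
open scoped commutatorElement

/-- Orbit counting for conjugation by an element with `r ^ 5 = 1` on an invariant finite subgroup. -/
theorem card_fixed_modEq {H : Type*} [Group H] (K : Subgroup H) [Finite K] (r : H) (hr : r ^ 5 = 1)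
    (hinv : ∀ k ∈ K, r * k * r⁻¹ ∈ K) :
    Nat.card K ≡ Nat.card {k : K // r * (k : H) * r⁻¹ = k} [MOD 5] := by
  classical
  haveI := Fintype.ofFinite K
  haveI : Fact (Nat.Prime 5) := ⟨by norm_num⟩
  let f : Function.End K := fun k => ⟨r * k * r⁻¹, hinv k k.2⟩
  have hpow : ∀ n : ℕ, ∀ k : K, (((f ^ n) k : K) : H) = r ^ n * k * (r ^ n)⁻¹ := by
    intro n
    induction n with
    | zero => intro k; rw [pow_zero]; change ((k : K) : H) = _; simp
    | succ n ih =>
      intro k
      rw [pow_succ]
      change (((f ^ n) (f k) : K) : H) = _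
      rw [ih (f k)]
      change r ^ n * (r * k * r⁻¹) * (r ^ n)⁻¹ = _
      rw [pow_succ]; group
  have hf : f ^ 5 ^ 1 = 1 := by
    funext k
    apply Subtype.ext
    change (((f ^ 5 ^ 1) k : K) : H) = (k : H)
    rw [pow_one, hpow 5 k, hr]
    simp
  have h1 := Equiv.Perm.card_fixedPoints_modEq (p := 5) (n := 1) hf
  have h2 : Fintype.card (Function.fixedPoints f) = Nat.card {k : K // r * (k : H) * r⁻¹ = k} := by
    rw [← Nat.card_eq_fintype_card]
    apply Nat.card_congr
    refine Equiv.subtypeEquivRight ?_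
    intro k
    rw [Function.mem_fixedPoints, Function.IsFixedPt]
    constructor
    · intro h; exact congrArg Subtype.val h
    · intro h; exact Subtype.ext h
  rw [h2, ← Nat.card_eq_fintype_card] at h1
  exact h1

/-- Fixed-point-free case. -/
theorem card_mod_five {H : Type*} [Group H] (K : Subgroup H) [Finite K] (r : H) (hr : r ^ 5 = 1)
    (hinv : ∀ k ∈ K, r * k * r⁻¹ ∈ K) (hfix : ∀ k ∈ K, r * k = k * r → k = 1) :
    Nat.card K % 5 = 1 := by
  have h1 := card_fixed_modEq K r hr hinv
  have h2 : Nat.card {k : K // r * (k : H) * r⁻¹ = k} = 1 := by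
    rw [Nat.card_eq_one_iff_unique]
    refine ⟨⟨?_⟩, ⟨⟨1, by simp⟩⟩⟩
    rintro ⟨a, ha⟩ ⟨b, hb⟩
    have ha' : a = 1 := by
      apply Subtype.ext
      apply hfix a a.2
      calc r * (a : H) = r * a * r⁻¹ * r := by group
        _ = a * r := by rw [ha]
    have hb' : b = 1 := by
      apply Subtype.ext
      apply hfix b b.2
      calc r * (b : H) = r * b * r⁻¹ * r := by group
        _ = b * r := by rw [hb]
    exact Subtype.ext (ha'.trans hb'.symm)
  rw [h2] at h1
  exact h1

/-- An element with `r ^ 5 = 1` normalising a subgroup of order four centralises it. -/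
theorem centralizes_of_card_four {H : Type*} [Group H] (K : Subgroup H) (hK : Nat.card K = 4) (r : H)
    (hr : r ^ 5 = 1) (hinv : ∀ k ∈ K, r * k * r⁻¹ ∈ K) : ∀ k ∈ K, r * k = k * r := by
  haveI : Finite K := Nat.finite_of_card_ne_zero (by rw [hK]; norm_num)
  have h1 := card_fixed_modEq K r hr hinv
  rw [hK] at h1
  have h2 : Nat.card {k : K // r * (k : H) * r⁻¹ = k} ≤ 4 := by
    rw [← hK]
    exact Nat.card_le_card_of_injective _ Subtype.val_injective
  have h3 : 0 < Nat.card {k : K // r * (k : H) * r⁻¹ = k} := by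
    haveI : Nonempty {k : K // r * (k : H) * r⁻¹ = k} := ⟨⟨1, by simp⟩⟩
    exact Nat.card_pos
  have h4 : Nat.card {k : K // r * (k : H) * r⁻¹ = k} = 4 := by
    have : 4 % 5 = Nat.card {k : K // r * (k : H) * r⁻¹ = k} % 5 := h1
    omega
  have h5 : Function.Bijective (Subtype.val : {k : K // r * (k : H) * r⁻¹ = k} → K) := by
    rw [Nat.bijective_iff_injective_and_card]
    exact ⟨Subtype.val_injective, by rw [h4, hK]⟩
  intro k hk
  obtain ⟨⟨k', hk'⟩, hk''⟩ := h5.2 ⟨k, hk⟩
  have : r * k * r⁻¹ = k := by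
    have h6 : k' = ⟨k, hk⟩ := hk''
    rw [h6] at hk'
    exact hk'
  calc r * k = r * k * r⁻¹ * r := by group
    _ = k * r := by rw [this]

/-- If `H = A⟨r⟩` with `A` abelian normal and `A ≤ H'`, then `r` acts fixed-point-freely on `A`. -/
theorem fpf_of_commutator {H : Type*} [Group H] [Finite H] (A : Subgroup H) [hAn : A.Normal]
    (hA : ∀ a ∈ A, ∀ b ∈ A, a * b = b * a) (r : H) (hgen : A ⊔ zpowers r = ⊤)
    (hcomm : A ≤ commutator H) : ∀ a ∈ A, r * a = a * r → a = 1 := by
  have hconj : ∀ a ∈ A, r * a * r⁻¹ ∈ A := fun a ha => hAn.conj_mem a ha r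
  let φ : A →* A :=
    { toFun := fun a => ⟨r * a * r⁻¹ * (a : H)⁻¹, A.mul_mem (hconj a a.2) (A.inv_mem a.2)⟩
      map_one' := by apply Subtype.ext; simp
      map_mul' := by
        intro a b
        apply Subtype.ext
        change r * (a * b) * r⁻¹ * ((a : H) * b)⁻¹ = (r * a * r⁻¹ * (a : H)⁻¹) * (r * b * r⁻¹ * (b : H)⁻¹)
        have h1 : (a : H)⁻¹ * (r * b * r⁻¹) = (r * b * r⁻¹) * (a : H)⁻¹ :=
          hA _ (A.inv_mem a.2) _ (hconj b b.2)
        have h2 : (b : H)⁻¹ * (a : H)⁻¹ = (a : H)⁻¹ * (b : H)⁻¹ :=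
          hA _ (A.inv_mem b.2) _ (A.inv_mem a.2)
        calc r * (a * b) * r⁻¹ * ((a : H) * b)⁻¹
            = (r * a * r⁻¹) * ((r * b * r⁻¹) * ((b : H)⁻¹ * (a : H)⁻¹)) := by group
          _ = (r * a * r⁻¹) * ((r * b * r⁻¹) * ((a : H)⁻¹ * (b : H)⁻¹)) := by rw [h2]
          _ = (r * a * r⁻¹) * (((r * b * r⁻¹) * (a : H)⁻¹) * (b : H)⁻¹) := by group
          _ = (r * a * r⁻¹) * (((a : H)⁻¹ * (r * b * r⁻¹)) * (b : H)⁻¹) := by rw [h1]
          _ = (r * a * r⁻¹ * (a : H)⁻¹) * (r * b * r⁻¹ * (b : H)⁻¹) := by group }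
  have hφ : ∀ a : A, ((φ a : A) : H) = r * a * r⁻¹ * (a : H)⁻¹ := fun a => rfl
  set M : Subgroup H := φ.range.map A.subtype with hM
  have hMA : M ≤ A := by
    rw [hM]
    intro y hy
    obtain ⟨z, _, rfl⟩ := hy
    exact z.2
  have hmemM : ∀ y : H, y ∈ M ↔ ∃ a : A, y = r * a * r⁻¹ * (a : H)⁻¹ := by
    intro y
    rw [hM]
    constructor
    · rintro ⟨z, ⟨a, rfl⟩, rfl⟩
      exact ⟨a, rfl⟩
    · rintro ⟨a, rfl⟩
      exact ⟨φ a, ⟨a, rfl⟩, rfl⟩
  haveI : Finite M := inferInstance
  have hAN : A ≤ normalizer (M : Set H) := by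
    intro a ha
    apply Subgroup.mem_normalizer_fintype
    intro n hn
    have hn' : n ∈ M := hn
    have : a * n * a⁻¹ = n := by
      rw [hA a ha n (hMA hn')]; group
    rw [this]; exact hn
  have hrN : r ∈ normalizer (M : Set H) := by
    apply Subgroup.mem_normalizer_fintype
    intro n hn
    have hn' : n ∈ M := hn
    obtain ⟨a, rfl⟩ := (hmemM n).mp hn'
    apply (hmemM _).mpr
    refine ⟨⟨r * a * r⁻¹, hconj a a.2⟩, ?_⟩
    change r * (r * a * r⁻¹ * (a : H)⁻¹) * r⁻¹ = r * (r * a * r⁻¹) * r⁻¹ * (r * a * r⁻¹)⁻¹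
    group
  haveI hMn : M.Normal := by
    rw [← Subgroup.normalizer_eq_top_iff]
    apply top_le_iff.mp
    rw [← hgen]
    apply sup_le hAN
    rw [zpowers_le]; exact hrN
  -- the quotient is commutative
  let π := QuotientGroup.mk' M
  have hπM : ∀ m ∈ M, π m = 1 := fun m hm => (QuotientGroup.eq_one_iff m).mpr hm
  have hra : ∀ a ∈ A, π (r * a) = π (a * r) := by
    intro a ha
    have h1 : r * a = (r * a * r⁻¹ * a⁻¹) * (a * r) := by group
    rw [h1, map_mul, hπM _ ((hmemM _).mpr ⟨⟨a, ha⟩, rfl⟩), one_mul]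
  have hcen : ∀ g : H, π g ∈ center (H ⧸ M) := by
    have h1 : (⊤ : Subgroup H) ≤ (center (H ⧸ M)).comap π := by
      rw [← hgen]
      apply sup_le
      · intro a ha
        rw [mem_comap, mem_center_iff]
        have h2 : (⊤ : Subgroup H) ≤ (centralizer {π a}).comap π := by
          rw [← hgen]
          apply sup_le
          · intro b hb
            rw [mem_comap, mem_centralizer_iff]
            intro y hy
            rw [Set.mem_singleton_iff] at hy
            subst hy
            rw [← map_mul, ← map_mul, hA a ha b hb]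
          · rw [zpowers_le, mem_comap, mem_centralizer_iff]
            intro y hy
            rw [Set.mem_singleton_iff] at hy
            subst hy
            rw [← map_mul, ← map_mul, hra a ha]
        intro q
        obtain ⟨h, rfl⟩ := QuotientGroup.mk'_surjective M q
        have h3 := h2 (mem_top h)
        rw [mem_comap, mem_centralizer_iff] at h3
        exact (h3 (π a) rfl).symm
      · rw [zpowers_le, mem_comap, mem_center_iff]
        have h2 : (⊤ : Subgroup H) ≤ (centralizer {π r}).comap π := by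
          rw [← hgen]
          apply sup_le
          · intro b hb
            rw [mem_comap, mem_centralizer_iff]
            intro y hy
            rw [Set.mem_singleton_iff] at hy
            subst hy
            rw [← map_mul, ← map_mul, hra b hb]
          · rw [zpowers_le, mem_comap, mem_centralizer_iff]
            intro y hy
            rw [Set.mem_singleton_iff] at hy
            subst hy
            rfl
        intro q
        obtain ⟨h, rfl⟩ := QuotientGroup.mk'_surjective M q
        have h3 := h2 (mem_top h)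
        rw [mem_comap, mem_centralizer_iff] at h3
        exact (h3 (π r) rfl).symm
    intro g
    exact h1 (mem_top g)
  have hQcomm : ∀ u v : H ⧸ M, u * v = v * u := by
    intro u v
    obtain ⟨g, rfl⟩ := QuotientGroup.mk'_surjective M u
    have := hcen g
    rw [mem_center_iff] at this
    exact (this v).symm
  letI : CommGroup (H ⧸ M) := { (inferInstance : Group (H ⧸ M)) with mul_comm := hQcomm }
  have hker : commutator H ≤ M := by
    have h1 := Abelianization.commutator_subset_ker (QuotientGroup.mk' M)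
    rwa [QuotientGroup.ker_mk'] at h1
  have hsurj : Function.Surjective φ := by
    intro a
    have h1 : (a : H) ∈ M := hker (hcomm a.2)
    obtain ⟨b, hb⟩ := (hmemM _).mp h1
    exact ⟨b, Subtype.ext (by rw [hφ, ← hb])⟩
  have hinj : Function.Injective φ := Finite.injective_iff_surjective.mpr hsurj
  intro a ha hra'
  have h1 : φ ⟨a, ha⟩ = 1 := by
    apply Subtype.ext
    rw [hφ]
    change r * a * r⁻¹ * a⁻¹ = 1
    rw [hra']; group
  have h2 : (⟨a, ha⟩ : A) = 1 := hinj (by rw [h1, map_one])
  exact congrArg Subtype.val h2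

end Cfsg.Agent.Lib.Helper98.U320
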