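import Mathlib
import Cfsg.Agent.Lib.Helper98.GenBound

/-!
# The defining relations of the group `2^{2+4} : 5` (involution centraliser of `PSU₃(4)`)

`Rel x r c1 c2` packages a set of relations; `Rel.card_closure_le` shows that any group generated by
`x` and `r` subject to them has order at most `320`.
-/

set_option autoImplicit false
set_option linter.unusedSimpArgs false
set_option linter.style.haveILetI false

namespace Cfsg.Agent.Lib.Helper98.U320

open Subgroup
open scoped commutatorElement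

/-- The conjugate of `x` by `r ^ i`. -/
def X {H : Type*} [Group H] (x r : H) (i : ℕ) : H := r ^ i * x * (r ^ i)⁻¹

structure Rel {H : Type*} [Group H] (x r c1 c2 : H) : Prop where
  r5 : r ^ 5 = 1
  c1sq : c1 ^ 2 = 1
  c2sq : c2 ^ 2 = 1
  c12 : c1 * c2 = c2 * c1
  rc1 : r * c1 = c1 * r
  rc2 : r * c2 = c2 * r
  xc1 : x * c1 = c1 * x
  xc2 : x * c2 = c2 * x
  xsq : x ^ 2 = c1 * c2
  comm1 : ⁅x, X x r 1⁆ = c1
  comm2 : ⁅x, X x r 2⁆ = c2
  prod : X x r 0 * X x r 1 * X x r 2 * X x r 3 * X x r 4 = 1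

section basic
variable {H : Type*} [Group H] (x r : H)

theorem X_zero : X x r 0 = x := by simp [X]

theorem conj_pow_X (k i : ℕ) : r ^ k * X x r i * (r ^ k)⁻¹ = X x r (i + k) := by
  unfold X
  rw [show i + k = k + i by ring, pow_add]
  group

theorem conj_X (i : ℕ) : r * X x r i * r⁻¹ = X x r (i + 1) := by
  have := conj_pow_X x r 1 i
  simpa using this

theorem X_add_five (hr : r ^ 5 = 1) (i : ℕ) : X x r (i + 5) = X x r i := by
  unfold X
  rw [pow_add, hr, mul_one]

theorem X_mod (hr : r ^ 5 = 1) (i : ℕ) : X x r i = X x r (i % 5) := by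
  induction i using Nat.strong_induction_on with
  | _ i ih =>
    by_cases h : i < 5
    · rw [Nat.mod_eq_of_lt h]
    · push Not at h
      obtain ⟨j, rfl⟩ : ∃ j, i = j + 5 := ⟨i - 5, by omega⟩
      rw [X_add_five x r hr, ih j (by omega), Nat.add_mod_right]

theorem comm_conj_pow (k i j : ℕ) :
    r ^ k * ⁅X x r i, X x r j⁆ * (r ^ k)⁻¹ = ⁅X x r (i + k), X x r (j + k)⁆ := by
  rw [← conj_pow_X x r k i, ← conj_pow_X x r k j]
  simp only [commutatorElement_def]
  group

end basic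

theorem Rel.prod_mk {G M : Type*} [Group G] [Group M] {x r c1 c2 : G} {x' r' c1' c2' : M}
    (h : Rel x r c1 c2) (h' : Rel x' r' c1' c2') :
    Rel ((x, x') : G × M) (r, r') (c1, c1') (c2, c2') := by
  have hX : ∀ i, X ((x, x') : G × M) (r, r') i = (X x r i, X x' r' i) := by
    intro i
    simp [X]
  constructor
  · exact Prod.ext h.r5 h'.r5
  · exact Prod.ext h.c1sq h'.c1sq
  · exact Prod.ext h.c2sq h'.c2sq
  · exact Prod.ext h.c12 h'.c12
  · exact Prod.ext h.rc1 h'.rc1
  · exact Prod.ext h.rc2 h'.rc2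
  · exact Prod.ext h.xc1 h'.xc1
  · exact Prod.ext h.xc2 h'.xc2
  · exact Prod.ext h.xsq h'.xsq
  · rw [hX]
    exact Prod.ext h.comm1 h'.comm1
  · rw [hX]
    exact Prod.ext h.comm2 h'.comm2
  · simp only [hX]
    exact Prod.ext h.prod h'.prod

section bound
variable {H : Type*} [Group H] {x r c1 c2 : H}

/-- The subgroup generated by `c1, c2`. -/
def D0 (c1 c2 : H) : Subgroup H := closure {y | y ∈ [c1, c2]}

theorem Rel.c1_mem (_h : Rel x r c1 c2) : c1 ∈ D0 c1 c2 := subset_closure (by simp)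
theorem Rel.c2_mem (_h : Rel x r c1 c2) : c2 ∈ D0 c1 c2 := subset_closure (by simp)

theorem Rel.D0_finite_card (h : Rel x r c1 c2) :
    Finite (D0 c1 c2) ∧ Nat.card (D0 c1 c2) ≤ 4 := by
  have h1 := GenBound.card_closure_list_le (⊥ : Subgroup H) [c1, c2]
    (by intro y _ z hz; rw [mem_bot] at hz; subst hz; simp)
    (by
      intro y hy
      simp only [List.mem_cons, List.not_mem_nil, or_false] at hy
      rcases hy with rfl | rfl
      · rw [h.c1sq]; exact one_mem _
      · rw [h.c2sq]; exact one_mem _)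
    (by
      intro y hy y' hy'
      simp only [List.mem_cons, List.not_mem_nil, or_false] at hy hy'
      rw [mem_bot, commutatorElement_eq_one_iff_mul_comm]
      rcases hy with rfl | rfl <;> rcases hy' with rfl | rfl
      · rfl
      · exact h.c12
      · exact h.c12.symm
      · rfl)
  have h2 : closure {y | y ∈ [c1, c2]} ⊔ (⊥ : Subgroup H) = D0 c1 c2 := by
    rw [sup_bot_eq]; rfl
  rw [h2] at h1
  refine ⟨h1.1, le_trans h1.2 ?_⟩
  simp

theorem Rel.D0_comm_r (h : Rel x r c1 c2) : ∀ z ∈ D0 c1 c2, r * z = z * r := by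
  have h1 : D0 c1 c2 ≤ centralizer {r} := by
    unfold D0
    rw [closure_le]
    intro y hy
    simp only [Set.mem_ofPred_eq, List.mem_cons, List.not_mem_nil, or_false] at hy
    rw [SetLike.mem_coe, mem_centralizer_iff]
    intro g hg
    rw [Set.mem_singleton_iff] at hg
    subst hg
    rcases hy with rfl | rfl
    · exact h.rc1
    · exact h.rc2
  intro z hz
  exact (mem_centralizer_iff.mp (h1 hz)) r rfl

theorem Rel.D0_comm_x (h : Rel x r c1 c2) : ∀ z ∈ D0 c1 c2, x * z = z * x := by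
  have h1 : D0 c1 c2 ≤ centralizer {x} := by
    unfold D0
    rw [closure_le]
    intro y hy
    simp only [Set.mem_ofPred_eq, List.mem_cons, List.not_mem_nil, or_false] at hy
    rw [SetLike.mem_coe, mem_centralizer_iff]
    intro g hg
    rw [Set.mem_singleton_iff] at hg
    subst hg
    rcases hy with rfl | rfl
    · exact h.xc1
    · exact h.xc2
  intro z hz
  exact (mem_centralizer_iff.mp (h1 hz)) x rfl

theorem Rel.D0_comm_rpow (h : Rel x r c1 c2) (k : ℕ) : ∀ z ∈ D0 c1 c2, r ^ k * z = z * r ^ k := by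
  intro z hz
  have h1 : Commute r z := h.D0_comm_r z hz
  exact (h1.pow_left k)

theorem Rel.D0_comm_X (h : Rel x r c1 c2) (i : ℕ) : ∀ z ∈ D0 c1 c2, X x r i * z = z * X x r i := by
  intro z hz
  have h1 : Commute (r ^ i) z := h.D0_comm_rpow i z hz
  have h2 : Commute x z := h.D0_comm_x z hz
  have h3 : Commute ((r ^ i)⁻¹) z := h1.inv_left
  exact ((h1.mul_left h2).mul_left h3)

theorem Rel.conj_pow_D0 (h : Rel x r c1 c2) (k : ℕ) (z : H) (hz : z ∈ D0 c1 c2) :
    r ^ k * z * (r ^ k)⁻¹ = z := by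
  rw [h.D0_comm_rpow k z hz]; group

theorem Rel.X_sq (h : Rel x r c1 c2) (i : ℕ) : X x r i ^ 2 = c1 * c2 := by
  have h1 : X x r i ^ 2 = r ^ i * x ^ 2 * (r ^ i)⁻¹ := by
    unfold X; rw [pow_two, pow_two]; group
  rw [h1, h.xsq]
  exact h.conj_pow_D0 i _ (mul_mem h.c1_mem h.c2_mem)

theorem Rel.comm_x_X (h : Rel x r c1 c2) (k : ℕ) : ⁅x, X x r k⁆ ∈ D0 c1 c2 := by
  rw [X_mod x r h.r5 k]
  have hk : k % 5 < 5 := Nat.mod_lt _ (by norm_num)
  have h3 : ⁅X x r 2, X x r 5⁆ = r ^ 2 * ⁅x, X x r 3⁆ * (r ^ 2)⁻¹ := by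
    have := comm_conj_pow x r 2 0 3
    rw [X_zero] at this
    rw [this]
  have h4 : ⁅X x r 1, X x r 5⁆ = r ^ 1 * ⁅x, X x r 4⁆ * (r ^ 1)⁻¹ := by
    have := comm_conj_pow x r 1 0 4
    rw [X_zero] at this
    rw [this]
  have hX5 : X x r 5 = x := by
    have := X_add_five x r h.r5 0
    simpa [X_zero] using this
  interval_cases (k % 5)
  · rw [X_zero, commutatorElement_self]; exact one_mem _
  · rw [h.comm1]; exact h.c1_mem
  · rw [h.comm2]; exact h.c2_mem
  · rw [hX5, ← commutatorElement_inv, h.comm2] at h3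
    have h5 : ⁅x, X x r 3⁆ = (r ^ 2)⁻¹ * c2⁻¹ * r ^ 2 := by
      rw [h3]; group
    rw [h5]
    have h6 := h.conj_pow_D0 2 c2⁻¹ (inv_mem h.c2_mem)
    have h7 : (r ^ 2)⁻¹ * c2⁻¹ * r ^ 2 = c2⁻¹ := by
      calc (r ^ 2)⁻¹ * c2⁻¹ * r ^ 2 = (r ^ 2)⁻¹ * (r ^ 2 * c2⁻¹ * (r ^ 2)⁻¹) * r ^ 2 := by rw [h6]
        _ = c2⁻¹ := by group
    rw [h7]; exact inv_mem h.c2_mem
  · rw [hX5, ← commutatorElement_inv, h.comm1] at h4
    have h5 : ⁅x, X x r 4⁆ = (r ^ 1)⁻¹ * c1⁻¹ * r ^ 1 := by
      rw [h4]; group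
    rw [h5]
    have h6 := h.conj_pow_D0 1 c1⁻¹ (inv_mem h.c1_mem)
    have h7 : (r ^ 1)⁻¹ * c1⁻¹ * r ^ 1 = c1⁻¹ := by
      calc (r ^ 1)⁻¹ * c1⁻¹ * r ^ 1 = (r ^ 1)⁻¹ * (r ^ 1 * c1⁻¹ * (r ^ 1)⁻¹) * r ^ 1 := by rw [h6]
        _ = c1⁻¹ := by group
    rw [h7]; exact inv_mem h.c1_mem

theorem Rel.comm_X_X (h : Rel x r c1 c2) (i j : ℕ) : ⁅X x r i, X x r j⁆ ∈ D0 c1 c2 := by
  -- wlog i ≤ j
  have key : ∀ i k : ℕ, ⁅X x r i, X x r (i + k)⁆ ∈ D0 c1 c2 := by
    intro i k
    have h1 := comm_conj_pow x r i 0 k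
    rw [X_zero, zero_add, add_comm k i] at h1
    rw [← h1, h.conj_pow_D0 i _ (h.comm_x_X k)]
    exact h.comm_x_X k
  rcases le_total i j with hij | hij
  · obtain ⟨k, rfl⟩ := Nat.exists_eq_add_of_le hij
    exact key i k
  · obtain ⟨k, rfl⟩ := Nat.exists_eq_add_of_le hij
    rw [← commutatorElement_inv]
    exact inv_mem (key j k)

/-- Any group generated by `x, r` subject to `Rel` has order at most `320`. -/
theorem Rel.card_closure_le (h : Rel x r c1 c2) :
    Finite ↥(closure ({x, r} : Set H)) ∧ Nat.card ↥(closure ({x, r} : Set H)) ≤ 320 := by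
  obtain ⟨hfin0, hcard0⟩ := h.D0_finite_card
  set l : List H := [X x r 0, X x r 1, X x r 2, X x r 3] with hl
  have hmem : ∀ y ∈ l, ∃ i, y = X x r i := by
    intro y hy
    simp only [hl, List.mem_cons, List.not_mem_nil, or_false] at hy
    rcases hy with rfl | rfl | rfl | rfl
    exacts [⟨0, rfl⟩, ⟨1, rfl⟩, ⟨2, rfl⟩, ⟨3, rfl⟩]
  have h1 := GenBound.card_closure_list_le (D0 c1 c2) l
    (by
      intro y hy z hz
      obtain ⟨i, rfl⟩ := hmem y hy
      exact h.D0_comm_X i z hz)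
    (by
      intro y hy
      obtain ⟨i, rfl⟩ := hmem y hy
      rw [h.X_sq]
      exact mul_mem h.c1_mem h.c2_mem)
    (by
      intro y hy y' hy'
      obtain ⟨i, rfl⟩ := hmem y hy
      obtain ⟨j, rfl⟩ := hmem y' hy'
      exact h.comm_X_X i j)
  set K := closure {y | y ∈ l} ⊔ D0 c1 c2 with hK
  obtain ⟨hfinK, hcardK⟩ := h1
  have hcardK' : Nat.card K ≤ 64 := by
    calc Nat.card K ≤ 2 ^ l.length * Nat.card (D0 c1 c2) := hcardK
      _ ≤ 2 ^ 4 * 4 := by
        have : l.length = 4 := by simp [hl]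
        rw [this]
        exact Nat.mul_le_mul_left _ hcard0
      _ = 64 := by norm_num
  have hXK : ∀ i, i < 4 → X x r i ∈ K := by
    intro i hi
    apply le_sup_left (a := closure {y | y ∈ l})
    apply Subgroup.subset_closure
    change X x r i ∈ l
    interval_cases i <;> simp [hl]
  have hD0K : D0 c1 c2 ≤ K := le_sup_right
  have hX4 : X x r 4 ∈ K := by
    have h2 : X x r 4 = (X x r 0 * X x r 1 * X x r 2 * X x r 3)⁻¹ :=
      eq_inv_of_mul_eq_one_right h.prod
    rw [h2]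
    exact inv_mem (mul_mem (mul_mem (mul_mem (hXK 0 (by norm_num)) (hXK 1 (by norm_num)))
      (hXK 2 (by norm_num))) (hXK 3 (by norm_num)))
  have hnorm : ∀ k ∈ K, r * k * r⁻¹ ∈ K := by
    have h2 : K ≤ K.comap (MulAut.conj r).toMonoidHom := by
      rw [hK]
      apply sup_le
      · rw [closure_le]
        intro s hs
        obtain ⟨i, rfl⟩ := hmem s hs
        change r * X x r i * r⁻¹ ∈ K
        rw [conj_X]
        have hs' : X x r i ∈ l := hs
        simp only [hl, List.mem_cons, List.not_mem_nil, or_false] at hs'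
        -- i could be anything with X x r i equal to one of the four; use the value instead
        rcases hs' with h0 | h0 | h0 | h0
        · rw [← conj_X, h0, conj_X]; exact hXK 1 (by norm_num)
        · rw [← conj_X, h0, conj_X]; exact hXK 2 (by norm_num)
        · rw [← conj_X, h0, conj_X]; exact hXK 3 (by norm_num)
        · rw [← conj_X, h0, conj_X]; exact hX4
      · intro z hz
        change r * z * r⁻¹ ∈ K
        have := h.conj_pow_D0 1 z hz
        rw [pow_one] at this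
        rw [this]
        exact hD0K hz
    intro k hk
    exact h2 hk
  have hpow : r ^ 5 ∈ K := by rw [h.r5]; exact one_mem _
  obtain ⟨hfin2, hcard2⟩ := GenBound.card_sup_zpowers_le K r 5 (by norm_num) hnorm hpow
  have hle : closure ({x, r} : Set H) ≤ K ⊔ zpowers r := by
    rw [closure_le]
    intro y hy
    rcases hy with rfl | hy
    · have := hXK 0 (by norm_num)
      rw [X_zero] at this
      exact le_sup_left (a := K) this
    · rw [Set.mem_singleton_iff] at hy
      subst hy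
      exact le_sup_right (a := K) (mem_zpowers _)
  have hinj : Function.Injective (Subgroup.inclusion hle) := Subgroup.inclusion_injective hle
  refine ⟨Finite.of_injective _ hinj, ?_⟩
  calc Nat.card ↥(closure ({x, r} : Set H)) ≤ Nat.card ↥(K ⊔ zpowers r) :=
        Nat.card_le_card_of_injective _ hinj
    _ ≤ 5 * Nat.card K := hcard2
    _ ≤ 5 * 64 := Nat.mul_le_mul_left _ hcardK'
    _ = 320 := by norm_num

end bound

end Cfsg.Agent.Lib.Helper98.U320
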