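import Mathlib
import Cfsg.Agent.Lib.Helper98.U320Fpf
import Cfsg.Agent.Lib.Helper98.U320Rel

/-!
# A fixed-point-free element of order five on an abelian group of order sixteen
-/

set_option autoImplicit false
set_option linter.unusedSimpArgs false
set_option linter.style.haveILetI false

namespace Cfsg.Agent.Lib.Helper98.U320

open Subgroup
open scoped commutatorElement

section e16
variable {H : Type*} [Group H] (A : Subgroup H) [hAn : A.Normal] (hA16 : Nat.card A = 16)
  (hA : ∀ a ∈ A, ∀ b ∈ A, a * b = b * a) (r : H) (hr : r ^ 5 = 1)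
  (hfix : ∀ a ∈ A, r * a = a * r → a = 1)

omit hAn in
include hA16 hr hfix in
theorem sub16 (K : Subgroup H) (hKA : K ≤ A) (hinv : ∀ k ∈ K, r * k * r⁻¹ ∈ K) (hne : K ≠ ⊥) :
    K = A := by
  haveI : Finite A := Nat.finite_of_card_ne_zero (by rw [hA16]; norm_num)
  haveI : Finite K := Finite.of_injective _ (Subgroup.inclusion_injective hKA)
  have h1 := card_mod_five K r hr hinv (fun k hk => hfix k (hKA hk))
  have h2 : Nat.card K ∣ 16 := by rw [← hA16]; exact Subgroup.card_dvd_of_le hKA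
  have h3 : Nat.card K ≠ 1 := by
    intro h; exact hne (Subgroup.card_eq_one.mp h)
  obtain ⟨k, hk, hk'⟩ := (Nat.dvd_prime_pow Nat.prime_two).mp (show Nat.card K ∣ 2 ^ 4 by simpa using h2)
  have h4 : Nat.card K = 16 := by
    rw [hk'] at h1 h3 ⊢
    interval_cases k <;> simp_all
  exact Subgroup.eq_of_le_of_card_ge hKA (by rw [h4, hA16])

include hA16 hA hr hfix in
theorem e16_sq : ∀ a ∈ A, a ^ 2 = 1 := by
  haveI : Finite A := Nat.finite_of_card_ne_zero (by rw [hA16]; norm_num)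
  let K : Subgroup H :=
    { carrier := {a | a ∈ A ∧ a ^ 2 = 1}
      mul_mem' := by
        rintro a b ⟨ha, ha2⟩ ⟨hb, hb2⟩
        refine ⟨A.mul_mem ha hb, ?_⟩
        have : Commute a b := hA a ha b hb
        rw [this.mul_pow, ha2, hb2, one_mul]
      one_mem' := ⟨A.one_mem, by simp⟩
      inv_mem' := by
        rintro a ⟨ha, ha2⟩
        exact ⟨A.inv_mem ha, by rw [inv_pow, ha2, inv_one]⟩ }
  have hKA : K ≤ A := fun a ha => ha.1
  have hinv : ∀ k ∈ K, r * k * r⁻¹ ∈ K := by
    rintro k ⟨hk, hk2⟩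
    refine ⟨hAn.conj_mem k hk r, ?_⟩
    have : (r * k * r⁻¹) ^ 2 = r * k ^ 2 * r⁻¹ := by rw [pow_two, pow_two]; group
    rw [this, hk2]; group
  have hne : K ≠ ⊥ := by
    have : Fact (Nat.Prime 2) := ⟨Nat.prime_two⟩
    obtain ⟨a, ha⟩ := exists_prime_orderOf_dvd_card' (G := A) 2 (by rw [hA16]; norm_num)
    intro hbot
    have h1 : (a : H) ∈ K := by
      refine ⟨a.2, ?_⟩
      have : a ^ 2 = 1 := by rw [← ha]; exact pow_orderOf_eq_one a
      have := congrArg Subtype.val this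
      simpa using this
    rw [hbot, mem_bot] at h1
    have h2 : a = 1 := Subtype.ext h1
    rw [h2, orderOf_one] at ha
    norm_num at ha
  have hK := sub16 A hA16 r hr hfix K hKA hinv hne
  intro a ha
  have : a ∈ K := by rw [hK]; exact ha
  exact this.2

include hA16 hr hfix in
theorem e16_gen (a : H) (ha : a ∈ A) (ha1 : a ≠ 1) :
    A = closure {y | ∃ i : ℕ, y = X a r i} := by
  set K := closure {y | ∃ i : ℕ, y = X a r i} with hK
  have hKA : K ≤ A := by
    rw [hK, closure_le]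
    rintro y ⟨i, rfl⟩
    exact hAn.conj_mem a ha _
  have hinv : ∀ k ∈ K, r * k * r⁻¹ ∈ K := by
    have h1 : K ≤ K.comap (MulAut.conj r).toMonoidHom := by
      rw [hK, closure_le]
      rintro y ⟨i, rfl⟩
      change r * X a r i * r⁻¹ ∈ closure {y | ∃ i : ℕ, y = X a r i}
      rw [conj_X]
      exact subset_closure ⟨i + 1, rfl⟩
    intro k hk
    exact h1 hk
  have hne : K ≠ ⊥ := by
    intro hbot
    have : a ∈ K := subset_closure ⟨0, by rw [X_zero]⟩
    rw [hbot, mem_bot] at this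
    exact ha1 this
  exact (sub16 A hA16 r hr hfix K hKA hinv hne).symm

include hA hr hfix in
theorem e16_prod (a : H) (ha : a ∈ A) :
    X a r 0 * X a r 1 * X a r 2 * X a r 3 * X a r 4 = 1 := by
  have hX : ∀ i, X a r i ∈ A := fun i => hAn.conj_mem a ha _
  set P := X a r 0 * X a r 1 * X a r 2 * X a r 3 * X a r 4 with hP
  have hPA : P ∈ A := by
    rw [hP]
    exact A.mul_mem (A.mul_mem (A.mul_mem (A.mul_mem (hX 0) (hX 1)) (hX 2)) (hX 3)) (hX 4)
  apply hfix P hPA
  have h1 : r * P * r⁻¹ = X a r 1 * X a r 2 * X a r 3 * X a r 4 * X a r 0 := by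
    have h5 : X a r (4 + 1) = X a r 0 := X_add_five a r hr 0
    have e : r * P * r⁻¹ = (r * X a r 0 * r⁻¹) * (r * X a r 1 * r⁻¹) * (r * X a r 2 * r⁻¹) *
        (r * X a r 3 * r⁻¹) * (r * X a r 4 * r⁻¹) := by rw [hP]; group
    rw [e, conj_X, conj_X, conj_X, conj_X, conj_X, h5]
  have h2 : X a r 1 * X a r 2 * X a r 3 * X a r 4 * X a r 0 = P := by
    rw [hP]
    have := hA (X a r 1 * X a r 2 * X a r 3 * X a r 4)
      (A.mul_mem (A.mul_mem (A.mul_mem (hX 1) (hX 2)) (hX 3)) (hX 4)) (X a r 0) (hX 0)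
    rw [this]; group
  rw [h2] at h1
  calc r * P = r * P * r⁻¹ * r := by group
    _ = P * r := by rw [h1]

end e16

end Cfsg.Agent.Lib.Helper98.U320
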