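import Mathlib
import Cfsg.Agent.Lib.Helper98.U320E16
import Cfsg.Agent.Lib.Helper9.PGroupLemmas

/-!
# Structure of a group of order 320 with derived subgroup of order 64 having Klein four centre
-/

set_option autoImplicit false
set_option linter.unusedSimpArgs false
set_option linter.style.haveILetI false

namespace Cfsg.Agent.Lib.Helper98.U320

open Subgroup
open scoped commutatorElement

/-- The structural facts extracted from the hypotheses of S1903; `T = G'`, `T' = [T,T]`. -/
structure Struct (G : Type*) [Group G] (r : G) : Prop where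
  r5 : r ^ 5 = 1
  gen : commutator G ⊔ zpowers r = ⊤
  card' : Nat.card ↥(⁅commutator G, commutator G⁆) = 4
  le : ⁅commutator G, commutator G⁆ ≤ commutator G
  ne : ⁅commutator G, commutator G⁆ ≠ commutator G
  fix : ∀ t ∈ commutator G, r * t = t * r → t ∈ ⁅commutator G, commutator G⁆
  sq : ∀ t ∈ commutator G, t ^ 2 ∈ ⁅commutator G, commutator G⁆
  cen : ∀ z ∈ ⁅commutator G, commutator G⁆, ∀ t ∈ commutator G, t * z = z * t
  sq' : ∀ z ∈ ⁅commutator G, commutator G⁆, z ^ 2 = 1
  rcen : ∀ z ∈ ⁅commutator G, commutator G⁆, r * z = z * r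
  span : ∀ x ∈ commutator G, x ∉ ⁅commutator G, commutator G⁆ →
    commutator G ≤ closure {y | ∃ i : ℕ, y = X x r i} ⊔ ⁅commutator G, commutator G⁆
  prod : ∀ x ∈ commutator G,
    X x r 0 * X x r 1 * X x r 2 * X x r 3 * X x r 4 ∈ ⁅commutator G, commutator G⁆
  selfcen : ∀ n : G, (∀ t ∈ commutator G, n * t = t * n) → n ∈ commutator G
  meet : ∀ N : Subgroup G, N.Normal → N ⊓ commutator G ≠ ⊥ →
    ∃ z ∈ N, z ≠ 1 ∧ z ∈ ⁅commutator G, commutator G⁆

theorem arith_aux (a b : ℕ) (h : a * b = 64) (hm : a % 5 = 1) (hb : b ≠ 64) : a = 16 ∧ b = 4 := by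
  have h1 : a ≤ 64 := Nat.le_of_dvd (by norm_num) ⟨b, h.symm⟩
  interval_cases a <;> omega

theorem exists_struct {G : Type*} [Group G] [Finite G] (hG : Nat.card G = 320)
    (hD : Nat.card (commutator G) = 64) (hZ : IsKleinFour (center (commutator G))) :
    ∃ r : G, Struct G r := by
  classical
  haveI : Fact (Nat.Prime 2) := ⟨Nat.prime_two⟩
  haveI : Fact (Nat.Prime 5) := ⟨by norm_num⟩
  set T : Subgroup G := commutator G with hTdef
  have hTn : T.Normal := inferInstance
  obtain ⟨r, hr⟩ := exists_prime_orderOf_dvd_card' (G := G) 5 (by rw [hG]; norm_num)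
  have hr5 : r ^ 5 = 1 := by rw [← hr]; exact pow_orderOf_eq_one r
  have hgen : T ⊔ zpowers r = ⊤ := by
    rw [← Subgroup.card_eq_iff_eq_top, hG]
    have h1 : 64 ∣ Nat.card ↥(T ⊔ zpowers r) := by
      rw [← hD]; exact Subgroup.card_dvd_of_le le_sup_left
    have h2 : 5 ∣ Nat.card ↥(T ⊔ zpowers r) := by
      rw [← hr, ← Nat.card_zpowers]; exact Subgroup.card_dvd_of_le le_sup_right
    have h3 : Nat.card ↥(T ⊔ zpowers r) ∣ 320 := by
      rw [← hG]; exact Subgroup.card_subgroup_dvd_card _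
    have h4 : 64 * 5 ∣ Nat.card ↥(T ⊔ zpowers r) :=
      Nat.Coprime.mul_dvd_of_dvd_of_dvd (by norm_num) h1 h2
    exact Nat.dvd_antisymm h3 h4
  set T' : Subgroup G := ⁅T, T⁆ with hT'def
  have hT'n : T'.Normal := by rw [hT'def]; infer_instance
  have hT'T : T' ≤ T := Subgroup.commutator_le_left T T
  have hT2 : IsPGroup 2 T := IsPGroup.of_card (n := 6) (by rw [hD]; norm_num)
  have hT'ne : T' ≠ T := by
    intro h
    haveI : Nontrivial T := by
      rw [← Finite.one_lt_card_iff_nontrivial, hD]; norm_num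
    haveI : Group.IsNilpotent T := hT2.isNilpotent
    have h1 := Group.IsSolvable.commutator_lt_top_of_nontrivial T
    have h2 : (commutator T).map T.subtype = T' := by
      rw [commutator_def, Subgroup.map_commutator, ← MonoidHom.range_eq_map, Subgroup.range_subtype]
    have h3 : (commutator T).map T.subtype = (⊤ : Subgroup T).map T.subtype := by
      rw [h2, h, ← MonoidHom.range_eq_map, Subgroup.range_subtype]
    have h4 := Subgroup.map_injective (Subgroup.subtype_injective T) h3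
    rw [h4] at h1
    exact lt_irrefl _ h1
  -- the quotient by T'
  let π := QuotientGroup.mk' T'
  have hπs : Function.Surjective π := QuotientGroup.mk'_surjective T'
  have hπ1 : ∀ g, π g = 1 ↔ g ∈ T' := fun g => QuotientGroup.eq_one_iff g
  set A1 : Subgroup (G ⧸ T') := T.map π with hA1
  haveI hA1n : A1.Normal := Subgroup.Normal.map hTn π hπs
  have hA1comm : ∀ a ∈ A1, ∀ b ∈ A1, a * b = b * a := by
    rintro _ ⟨s, hs, rfl⟩ _ ⟨t, ht, rfl⟩
    rw [← map_mul, ← map_mul]
    apply (QuotientGroup.eq).mpr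
    have : (s * t)⁻¹ * (t * s) = ⁅t⁻¹, s⁻¹⁆ := by rw [commutatorElement_def]; group
    rw [this]
    exact Subgroup.commutator_mem_commutator (T.inv_mem ht) (T.inv_mem hs)
  have hgen1 : A1 ⊔ zpowers (π r) = ⊤ := by
    rw [hA1, ← MonoidHom.map_zpowers, ← Subgroup.map_sup, hgen, Subgroup.map_top_of_surjective π hπs]
  have hcomm1 : A1 ≤ commutator (G ⧸ T') := by
    rw [commutator_def, ← Subgroup.map_top_of_surjective π hπs, ← Subgroup.map_commutator,
      ← commutator_def]
  have hfpf1 := fpf_of_commutator A1 hA1comm (π r) hgen1 hcomm1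
  have hr1 : (π r) ^ 5 = 1 := by rw [← map_pow, hr5, map_one]
  -- cardinalities
  have hidx : T.index = 5 := by
    have := T.card_mul_index
    rw [hD, hG] at this
    omega
  have hA1idx : A1.index = 5 := by
    rw [hA1, Subgroup.index_map_eq T hπs (by rw [QuotientGroup.ker_mk']; exact hT'T), hidx]
  have hcardQ : Nat.card (G ⧸ T') * Nat.card T' = 320 := by
    rw [← hG]; exact (Subgroup.card_eq_card_quotient_mul_card_subgroup T').symm
  have hcardA1 : Nat.card A1 * 5 = Nat.card (G ⧸ T') := by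
    rw [← hA1idx]; exact A1.card_mul_index
  have h64 : Nat.card A1 * Nat.card T' = 64 := by
    rw [← hcardA1] at hcardQ
    nlinarith
  have hmod := card_mod_five A1 (π r) hr1 (fun k hk => hA1n.conj_mem k hk _) hfpf1
  have hT'card64 : Nat.card T' ≠ 64 := by
    intro h
    exact hT'ne (Subgroup.eq_of_le_of_card_ge hT'T (by rw [h, hD]))
  have hcards : Nat.card A1 = 16 ∧ Nat.card T' = 4 := arith_aux _ _ h64 hmod hT'card64
  obtain ⟨hA116, hT'4⟩ := hcards
  -- consequences in the quotient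
  have he1 := e16_sq A1 hA116 hA1comm (π r) hr1 hfpf1
  have hπX : ∀ x i, π (X x r i) = X (π x) (π r) i := by
    intro x i
    simp [X]
  -- pull back
  have hfix : ∀ t ∈ T, r * t = t * r → t ∈ T' := by
    intro t ht h
    have := hfpf1 (π t) (mem_map_of_mem π ht) (by rw [← map_mul, ← map_mul, h])
    exact (hπ1 t).mp this
  have hsq : ∀ t ∈ T, t ^ 2 ∈ T' := by
    intro t ht
    have := he1 (π t) (mem_map_of_mem π ht)
    rw [← map_pow] at this
    exact (hπ1 _).mp this
  -- the centre of T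
  set Z' : Subgroup G := (center T).map T.subtype with hZ'
  have hZ'card : Nat.card Z' = 4 := by
    rw [hZ', Subgroup.card_map_of_injective (Subgroup.subtype_injective T)]
    exact hZ.card_four
  have hZ'mem : ∀ z : G, z ∈ Z' ↔ z ∈ T ∧ ∀ t ∈ T, t * z = z * t := by
    intro z
    rw [hZ']
    constructor
    · rintro ⟨z0, hz0, rfl⟩
      refine ⟨z0.2, ?_⟩
      intro t ht
      have := (mem_center_iff.mp hz0) ⟨t, ht⟩
      exact congrArg Subtype.val this
    · rintro ⟨hzT, hz⟩
      refine ⟨⟨z, hzT⟩, ?_, rfl⟩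
      rw [SetLike.mem_coe, mem_center_iff]
      intro t
      exact Subtype.ext (hz t t.2)
  have hZ'inv : ∀ z ∈ Z', r * z * r⁻¹ ∈ Z' := by
    intro z hz
    obtain ⟨hzT, hzc⟩ := (hZ'mem z).mp hz
    apply (hZ'mem _).mpr
    refine ⟨hTn.conj_mem z hzT r, ?_⟩
    intro t ht
    have h1 : r⁻¹ * t * r ∈ T := by
      have := hTn.conj_mem t ht r⁻¹
      simpa using this
    have h2 := hzc _ h1
    calc t * (r * z * r⁻¹) = r * ((r⁻¹ * t * r) * z) * r⁻¹ := by group
      _ = r * (z * (r⁻¹ * t * r)) * r⁻¹ := by rw [h2]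
      _ = r * z * r⁻¹ * t := by group
  have hrZ' : ∀ z ∈ Z', r * z = z * r := centralizes_of_card_four Z' hZ'card r hr5 hZ'inv
  have hZ'T' : Z' ≤ T' := fun z hz => hfix z ((hZ'mem z).mp hz).1 (hrZ' z hz)
  have hZ'eq : Z' = T' := Subgroup.eq_of_le_of_card_ge hZ'T' (by rw [hT'4, hZ'card])
  have hcen : ∀ z ∈ T', ∀ t ∈ T, t * z = z * t := by
    intro z hz
    rw [← hZ'eq] at hz
    exact ((hZ'mem z).mp hz).2
  have hsq' : ∀ z ∈ T', z ^ 2 = 1 := by
    intro z hz
    rw [← hZ'eq, hZ'] at hz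
    obtain ⟨z0, _, rfl⟩ := hz
    have h1 : (⟨z0, ‹_›⟩ : center T) ^ 2 = 1 := by
      have := Monoid.pow_exponent_eq_one (⟨z0, ‹_›⟩ : center T)
      rwa [hZ.exponent_two] at this
    have h2 := congrArg (fun w : center T => ((w : T) : G)) h1
    simpa using h2
  have hrcen : ∀ z ∈ T', r * z = z * r := by
    intro z hz
    rw [← hZ'eq] at hz
    exact hrZ' z hz
  have hspan : ∀ x ∈ T, x ∉ T' → T ≤ closure {y | ∃ i : ℕ, y = X x r i} ⊔ T' := by
    intro x hx hx'
    have h1 : π x ≠ 1 := fun h => hx' ((hπ1 x).mp h)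
    have h2 := e16_gen A1 hA116 (π r) hr1 hfpf1 (π x) (mem_map_of_mem π hx) h1
    have h3 : closure {y | ∃ i : ℕ, y = X (π x) (π r) i}
        = (closure {y | ∃ i : ℕ, y = X x r i}).map π := by
      rw [MonoidHom.map_closure]
      congr 1
      ext y
      constructor
      · rintro ⟨i, rfl⟩
        exact ⟨X x r i, ⟨i, rfl⟩, hπX x i⟩
      · rintro ⟨_, ⟨i, rfl⟩, rfl⟩
        exact ⟨i, hπX x i⟩
    have h4 : T.map π ≤ (closure {y | ∃ i : ℕ, y = X x r i}).map π := by
      rw [← h3, ← h2]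
    have h5 := Subgroup.map_le_map_iff.mp h4
    rwa [QuotientGroup.ker_mk'] at h5
  have hprod : ∀ x ∈ T, X x r 0 * X x r 1 * X x r 2 * X x r 3 * X x r 4 ∈ T' := by
    intro x hx
    have h1 := e16_prod A1 hA1comm (π r) hr1 hfpf1 (π x) (mem_map_of_mem π hx)
    rw [← hπX, ← hπX, ← hπX, ← hπX, ← hπX, ← map_mul, ← map_mul, ← map_mul, ← map_mul] at h1
    exact (hπ1 _).mp h1
  have hselfcen : ∀ n : G, (∀ t ∈ T, n * t = t * n) → n ∈ T := by
    intro n hn
    have hn' : n ∈ T ⊔ zpowers r := by rw [hgen]; exact mem_top n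
    rw [sup_comm, Subgroup.mem_sup_of_normal_right] at hn'
    obtain ⟨y, hy, t0, ht0, rfl⟩ := hn'
    obtain ⟨k, rfl⟩ := mem_zpowers_iff.mp hy
    -- ρ^k centralises A1
    have h1 : ∀ a ∈ A1, (π r) ^ k * a = a * (π r) ^ k := by
      rintro _ ⟨t, ht, rfl⟩
      have h2 := hn t ht
      have h3 : π (r ^ k * t0 * t) = π (t * (r ^ k * t0)) := by rw [h2]
      rw [map_mul, map_mul, map_mul, map_mul, map_zpow] at h3
      have h4 : π t0 * π t = π t * π t0 := hA1comm _ (mem_map_of_mem π ht0) _ (mem_map_of_mem π ht)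
      calc (π r) ^ k * π t = (π r) ^ k * π t0 * π t * (π t0)⁻¹ := by
            rw [mul_assoc ((π r) ^ k), h4]; group
        _ = π t * ((π r) ^ k * π t0) * (π t0)⁻¹ := by rw [h3]
        _ = π t * (π r) ^ k := by group
    by_cases h5 : (5 : ℤ) ∣ k
    · obtain ⟨m, rfl⟩ := h5
      have : r ^ (5 * m) = 1 := by
        rw [zpow_mul, zpow_ofNat, hr5, one_zpow]
      rw [this, one_mul]; exact ht0
    · exfalso
      -- ρ is a power of ρ^k
      have hcop : IsCoprime k 5 := by
        have h5p : Prime (5 : ℤ) := by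
          rw [Int.prime_iff_natAbs_prime]; norm_num
        exact (IsCoprime.symm ((Prime.coprime_iff_not_dvd h5p).mpr h5))
      obtain ⟨u, v, huv⟩ := hcop
      have h6 : (π r) = ((π r) ^ k) ^ u := by
        have h7 : (π r) ^ (u * k + v * 5) = π r := by rw [huv, zpow_one]
        rw [zpow_add, zpow_mul' (π r) v 5] at h7
        have h8 : (π r) ^ (5 : ℤ) = 1 := by rw [zpow_ofNat, hr1]
        rw [h8, one_zpow, mul_one, mul_comm u k, zpow_mul] at h7
        exact h7.symm
      have h9 : ∀ a ∈ A1, π r * a = a * π r := by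
        intro a ha
        have : Commute ((π r) ^ k) a := h1 a ha
        rw [h6]
        exact this.zpow_left u
      have h10 : ∀ a ∈ A1, a = 1 := fun a ha => hfpf1 a ha (h9 a ha)
      have h11 : A1 = ⊥ := by
        rw [eq_bot_iff]; intro a ha; rw [mem_bot]; exact h10 a ha
      rw [h11] at hA116
      simp at hA116
  have hmeet : ∀ N : Subgroup G, N.Normal → N ⊓ T ≠ ⊥ → ∃ z ∈ N, z ≠ 1 ∧ z ∈ T' := by
    intro N hN hNT
    haveI : ((N ⊓ T).subgroupOf T).Normal := by
      haveI : (N ⊓ T).Normal := Subgroup.normal_inf_normal N T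
      infer_instance
    have hne : (N ⊓ T).subgroupOf T ≠ ⊥ := by
      intro h
      rw [Subgroup.subgroupOf_eq_bot] at h
      apply hNT
      rw [disjoint_iff, inf_assoc, inf_idem] at h
      exact h
    haveI : Finite T := inferInstance
    obtain ⟨z, hz, hz1, hzc⟩ :=
      Cfsg.Agent.Lib.Helper9.exists_ne_one_mem_center_of_normal hT2 _ hne
    refine ⟨(z : G), ?_, ?_, ?_⟩
    · have : (z : G) ∈ N ⊓ T := Subgroup.mem_subgroupOf.mp hz
      exact this.1
    · intro h; exact hz1 (Subtype.ext h)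
    · rw [← hZ'eq, hZ']
      exact ⟨z, hzc, rfl⟩
  exact ⟨r, hr5, hgen, hT'4, hT'T, hT'ne, hfix, hsq, hcen, hsq', hrcen, hspan, hprod, hselfcen,
    hmeet⟩

end Cfsg.Agent.Lib.Helper98.U320
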