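import Mathlib
import Cfsg.Agent.Lib.Helper98.U320Struct

/-!
# Generators and relations for a group of order 320 with `|G'| = 64`, `Z(G')` a four-group
-/

set_option autoImplicit false
set_option linter.unusedSimpArgs false
set_option linter.style.haveILetI false

namespace Cfsg.Agent.Lib.Helper98.U320

open Subgroup
open scoped commutatorElement

theorem Rel.mem_D0 {H : Type*} [Group H] {x r c1 c2 : H} (h : Rel x r c1 c2) (z : H)
    (hz : z ∈ D0 c1 c2) : z = 1 ∨ z = c1 ∨ z = c2 ∨ z = c1 * c2 := by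
  have h11 : c1 * c1 = 1 := by rw [← pow_two]; exact h.c1sq
  have h22 : c2 * c2 = 1 := by rw [← pow_two]; exact h.c2sq
  have h21 : c2 * c1 = c1 * c2 := h.c12.symm
  have h11' : ∀ w, c1 * (c1 * w) = w := by intro w; rw [← mul_assoc, h11, one_mul]
  have h22' : ∀ w, c2 * (c2 * w) = w := by intro w; rw [← mul_assoc, h22, one_mul]
  have h21' : ∀ w, c2 * (c1 * w) = c1 * (c2 * w) := by
    intro w; rw [← mul_assoc, h21, mul_assoc]
  let S : Subgroup H :=
    { carrier := {w | w = 1 ∨ w = c1 ∨ w = c2 ∨ w = c1 * c2}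
      mul_mem' := by
        rintro a b (rfl | rfl | rfl | rfl) (rfl | rfl | rfl | rfl) <;>
          simp only [Set.mem_ofPred_eq, mul_one, one_mul, mul_assoc, h11, h22, h21, h11', h22', h21',
            true_or, or_true]
      one_mem' := Or.inl rfl
      inv_mem' := by
        rintro a (rfl | rfl | rfl | rfl)
        · simp
        · right; left; exact inv_eq_of_mul_eq_one_right h11
        · right; right; left; exact inv_eq_of_mul_eq_one_right h22
        · right; right; right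
          apply inv_eq_of_mul_eq_one_right
          simp only [mul_assoc, h21', h22, mul_one, h11] }
  have hle : D0 c1 c2 ≤ S := by
    unfold D0
    rw [closure_le]
    intro y hy
    simp only [Set.mem_ofPred_eq, List.mem_cons, List.not_mem_nil, or_false] at hy
    rcases hy with rfl | rfl
    · exact Or.inr (Or.inl rfl)
    · exact Or.inr (Or.inr (Or.inl rfl))
  exact hle hz

theorem prod5_comm {H : Type*} [Group H] (a0 a1 a2 a3 a4 p : H) (h1 : p * a1 = a1 * p)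
    (h2 : p * a2 = a2 * p) (h3 : p * a3 = a3 * p) (h4 : p * a4 = a4 * p) :
    (a0 * p) * (a1 * p) * (a2 * p) * (a3 * p) * (a4 * p) = a0 * a1 * a2 * a3 * a4 * p ^ 5 := by
  have h1' : ∀ z, p * (a1 * z) = a1 * (p * z) := by intro z; rw [← mul_assoc, h1, mul_assoc]
  have h2' : ∀ z, p * (a2 * z) = a2 * (p * z) := by intro z; rw [← mul_assoc, h2, mul_assoc]
  have h3' : ∀ z, p * (a3 * z) = a3 * (p * z) := by intro z; rw [← mul_assoc, h3, mul_assoc]
  have h4' : ∀ z, p * (a4 * z) = a4 * (p * z) := by intro z; rw [← mul_assoc, h4, mul_assoc]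
  simp only [mul_assoc, h1', h2', h3', h4', pow_succ, pow_zero, one_mul]

theorem exists_data {G : Type*} [Group G] [Finite G] (r : G) (hS : Struct G r) :
    ∃ x c1 c2 : G, Rel x r c1 c2 ∧ closure ({x, r} : Set G) = ⊤ ∧
      (∀ N : Subgroup G, N.Normal → N ≠ ⊥ → c1 ∈ N ∨ c2 ∈ N ∨ c1 * c2 ∈ N) := by
  classical
  set T : Subgroup G := commutator G with hTdef
  have hTn : T.Normal := inferInstance
  set T' : Subgroup G := ⁅T, T⁆ with hT'def
  have hlt : T' < T := lt_of_le_of_ne hS.le hS.ne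
  obtain ⟨x0, hx0T, hx0T'⟩ := SetLike.exists_of_lt hlt
  have hr5 := hS.r5
  have hcen := hS.cen
  have hXmem : ∀ y ∈ T, ∀ i, X y r i ∈ T := fun y hy i => hTn.conj_mem y hy _
  have hrpow : ∀ k : ℕ, ∀ z ∈ T', r ^ k * z = z * r ^ k := by
    intro k z hz
    have : Commute r z := hS.rcen z hz
    exact this.pow_left k
  have hconj : ∀ k : ℕ, ∀ z ∈ T', r ^ k * z * (r ^ k)⁻¹ = z := by
    intro k z hz
    rw [hrpow k z hz]; group
  have hinv : ∀ z ∈ T', z⁻¹ = z := by
    intro z hz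
    apply inv_eq_of_mul_eq_one_right
    rw [← pow_two]; exact hS.sq' z hz
  -- normalise x
  set p := X x0 r 0 * X x0 r 1 * X x0 r 2 * X x0 r 3 * X x0 r 4 with hp
  have hpT' : p ∈ T' := hS.prod x0 hx0T
  set x := x0 * p with hx
  have hxT : x ∈ T := T.mul_mem hx0T (hS.le hpT')
  have hxT' : x ∉ T' := by
    intro h
    apply hx0T'
    have : x0 = x * p⁻¹ := by rw [hx]; group
    rw [this]
    exact T'.mul_mem h (T'.inv_mem hpT')
  have hXx : ∀ i, X x r i = X x0 r i * p := by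
    intro i
    have h1 := hconj i p hpT'
    unfold X at h1 ⊢
    rw [hx]
    calc r ^ i * (x0 * p) * (r ^ i)⁻¹ = (r ^ i * x0 * (r ^ i)⁻¹) * (r ^ i * p * (r ^ i)⁻¹) := by group
      _ = (r ^ i * x0 * (r ^ i)⁻¹) * p := by rw [h1]
  have hprod : X x r 0 * X x r 1 * X x r 2 * X x r 3 * X x r 4 = 1 := by
    rw [hXx, hXx, hXx, hXx, hXx]
    rw [prod5_comm _ _ _ _ _ p (hcen p hpT' _ (hXmem x0 hx0T 1)).symm
      (hcen p hpT' _ (hXmem x0 hx0T 2)).symm (hcen p hpT' _ (hXmem x0 hx0T 3)).symm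
      (hcen p hpT' _ (hXmem x0 hx0T 4)).symm]
    rw [← hp]
    have h2 : p ^ 2 = 1 := hS.sq' p hpT'
    calc p * p ^ 5 = (p ^ 2) ^ 3 := by group
      _ = 1 := by rw [h2, one_pow]
  have hXT : ∀ i, X x r i ∈ T := hXmem x hxT
  have hcommT' : ∀ s ∈ T, ∀ t ∈ T, ⁅s, t⁆ ∈ T' := fun s hs t ht =>
    Subgroup.commutator_mem_commutator hs ht
  set c1 := ⁅x, X x r 1⁆ with hc1
  set c2 := ⁅x, X x r 2⁆ with hc2
  have hc1T' : c1 ∈ T' := hcommT' x hxT _ (hXT 1)
  have hc2T' : c2 ∈ T' := hcommT' x hxT _ (hXT 2)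
  -- class two identities
  have sq_mul : ∀ s ∈ T, ∀ t ∈ T, (s * t) ^ 2 = s ^ 2 * t ^ 2 * ⁅t, s⁆ := by
    intro s hs t ht
    have hc := hcen ⁅t, s⁆ (hcommT' t ht s hs)
    have h1 : t * s = ⁅t, s⁆ * s * t := by rw [commutatorElement_def]; group
    calc (s * t) ^ 2 = s * (t * s) * t := by rw [pow_two]; group
      _ = s * (⁅t, s⁆ * s * t) * t := by rw [h1]
      _ = (s * ⁅t, s⁆) * (s * t * t) := by group
      _ = (⁅t, s⁆ * s) * (s * t * t) := by rw [hc s hs]
      _ = ⁅t, s⁆ * (s ^ 2 * t ^ 2) := by rw [pow_two, pow_two]; group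
      _ = s ^ 2 * t ^ 2 * ⁅t, s⁆ := by
        rw [hc _ (T.mul_mem (T.pow_mem hs 2) (T.pow_mem ht 2))]
  have comm_mul_right : ∀ u ∈ T, ∀ s ∈ T, ∀ t ∈ T, ⁅u, s * t⁆ = ⁅u, s⁆ * ⁅u, t⁆ := by
    intro u hu s hs t ht
    have hc := hcen ⁅u, t⁆ (hcommT' u hu t ht) s⁻¹ (T.inv_mem hs)
    calc ⁅u, s * t⁆ = u * s * u⁻¹ * (⁅u, t⁆ * s⁻¹) := by
          simp only [commutatorElement_def]; group
      _ = u * s * u⁻¹ * (s⁻¹ * ⁅u, t⁆) := by rw [hc]
      _ = ⁅u, s⁆ * ⁅u, t⁆ := by simp only [commutatorElement_def]; group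
  have comm_mul_left : ∀ s ∈ T, ∀ s' ∈ T, ∀ u ∈ T, ⁅s * s', u⁆ = ⁅s', u⁆ * ⁅s, u⁆ := by
    intro s hs s' hs' u hu
    have hc := hcen ⁅s', u⁆ (hcommT' s' hs' u hu) s hs
    calc ⁅s * s', u⁆ = (s * ⁅s', u⁆) * (u * s⁻¹ * u⁻¹) := by
          simp only [commutatorElement_def]; group
      _ = (⁅s', u⁆ * s) * (u * s⁻¹ * u⁻¹) := by rw [hc]
      _ = ⁅s', u⁆ * ⁅s, u⁆ := by simp only [commutatorElement_def]; group
  have comm_inv_left : ∀ s ∈ T, ∀ u ∈ T, ⁅s⁻¹, u⁆ = ⁅s, u⁆⁻¹ := by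
    intro s hs u hu
    have h1 : ⁅s⁻¹ * s, u⁆ = ⁅s, u⁆ * ⁅s⁻¹, u⁆ := comm_mul_left _ (T.inv_mem hs) _ hs _ hu
    rw [inv_mul_cancel, commutatorElement_one_left] at h1
    exact (inv_eq_of_mul_eq_one_right h1.symm).symm
  have comm_inv_right : ∀ s ∈ T, ∀ u ∈ T, ⁅s, u⁻¹⁆ = ⁅s, u⁆⁻¹ := by
    intro s hs u hu
    have h1 : ⁅s, u⁻¹ * u⁆ = ⁅s, u⁻¹⁆ * ⁅s, u⁆ := comm_mul_right _ hs _ (T.inv_mem hu) _ hu
    rw [inv_mul_cancel, commutatorElement_one_right] at h1
    exact (eq_inv_of_mul_eq_one_left h1.symm)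
  -- squares
  set a := x ^ 2 with ha
  have haT' : a ∈ T' := hS.sq x hxT
  have haa : a * a = 1 := by rw [← pow_two]; exact hS.sq' a haT'
  have hXsq : ∀ i, X x r i ^ 2 = a := by
    intro i
    have h1 : X x r i ^ 2 = r ^ i * x ^ 2 * (r ^ i)⁻¹ := by
      unfold X; rw [pow_two, pow_two]; group
    rw [h1]
    exact hconj i a haT'
  have hX0 : X x r 0 = x := X_zero x r
  -- commutator values
  have hc01 : ⁅X x r 0, X x r 1⁆ = c1 := by rw [hX0]
  have hc02 : ⁅X x r 0, X x r 2⁆ = c2 := by rw [hX0]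
  have hc10 : ⁅X x r 1, X x r 0⁆ = c1 := by
    rw [← commutatorElement_inv, hc01, hinv c1 hc1T']
  have hc20 : ⁅X x r 2, X x r 0⁆ = c2 := by
    rw [← commutatorElement_inv, hc02, hinv c2 hc2T']
  have hc12 : ⁅X x r 1, X x r 2⁆ = c1 := by
    have := comm_conj_pow x r 1 0 1
    rw [hc01, hconj 1 c1 hc1T'] at this
    exact this.symm
  have hc21 : ⁅X x r 2, X x r 1⁆ = c1 := by
    rw [← commutatorElement_inv, hc12, hinv c1 hc1T']
  have hc34 : ⁅X x r 3, X x r 4⁆ = c1 := by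
    have := comm_conj_pow x r 3 0 1
    rw [hc01, hconj 3 c1 hc1T'] at this
    exact this.symm
  have hc43 : ⁅X x r 4, X x r 3⁆ = c1 := by
    rw [← commutatorElement_inv, hc34, hinv c1 hc1T']
  have q01 : (X x r 0 * X x r 1) ^ 2 = c1 := by
    rw [sq_mul _ (hXT 0) _ (hXT 1), hXsq, hXsq, hc10, haa, one_mul]
  have q34 : (X x r 3 * X x r 4) ^ 2 = c1 := by
    rw [sq_mul _ (hXT 3) _ (hXT 4), hXsq, hXsq, hc43, haa, one_mul]
  have q012 : ((X x r 0 * X x r 1) * X x r 2) ^ 2 = c1 * a * (c2 * c1) := by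
    rw [sq_mul _ (T.mul_mem (hXT 0) (hXT 1)) _ (hXT 2), q01, hXsq,
      comm_mul_right _ (hXT 2) _ (hXT 0) _ (hXT 1), hc20, hc21]
  have hrel : (X x r 0 * X x r 1) * X x r 2 = (X x r 3 * X x r 4)⁻¹ := by
    apply eq_inv_of_mul_eq_one_left
    rw [← hprod]; group
  have hxsq : a = c1 * c2 := by
    rw [hrel, inv_pow, q34, hinv c1 hc1T'] at q012
    have h1 : a * (c2 * c1) = 1 := by
      have h2 : c1 * (a * (c2 * c1)) = c1 * 1 := by rw [mul_one, ← mul_assoc]; exact q012.symm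
      exact mul_left_cancel h2
    have h3 : a = (c2 * c1)⁻¹ := eq_inv_of_mul_eq_one_left h1
    rw [h3, mul_inv_rev, hinv c1 hc1T', hinv c2 hc2T']
  have hRel : Rel x r c1 c2 :=
    { r5 := hr5
      c1sq := hS.sq' c1 hc1T'
      c2sq := hS.sq' c2 hc2T'
      c12 := hcen c2 hc2T' c1 (hS.le hc1T')
      rc1 := hS.rcen c1 hc1T'
      rc2 := hS.rcen c2 hc2T'
      xc1 := hcen c1 hc1T' x hxT
      xc2 := hcen c2 hc2T' x hxT
      xsq := hxsq
      comm1 := rfl
      comm2 := rfl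
      prod := hprod }
  -- T' ≤ D0
  have hD0T' : D0 c1 c2 ≤ T' := by
    unfold D0
    rw [closure_le]
    intro y hy
    simp only [Set.mem_ofPred_eq, List.mem_cons, List.not_mem_nil, or_false] at hy
    rcases hy with rfl | rfl
    · exact hc1T'
    · exact hc2T'
  have hspan := hS.span x hxT hxT'
  let L : Subgroup G :=
    { carrier := {s | s ∈ T ∧ ∀ j, ⁅s, X x r j⁆ ∈ D0 c1 c2}
      mul_mem' := by
        rintro s s' ⟨hs, hs2⟩ ⟨hs', hs2'⟩
        refine ⟨T.mul_mem hs hs', fun j => ?_⟩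
        rw [comm_mul_left s hs s' hs' _ (hXT j)]
        exact mul_mem (hs2' j) (hs2 j)
      one_mem' := ⟨T.one_mem, fun j => by rw [commutatorElement_one_left]; exact one_mem _⟩
      inv_mem' := by
        rintro s ⟨hs, hs2⟩
        refine ⟨T.inv_mem hs, fun j => ?_⟩
        rw [comm_inv_left s hs _ (hXT j)]
        exact inv_mem (hs2 j) }
  have hTL : T ≤ L := by
    refine le_trans hspan (sup_le ?_ ?_)
    · rw [closure_le]
      rintro y ⟨i, rfl⟩
      exact ⟨hXT i, fun j => hRel.comm_X_X i j⟩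
    · intro z hz
      refine ⟨hS.le hz, fun j => ?_⟩
      rw [commutatorElement_eq_one_iff_mul_comm.mpr (hcen z hz _ (hXT j)).symm]
      exact one_mem _
  let R : Subgroup G :=
    { carrier := {t | t ∈ T ∧ ∀ s ∈ T, ⁅s, t⁆ ∈ D0 c1 c2}
      mul_mem' := by
        rintro t t' ⟨ht, ht2⟩ ⟨ht', ht2'⟩
        refine ⟨T.mul_mem ht ht', fun s hs => ?_⟩
        rw [comm_mul_right s hs t ht t' ht']
        exact mul_mem (ht2 s hs) (ht2' s hs)
      one_mem' := ⟨T.one_mem, fun s _ => by rw [commutatorElement_one_right]; exact one_mem _⟩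
      inv_mem' := by
        rintro t ⟨ht, ht2⟩
        refine ⟨T.inv_mem ht, fun s hs => ?_⟩
        rw [comm_inv_right s hs t ht]
        exact inv_mem (ht2 s hs) }
  have hTR : T ≤ R := by
    refine le_trans hspan (sup_le ?_ ?_)
    · rw [closure_le]
      rintro y ⟨j, rfl⟩
      exact ⟨hXT j, fun s hs => (hTL hs).2 j⟩
    · intro z hz
      refine ⟨hS.le hz, fun s hs => ?_⟩
      rw [commutatorElement_eq_one_iff_mul_comm.mpr (hcen z hz s hs)]
      exact one_mem _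
  have hT'D0 : T' ≤ D0 c1 c2 := by
    rw [hT'def, Subgroup.commutator_le]
    intro s hs t ht
    exact (hTR ht).2 s hs
  -- generation
  have hgen : closure ({x, r} : Set G) = ⊤ := by
    set W := closure ({x, r} : Set G) with hW
    have hxW : x ∈ W := subset_closure (by simp)
    have hrW : r ∈ W := subset_closure (by simp)
    have hXW : ∀ i, X x r i ∈ W := by
      intro i
      unfold X
      exact W.mul_mem (W.mul_mem (W.pow_mem hrW i) hxW) (W.inv_mem (W.pow_mem hrW i))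
    have hc1W : c1 ∈ W := by
      rw [hc1, commutatorElement_def]
      exact W.mul_mem (W.mul_mem (W.mul_mem hxW (hXW 1)) (W.inv_mem hxW)) (W.inv_mem (hXW 1))
    have hc2W : c2 ∈ W := by
      rw [hc2, commutatorElement_def]
      exact W.mul_mem (W.mul_mem (W.mul_mem hxW (hXW 2)) (W.inv_mem hxW)) (W.inv_mem (hXW 2))
    have hD0W : D0 c1 c2 ≤ W := by
      unfold D0
      rw [closure_le]
      intro y hy
      simp only [Set.mem_ofPred_eq, List.mem_cons, List.not_mem_nil, or_false] at hy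
      rcases hy with rfl | rfl
      · exact hc1W
      · exact hc2W
    have hTW : T ≤ W := by
      refine le_trans hspan (sup_le ?_ (le_trans hT'D0 hD0W))
      rw [closure_le]
      rintro y ⟨i, rfl⟩
      exact hXW i
    rw [eq_top_iff, ← hS.gen]
    exact sup_le hTW (by rw [zpowers_le]; exact hrW)
  refine ⟨x, c1, c2, hRel, hgen, ?_⟩
  intro N hN hNne
  have hNT : N ⊓ T ≠ ⊥ := by
    intro hbot
    obtain ⟨⟨n, hnN⟩, hn1⟩ := (Subgroup.ne_bot_iff_exists_ne_one).mp hNne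
    have hn1' : n ≠ 1 := fun h => hn1 (Subtype.ext h)
    have hncomm : ∀ t ∈ T, n * t = t * n := by
      intro t ht
      have h1 : ⁅n, t⁆ ∈ N ⊓ T := by
        constructor
        · rw [commutatorElement_def]
          have : n * t * n⁻¹ * t⁻¹ = n * (t * n⁻¹ * t⁻¹) := by group
          rw [this]
          exact N.mul_mem hnN (hN.conj_mem _ (N.inv_mem hnN) t)
        · rw [commutatorElement_def]
          exact T.mul_mem (hTn.conj_mem t ht n) (T.inv_mem ht)
      rw [hbot, mem_bot] at h1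
      exact commutatorElement_eq_one_iff_mul_comm.mp h1
    have hnT : n ∈ T := hS.selfcen n hncomm
    have : n ∈ N ⊓ T := ⟨hnN, hnT⟩
    rw [hbot, mem_bot] at this
    exact hn1' this
  obtain ⟨z, hzN, hz1, hzT'⟩ := hS.meet N hN hNT
  rcases hRel.mem_D0 z (hT'D0 hzT') with h | h | h | h
  · exact absurd h hz1
  · left; rw [← h]; exact hzN
  · right; left; rw [← h]; exact hzN
  · right; right; rw [← h]; exact hzN

end Cfsg.Agent.Lib.Helper98.U320
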