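import Mathlib
import Cfsg.Agent.Lib.Helper98.U320Data

/-!
# Uniqueness: a group with the abstract data is isomorphic to any model of order 320 carrying the
relations with independent `c1, c2`.
-/

set_option autoImplicit false
set_option linter.unusedSimpArgs false
set_option linter.style.haveILetI false

namespace Cfsg.Agent.Lib.Helper98.U320

open Subgroup
open scoped commutatorElement

theorem iso_of_data {G M : Type*} [Group G] [Group M] [Finite G] (hG : Nat.card G = 320)
    (hM : Nat.card M = 320) {x r c1 c2 : G} (h : Rel x r c1 c2)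
    (hgen : closure ({x, r} : Set G) = ⊤)
    (hNZ : ∀ N : Subgroup G, N.Normal → N ≠ ⊥ → c1 ∈ N ∨ c2 ∈ N ∨ c1 * c2 ∈ N)
    {x' r' c1' c2' : M} (h' : Rel x' r' c1' c2') (h1 : c1' ≠ 1) (h2 : c2' ≠ 1)
    (h12 : c1' * c2' ≠ 1) : Nonempty (G ≃* M) := by
  classical
  haveI : Finite M := Nat.finite_of_card_ne_zero (by rw [hM]; norm_num)
  set D : Subgroup (G × M) := closure ({((x, x') : G × M), (r, r')} : Set (G × M)) with hD
  obtain ⟨hfin, hcard⟩ := (h.prod_mk h').card_closure_le
  have hproj : ∀ g : G, ∃ m : M, (g, m) ∈ D := by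
    have h3 : D.map (MonoidHom.fst G M) = ⊤ := by
      rw [hD, MonoidHom.map_closure, ← hgen]
      congr 1
      ext y
      simp [Set.image_insert_eq]
    intro g
    have : g ∈ D.map (MonoidHom.fst G M) := by rw [h3]; exact mem_top g
    obtain ⟨⟨g', m⟩, hgm, rfl⟩ := this
    exact ⟨m, hgm⟩
  obtain ⟨f, hf⟩ := GenBound.exists_hom_of_card_le D hproj (by rw [hG]; exact hcard)
  have hfx : f x = x' := ((hf x x').mp (subset_closure (by simp))).symm
  have hfr : f r = r' := ((hf r r').mp (subset_closure (by simp))).symm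
  have hfX : ∀ i, f (X x r i) = X x' r' i := by
    intro i
    simp [X, hfx, hfr]
  have hfc1 : f c1 = c1' := by
    rw [← h.comm1, ← h'.comm1, map_commutatorElement, hfx, hfX]
  have hfc2 : f c2 = c2' := by
    rw [← h.comm2, ← h'.comm2, map_commutatorElement, hfx, hfX]
  have hker : f.ker = ⊥ := by
    by_contra hne
    rcases hNZ f.ker inferInstance hne with hc | hc | hc
    · rw [MonoidHom.mem_ker, hfc1] at hc; exact h1 hc
    · rw [MonoidHom.mem_ker, hfc2] at hc; exact h2 hc
    · rw [MonoidHom.mem_ker, map_mul, hfc1, hfc2] at hc; exact h12 hc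
  have hinj : Function.Injective f := (MonoidHom.ker_eq_bot_iff f).mp hker
  have hbij : Function.Bijective f :=
    hinj.bijective_of_nat_card_le (by rw [hG, hM])
  exact ⟨MulEquiv.ofBijective f hbij⟩

/-- Any two groups satisfying the hypotheses of S1903 which come with `Rel`-data are isomorphic; the
hypotheses alone produce the data on the left. -/
theorem iso_of_hyp {G M : Type*} [Group G] [Group M] [Finite G] (hG : Nat.card G = 320)
    (hD : Nat.card (commutator G) = 64) (hZ : IsKleinFour (center (commutator G)))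
    (hM : Nat.card M = 320) {x' r' c1' c2' : M} (h' : Rel x' r' c1' c2') (h1 : c1' ≠ 1)
    (h2 : c2' ≠ 1) (h12 : c1' * c2' ≠ 1) : Nonempty (G ≃* M) := by
  obtain ⟨r, hS⟩ := exists_struct hG hD hZ
  obtain ⟨x, c1, c2, hRel, hgen, hNZ⟩ := exists_data r hS
  exact iso_of_data hG hM hRel hgen hNZ h' h1 h2 h12

end Cfsg.Agent.Lib.Helper98.U320
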