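import Mathlib
import Cfsg.Agent.Lib.Helper98.U34Model
import Cfsg.Agent.Lib.Helper98.U320Rel

/-!
# The involution centraliser of `PSU₃(4)`: order and relations
-/

set_option autoImplicit false
set_option linter.unusedSimpArgs false
set_option linter.style.haveILetI false

namespace Cfsg.Agent.Lib.Helper98.U320

open Subgroup Cfsg
open scoped commutatorElement
open Cfsg.Agent.Lib.Helper98.U34

section hom
variable {H H' : Type*} [Group H] [Group H']

theorem X_map (f : H →* H') (x r : H) (i : ℕ) : f (X x r i) = X (f x) (f r) i := by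
  simp [X]

theorem Rel.map (f : H →* H') {x r c1 c2 : H} (h : Rel x r c1 c2) :
    Rel (f x) (f r) (f c1) (f c2) := by
  constructor
  · rw [← map_pow, h.r5, map_one]
  · rw [← map_pow, h.c1sq, map_one]
  · rw [← map_pow, h.c2sq, map_one]
  · rw [← map_mul, ← map_mul, h.c12]
  · rw [← map_mul, ← map_mul, h.rc1]
  · rw [← map_mul, ← map_mul, h.rc2]
  · rw [← map_mul, ← map_mul, h.xc1]
  · rw [← map_mul, ← map_mul, h.xc2]
  · rw [← map_pow, ← map_mul, h.xsq]
  · rw [← X_map, ← map_commutatorElement, h.comm1]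
  · rw [← X_map, ← map_commutatorElement, h.comm2]
  · simp only [← X_map, ← map_mul]
    rw [h.prod, map_one]

theorem Rel.of_injective (f : H →* H') (hf : Function.Injective f) {x r c1 c2 : H}
    (h : Rel (f x) (f r) (f c1) (f c2)) : Rel x r c1 c2 := by
  constructor
  · apply hf; rw [map_pow, h.r5, map_one]
  · apply hf; rw [map_pow, h.c1sq, map_one]
  · apply hf; rw [map_pow, h.c2sq, map_one]
  · apply hf; rw [map_mul, map_mul, h.c12]
  · apply hf; rw [map_mul, map_mul, h.rc1]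
  · apply hf; rw [map_mul, map_mul, h.rc2]
  · apply hf; rw [map_mul, map_mul, h.xc1]
  · apply hf; rw [map_mul, map_mul, h.xc2]
  · apply hf; rw [map_pow, map_mul, h.xsq]
  · apply hf; rw [map_commutatorElement, X_map, h.comm1]
  · apply hf; rw [map_commutatorElement, X_map, h.comm2]
  · apply hf
    simp only [map_mul, X_map, map_one]
    exact h.prod

end hom

section field
variable {F : Type*} [Field F] [Fintype F]

theorem exists_fifth_root (hF : Fintype.card F = 16) :
    ∃ l : F, l ^ 5 = 1 ∧ l ≠ 1 ∧ 1 + l + l ^ 2 + l ^ 3 + l ^ 4 = 0 := by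
  classical
  haveI : Fact (Nat.Prime 5) := ⟨by norm_num⟩
  have hcard : Nat.card Fˣ = 15 := by
    rw [Nat.card_eq_fintype_card, Fintype.card_units, hF]
  obtain ⟨u, hu⟩ := exists_prime_orderOf_dvd_card' (G := Fˣ) 5 (by rw [hcard]; norm_num)
  have h5 : u ^ 5 = 1 := by rw [← hu]; exact pow_orderOf_eq_one u
  have h1 : u ≠ 1 := by
    intro h; rw [h, orderOf_one] at hu; norm_num at hu
  have h5' : (u : F) ^ 5 = 1 := by
    have := congrArg (fun v : Fˣ => (v : F)) h5
    simpa using this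
  have h1' : (u : F) ≠ 1 := by
    intro h; exact h1 (Units.ext h)
  refine ⟨u, h5', h1', ?_⟩
  have h2 : ((u : F) - 1) * (1 + u + (u : F) ^ 2 + (u : F) ^ 3 + (u : F) ^ 4) = 0 := by
    have : ((u : F) - 1) * (1 + u + (u : F) ^ 2 + (u : F) ^ 3 + (u : F) ^ 4) = (u : F) ^ 5 - 1 := by
      ring
    rw [this, h5', sub_self]
  rcases mul_eq_zero.mp h2 with h | h
  · exact absurd (sub_eq_zero.mp h) h1'
  · exact h

end field

section par
variable {F : Type*} [Field F] [Fintype F]

/-- The automorphism `(a, b) ↦ (l a, b)` of the model group (as a function). -/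
def eta (hF : Fintype.card F = 16) (l : F) (hl5 : l ^ 5 = 1) (p : Par hF) : Par hF :=
  ⟨l * p.a, p.b, by
    have h1 := p.h
    have : l * p.a * (l * p.a) ^ 4 = l ^ 5 * (p.a * p.a ^ 4) := by ring
    rw [this, hl5, one_mul, h1]⟩

/-- The elements `(l ^ i, l + l ^ 3)`. -/
def Pe (hF : Fintype.card F = 16) (l : F) (hl5 : l ^ 5 = 1)
    (hsum : 1 + l + l ^ 2 + l ^ 3 + l ^ 4 = 0) (i : ℕ) : Par hF :=
  ⟨l ^ i, l + l ^ 3, by
    have := charP_two hF
    have h1 : l ^ i * (l ^ i) ^ 4 = (l ^ 5) ^ i := by ring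
    rw [h1, hl5, one_pow]
    grind⟩

def z1e (hF : Fintype.card F = 16) (l : F) (hl5 : l ^ 5 = 1) : Par hF :=
  ⟨0, l + l ^ 4, by
    have := charP_two hF
    grind⟩

def z2e (hF : Fintype.card F = 16) (l : F) (hl5 : l ^ 5 = 1) : Par hF :=
  ⟨0, l ^ 2 + l ^ 3, by
    have := charP_two hF
    grind⟩

def z0e (hF : Fintype.card F = 16) : Par hF :=
  ⟨0, 1, by
    have := charP_two hF
    grind⟩

variable (hF : Fintype.card F = 16)
variable (l : F) (hl5 : l ^ 5 = 1) (hsum : 1 + l + l ^ 2 + l ^ 3 + l ^ 4 = 0)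

theorem eta_Pe (i : ℕ) : eta hF l hl5 (Pe hF l hl5 hsum i) = Pe hF l hl5 hsum (i + 1) := by
  apply Par.ext
  · simp only [eta, Pe]; ring
  · simp only [eta, Pe]

theorem eta_z1e : eta hF l hl5 (z1e hF l hl5) = z1e hF l hl5 := by
  apply Par.ext <;> simp [eta, z1e]

theorem eta_z2e : eta hF l hl5 (z2e hF l hl5) = z2e hF l hl5 := by
  apply Par.ext <;> simp [eta, z2e]

theorem eta_z0e : eta hF l hl5 (z0e hF) = z0e hF := by
  apply Par.ext <;> simp [eta, z0e]

theorem z_comm (z p : Par hF) (hz : z.a = 0) : z * p = p * z := by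
  have := charP_two hF
  apply Par.ext
  · simp only [mul_a]; ring
  · simp only [mul_b, hz]; ring

theorem z1e_sq : z1e hF l hl5 ^ 2 = 1 := by
  have := charP_two hF
  rw [pow_two]
  apply Par.ext
  · simp only [mul_a, one_a, z1e]; ring
  · simp only [mul_b, one_b, z1e]; grind

theorem z2e_sq : z2e hF l hl5 ^ 2 = 1 := by
  have := charP_two hF
  rw [pow_two]
  apply Par.ext
  · simp only [mul_a, one_a, z2e]; ring
  · simp only [mul_b, one_b, z2e]; grind

theorem z0e_sq : z0e hF ^ 2 = 1 := by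
  have := charP_two hF
  rw [pow_two]
  apply Par.ext
  · simp only [mul_a, one_a, z0e]; ring
  · simp only [mul_b, one_b, z0e]; grind

theorem Pe_sq : Pe hF l hl5 hsum 0 ^ 2 = z1e hF l hl5 * z2e hF l hl5 := by
  have := charP_two hF
  rw [pow_two]
  apply Par.ext
  · simp only [mul_a, Pe, z1e, z2e]; grind
  · simp only [mul_b, mul_a, Pe, z1e, z2e]; grind

include hsum in
theorem z12_eq : z1e hF l hl5 * z2e hF l hl5 = z0e hF := by
  have := charP_two hF
  apply Par.ext
  · simp only [mul_a, z0e, z1e, z2e]; ring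
  · simp only [mul_b, mul_a, z0e, z1e, z2e]; grind

theorem Pe_comm1 : Pe hF l hl5 hsum 0 * Pe hF l hl5 hsum 1
    = z1e hF l hl5 * (Pe hF l hl5 hsum 1 * Pe hF l hl5 hsum 0) := by
  have := charP_two hF
  apply Par.ext
  · simp only [mul_a, Pe, z1e]; ring
  · simp only [mul_b, mul_a, Pe, z1e]; grind

theorem Pe_comm2 : Pe hF l hl5 hsum 0 * Pe hF l hl5 hsum 2
    = z2e hF l hl5 * (Pe hF l hl5 hsum 2 * Pe hF l hl5 hsum 0) := by
  have := charP_two hF
  apply Par.ext
  · simp only [mul_a, Pe, z2e]; ring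
  · simp only [mul_b, mul_a, Pe, z2e]; grind

theorem Pe_prod : Pe hF l hl5 hsum 0 * Pe hF l hl5 hsum 1 * Pe hF l hl5 hsum 2 *
    Pe hF l hl5 hsum 3 * Pe hF l hl5 hsum 4 = 1 := by
  have := charP_two hF
  apply Par.ext
  · simp only [mul_a, one_a, Pe]; grind
  · simp only [mul_b, mul_a, one_b, Pe]; grind

end par

end Cfsg.Agent.Lib.Helper98.U320
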