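import Mathlib
import Cfsg.Agent.Lib.Helper98.U320Model

/-!
# The element of order five in the involution centraliser of `SU₃(4)` and the relations
-/

set_option autoImplicit false
set_option linter.unusedSimpArgs false
set_option linter.style.haveILetI false
set_option linter.unusedSectionVars false
set_option linter.unusedVariables false

namespace Cfsg.Agent.Lib.Helper98.U320

open Subgroup Cfsg Matrix
open scoped commutatorElement
open Cfsg.Agent.Lib.Helper98.U34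

section mats
variable {F : Type*} [Field F] [Fintype F]

/-- The diagonal matrix `diag(l², l, l²)`. -/
def Dm (l : F) : Matrix (Fin 3) (Fin 3) F := !![l ^ 2, 0, 0; 0, l, 0; 0, 0, l ^ 2]

/-- The torus element in standard coordinates. -/
def Hm (w l : F) : Matrix (Fin 3) (Fin 3) F := Pm w * Dm l * Qm w

theorem Dm_mul (l m : F) : Dm l * Dm m = Dm (l * m) := by
  ext i j
  fin_cases i <;> fin_cases j <;>
    simp [Dm, Matrix.mul_apply, Fin.sum_univ_three] <;> ring

theorem Dm_one : Dm (1 : F) = 1 := by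
  ext i j
  fin_cases i <;> fin_cases j <;> simp [Dm]

theorem Dm_det (l : F) (hl5 : l ^ 5 = 1) : (Dm l).det = 1 := by
  rw [Matrix.det_fin_three]
  simp [Dm]
  rw [← hl5]; ring

theorem Dm_map (l : F) : (Dm l).map (· ^ 4) = Dm (l ^ 4) := by
  ext i j
  fin_cases i <;> fin_cases j <;> simp [Dm] <;> ring

theorem Dm_J (l : F) (hl5 : l ^ 5 = 1) : (Dm l)ᵀ * Jm * Dm (l ^ 4) = Jm := by
  have h10 : l ^ 10 = 1 := by
    have : l ^ 10 = (l ^ 5) ^ 2 := by ring
    rw [this, hl5, one_pow]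
  ext i j
  fin_cases i <;> fin_cases j <;>
    simp [Dm, Jm, Matrix.mul_apply, Fin.sum_univ_three] <;> grind

theorem Dm_Um (l a b c : F) (hl5 : l ^ 5 = 1) :
    Dm l * Um a b c = Um (l * a) b (l ^ 4 * c) * Dm l := by
  ext i j
  fin_cases i <;> fin_cases j <;>
    simp [Dm, Um, Matrix.mul_apply, Fin.sum_univ_three] <;> grind

variable (hF : Fintype.card F = 16) (w : F) (hw : w ^ 2 = w + 1)

include hF hw in
theorem Hm_mul (l m : F) : Hm w l * Hm w m = Hm w (l * m) := by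
  unfold Hm
  calc Pm w * Dm l * Qm w * (Pm w * Dm m * Qm w)
      = Pm w * Dm l * (Qm w * Pm w) * Dm m * Qm w := by simp only [Matrix.mul_assoc]
    _ = Pm w * (Dm l * Dm m) * Qm w := by
        rw [L4 hF w hw]; simp only [Matrix.mul_assoc, Matrix.one_mul]
    _ = Pm w * Dm (l * m) * Qm w := by rw [Dm_mul]

include hF hw in
theorem Hm_one : Hm w (1 : F) = 1 := by
  unfold Hm
  rw [Dm_one, Matrix.mul_one, L4' hF w hw]

include hF hw in
theorem Hm_pow (l : F) (n : ℕ) : Hm w l ^ n = Hm w (l ^ n) := by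
  induction n with
  | zero => rw [pow_zero, pow_zero, Hm_one hF w hw]
  | succ n ih => rw [pow_succ, ih, Hm_mul hF w hw, pow_succ]

include hF hw in
theorem Hm_det (l : F) (hl5 : l ^ 5 = 1) : (Hm w l).det = 1 := by
  unfold Hm
  rw [Matrix.det_mul, Matrix.det_mul, Dm_det l hl5, mul_one, ← Matrix.det_mul, L4' hF w hw,
    Matrix.det_one]

include hF hw in
theorem Hm_unit (l : F) (hl5 : l ^ 5 = 1) : (Hm w l)ᵀ * (Hm w l).map (· ^ 4) = 1 := by
  have e : (fun y : F => y ^ 4) = ⇑(Cfsg.Agent.Lib.Helper5.conjHom (hF' hF)) := rfl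
  have hmap : (Hm w l).map (· ^ 4) = Pm w * Dm (l ^ 4) * Qm w := by
    unfold Hm
    rw [e, Matrix.map_mul, Matrix.map_mul, ← e, L1' hF w hw, L1'' hF w hw, Dm_map]
  rw [hmap]
  unfold Hm
  rw [Matrix.transpose_mul, Matrix.transpose_mul]
  calc (Qm w)ᵀ * ((Dm l)ᵀ * (Pm w)ᵀ) * (Pm w * Dm (l ^ 4) * Qm w)
      = (Qm w)ᵀ * ((Dm l)ᵀ * ((Pm w)ᵀ * Pm w) * Dm (l ^ 4)) * Qm w := by
        simp only [Matrix.mul_assoc]
    _ = (Qm w)ᵀ * Jm * Qm w := by rw [L1 hF w hw, Dm_J l hl5]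
    _ = 1 := L2 hF w hw

include hw in
theorem Hm_Mm (l : F) (hl5 : l ^ 5 = 1) (p : Par hF) :
    Hm w l * Mm hF w p = Mm hF w (eta hF l hl5 p) * Hm w l := by
  unfold Hm Mm
  have h1 : (eta hF l hl5 p).a = l * p.a := rfl
  have h2 : (eta hF l hl5 p).b = p.b := rfl
  have h3 : (l * p.a) ^ 4 = l ^ 4 * p.a ^ 4 := by ring
  rw [h1, h2, h3]
  calc Pm w * Dm l * Qm w * (Pm w * Um p.a p.b (p.a ^ 4) * Qm w)
      = Pm w * Dm l * (Qm w * Pm w) * Um p.a p.b (p.a ^ 4) * Qm w := by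
        simp only [Matrix.mul_assoc]
    _ = Pm w * (Dm l * Um p.a p.b (p.a ^ 4)) * Qm w := by
        rw [L4 hF w hw]; simp only [Matrix.mul_assoc, Matrix.one_mul]
    _ = Pm w * (Um (l * p.a) p.b (l ^ 4 * p.a ^ 4) * Dm l) * Qm w := by rw [Dm_Um _ _ _ _ hl5]
    _ = Pm w * Um (l * p.a) p.b (l ^ 4 * p.a ^ 4) * (Qm w * Pm w) * Dm l * Qm w := by
        rw [L4 hF w hw]; simp only [Matrix.mul_assoc, Matrix.one_mul]
    _ = Pm w * Um (l * p.a) p.b (l ^ 4 * p.a ^ 4) * Qm w * (Pm w * Dm l * Qm w) := by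
        simp only [Matrix.mul_assoc]

end mats

section su
variable {F : Type*} [Field F] [Fintype F]
variable (hF : Fintype.card F = 16) (w : F) (hw : w ^ 2 = w + 1)
variable (l : F) (hl5 : l ^ 5 = 1)

/-- The torus element of order five in `SU₃(4)`. -/
noncomputable def hSU : SU 3 F 4 :=
  Cfsg.Agent.Lib.Helper5.SUofPreserves (Hm w l) (Hm_det hF w hw l hl5)
    ((Cfsg.Agent.Lib.Helper5.preserves_iff_matrix (q := 4) (hF' hF) (Hm w l)).mpr
      (Hm_unit hF w hw l hl5))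

theorem hSU_coe : (hSU hF w hw l hl5).1.1 = Hm w l := rfl

theorem hSU_pow_five : hSU hF w hw l hl5 ^ 5 = 1 := by
  apply Subtype.ext
  apply Subtype.ext
  rw [Subgroup.coe_pow, Matrix.SpecialLinearGroup.coe_pow, hSU_coe, Hm_pow hF w hw, hl5,
    Hm_one hF w hw]
  rfl

theorem hSU_ne_one (hl1 : l ≠ 1) : hSU hF w hw l hl5 ≠ 1 := by
  intro h
  have h1 : Hm w l = 1 := by
    rw [← hSU_coe hF w hw l hl5, h]; rfl
  have h2 : Dm l = 1 := by
    calc Dm l = (Qm w * Pm w) * Dm l * (Qm w * Pm w) := by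
          rw [L4 hF w hw, Matrix.one_mul, Matrix.mul_one]
      _ = Qm w * (Pm w * Dm l * Qm w) * Pm w := by simp only [Matrix.mul_assoc]
      _ = 1 := by
          have : Pm w * Dm l * Qm w = 1 := h1
          rw [this, Matrix.mul_one, L4 hF w hw]
  have := congrFun (congrFun h2 1) 1
  simp [Dm] at this
  exact hl1 this

theorem hSU_Phi (p : Par hF) :
    hSU hF w hw l hl5 * Phi hF w hw p = Phi hF w hw (eta hF l hl5 p) * hSU hF w hw l hl5 := by
  apply Subtype.ext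
  apply Subtype.ext
  exact Hm_Mm hF w hw l hl5 p

theorem hSU_conj (p : Par hF) :
    hSU hF w hw l hl5 * Phi hF w hw p * (hSU hF w hw l hl5)⁻¹ = Phi hF w hw (eta hF l hl5 p) := by
  rw [hSU_Phi]; group

variable (hsum : 1 + l + l ^ 2 + l ^ 3 + l ^ 4 = 0)

theorem X_Phi (i : ℕ) :
    X (Phi hF w hw (Pe hF l hl5 hsum 0)) (hSU hF w hw l hl5) i = Phi hF w hw (Pe hF l hl5 hsum i) := by
  induction i with
  | zero => rw [X_zero]
  | succ i ih => rw [← conj_X, ih, hSU_conj, eta_Pe]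

theorem rel_SU (hl1 : l ≠ 1) :
    Rel (Phi hF w hw (Pe hF l hl5 hsum 0)) (hSU hF w hw l hl5) (Phi hF w hw (z1e hF l hl5))
      (Phi hF w hw (z2e hF l hl5)) := by
  have hcomm_z : ∀ z : Par hF, eta hF l hl5 z = z →
      hSU hF w hw l hl5 * Phi hF w hw z = Phi hF w hw z * hSU hF w hw l hl5 := by
    intro z hz
    rw [hSU_Phi, hz]
  constructor
  · exact hSU_pow_five hF w hw l hl5
  · rw [← map_pow, z1e_sq, map_one]
  · rw [← map_pow, z2e_sq, map_one]
  · rw [← map_mul, ← map_mul, z_comm hF (z1e hF l hl5) _ rfl]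
  · exact hcomm_z _ (eta_z1e hF l hl5)
  · exact hcomm_z _ (eta_z2e hF l hl5)
  · rw [← map_mul, ← map_mul, z_comm hF (z1e hF l hl5) _ rfl]
  · rw [← map_mul, ← map_mul, z_comm hF (z2e hF l hl5) _ rfl]
  · rw [← map_pow, ← map_mul, Pe_sq]
  · rw [X_Phi, ← map_commutatorElement]
    congr 1
    rw [commutatorElement_def, Pe_comm1]; group
  · rw [X_Phi, ← map_commutatorElement]
    congr 1
    rw [commutatorElement_def, Pe_comm2]; group
  · simp only [X_Phi, ← map_mul]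
    rw [Pe_prod, map_one]

end su

end Cfsg.Agent.Lib.Helper98.U320
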