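import Mathlib
import Cfsg.Agent.Lib.Helper98.U320ModelB

/-!
# The centraliser of a central involution of a Sylow 2-subgroup of `SU₃(4)` has order 320
-/

set_option autoImplicit false
set_option linter.unusedSimpArgs false
set_option linter.style.haveILetI false
set_option linter.unusedSectionVars false
set_option linter.unusedVariables false

namespace Cfsg.Agent.Lib.Helper98.U320

open Subgroup Cfsg Matrix
open scoped commutatorElement
open Cfsg.Agent.Lib.Helper98.U34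

section mats
variable {F : Type*} [Field F] [Fintype F]

theorem comm_U0 (B : Matrix (Fin 3) (Fin 3) F) (h : B * Um 0 1 0 = Um 0 1 0 * B) :
    B 1 0 = 0 ∧ B 2 0 = 0 ∧ B 2 1 = 0 ∧ B 0 0 = B 2 2 := by
  have h12 := congrFun (congrFun h 1) 2
  have h22 := congrFun (congrFun h 2) 2
  have h01 := congrFun (congrFun h 0) 1
  have h02 := congrFun (congrFun h 0) 2
  simp [Um, Matrix.mul_apply, Fin.sum_univ_three] at h12 h22 h01 h02
  refine ⟨h12, h22, h01, ?_⟩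
  linear_combination h02

theorem unit_tri (hF : Fintype.card F = 16) (B : Matrix (Fin 3) (Fin 3) F) (h10 : B 1 0 = 0)
    (h20 : B 2 0 = 0) (h21 : B 2 1 = 0) (h22 : B 0 0 = B 2 2)
    (hu : Bᵀ * Jm * B.map (· ^ 4) = Jm) (hdet : B.det = 1) :
    B 0 0 ^ 5 = 1 ∧ B 0 0 * B 1 1 * B 0 0 = 1 ∧ B 0 1 * (B 0 0) ^ 4 + B 1 1 * (B 1 2) ^ 4 = 0 ∧
      B 0 2 * (B 0 0) ^ 4 + B 1 2 * (B 1 2) ^ 4 + B 0 0 * (B 0 2) ^ 4 = 0 := by
  have := charP_two hF
  have e02 := congrFun (congrFun hu 0) 2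
  have e12 := congrFun (congrFun hu 1) 2
  have e22 := congrFun (congrFun hu 2) 2
  simp [Jm, Matrix.mul_apply, Fin.sum_univ_three, h10, h20, h21] at e02 e12 e22
  rw [Matrix.det_fin_three] at hdet
  simp [h10, h20, h21] at hdet
  rw [← h22] at e02 e12 e22 hdet
  refine ⟨?_, ?_, ?_, ?_⟩
  · linear_combination e02
  · linear_combination hdet
  · linear_combination e12
  · linear_combination e22

end mats

section cent
variable {F : Type*} [Field F] [Fintype F]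
variable (hF : Fintype.card F = 16) (w : F) (hw : w ^ 2 = w + 1)

/-- Coordinates adapted to the form `Jm`. -/
def Ap (A : SU 3 F 4) : Matrix (Fin 3) (Fin 3) F := Qm w * A.1.1 * Pm w

include hF hw in
theorem Ap_mul (A B : SU 3 F 4) : Ap w (A * B) = Ap w A * Ap w B := by
  unfold Ap
  have h1 : ((A * B : SU 3 F 4).1.1 : Matrix (Fin 3) (Fin 3) F) = A.1.1 * B.1.1 := rfl
  rw [h1]
  calc Qm w * (A.1.1 * B.1.1) * Pm w
      = Qm w * A.1.1 * 1 * B.1.1 * Pm w := by simp only [Matrix.mul_assoc, Matrix.one_mul]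
    _ = Qm w * A.1.1 * (Pm w * Qm w) * B.1.1 * Pm w := by rw [L4' hF w hw]
    _ = Qm w * A.1.1 * Pm w * (Qm w * B.1.1 * Pm w) := by simp only [Matrix.mul_assoc]

include hF hw in
theorem Ap_one : Ap w (1 : SU 3 F 4) = 1 := by
  unfold Ap
  have h1 : ((1 : SU 3 F 4).1.1 : Matrix (Fin 3) (Fin 3) F) = 1 := rfl
  rw [h1, Matrix.mul_one, L4 hF w hw]

include hF hw in
theorem Ap_inv (A : SU 3 F 4) : Pm w * Ap w A * Qm w = A.1.1 := by
  unfold Ap
  calc Pm w * (Qm w * A.1.1 * Pm w) * Qm w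
      = (Pm w * Qm w) * A.1.1 * (Pm w * Qm w) := by simp only [Matrix.mul_assoc]
    _ = A.1.1 := by rw [L4' hF w hw, Matrix.one_mul, Matrix.mul_one]

include hF hw in
theorem Ap_det (A : SU 3 F 4) : (Ap w A).det = 1 := by
  unfold Ap
  rw [Matrix.det_mul, Matrix.det_mul, mul_comm, ← mul_assoc, ← Matrix.det_mul, L4' hF w hw,
    Matrix.det_one, one_mul]
  exact A.1.2

include hF hw in
theorem Ap_unit (A : SU 3 F 4) : (Ap w A)ᵀ * Jm * (Ap w A).map (· ^ 4) = Jm := by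
  have e : (fun y : F => y ^ 4) = ⇑(Cfsg.Agent.Lib.Helper5.conjHom (hF' hF)) := rfl
  have hA : A.1.1ᵀ * A.1.1.map (· ^ 4) = 1 :=
    (Cfsg.Agent.Lib.Helper5.preserves_iff_matrix (q := 4) (hF' hF) A.1.1).mp A.2
  have hmap : (A.1.1 : Matrix (Fin 3) (Fin 3) F).map (· ^ 4) = Pm w * (Ap w A).map (· ^ 4) * Qm w := by
    conv_lhs => rw [← Ap_inv hF w hw A]
    rw [e, Matrix.map_mul, Matrix.map_mul, ← e, L1' hF w hw, L1'' hF w hw]
  have htr : (A.1.1 : Matrix (Fin 3) (Fin 3) F)ᵀ = (Qm w)ᵀ * (Ap w A)ᵀ * (Pm w)ᵀ := by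
    conv_lhs => rw [← Ap_inv hF w hw A]
    rw [Matrix.transpose_mul, Matrix.transpose_mul, Matrix.mul_assoc]
  rw [hmap, htr] at hA
  have h1 : (Qm w)ᵀ * ((Ap w A)ᵀ * Jm * (Ap w A).map (· ^ 4)) * Qm w = 1 := by
    rw [← hA, ← L1 hF w hw]
    simp only [Matrix.mul_assoc]
  have h2 : (Pm w)ᵀ * (Qm w)ᵀ = 1 := by
    rw [← Matrix.transpose_mul, L4 hF w hw, Matrix.transpose_one]
  calc (Ap w A)ᵀ * Jm * (Ap w A).map (· ^ 4)
      = ((Pm w)ᵀ * (Qm w)ᵀ) * ((Ap w A)ᵀ * Jm * (Ap w A).map (· ^ 4)) * (Qm w * Pm w) := by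
        rw [h2, L4 hF w hw, Matrix.one_mul, Matrix.mul_one]
    _ = (Pm w)ᵀ * ((Qm w)ᵀ * ((Ap w A)ᵀ * Jm * (Ap w A).map (· ^ 4)) * Qm w) * Pm w := by
        simp only [Matrix.mul_assoc]
    _ = Jm := by rw [h1, Matrix.mul_one, L1 hF w hw]

/-- The central involution. -/
noncomputable def t0 : SU 3 F 4 := Phi hF w hw (z0e hF)

include hF hw in
theorem Ap_comm (A : SU 3 F 4) (hA : A * t0 hF w hw = t0 hF w hw * A) :
    Ap w A * Um 0 1 0 = Um 0 1 0 * Ap w A := by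
  have h1 : (A.1.1 : Matrix (Fin 3) (Fin 3) F) * Mm hF w (z0e hF) = Mm hF w (z0e hF) * A.1.1 := by
    have := congrArg (fun s : SU 3 F 4 => (s.1.1 : Matrix (Fin 3) (Fin 3) F)) hA
    exact this
  have h2 : Mm hF w (z0e hF) = Pm w * Um 0 1 0 * Qm w := by
    unfold Mm z0e
    simp
  rw [h2] at h1
  unfold Ap
  calc Qm w * A.1.1 * Pm w * Um 0 1 0
      = Qm w * (A.1.1 * (Pm w * Um 0 1 0 * Qm w)) * Pm w := by
        simp only [Matrix.mul_assoc]
        rw [L4 hF w hw, Matrix.mul_one]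
    _ = Qm w * ((Pm w * Um 0 1 0 * Qm w) * A.1.1) * Pm w := by rw [h1]
    _ = (Qm w * Pm w) * Um 0 1 0 * (Qm w * A.1.1 * Pm w) := by simp only [Matrix.mul_assoc]
    _ = Um 0 1 0 * (Qm w * A.1.1 * Pm w) := by rw [L4 hF w hw, Matrix.one_mul]

include hF hw in
theorem Ap_facts (A : SU 3 F 4) (hA : A * t0 hF w hw = t0 hF w hw * A) :
    Ap w A 1 0 = 0 ∧ Ap w A 2 0 = 0 ∧ Ap w A 2 1 = 0 ∧ Ap w A 0 0 = Ap w A 2 2 ∧
    Ap w A 0 0 ^ 5 = 1 ∧ Ap w A 0 0 * Ap w A 1 1 * Ap w A 0 0 = 1 ∧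
    Ap w A 0 1 * (Ap w A 0 0) ^ 4 + Ap w A 1 1 * (Ap w A 1 2) ^ 4 = 0 ∧
    Ap w A 0 2 * (Ap w A 0 0) ^ 4 + Ap w A 1 2 * (Ap w A 1 2) ^ 4 + Ap w A 0 0 * (Ap w A 0 2) ^ 4 = 0 := by
  obtain ⟨h10, h20, h21, h22⟩ := comm_U0 _ (Ap_comm hF w hw A hA)
  obtain ⟨h5, hd, e12, e22⟩ := unit_tri hF _ h10 h20 h21 h22 (Ap_unit hF w hw A) (Ap_det hF w hw A)
  exact ⟨h10, h20, h21, h22, h5, hd, e12, e22⟩

include hF hw in
/-- Elements of the centraliser with `(0,0)` coordinate one lie in the image of the model group. -/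
theorem mem_range_of_one (A : SU 3 F 4) (hA : A * t0 hF w hw = t0 hF w hw * A)
    (h00 : Ap w A 0 0 = 1) : A ∈ (Phi hF w hw).range := by
  have := charP_two hF
  obtain ⟨h10, h20, h21, h22, h5, hd, e12, e22⟩ := Ap_facts hF w hw A hA
  rw [h00] at hd e12 e22 h22
  have h11 : Ap w A 1 1 = 1 := by simpa using hd
  rw [h11] at e12
  set a := Ap w A 0 1 with ha
  set b := Ap w A 0 2 with hb
  set c := Ap w A 1 2 with hc
  have hc4 : c ^ 4 = a := by grind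
  have hc' : c = a ^ 4 := by
    have := pow16 hF c
    rw [← hc4, ← pow_mul]; exact this.symm
  have hpar : b + b ^ 4 = a * a ^ 4 := by grind
  refine ⟨⟨a, b, hpar⟩, ?_⟩
  apply Subtype.ext
  apply Subtype.ext
  rw [Phi_coe, ← Ap_inv hF w hw A]
  unfold Mm
  congr 2
  ext i j
  fin_cases i <;> fin_cases j <;> simp [Um, h10, h20, h21, h00, h11, ← h22, ← ha, ← hb, ← hc, hc']

end cent

end Cfsg.Agent.Lib.Helper98.U320
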