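import Mathlib
import Cfsg.Agent.Lib.Helper98.U320ModelC

/-!
# The involution centraliser of `PSU₃(4)`: order 320 and the relations
-/

set_option autoImplicit false
set_option linter.unusedSimpArgs false
set_option linter.style.haveILetI false
set_option linter.unusedSectionVars false
set_option linter.unusedVariables false

namespace Cfsg.Agent.Lib.Helper98.U320

open Subgroup Cfsg Matrix
open scoped commutatorElement
open Cfsg.Agent.Lib.Helper98.U34

section count
variable {F : Type*} [Field F] [Fintype F]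
variable (hF : Fintype.card F = 16) (w : F) (hw : w ^ 2 = w + 1)

/-- The centraliser of the central involution in `SU₃(4)`. -/
noncomputable def Cs : Subgroup (SU 3 F 4) := centralizer {t0 hF w hw}

theorem mem_Cs (A : SU 3 F 4) : A ∈ Cs hF w hw ↔ A * t0 hF w hw = t0 hF w hw * A := by
  unfold Cs
  rw [mem_centralizer_iff]
  constructor
  · intro h; exact (h _ rfl).symm
  · intro h g hg
    rw [Set.mem_singleton_iff] at hg
    subst hg
    exact h.symm

theorem Phi_mem_Cs (p : Par hF) : Phi hF w hw p ∈ Cs hF w hw := by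
  rw [mem_Cs]
  unfold t0
  rw [← map_mul, ← map_mul, z_comm hF (z0e hF) p rfl]

theorem hSU_mem_Cs (l : F) (hl5 : l ^ 5 = 1) : hSU hF w hw l hl5 ∈ Cs hF w hw := by
  rw [mem_Cs]
  unfold t0
  rw [hSU_Phi, eta_z0e]

/-- The `(0,0)` coordinate as a homomorphism on the centraliser. -/
noncomputable def psi : Cs hF w hw →* Fˣ :=
  MonoidHom.mk'
    (fun A => Units.mk0 (Ap w A.1 0 0) (by
      intro h0
      have h5 := (Ap_facts hF w hw A.1 ((mem_Cs hF w hw A.1).mp A.2)).2.2.2.2.1
      rw [h0] at h5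
      norm_num at h5))
    (by
      intro A B
      apply Units.ext
      change Ap w (A.1 * B.1) 0 0 = Ap w A.1 0 0 * Ap w B.1 0 0
      obtain ⟨h10, h20, -⟩ := Ap_facts hF w hw B.1 ((mem_Cs hF w hw B.1).mp B.2)
      rw [Ap_mul hF w hw, Matrix.mul_apply, Fin.sum_univ_three, h10, h20]
      ring)

theorem psi_coe (A : Cs hF w hw) : ((psi hF w hw A : Fˣ) : F) = Ap w A.1 0 0 := rfl

theorem card_ker_psi_le : Nat.card (psi hF w hw).ker ≤ 64 := by
  have hmem : ∀ A : (psi hF w hw).ker, (A.1.1 : SU 3 F 4) ∈ (Phi hF w hw).range := by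
    intro A
    have h1 : psi hF w hw A.1 = 1 := MonoidHom.mem_ker.mp A.2
    have h2 : Ap w A.1.1 0 0 = 1 := by
      rw [← psi_coe, h1]; rfl
    exact mem_range_of_one hF w hw A.1.1 ((mem_Cs hF w hw A.1.1).mp A.1.2) h2
  let f : (psi hF w hw).ker → (Phi hF w hw).range := fun A => ⟨A.1.1, hmem A⟩
  have hf : Function.Injective f := by
    intro A B h
    have : (A.1.1 : SU 3 F 4) = B.1.1 := congrArg (fun z : (Phi hF w hw).range => (z : SU 3 F 4)) h
    exact Subtype.ext (Subtype.ext this)
  have hcard : Nat.card (Phi hF w hw).range = 64 := by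
    rw [← Nat.card_congr (MonoidHom.ofInjective (Phi_injective hF w hw)).toEquiv]
    exact card_par
  haveI : Finite (Phi hF w hw).range := Nat.finite_of_card_ne_zero (by rw [hcard]; norm_num)
  calc Nat.card (psi hF w hw).ker ≤ Nat.card (Phi hF w hw).range :=
        Nat.card_le_card_of_injective f hf
    _ = 64 := hcard

theorem card_range_psi_le : Nat.card (psi hF w hw).range ≤ 5 := by
  classical
  have hmem : ∀ u : (psi hF w hw).range, (u : Fˣ) ∈ (Finset.univ.filter fun a : Fˣ => a ^ 5 = 1) := by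
    rintro ⟨u, A, rfl⟩
    rw [Finset.mem_filter]
    refine ⟨Finset.mem_univ _, ?_⟩
    apply Units.ext
    rw [Units.val_pow_eq_pow_val, psi_coe]
    exact (Ap_facts hF w hw A.1 ((mem_Cs hF w hw A.1).mp A.2)).2.2.2.2.1
  let f : (psi hF w hw).range → {a : Fˣ // a ∈ (Finset.univ.filter fun a : Fˣ => a ^ 5 = 1)} :=
    fun u => ⟨u.1, hmem u⟩
  have hf : Function.Injective f := by
    intro u v h
    have : (u : Fˣ) = v :=
      congrArg (fun z : {a : Fˣ // a ∈ (Finset.univ.filter fun a : Fˣ => a ^ 5 = 1)} => (z : Fˣ)) h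
    exact Subtype.ext this
  calc Nat.card (psi hF w hw).range
      ≤ Nat.card {a : Fˣ // a ∈ (Finset.univ.filter fun a : Fˣ => a ^ 5 = 1)} :=
        Nat.card_le_card_of_injective f hf
    _ = (Finset.univ.filter fun a : Fˣ => a ^ 5 = 1).card := by
        rw [Nat.card_eq_fintype_card, Fintype.card_coe]
    _ ≤ 5 := IsCyclic.card_pow_eq_one_le (by norm_num)

theorem card_Cs (l : F) (hl5 : l ^ 5 = 1) (hl1 : l ≠ 1) : Nat.card (Cs hF w hw) = 320 := by
  haveI : Fact (Nat.Prime 5) := ⟨by norm_num⟩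
  haveI : Finite (SU 3 F 4) := by
    have : Finite (Matrix.SpecialLinearGroup (Fin 3) F) := inferInstance
    infer_instance
  have hle : Nat.card (Cs hF w hw) ≤ 320 := by
    have h1 := Subgroup.card_mul_index (psi hF w hw).ker
    rw [Subgroup.index_ker] at h1
    rw [← h1]
    calc Nat.card (psi hF w hw).ker * Nat.card (psi hF w hw).range ≤ 64 * 5 :=
          Nat.mul_le_mul (card_ker_psi_le hF w hw) (card_range_psi_le hF w hw)
      _ = 320 := by norm_num
  have h64 : 64 ∣ Nat.card (Cs hF w hw) := by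
    have hcard : Nat.card (Phi hF w hw).range = 64 := by
      rw [← Nat.card_congr (MonoidHom.ofInjective (Phi_injective hF w hw)).toEquiv]
      exact card_par
    rw [← hcard]
    apply Subgroup.card_dvd_of_le
    rintro _ ⟨p, rfl⟩
    exact Phi_mem_Cs hF w hw p
  have h5 : 5 ∣ Nat.card (Cs hF w hw) := by
    have h1 : orderOf (hSU hF w hw l hl5) = 5 :=
      orderOf_eq_prime (hSU_pow_five hF w hw l hl5) (hSU_ne_one hF w hw l hl5 hl1)
    rw [← h1]
    exact Subgroup.orderOf_dvd_natCard _ (hSU_mem_Cs hF w hw l hl5)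
  have h320 : 64 * 5 ∣ Nat.card (Cs hF w hw) :=
    Nat.Coprime.mul_dvd_of_dvd_of_dvd (by norm_num) h64 h5
  have hpos : 0 < Nat.card (Cs hF w hw) := Nat.card_pos
  exact le_antisymm hle (Nat.le_of_dvd hpos h320)

end count

section final
variable {F : Type*} [Field F] [Fintype F]

theorem model_exists (hF : Fintype.card F = 16) :
    ∃ t : Cfsg.PSU 3 F 4, orderOf t = 2 ∧
      Nat.card (centralizer ({t} : Set (Cfsg.PSU 3 F 4))) = 320 ∧
      ∃ x' r' c1' c2' : centralizer ({t} : Set (Cfsg.PSU 3 F 4)),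
        Rel x' r' c1' c2' ∧ c1' ≠ 1 ∧ c2' ≠ 1 ∧ c1' * c2' ≠ 1 := by
  classical
  haveI : Fact (Nat.Prime 2) := ⟨Nat.prime_two⟩
  have hchar := charP_two hF
  obtain ⟨w, hw0, hw⟩ := exists_omega hF
  obtain ⟨l, hl5, hl1, hsum⟩ := exists_fifth_root hF
  set mk := QuotientGroup.mk' (center (SU 3 F 4)) with hmk
  have hinj : Function.Injective mk := mk_injective hF
  have hsurj : Function.Surjective mk := QuotientGroup.mk'_surjective _
  have hΨ : Function.Injective (fun p : Par hF => mk (Phi hF w hw p)) :=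
    hinj.comp (Phi_injective hF w hw)
  set t : Cfsg.PSU 3 F 4 := mk (t0 hF w hw) with ht
  have hM : centralizer ({t} : Set (Cfsg.PSU 3 F 4)) = (Cs hF w hw).map mk := by
    ext y
    obtain ⟨A, rfl⟩ := hsurj y
    rw [Subgroup.mem_map_iff_mem hinj, mem_Cs, mem_centralizer_iff]
    constructor
    · intro h
      have h1 := h t rfl
      rw [ht, ← map_mul, ← map_mul] at h1
      exact (hinj h1).symm
    · intro h g hg
      rw [Set.mem_singleton_iff] at hg
      subst hg
      rw [ht, ← map_mul, ← map_mul, h]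
  have hz0ne : z0e hF ≠ 1 := by
    intro h
    have := congrArg Par.b h
    simp [z0e, one_b] at this
  refine ⟨t, ?_, ?_, ?_⟩
  · apply orderOf_eq_prime
    · rw [ht]
      unfold t0
      rw [← map_pow, ← map_pow, z0e_sq, map_one, map_one]
    · intro h
      apply hz0ne
      apply hΨ
      change mk (Phi hF w hw (z0e hF)) = mk (Phi hF w hw 1)
      rw [map_one, map_one]
      exact h
  · rw [hM, Subgroup.card_map_of_injective hinj]
    exact card_Cs hF w hw l hl5 hl1
  · have hmemM : ∀ A : SU 3 F 4, A ∈ Cs hF w hw → mk A ∈ centralizer ({t} : Set (Cfsg.PSU 3 F 4)) := by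
      intro A hA
      rw [hM]
      exact Subgroup.mem_map_of_mem mk hA
    refine ⟨⟨mk (Phi hF w hw (Pe hF l hl5 hsum 0)), hmemM _ (Phi_mem_Cs hF w hw _)⟩,
      ⟨mk (hSU hF w hw l hl5), hmemM _ (hSU_mem_Cs hF w hw l hl5)⟩,
      ⟨mk (Phi hF w hw (z1e hF l hl5)), hmemM _ (Phi_mem_Cs hF w hw _)⟩,
      ⟨mk (Phi hF w hw (z2e hF l hl5)), hmemM _ (Phi_mem_Cs hF w hw _)⟩, ?_, ?_, ?_, ?_⟩
    · apply Rel.of_injective (centralizer ({t} : Set (Cfsg.PSU 3 F 4))).subtype
        (Subgroup.subtype_injective _)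
      exact (rel_SU hF w hw l hl5 hsum hl1).map mk
    · intro h
      have h1 : mk (Phi hF w hw (z1e hF l hl5)) = mk (Phi hF w hw 1) := by
        rw [map_one, map_one]
        exact congrArg Subtype.val h
      have h2 := congrArg Par.b (hΨ h1)
      simp only [z1e, one_b] at h2
      apply hl1
      grind
    · intro h
      have h1 : mk (Phi hF w hw (z2e hF l hl5)) = mk (Phi hF w hw 1) := by
        rw [map_one, map_one]
        exact congrArg Subtype.val h
      have h2 := congrArg Par.b (hΨ h1)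
      simp only [z2e, one_b] at h2
      apply hl1
      grind
    · intro h
      have h1 : mk (Phi hF w hw (z1e hF l hl5 * z2e hF l hl5)) = mk (Phi hF w hw 1) := by
        rw [map_one, map_one, map_mul, map_mul]
        exact congrArg Subtype.val h
      have h2 := hΨ h1
      rw [z12_eq hF l hl5 hsum] at h2
      exact hz0ne h2

end final

end Cfsg.Agent.Lib.Helper98.U320
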