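import Mathlib

/-!
# Enumerating a four-group
-/

set_option autoImplicit false
set_option linter.unusedSimpArgs false
set_option linter.style.haveILetI false

namespace Cfsg.Agent.Lib.Helper98.V4Enum

open Subgroup

/-- A subgroup of order four and exponent two consists of `1, a, b, a * b` for any two distinct
nonidentity elements `a, b`. -/
theorem four_elems {G : Type*} [Group G] (Z : Subgroup G) (h4 : Nat.card Z = 4)
    (h2 : ∀ z ∈ Z, z ^ 2 = 1) (a b : G) (ha : a ∈ Z) (hb : b ∈ Z) (ha1 : a ≠ 1) (hb1 : b ≠ 1)
    (hab : a ≠ b) (x : G) (hx : x ∈ Z) : x = 1 ∨ x = a ∨ x = b ∨ x = a * b := by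
  classical
  haveI : Finite Z := Nat.finite_of_card_ne_zero (by rw [h4]; norm_num)
  haveI : Fintype Z := Fintype.ofFinite Z
  have hbinv : b⁻¹ = b := by
    have := h2 b hb
    rw [pow_two] at this
    exact inv_eq_of_mul_eq_one_right this
  have hab1 : a * b ≠ 1 := by
    intro h
    apply hab
    have := eq_inv_of_mul_eq_one_left h
    rw [hbinv] at this
    exact this
  let A : Z := ⟨a, ha⟩
  let B : Z := ⟨b, hb⟩
  let S : Finset Z := {1, A, B, A * B}
  have hS : S.card = 4 := by
    have h1A : (1 : Z) ≠ A := fun h => ha1 (congrArg Subtype.val h).symm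
    have h1B : (1 : Z) ≠ B := fun h => hb1 (congrArg Subtype.val h).symm
    have h1AB : (1 : Z) ≠ A * B := fun h => hab1 (congrArg Subtype.val h).symm
    have hAB : A ≠ B := fun h => hab (congrArg Subtype.val h)
    have hAAB : A ≠ A * B := by
      intro h
      apply hb1
      have h' : a = a * b := congrArg Subtype.val h
      exact (mul_eq_left.mp h'.symm)
    have hBAB : B ≠ A * B := by
      intro h
      apply ha1
      have h' : b = a * b := congrArg Subtype.val h
      exact (mul_eq_right.mp h'.symm)
    simp only [S]
    rw [Finset.card_insert_of_notMem, Finset.card_insert_of_notMem, Finset.card_insert_of_notMem,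
      Finset.card_singleton]
    · simp [hBAB]
    · simp [hAB, hAAB]
    · simp [h1A, h1B, h1AB]
  have huniv : S = Finset.univ := by
    apply Finset.eq_univ_of_card
    rw [hS, ← Nat.card_eq_fintype_card, h4]
  have hxS : (⟨x, hx⟩ : Z) ∈ S := by rw [huniv]; exact Finset.mem_univ _
  simp only [S, Finset.mem_insert, Finset.mem_singleton] at hxS
  rcases hxS with h | h | h | h
  · left; exact congrArg Subtype.val h
  · right; left; exact congrArg Subtype.val h
  · right; right; left; exact congrArg Subtype.val h
  · right; right; right; exact congrArg Subtype.val h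

end Cfsg.Agent.Lib.Helper98.V4Enum
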