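import Cfsg.Agent.Lib.Helper98.FusionNoRadical

/-!
# Fusion in a group whose Sylow `2`-subgroup is `(Q ∘ Q).2`

Abstract setting: `φ : L × L →* G` with kernel `{1, (ζ, ζ)}`, an involution `σ` swapping the two factors, the
centralizer of `z₀ = φ (ζ, 1)` equal to `φ(L × L)⟨σ⟩`, and a Sylow `2`-subgroup `S = φ(Q × Q)⟨σ⟩`.
This is the situation of `PSp₄(q)`, `q` odd, with `L = SL₂(q)`.
-/

set_option autoImplicit false
set_option linter.unusedSectionVars false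

namespace Cfsg.Agent.Lib.Helper98.WreathFusion

open Cfsg Cfsg.FusionSystem

variable {G L : Type*} [Group G] [Group L]

/-- The abstract data. -/
structure WreathData (φ : L × L →* G) (σ : G) (ζ : L) (Q : Subgroup L) : Prop where
  ker : ∀ a b, φ (a, b) = 1 → (a = 1 ∧ b = 1) ∨ (a = ζ ∧ b = ζ)
  ker_zeta : φ (ζ, ζ) = 1
  sq : σ * σ = 1
  swap : ∀ a b, σ * φ (a, b) * σ⁻¹ = φ (b, a)
  not_range : ∀ a b, φ (a, b) ≠ σ
  cent : ∀ g, g * φ (ζ, 1) = φ (ζ, 1) * g → ∃ a b, g = φ (a, b) ∨ g = φ (a, b) * σ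
  zeta_ne : ζ ≠ 1
  zeta_sq : ζ * ζ = 1
  zeta_central : ∀ a, a * ζ = ζ * a
  zeta_mem : ζ ∈ Q
  center_Q : ∀ a ∈ Q, (∀ b ∈ Q, a * b = b * a) → a = 1 ∨ a = ζ
  exists_nc : ∃ c ∈ Q, c ≠ 1 ∧ c ≠ ζ
  gen : ∀ Q₁ : Subgroup L, (∀ a ∈ Q, ∀ a' ∈ Q, a * a = ζ → a' * a' = ζ → a * a'⁻¹ ∈ Q₁) → Q ≤ Q₁
  conj : ∀ a ∈ Q, ∀ b ∈ Q, a * a = ζ → b * b = ζ → ∃ c : L, c * a⁻¹ * c⁻¹ = b
  sigma_conj : ∃ g : G, g * φ (ζ, 1) * g⁻¹ = σ

namespace WreathData

variable {φ : L × L →* G} {σ : G} {ζ : L} {Q : Subgroup L}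

theorem phi_mul (φ : L × L →* G) (a b a' b' : L) : φ (a, b) * φ (a', b') = φ (a * a', b * b') := by
  rw [← map_mul]; rfl

theorem phi_inv (φ : L × L →* G) (a b : L) : (φ (a, b))⁻¹ = φ (a⁻¹, b⁻¹) := by
  rw [← map_inv]; rfl

theorem phi_one (φ : L × L →* G) : φ (1, 1) = 1 := map_one φ

section
variable (D : WreathData φ σ ζ Q)
include D

theorem sigma_inv : σ⁻¹ = σ := inv_eq_of_mul_eq_one_left D.sq

theorem zeta_inv : ζ⁻¹ = ζ := inv_eq_of_mul_eq_one_left D.zeta_sq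

theorem phi_eq {a b a' b' : L} (h : φ (a, b) = φ (a', b')) :
    (a = a' ∧ b = b') ∨ (a = ζ * a' ∧ b = ζ * b') := by
  have h1 : φ (a * a'⁻¹, b * b'⁻¹) = 1 := by
    rw [← phi_mul, ← phi_inv, h, mul_inv_cancel]
  rcases D.ker _ _ h1 with ⟨h2, h3⟩ | ⟨h2, h3⟩
  · left
    exact ⟨mul_inv_eq_one.1 h2, mul_inv_eq_one.1 h3⟩
  · right
    exact ⟨mul_inv_eq_iff_eq_mul.1 h2, mul_inv_eq_iff_eq_mul.1 h3⟩

theorem z0_eq : φ (ζ, 1) = φ (1, ζ) := by
  have h : φ (ζ, 1) * (φ (1, ζ))⁻¹ = 1 := by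
    rw [phi_inv, phi_mul, inv_one, one_mul, mul_one, D.zeta_inv, D.ker_zeta]
  exact mul_inv_eq_one.1 h

theorem z0_ne : φ (ζ, 1) ≠ 1 := by
  intro h
  rcases D.ker _ _ h with ⟨h2, -⟩ | ⟨-, h3⟩
  · exact D.zeta_ne h2
  · exact D.zeta_ne h3.symm

theorem z0_sq : φ (ζ, 1) * φ (ζ, 1) = 1 := by
  rw [phi_mul, D.zeta_sq, one_mul, phi_one]

theorem sigma_phi (a b : L) : σ * φ (a, b) = φ (b, a) * σ := by
  have := D.swap a b
  rw [← this]
  group

theorem phi_sigma (a b : L) : φ (a, b) * σ = σ * φ (b, a) := (D.sigma_phi b a).symm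

theorem phi_sigma_ne (a b a' b' : L) : φ (a, b) * σ ≠ φ (a', b') := by
  intro h
  have : φ (a⁻¹ * a', b⁻¹ * b') = σ := by
    rw [← phi_mul, ← phi_inv, ← h]
    group
  exact D.not_range _ _ this

theorem z0_comm_phi (a b : L) : φ (a, b) * φ (ζ, 1) = φ (ζ, 1) * φ (a, b) := by
  rw [phi_mul, phi_mul, D.zeta_central, mul_one, one_mul]

theorem z0_comm_sigma : σ * φ (ζ, 1) = φ (ζ, 1) * σ := by
  rw [D.sigma_phi, ← D.z0_eq]

end

section sylow
variable (D : WreathData φ σ ζ Q) {S : Subgroup G}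
  (hS : ∀ s, s ∈ S ↔ ∃ a ∈ Q, ∃ b ∈ Q, s = φ (a, b) ∨ s = φ (a, b) * σ)
include D hS

theorem phi_mem {a b : L} (ha : a ∈ Q) (hb : b ∈ Q) : φ (a, b) ∈ S :=
  (hS _).2 ⟨a, ha, b, hb, Or.inl rfl⟩

theorem phi_sigma_mem {a b : L} (ha : a ∈ Q) (hb : b ∈ Q) : φ (a, b) * σ ∈ S :=
  (hS _).2 ⟨a, ha, b, hb, Or.inr rfl⟩

theorem sigma_mem : σ ∈ S := by
  have := D.phi_sigma_mem hS Q.one_mem Q.one_mem
  rwa [phi_one, one_mul] at this

theorem z0_mem : φ (ζ, 1) ∈ S := D.phi_mem hS D.zeta_mem Q.one_mem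

theorem mem_of_phi_mem {a b : L} (h : φ (a, b) ∈ S) : a ∈ Q ∧ b ∈ Q := by
  obtain ⟨a', ha', b', hb', h1 | h1⟩ := (hS _).1 h
  · rcases D.phi_eq h1 with ⟨rfl, rfl⟩ | ⟨rfl, rfl⟩
    · exact ⟨ha', hb'⟩
    · exact ⟨Q.mul_mem D.zeta_mem ha', Q.mul_mem D.zeta_mem hb'⟩
  · exact absurd h1.symm (D.phi_sigma_ne _ _ _ _)

theorem z0_central (s : G) (hs : s ∈ S) : s * φ (ζ, 1) = φ (ζ, 1) * s := by
  obtain ⟨a, -, b, -, rfl | rfl⟩ := (hS _).1 hs
  · exact D.z0_comm_phi a b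
  · rw [mul_assoc, D.z0_comm_sigma, ← mul_assoc, D.z0_comm_phi, mul_assoc]

/-- The only nontrivial central element of `S` is `z₀`. -/
theorem central_eq {z : G} (hz : z ∈ S) (hc : ∀ s ∈ S, s * z = z * s) (hz1 : z ≠ 1) :
    z = φ (ζ, 1) := by
  obtain ⟨a, ha, b, hb, rfl | rfl⟩ := (hS _).1 hz
  · have hA : a = 1 ∨ a = ζ := by
      apply D.center_Q a ha
      intro c hc'
      have h1 := hc _ (D.phi_mem hS hc' Q.one_mem)
      rw [phi_mul, phi_mul, one_mul, mul_one] at h1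
      rcases D.phi_eq h1 with ⟨h2, -⟩ | ⟨-, h3⟩
      · exact h2.symm
      · exfalso
        apply D.zeta_ne
        have : ζ * b * b⁻¹ = b * b⁻¹ := by rw [← h3]
        rwa [mul_inv_cancel_right, mul_inv_cancel] at this
    have hB : b = 1 ∨ b = ζ := by
      apply D.center_Q b hb
      intro c hc'
      have h1 := hc _ (D.phi_mem hS Q.one_mem hc')
      rw [phi_mul, phi_mul, one_mul, mul_one] at h1
      rcases D.phi_eq h1 with ⟨-, h2⟩ | ⟨h3, -⟩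
      · exact h2.symm
      · exfalso
        apply D.zeta_ne
        have : ζ * a * a⁻¹ = a * a⁻¹ := by rw [← h3]
        rwa [mul_inv_cancel_right, mul_inv_cancel] at this
    rcases hA with rfl | rfl <;> rcases hB with rfl | rfl
    · exact absurd (phi_one φ) hz1
    · exact D.z0_eq.symm
    · rfl
    · exact absurd D.ker_zeta hz1
  · exfalso
    obtain ⟨c, hcQ, hc1, hcz⟩ := D.exists_nc
    have h1 := hc _ (D.phi_mem hS hcQ Q.one_mem)
    rw [← mul_assoc, phi_mul, mul_assoc, D.sigma_phi, ← mul_assoc, phi_mul, one_mul, mul_one] at h1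
    have h2 := mul_right_cancel h1
    rcases D.phi_eq h2 with ⟨h3, -⟩ | ⟨h3, -⟩
    · apply hc1
      have : c * a * a⁻¹ = a * a⁻¹ := by rw [h3]
      rwa [mul_inv_cancel_right, mul_inv_cancel] at this
    · apply hcz
      have : c * a * a⁻¹ = ζ * a * a⁻¹ := by rw [h3]
      rwa [mul_inv_cancel_right, mul_inv_cancel_right] at this

/-- Structure of `N_G(S)`. -/
theorem normalizer_struct {g : G} (hg : g ∈ Subgroup.normalizer (S : Set G)) :
    ∃ a b, (∀ x ∈ Q, a * x * a⁻¹ ∈ Q) ∧ (∀ x ∈ Q, b * x * b⁻¹ ∈ Q) ∧ a * b⁻¹ ∈ Q ∧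
      (g = φ (a, b) ∨ g = φ (a, b) * σ) := by
  have hgS : ∀ s, s ∈ S ↔ g * s * g⁻¹ ∈ S := fun s => Subgroup.mem_normalizer_iff.1 hg s
  have hg' : g⁻¹ ∈ Subgroup.normalizer (S : Set G) := Subgroup.inv_mem _ hg
  have hgS' : ∀ s, s ∈ S ↔ g⁻¹ * s * g⁻¹⁻¹ ∈ S := fun s => Subgroup.mem_normalizer_iff.1 hg' s
  -- `g` centralizes `z₀`
  have h1 : g * φ (ζ, 1) * g⁻¹ = φ (ζ, 1) := by
    apply D.central_eq hS ((hgS _).1 (D.z0_mem hS))
    · intro s hs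
      have h2 := D.z0_central hS _ ((hgS' s).1 hs)
      rw [inv_inv] at h2
      calc s * (g * φ (ζ, 1) * g⁻¹) = g * (g⁻¹ * s * g * φ (ζ, 1)) * g⁻¹ := by group
        _ = g * (φ (ζ, 1) * (g⁻¹ * s * g)) * g⁻¹ := by rw [h2]
        _ = g * φ (ζ, 1) * g⁻¹ * s := by group
    · intro h
      apply D.z0_ne
      have : g⁻¹ * (g * φ (ζ, 1) * g⁻¹) * g = g⁻¹ * 1 * g := by rw [h]
      simpa [mul_assoc] using this
  have h2 : g * φ (ζ, 1) = φ (ζ, 1) * g := by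
    calc g * φ (ζ, 1) = (g * φ (ζ, 1) * g⁻¹) * g := by group
      _ = φ (ζ, 1) * g := by rw [h1]
  obtain ⟨a, b, hab⟩ := D.cent g h2
  -- `φ (a, b)` normalizes `S`
  have hφN : ∀ s, s ∈ S → φ (a, b) * s * (φ (a, b))⁻¹ ∈ S := by
    intro s hs
    rcases hab with rfl | rfl
    · exact (hgS s).1 hs
    · have h3 := (hgS (σ⁻¹ * s * σ)).1
        (S.mul_mem (S.mul_mem (S.inv_mem (D.sigma_mem hS)) hs) (D.sigma_mem hS))
      have : φ (a, b) * σ * (σ⁻¹ * s * σ) * (φ (a, b) * σ)⁻¹ = φ (a, b) * s * (φ (a, b))⁻¹ := by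
        group
      rwa [this] at h3
  refine ⟨a, b, ?_, ?_, ?_, hab⟩
  · intro x hx
    have h3 := hφN _ (D.phi_mem hS hx Q.one_mem)
    rw [phi_inv, phi_mul, phi_mul] at h3
    exact (D.mem_of_phi_mem hS h3).1
  · intro x hx
    have h3 := hφN _ (D.phi_mem hS Q.one_mem hx)
    rw [phi_inv, phi_mul, phi_mul] at h3
    exact (D.mem_of_phi_mem hS h3).2
  · have h3 := hφN _ (D.sigma_mem hS)
    rw [phi_inv, mul_assoc, D.sigma_phi, ← mul_assoc, phi_mul] at h3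
    have h4 := S.mul_mem h3 (S.inv_mem (D.sigma_mem hS))
    rw [mul_inv_cancel_right] at h4
    exact (D.mem_of_phi_mem hS h4).1

/-- A subgroup of `S` closed under `G`-fusion and containing `z₀` is `S`. -/
theorem fusClosed_eq {T : Subgroup G} (hT : FusionCyclicQuot.FusClosed T S) (hz : φ (ζ, 1) ∈ T) :
    S ≤ T := by
  -- `σ ∈ T`
  have hσ : σ ∈ T := by
    obtain ⟨g, hg⟩ := D.sigma_conj
    have := hT _ hz g (by rw [hg]; exact D.sigma_mem hS)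
    rwa [hg] at this
  -- `φ (a, a⁻¹) ∈ T`
  have h2 : ∀ a ∈ Q, φ (a, a⁻¹) ∈ T := by
    intro a ha
    have e : φ (a, 1) * σ * (φ (a, 1))⁻¹ = φ (a, a⁻¹) * σ := by
      rw [phi_inv, mul_assoc, D.sigma_phi, ← mul_assoc, phi_mul, inv_one, mul_one, one_mul]
    have h3 := hT _ hσ (φ (a, 1)) (by rw [e]; exact D.phi_sigma_mem hS ha (Q.inv_mem ha))
    rw [e] at h3
    have := T.mul_mem h3 (T.inv_mem hσ)
    rwa [mul_inv_cancel_right] at this
  -- `φ (a, b) ∈ T` for `a, b` of square `ζ`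
  have h3 : ∀ a ∈ Q, ∀ b ∈ Q, a * a = ζ → b * b = ζ → φ (a, b) ∈ T := by
    intro a ha b hb haa hbb
    obtain ⟨c, hc⟩ := D.conj a ha b hb haa hbb
    have e : φ (1, c) * φ (a, a⁻¹) * (φ (1, c))⁻¹ = φ (a, b) := by
      rw [phi_inv, phi_mul, phi_mul, hc, inv_one, one_mul, mul_one]
    have := hT _ (h2 a ha) (φ (1, c)) (by rw [e]; exact D.phi_mem hS ha hb)
    rwa [e] at this
  -- `φ (a, 1) ∈ T`
  have h4 : Q ≤ T.comap (φ.comp (MonoidHom.inl L L)) := by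
    apply D.gen
    intro a ha a' ha' haa haa'
    rw [Subgroup.mem_comap]
    show φ (a * a'⁻¹, 1) ∈ T
    have h5 := T.mul_mem (h3 a ha a' ha' haa haa') (T.inv_mem (h3 a' ha' a' ha' haa' haa'))
    rwa [phi_inv, phi_mul, mul_inv_cancel] at h5
  have h5 : ∀ a ∈ Q, φ (a, 1) ∈ T := fun a ha => h4 ha
  have h6 : ∀ a ∈ Q, φ (1, a) ∈ T := by
    intro a ha
    have := T.mul_mem (T.mul_mem hσ (h5 a ha)) (T.inv_mem hσ)
    rwa [D.swap] at this
  have h7 : ∀ a ∈ Q, ∀ b ∈ Q, φ (a, b) ∈ T := by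
    intro a ha b hb
    have := T.mul_mem (h5 a ha) (h6 b hb)
    rwa [phi_mul, mul_one, one_mul] at this
  intro s hs
  obtain ⟨a, ha, b, hb, rfl | rfl⟩ := (hS _).1 hs
  · exact h7 a ha b hb
  · exact T.mul_mem (h7 a ha b hb) hσ

end sylow

section main
variable [Finite G] (D : WreathData φ σ ζ Q) (S : Sylow 2 G)
  (hS : ∀ s, s ∈ (S : Subgroup G) ↔ ∃ a ∈ Q, ∃ b ∈ Q, s = φ (a, b) ∨ s = φ (a, b) * σ)
include D hS

theorem sylow_ne_bot : (S : Subgroup G) ≠ ⊥ := by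
  intro h
  have := D.z0_mem hS
  rw [h, Subgroup.mem_bot] at this
  exact D.z0_ne this

theorem ha : ∀ T : Subgroup G, (Cfsg.groupFusionSystem (S : Subgroup G)).StronglyClosed T →
    T = ⊥ ∨ T = (S : Subgroup G) := by
  apply FusionNoRadical.ha_of_central_conj 2 S {φ (ζ, 1)}
  · intro x hx
    rw [Set.mem_singleton_iff] at hx
    rw [hx]
    exact D.z0_mem hS
  · intro T _ hT hX
    exact D.fusClosed_eq hS hT (hX rfl)
  · intro z hz hzc hzo x hx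
    rw [Set.mem_singleton_iff] at hx
    rw [hx]
    have hz1 : z ≠ 1 := by
      intro h
      rw [h, orderOf_one] at hzo
      omega
    rw [D.central_eq hS hz hzc hz1]

/-- **Case A**: `N_L(Q) = Q`. -/
theorem isSimple_of_selfNormalizing (hN : ∀ a : L, (∀ x ∈ Q, a * x * a⁻¹ ∈ Q) → a ∈ Q) :
    (Cfsg.groupFusionSystem (S : Subgroup G)).IsSimple 2 := by
  have hNS : Subgroup.normalizer (((S : Subgroup G)) : Set G) = (S : Subgroup G) := by
    apply le_antisymm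
    · intro g hg
      obtain ⟨a, b, ha, hb, -, rfl | rfl⟩ := D.normalizer_struct hS hg
      · exact D.phi_mem hS (hN a ha) (hN b hb)
      · exact D.phi_sigma_mem hS (hN a ha) (hN b hb)
    · exact Subgroup.le_normalizer
  have hb := FusionCyclicQuot.hb_of_aut_eq 2 S
    (FusionSelfNorm.autInducedBy_top_eq_of_selfNormalizing hNS)
  exact Cfsg.Agent.S5160.result 2 S (D.sylow_ne_bot S hS) (D.ha S hS) hb

/-- **Case B**: `N_L(Q) = ⟨c⟩ Q` and an auxiliary subgroup `R`. -/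
theorem isSimple_of_aux (c : L)
    (hN : ∀ a : L, (∀ x ∈ Q, a * x * a⁻¹ ∈ Q) → ∃ n : ℕ, ∃ q ∈ Q, a = c ^ n * q)
    (R : Subgroup G) (hRS : R ≤ (S : Subgroup G))
    (hn : (S : Subgroup G) ≤ Subgroup.normalizer (R : Set G))
    (hc : ∀ g : G, (∀ r ∈ R, g * r = r * g) → g ∈ R)
    (hd : φ (c, c) ∈ Subgroup.closure {g : G | g ∈ Subgroup.normalizer (R : Set G) ∧
      ∃ k : ℕ, orderOf g = 2 ^ k}) :
    (Cfsg.groupFusionSystem (S : Subgroup G)).IsSimple 2 := by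
  apply FusionNoRadical.isSimple_of_normalizer_le 2 S (D.sylow_ne_bot S hS) (D.ha S hS) R hRS hn hc
  set K := Subgroup.closure {g : G | g ∈ Subgroup.normalizer (R : Set G) ∧
      ∃ k : ℕ, orderOf g = 2 ^ k} with hK
  have hSK : (S : Subgroup G) ≤ K := by
    intro s hs
    apply Subgroup.subset_closure
    refine ⟨hn hs, ?_⟩
    obtain ⟨k, hk⟩ := (IsPGroup.iff_orderOf.1 S.isPGroup') ⟨s, hs⟩
    refine ⟨k, ?_⟩
    rw [← hk, Subgroup.orderOf_mk]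
  intro g hg
  obtain ⟨a, b, ha, hb, hab, hgab⟩ := D.normalizer_struct hS hg
  obtain ⟨n, q, hq, rfl⟩ := hN b hb
  have h1 : φ (a, c ^ n * q) = φ (a * (c ^ n * q)⁻¹, 1) * φ (c, c) ^ n * φ (q, q) := by
    rw [← map_pow, Prod.pow_mk, phi_mul, phi_mul]
    congr 1
    rw [Prod.mk.injEq]
    constructor
    · group
    · group
  have h2 : φ (a, c ^ n * q) ∈ K := by
    rw [h1]
    exact K.mul_mem (K.mul_mem (hSK (D.phi_mem hS hab Q.one_mem)) (K.pow_mem hd n))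
      (hSK (D.phi_mem hS hq hq))
  rcases hgab with rfl | rfl
  · exact h2
  · exact K.mul_mem h2 (hSK (D.sigma_mem hS))

end main

end WreathData

/-! ### The auxiliary elementary abelian subgroup when `Q` is quaternion of order `8` -/

/-- Conjugation maps a closure into a subgroup as soon as it does so on generators. -/
theorem conj_mem_of_closure {X : Set G} {R : Subgroup G} (s : G) (h : ∀ x ∈ X, s * x * s⁻¹ ∈ R) :
    ∀ r ∈ Subgroup.closure X, s * r * s⁻¹ ∈ R := by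
  intro r hr
  induction hr using Subgroup.closure_induction with
  | mem x hx => exact h x hx
  | one => simp
  | mul x y _ _ hx hy =>
    have : s * (x * y) * s⁻¹ = (s * x * s⁻¹) * (s * y * s⁻¹) := by group
    rw [this]; exact R.mul_mem hx hy
  | inv x _ hx =>
    have : s * x⁻¹ * s⁻¹ = (s * x * s⁻¹)⁻¹ := by group
    rw [this]; exact R.inv_mem hx

theorem mem_normalizer_closure [Finite G] {X : Set G} (s : G)
    (h : ∀ x ∈ X, s * x * s⁻¹ ∈ Subgroup.closure X) :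
    s ∈ Subgroup.normalizer ((Subgroup.closure X : Subgroup G) : Set G) := by
  apply Subgroup.mem_normalizer_fintype
  intro n hn
  exact conj_mem_of_closure s h n hn

/-- The subgroup `R₀ = ⟨φ (x, x), z₀, σ⟩`. -/
def auxR (φ : L × L →* G) (σ : G) (ζ : L) (Q : Subgroup L) : Subgroup G :=
  Subgroup.closure ({g : G | ∃ x ∈ Q, g = φ (x, x)} ∪ {φ (ζ, 1), σ})

namespace WreathData

variable {φ : L × L →* G} {σ : G} {ζ : L} {Q : Subgroup L}

theorem diag_mem_auxR {x : L} (hx : x ∈ Q) : φ (x, x) ∈ auxR φ σ ζ Q :=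
  Subgroup.subset_closure (Or.inl ⟨x, hx, rfl⟩)

theorem z0_mem_auxR : φ (ζ, 1) ∈ auxR φ σ ζ Q :=
  Subgroup.subset_closure (Or.inr (Or.inl rfl))

theorem sigma_mem_auxR : σ ∈ auxR φ σ ζ Q :=
  Subgroup.subset_closure (Or.inr (Or.inr rfl))

section Q8
variable [Finite G] (D : WreathData φ σ ζ Q) (S : Sylow 2 G)
  (hS : ∀ s, s ∈ (S : Subgroup G) ↔ ∃ a ∈ Q, ∃ b ∈ Q, s = φ (a, b) ∨ s = φ (a, b) * σ)
include D hS

theorem auxR_le : auxR φ σ ζ Q ≤ (S : Subgroup G) := by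
  unfold auxR
  rw [Subgroup.closure_le]
  rintro g (⟨x, hx, rfl⟩ | rfl | rfl)
  · exact D.phi_mem hS hx hx
  · exact D.z0_mem hS
  · exact D.sigma_mem hS

theorem sylow_le_normalizer_auxR
    (hE1 : ∀ a ∈ Q, ∀ x ∈ Q, a * x * a⁻¹ = x ∨ a * x * a⁻¹ = ζ * x)
    (hE2 : ∀ y ∈ Q, y⁻¹ = y ∨ y⁻¹ = ζ * y) :
    (S : Subgroup G) ≤ Subgroup.normalizer ((auxR φ σ ζ Q : Subgroup G) : Set G) := by
  have hσN : σ ∈ Subgroup.normalizer ((auxR φ σ ζ Q : Subgroup G) : Set G) := by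
    apply mem_normalizer_closure
    rintro g (⟨x, hx, rfl⟩ | rfl | rfl)
    · rw [D.swap]; exact diag_mem_auxR hx
    · rw [D.swap, ← D.z0_eq]; exact z0_mem_auxR
    · rw [mul_inv_cancel_right]; exact sigma_mem_auxR
  have hφN : ∀ a ∈ Q, ∀ b ∈ Q,
      φ (a, b) ∈ Subgroup.normalizer ((auxR φ σ ζ Q : Subgroup G) : Set G) := by
    intro a ha b hb
    apply mem_normalizer_closure
    rintro g (⟨x, hx, rfl⟩ | rfl | rfl)
    · rw [phi_inv, phi_mul, phi_mul]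
      rcases hE1 a ha x hx with h1 | h1 <;> rcases hE1 b hb x hx with h2 | h2 <;> rw [h1, h2]
      · exact diag_mem_auxR hx
      · have : φ (x, ζ * x) = φ (ζ, 1) * φ (x, x) := by
          rw [D.z0_eq, phi_mul, one_mul]
        rw [this]; exact Subgroup.mul_mem _ z0_mem_auxR (diag_mem_auxR hx)
      · have : φ (ζ * x, x) = φ (ζ, 1) * φ (x, x) := by
          rw [phi_mul, one_mul]
        rw [this]; exact Subgroup.mul_mem _ z0_mem_auxR (diag_mem_auxR hx)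
      · have : φ (ζ * x, ζ * x) = φ (x, x) := by
          rw [← phi_mul, D.ker_zeta, one_mul]
        rw [this]; exact diag_mem_auxR hx
    · rw [D.z0_comm_phi, mul_inv_cancel_right]; exact z0_mem_auxR
    · rw [phi_inv, mul_assoc, D.sigma_phi, ← mul_assoc, phi_mul]
      have hy : a * b⁻¹ ∈ Q := Q.mul_mem ha (Q.inv_mem hb)
      have hinv : b * a⁻¹ = (a * b⁻¹)⁻¹ := by group
      rw [hinv]
      rcases hE2 _ hy with h | h <;> rw [h]
      · exact Subgroup.mul_mem _ (diag_mem_auxR hy) sigma_mem_auxR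
      · have : φ (a * b⁻¹, ζ * (a * b⁻¹)) = φ (ζ, 1) * φ (a * b⁻¹, a * b⁻¹) := by
          rw [D.z0_eq, phi_mul, one_mul]
        rw [this]
        exact Subgroup.mul_mem _ (Subgroup.mul_mem _ z0_mem_auxR (diag_mem_auxR hy)) sigma_mem_auxR
  intro s hs
  obtain ⟨a, ha, b, hb, rfl | rfl⟩ := (hS _).1 hs
  · exact hφN a ha b hb
  · exact Subgroup.mul_mem _ (hφN a ha b hb) hσN

omit hS in
theorem centralizer_auxR_le
    (hE3 : ∀ b : L, (∀ x ∈ Q, b * x * b⁻¹ = x ∨ b * x * b⁻¹ = ζ * x) → b ∈ Q) :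
    ∀ g : G, (∀ r ∈ auxR φ σ ζ Q, g * r = r * g) → g ∈ auxR φ σ ζ Q := by
  intro g hg
  obtain ⟨a, b, hab⟩ := D.cent g (hg _ z0_mem_auxR)
  -- `φ (a, b)` commutes with `σ` and the `φ (x, x)`
  have h1 : φ (a, b) * σ = σ * φ (a, b) := by
    rcases hab with rfl | rfl
    · exact hg _ sigma_mem_auxR
    · have := hg _ (sigma_mem_auxR (φ := φ) (σ := σ) (ζ := ζ) (Q := Q))
      have h2 : φ (a, b) * σ * σ = σ * φ (a, b) * σ := by rw [this, mul_assoc]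
      exact mul_right_cancel h2
  have h2 : ∀ x ∈ Q, φ (a, b) * φ (x, x) = φ (x, x) * φ (a, b) := by
    intro x hx
    rcases hab with rfl | rfl
    · exact hg _ (diag_mem_auxR hx)
    · have := hg _ (diag_mem_auxR (φ := φ) (σ := σ) (ζ := ζ) hx)
      have h3 : σ * φ (x, x) = φ (x, x) * σ := D.sigma_phi x x
      have h4 : φ (a, b) * φ (x, x) * σ = φ (x, x) * φ (a, b) * σ := by
        rw [mul_assoc, ← h3, ← mul_assoc, this, mul_assoc]
      exact mul_right_cancel h4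
  have hb : b ∈ Q := by
    apply hE3
    intro x hx
    have h3 := h2 x hx
    rw [phi_mul, phi_mul] at h3
    rcases D.phi_eq h3 with ⟨-, h4⟩ | ⟨-, h4⟩
    · left; rw [h4, mul_inv_cancel_right]
    · right; rw [h4, mul_assoc, mul_inv_cancel_right]
  rw [D.phi_sigma, ] at h1
  have h3 := mul_left_cancel h1
  have h4 : φ (a, b) ∈ auxR φ σ ζ Q := by
    rcases D.phi_eq h3.symm with ⟨h5, -⟩ | ⟨h5, -⟩
    · rw [h5]; exact diag_mem_auxR hb
    · have : φ (ζ * b, b) = φ (ζ, 1) * φ (b, b) := by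
        rw [phi_mul, one_mul]
      rw [h5, this]; exact Subgroup.mul_mem _ z0_mem_auxR (diag_mem_auxR hb)
  rcases hab with rfl | rfl
  · exact h4
  · exact Subgroup.mul_mem _ h4 sigma_mem_auxR

/-- **Case B, concrete form.** -/
theorem isSimple_of_Q8 (c : L)
    (hN : ∀ a : L, (∀ x ∈ Q, a * x * a⁻¹ ∈ Q) → ∃ n : ℕ, ∃ q ∈ Q, a = c ^ n * q)
    (hcQ : ∀ x ∈ Q, c * x * c⁻¹ ∈ Q) (hc3 : c ^ 3 = 1)
    (hE1 : ∀ a ∈ Q, ∀ x ∈ Q, a * x * a⁻¹ = x ∨ a * x * a⁻¹ = ζ * x)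
    (hE2 : ∀ y ∈ Q, y⁻¹ = y ∨ y⁻¹ = ζ * y)
    (hE3 : ∀ b : L, (∀ x ∈ Q, b * x * b⁻¹ = x ∨ b * x * b⁻¹ = ζ * x) → b ∈ Q)
    (w : G) (hW1 : ∀ x ∈ Q, w * φ (x, x) * w⁻¹ ∈ auxR φ σ ζ Q)
    (hW2 : w * φ (ζ, 1) * w⁻¹ ∈ auxR φ σ ζ Q) (hW2' : w * σ * w⁻¹ ∈ auxR φ σ ζ Q)
    (hW3 : w ^ 4 = 1)
    (hW4 : w * φ (c, c) * w⁻¹ * φ (c, c) ∈ auxR φ σ ζ Q) :
    (Cfsg.groupFusionSystem (S : Subgroup G)).IsSimple 2 := by
  have hRS := D.auxR_le S hS
  have hn := D.sylow_le_normalizer_auxR S hS hE1 hE2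
  apply D.isSimple_of_aux S hS c hN (auxR φ σ ζ Q) hRS hn (D.centralizer_auxR_le hE3)
  set K := Subgroup.closure {g : G | g ∈ Subgroup.normalizer ((auxR φ σ ζ Q : Subgroup G) : Set G) ∧
      ∃ k : ℕ, orderOf g = 2 ^ k} with hK
  have hpow : ∀ g : G, g ^ 4 = 1 → ∃ k : ℕ, orderOf g = 2 ^ k := by
    intro g hg
    have h1 : orderOf g ∣ 2 ^ 2 := orderOf_dvd_of_pow_eq_one hg
    obtain ⟨k, -, hk⟩ := (Nat.dvd_prime_pow Nat.prime_two).1 h1
    exact ⟨k, hk⟩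
  -- `d` normalizes `R₀`
  have hdN : φ (c, c) ∈ Subgroup.normalizer ((auxR φ σ ζ Q : Subgroup G) : Set G) := by
    apply mem_normalizer_closure
    rintro g (⟨x, hx, rfl⟩ | rfl | rfl)
    · rw [phi_inv, phi_mul, phi_mul]; exact diag_mem_auxR (hcQ x hx)
    · rw [D.z0_comm_phi, mul_inv_cancel_right]; exact z0_mem_auxR
    · rw [phi_inv, mul_assoc, D.sigma_phi, ← mul_assoc, phi_mul, mul_inv_cancel, phi_one, one_mul]
      exact sigma_mem_auxR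
  have hwN : w ∈ Subgroup.normalizer ((auxR φ σ ζ Q : Subgroup G) : Set G) := by
    apply mem_normalizer_closure
    rintro g (⟨x, hx, rfl⟩ | rfl | rfl)
    · exact hW1 x hx
    · exact hW2
    · exact hW2'
  have hwK : w ∈ K := Subgroup.subset_closure ⟨hwN, hpow w hW3⟩
  have hdwK : φ (c, c) * w * (φ (c, c))⁻¹ ∈ K := by
    apply Subgroup.subset_closure
    refine ⟨Subgroup.mul_mem _ (Subgroup.mul_mem _ hdN hwN) (Subgroup.inv_mem _ hdN), hpow _ ?_⟩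
    rw [conj_pow, hW3, mul_one, mul_inv_cancel]
  have hrK : w * φ (c, c) * w⁻¹ * φ (c, c) ∈ K := by
    apply Subgroup.subset_closure
    refine ⟨Subgroup.le_normalizer hW4, ?_⟩
    obtain ⟨k, hk⟩ := (IsPGroup.iff_orderOf.1 S.isPGroup') ⟨_, hRS hW4⟩
    refine ⟨k, ?_⟩
    rw [← hk, Subgroup.orderOf_mk]
  have hdd : φ (c, c) * φ (c, c) ∈ K := by
    have e : φ (c, c) * φ (c, c) =
        (φ (c, c) * w * (φ (c, c))⁻¹) * w⁻¹ * (w * φ (c, c) * w⁻¹ * φ (c, c)) := by group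
    rw [e]
    exact K.mul_mem (K.mul_mem hdwK (K.inv_mem hwK)) hrK
  have hd3 : φ (c, c) ^ 3 = 1 := by
    rw [← map_pow, Prod.pow_mk, hc3]; exact map_one φ
  have e : φ (c, c) = (φ (c, c) * φ (c, c)) * (φ (c, c) * φ (c, c)) := by
    calc φ (c, c) = φ (c, c) ^ 3 * φ (c, c) := by rw [hd3, one_mul]
      _ = _ := by simp only [pow_succ, pow_zero, one_mul, mul_assoc]
  rw [e]
  exact K.mul_mem hdd hdd

end Q8

end WreathData

end Cfsg.Agent.Lib.Helper98.WreathFusion
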